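import Groth.Agent.AlgSt88.SepLocP
import Mathlib.RingTheory.Unramified.LocalStructure

/-! Unramified morphisms are locally quasi-finite. -/

set_option autoImplicit false
universe u

open CategoryTheory AlgebraicGeometry

namespace Groth.Agent.AlgSt88

theorem unr_le_lqf :
    (@LocallyOfFiniteType ⊓ @FormallyUnramified : MorphismProperty Scheme.{u}) ≤
      (@LocallyQuasiFinite ⊓ @LocallyOfFiniteType : MorphismProperty Scheme.{u}) := by
  rintro X Y f ⟨hf, hu⟩
  refine ⟨HasRingHomProperty.iff_appLE.2 fun U V e => ?_, hf⟩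
  have h1 : (f.appLE U V e).hom.FiniteType := HasRingHomProperty.appLE (P := @LocallyOfFiniteType) f hf U V e
  have h2 : (f.appLE U V e).hom.FormallyUnramified := HasRingHomProperty.appLE (P := @FormallyUnramified) f hu U V e
  algebraize [(f.appLE U V e).hom]
  exact inferInstanceAs (Algebra.QuasiFinite Γ(Y, U.1) Γ(X, V.1))

end Groth.Agent.AlgSt88
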