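import Groth.Prelude
import Groth.Agent.Sga84.TorsorDesc
import Mathlib.AlgebraicGeometry.Morphisms.LocalFlatDescent
import Mathlib.AlgebraicGeometry.Sites.Fpqc

/-! Properties of the projection of a torsor. -/

set_option autoImplicit false
set_option backward.isDefEq.respectTransparency false
set_option backward.isDefEq.respectTransparency.types false
universe u

open CategoryTheory CategoryTheory.Limits MorphismProperty MonoidalCategory CartesianMonoidalCategory AlgebraicGeometry

namespace Groth.Agent.AlgSt88

/-- A property descending along fpqc covers holds for a morphism which has sections fpqc locally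
as soon as it holds for the projection of the self fibre product. -/
theorem of_selfPullback {Y B : Scheme.{u}} (π : Y ⟶ B) (P : MorphismProperty Scheme.{u})
    [P.IsStableUnderBaseChange] [IsZariskiLocalAtTarget P] [P.DescendsAlong Unr55.fpqc.{u}]
    (h1 : P (pullback.snd π π)) (hloc : NonAbH1.IsLocallyTrivialFor Scheme.fpqcPrecoverage (Over.mk π)) : P π := by
  have hgen : ∀ {T : Scheme.{u}} (f : T ⟶ B), NonAbH1.HasSectionOver (Over.mk π) f → P (pullback.snd π f) := by
    rintro T f ⟨s, rfl⟩
    have h2 := MorphismProperty.pullback_snd (P := P) (pullback.snd π π) s h1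
    rw [← pullbackLeftPullbackSndIso_hom_snd π π s, P.cancel_left_of_respectsIso] at h2
    exact h2
  rw [IsZariskiLocalAtTarget.iff_of_openCover (P := P) B.affineCover]
  intro i
  obtain ⟨W, -, w, hw, hsec⟩ := Sga84.exists_affine_section hloc
    (U := (B.affineCover.f i).opensRange) (isAffineOpen_opensRange _)
  let e := (B.affineCover.f i).isoOpensRange
  have hw' : Unr55.fpqc (w ≫ e.inv) := (Unr55.fpqc.cancel_right_of_respectsIso w e.inv).mpr hw
  refine MorphismProperty.of_pullback_fst_of_descendsAlong (P := P) (Q := Unr55.fpqc.{u}) hw' ?_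
  rw [← pullbackSymmetry_hom_comp_snd, P.cancel_left_of_respectsIso]
  change P (pullback.snd (pullback.snd π (B.affineCover.f i)) (w ≫ e.inv))
  rw [← P.cancel_left_of_respectsIso (pullbackLeftPullbackSndIso π (B.affineCover.f i) (w ≫ e.inv)).inv,
    pullbackLeftPullbackSndIso_inv_snd_snd]
  have hf : (w ≫ e.inv) ≫ B.affineCover.f i = w ≫ (B.affineCover.f i).opensRange.ι := by
    simp [e]
  rw [← hf] at hsec
  refine hgen _ hsec

variable {S : Scheme.{u}} {G X : Over S} [GrpObj G] {a : AlgGrp.Action G X}

theorem quotObj_π {P : MorphismProperty Scheme.{u}}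
    [P.IsStableUnderBaseChange] [IsZariskiLocalAtTarget P] [P.DescendsAlong Unr55.fpqc.{u}]
    (hG : P G.hom) (A : AlgSt.QuotObj Scheme.fppfPrecoverage G a) : P A.π.left := by
  refine of_selfPullback _ P ?_ ?_
  · have hc : IsPullback A.act.act.left (snd G A.P).left A.π.left A.π.left := A.cart.map (Over.forget S)
    have h0 : P (snd G A.P).left := MorphismProperty.pullback_snd (P := P) _ _ hG
    rw [← hc.isoPullback_hom_snd] at h0
    exact (P.cancel_left_of_respectsIso _ _).1 h0
  · obtain ⟨R, hR, hsec⟩ := A.loc
    exact ⟨R, Scheme.fppfPrecoverage_le_fpqcPrecoverage _ hR, hsec⟩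

theorem surjective_π (A : AlgSt.QuotObj Scheme.fppfPrecoverage G a) : Surjective A.π.left := by
  obtain ⟨R, hR, hsec⟩ := A.loc
  exact Sga84.surjective_of_isLocallyTrivialFor (X := Over.mk A.π.left)
    ⟨R, Scheme.fppfPrecoverage_le_fpqcPrecoverage _ hR, hsec⟩

theorem flat_π (hG : Flat G.hom) (A : AlgSt.QuotObj Scheme.fppfPrecoverage G a) : Flat A.π.left :=
  have := Sga84.flat_descendsAlong.{u}
  quotObj_π (P := @Flat) hG A

theorem lfp_π (hG : LocallyOfFinitePresentation G.hom) (A : AlgSt.QuotObj Scheme.fppfPrecoverage G a) :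
    LocallyOfFinitePresentation A.π.left :=
  have : MorphismProperty.DescendsAlong @LocallyOfFinitePresentation Unr55.fpqc.{u} := by infer_instance
  quotObj_π (P := @LocallyOfFinitePresentation) hG A

theorem smooth_π (hG : Smooth G.hom) (A : AlgSt.QuotObj Scheme.fppfPrecoverage G a) : Smooth A.π.left :=
  have : MorphismProperty.DescendsAlong @Smooth Unr55.fpqc.{u} := by infer_instance
  quotObj_π (P := @Smooth) hG A

end Groth.Agent.AlgSt88
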