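import Groth.Prelude
import Groth.Agent.AlgSt88.QuotTorsor
import Groth.Agent.Unr55.DescProps
import Mathlib.AlgebraicGeometry.Sites.Fpqc

/-! Coverings used for the descent of torsors. -/

set_option autoImplicit false
set_option backward.isDefEq.respectTransparency false
set_option backward.isDefEq.respectTransparency.types false
universe u

open CategoryTheory CategoryTheory.Limits MonoidalCategory CartesianMonoidalCategory AlgebraicGeometry AlgSt

namespace Groth.Agent.AlgSt88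

variable {S : Scheme.{u}}

theorem exists_precoverage_le {K : Precoverage Scheme.{u}} [K.HasIsos] [K.IsStableUnderBaseChange]
    [K.IsStableUnderComposition] {U : Over S} {R : Sieve U} (hR : R ∈ QuotSh.J K S U) :
    ∃ R₀ ∈ K U.left, ∀ ⦃W : Scheme.{u}⦄ (g : W ⟶ U.left), R₀ g →
      R (Over.homMk g rfl : Over.mk (g ≫ U.hom) ⟶ U) := by
  obtain ⟨R₀, hR₀, hle⟩ := (Precoverage.mem_toGrothendieck_iff_of_isStableUnderComposition).1
    ((GrothendieckTopology.mem_over_iff _ R).1 hR)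
  exact ⟨R₀, hR₀, fun W g hg => (Sieve.overEquiv_iff R g).1 (hle _ _ hg)⟩

theorem mem_over_of_mem_fpqcPrecoverage {U : Over S} {R : Sieve U} {R₀ : Presieve U.left}
    (hR₀ : R₀ ∈ Scheme.fpqcPrecoverage U.left)
    (h : ∀ ⦃W : Scheme.{u}⦄ (g : W ⟶ U.left), R₀ g → R (Over.homMk g rfl : Over.mk (g ≫ U.hom) ⟶ U)) :
    R ∈ (Scheme.fpqcTopology.over S) U := by
  rw [GrothendieckTopology.mem_over_iff]
  refine Scheme.fpqcTopology.superset_covering (S := Sieve.generate R₀) ?_
    (Precoverage.generate_mem_toGrothendieck hR₀)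
  exact (Sieve.generate_le_iff _ _).2 fun W g hg => (Sieve.overEquiv_iff R g).2 (h g hg)

theorem exists_small_subcover {X : Scheme.{u}} {R₀ : Presieve X} (hR₀ : R₀ ∈ Scheme.fpqcPrecoverage X) :
    ∃ (ι : Type u) (V : ι → Scheme.{u}) (f : ∀ i, V i ⟶ X),
      Presieve.ofArrows V f ∈ Scheme.fpqcPrecoverage X ∧ ∀ i, R₀ (f i) := by
  obtain ⟨E, rfl⟩ := (Precoverage.mem_iff_exists_zeroHypercover (J := Scheme.fpqcPrecoverage)).1 hR₀
  have : Precoverage.Small.{u} Scheme.fpqcPrecoverage.{u} :=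
    inferInstanceAs (Precoverage.Small.{u} (Scheme.propQCPrecoverage @Flat))
  let E' := Precoverage.ZeroHypercover.restrictIndexOfSmall.{u} E
  exact ⟨E'.I₀, E'.X, E'.f, E'.mem₀, fun i => ⟨Precoverage.ZeroHypercover.Small.restrictFun E i⟩⟩

variable {K : Precoverage Scheme.{u}} {G X : Over S} [GrpObj G] {a : AlgGrp.Action G X}

theorem isAffineHom_π (hK : K ≤ Scheme.fpqcPrecoverage) (hG : IsAffineHom G.hom) (A : QuotObj K G a) :
    IsAffineHom A.π.left := by
  have := Unr55.isAffineHom.{u}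
  refine of_selfPullback _ @IsAffineHom ?_ ?_
  · have hc : IsPullback A.act.act.left (snd G A.P).left A.π.left A.π.left := A.cart.map (Over.forget S)
    have h0 : IsAffineHom (snd G A.P).left :=
      MorphismProperty.pullback_snd (P := @IsAffineHom) _ _ hG
    rw [← hc.isoPullback_hom_snd] at h0
    exact (MorphismProperty.cancel_left_of_respectsIso @IsAffineHom _ _).1 h0
  · obtain ⟨R, hR, hsec⟩ := A.loc
    exact ⟨R, hK _ hR, hsec⟩

theorem loc_of_cover [K.IsStableUnderComposition] {U P : Scheme.{u}} (π : P ⟶ U) {R₀ : Presieve U} (hR₀ : R₀ ∈ K U)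
    (h : ∀ ⦃W : Scheme.{u}⦄ (g : W ⟶ U), R₀ g → ∃ (Y : Scheme.{u}) (p : Y ⟶ W) (m : Y ⟶ P),
      m ≫ π = p ≫ g ∧ NonAbH1.IsLocallyTrivialFor K (Over.mk p)) :
    NonAbH1.IsLocallyTrivialFor K (Over.mk π) := by
  obtain ⟨ι, V, f, rfl⟩ := R₀.exists_eq_ofArrows
  choose Y p m hm hloc using fun i => h (f i) ⟨i⟩
  choose Q hQ hsec using hloc
  choose σ W g hg using fun i => (Q i).exists_eq_ofArrows
  refine ⟨_, Precoverage.comp_mem_coverings f hR₀ g (fun i => hg i ▸ hQ i), ?_⟩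
  rintro S' q ⟨⟨i, j⟩⟩
  have hmem : Q i (g i j) := by rw [hg i]; exact ⟨j⟩
  obtain ⟨s, hs⟩ := hsec i (g i j) hmem
  refine ⟨s ≫ m i, ?_⟩
  change (s ≫ m i) ≫ π = g i j ≫ f i
  change s ≫ p i = g i j at hs
  rw [Category.assoc, hm, reassoc_of% hs]

end Groth.Agent.AlgSt88
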