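import Groth.Agent.AlgSt88.QuotRep
import Groth.Agent.AlgSt88.QuotStackCover

/-! The canonical functor to a quotient category of an affine group is affine. -/

set_option autoImplicit false
set_option linter.style.haveILetI false
set_option backward.isDefEq.respectTransparency false
set_option backward.isDefEq.respectTransparency.types false
universe u

open CategoryTheory CategoryTheory.Limits MonoidalCategory CartesianMonoidalCategory AlgebraicGeometry AlgSt FibCat

namespace Groth.Agent.AlgSt88

variable {S : Scheme.{u}} {G X : Over S} [GrpObj G] (a : AlgGrp.Action G X)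

theorem isAffineMor_yon_map {A B : Over S} (f : A ⟶ B) (hf : IsAffineHom f.left) :
    AlgSp.IsAffineMor ((AlgSp.yon S).map f) := by
  intro Z hZ g
  obtain ⟨g', rfl⟩ := (AlgSp.yon S).map_surjective g
  have h : IsPullback (pullback.fst f g') (pullback.snd f g') f g' := IsPullback.of_hasPullback f g'
  refine ⟨pullback f g', pullback.snd f g', (AlgSp.yon S).map (pullback.fst f g'),
    h.map (AlgSp.yon S), ?_⟩
  have hl : IsPullback (pullback.fst f g').left (pullback.snd f g').left f.left g'.left := h.map (Over.forget S)
  have : IsAffineHom (pullback.snd f g').left := MorphismProperty.of_isPullback hl hf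
  exact isAffine_of_isAffineHom (pullback.snd f g').left

theorem repByAlgSpWith_affine_quotMap [IsAffineHom G.hom] :
    RepByAlgSpWith AlgSp.IsAffineMor
      (BasedFunctor.comp (AlgSt.ofOverCat X) (AlgSt.quotMap Scheme.fppfPrecoverage G a)) :=
  repByAlgSpWith_quotMap a _ fun {U} y => isAffineMor_yon_map _ <| by
    have : IsIso (eqToHom (yA_base y)).left :=
      inferInstanceAs (IsIso ((Over.forget S).map (eqToHom (yA_base y))))
    have : IsAffineHom (yA y).π.left :=
      isAffineHom_π Scheme.fppfPrecoverage_le_fpqcPrecoverage ‹_› _
    exact inferInstanceAs (IsAffineHom ((yA y).π.left ≫ (eqToHom (yA_base y)).left))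

end Groth.Agent.AlgSt88
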