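import Groth.Agent.S10533
import Groth.Agent.AlgSt88.QuotAffine
import Groth.Agent.SpFP87.LocP
import Mathlib.FieldTheory.IsAlgClosed.Basic

/-! An algebraic space over a field which is affine after a field extension is affine. -/

set_option autoImplicit false
set_option maxHeartbeats 1000000
set_option linter.style.haveILetI false
set_option backward.isDefEq.respectTransparency false
set_option backward.isDefEq.respectTransparency.types false
universe u

open CategoryTheory CategoryTheory.Limits AlgebraicGeometry Opposite AlgSp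

namespace Groth.Agent.AlgSt88

theorem exists_iso_yon_affine_of_bc {k K : Type u} [Field k] [Field K] [Algebra k K]
    (X : AlgSp.Space (Spec (CommRingCat.of k))) (T : Over (Spec (CommRingCat.of k))) (hT : IsAffine T.left)
    (e : X.obj ⨯ (AlgSp.yon (Spec (CommRingCat.of k))).obj
        (Over.mk (Spec.map (CommRingCat.ofHom (algebraMap k K)))) ≅
      (AlgSp.yon (Spec (CommRingCat.of k))).obj T) :
    ∃ (U : Over (Spec (CommRingCat.of k))), IsAffine U.left ∧
      Nonempty (X.obj ≅ (AlgSp.yon (Spec (CommRingCat.of k))).obj U) := by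
  let S := Spec (CommRingCat.of k)
  let E : Over S := Over.mk (Spec.map (CommRingCat.ofHom (algebraMap k K)))
  let O : Over S := Over.mk (𝟙 S)
  haveI hE : IsAffine E.left := inferInstanceAs (IsAffine (Spec (CommRingCat.of K)))
  haveI : IsAffine O.left := inferInstanceAs (IsAffine (Spec (CommRingCat.of k)))
  let hterm : IsTerminal ((AlgSp.yon S).obj O) := Over.mkIdTerminal.isTerminalObj (AlgSp.yon S) O
  let q : X.obj ⟶ (AlgSp.yon S).obj O := hterm.from _
  let c : E ⟶ O := Over.homMk E.hom (Category.comp_id _)
  let g : (AlgSp.yon S).obj E ⟶ (AlgSp.yon S).obj O := (AlgSp.yon S).map c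
  have sq : IsPullback (e.inv ≫ prod.fst) (e.inv ≫ prod.snd) q g := by
    refine (IsPullback.of_is_product' (prodIsProd X.obj ((AlgSp.yon S).obj E)) hterm).of_iso e (Iso.refl _)
      (Iso.refl _) (Iso.refl _) ?_ ?_ (hterm.hom_ext _ _) (hterm.hom_ext _ _)
    · simp; rfl
    · simp; rfl
  obtain ⟨t, ht⟩ := (AlgSp.yon S).map_surjective (e.inv ≫ prod.snd)
  haveI : IsAffineHom t.left := inferInstance
  have hp : AlgSp.IsAffineMor (e.inv ≫ prod.snd) := by
    rw [← ht]
    exact isAffineMor_yon_map t inferInstance
  haveI : Flat c.left := by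
    show Flat (Spec.map (CommRingCat.ofHom (algebraMap k K)))
    rw [HasRingHomProperty.Spec_iff (P := @Flat)]
    exact RingHom.flat_algebraMap_iff.2 inferInstance
  haveI : Surjective c.left := by
    show Surjective (Spec.map (CommRingCat.ofHom (algebraMap k K)))
    haveI : Subsingleton ↥(Spec (CommRingCat.of k)) := inferInstanceAs (Subsingleton (PrimeSpectrum k))
    exact ⟨fun s => ⟨Classical.arbitrary (PrimeSpectrum K), Subsingleton.elim _ _⟩⟩
  have hcov : AlgSp.IsFpqcCover (fun _ : PUnit.{u + 1} => (AlgSp.yon S).obj E) (fun _ => g) := by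
    refine ⟨fun _ => (SpFP87.locP_yon_map_iff (P := @Flat) c).2 inferInstance, fun Z hZ h => ?_⟩
    obtain ⟨z, rfl⟩ := (AlgSp.yon S).map_surjective h
    have sq' : IsPullback (pullback.fst z c) (pullback.snd z c) z c := IsPullback.of_hasPullback z c
    have sql := sq'.map (Over.forget S)
    haveI : IsAffineHom c.left := inferInstance
    refine ⟨1, fun _ => pullback z c, fun _ => pullback.fst z c, fun _ => ?_, fun _ => ?_, fun y => ⟨0, ?_⟩,
      fun _ => ⟨⟨⟩, (AlgSp.yon S).map (pullback.snd z c), ?_⟩⟩
    · haveI : IsAffineHom (pullback.fst z c).left :=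
        MorphismProperty.of_isPullback (P := @IsAffineHom) sql.flip (by assumption)
      exact isAffine_of_isAffineHom (pullback.fst z c).left
    · exact MorphismProperty.of_isPullback (P := @Flat) sql.flip (by assumption)
    · haveI : Surjective (pullback.fst z c).left :=
        MorphismProperty.of_isPullback (P := @Surjective) sql.flip (by assumption)
      exact (pullback.fst z c).left.surjective y
    · rw [← Functor.map_comp, ← Functor.map_comp, pullback.condition]
  have hq : AlgSp.IsAffineMor q :=
    (S10533.result S (fun _ : PUnit.{u + 1} => (AlgSp.yon S).obj E) (fun _ => g) (AlgSp.IsAlgSpace.yon_obj O)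
      (fun _ => AlgSp.IsAlgSpace.yon_obj E) hcov q X.property (fun _ => (AlgSp.yon S).obj T)
      (fun _ => e.inv ≫ prod.snd) (fun _ => e.inv ≫ prod.fst) (fun _ => AlgSp.IsAlgSpace.yon_obj T)
      (fun _ => sq)).2 fun _ => hp
  obtain ⟨W, i, fst, sqW, hW⟩ := hq inferInstance (𝟙 _)
  haveI : IsIso fst := sqW.isIso_fst_of_isIso
  exact ⟨W, hW, ⟨(asIso fst).symm⟩⟩

end Groth.Agent.AlgSt88
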