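import Mathlib

/-! A field extension of an algebraically closed field dominated by finite type data is trivial. -/

set_option autoImplicit false
set_option linter.style.haveILetI false
universe u

open CategoryTheory CategoryTheory.Limits AlgebraicGeometry Polynomial

namespace Groth.Agent.AlgSt88

/-- A finitely generated algebra over `L[X]` containing it cannot invert all `X - a`, `a` in an infinite set. -/
theorem exists_not_isUnit {L A : Type u} [Field L] [CommRing A] [IsDomain A] (F : L[X] →+* A) (hi : Function.Injective F)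
    (hf : F.FiniteType) (s : Set L) (hs : s.Infinite) : ∃ a ∈ s, ¬ IsUnit (F (X - C a)) := by
  letI := F.toAlgebra
  haveI : Algebra.FiniteType L[X] A := hf
  haveI : Algebra.FinitePresentation L[X] A := Algebra.FinitePresentation.of_finiteType.mp ‹_›
  haveI : Module.IsTorsionFree L[X] A := Module.isTorsionFree_iff_algebraMap_injective.2 hi
  haveI : Module.Flat L[X] A := inferInstance
  have ho := PrimeSpectrum.isOpenMap_comap_of_hasGoingDown_of_finitePresentation (R := L[X]) (S := A) _ isOpen_univ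
  rw [Set.image_univ] at ho
  let η : PrimeSpectrum L[X] := ⟨⊥, Ideal.isPrime_bot⟩
  have hη : η ∈ Set.range (PrimeSpectrum.comap (algebraMap L[X] A)) :=
    ⟨⟨⊥, Ideal.isPrime_bot⟩, PrimeSpectrum.ext (by
      change Ideal.comap _ ⊥ = ⊥
      exact (RingHom.injective_iff_ker_eq_bot _).1 hi)⟩
  obtain ⟨_, ⟨g, rfl⟩, hg, hsub⟩ :=
    PrimeSpectrum.isTopologicalBasis_basic_opens.exists_subset_of_mem_open hη ho
  have hg0 : g ≠ 0 := fun h => hg (by rw [h]; exact Ideal.zero_mem _)
  obtain ⟨a, ha, hga⟩ := (hs.diff (finite_setOf_isRoot hg0)).nonempty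
  refine ⟨a, ha, fun hu => ?_⟩
  haveI : (Ideal.span {X - C a}).IsPrime :=
    (Ideal.span_singleton_prime (X_sub_C_ne_zero a)).2 (prime_X_sub_C a)
  obtain ⟨Q, hQ⟩ := hsub (show (⟨Ideal.span {X - C a}, inferInstance⟩ : PrimeSpectrum L[X]) ∈
      (PrimeSpectrum.basicOpen g : Set (PrimeSpectrum L[X])) from fun h => hga (by
    rw [Ideal.mem_span_singleton, dvd_iff_isRoot] at h
    exact h))
  refine Q.2.ne_top (Ideal.eq_top_of_isUnit_mem _ ?_ hu)
  have h := congrArg PrimeSpectrum.asIdeal hQ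
  change Ideal.comap (algebraMap L[X] A) Q.asIdeal = _ at h
  exact (show X - C a ∈ Ideal.comap (algebraMap L[X] A) Q.asIdeal by
    rw [h]; exact Ideal.subset_span rfl)

theorem exists_compositum {K A B : Type u} [Field K] [Field A] [Field B] (i : K →+* A) (j : K →+* B) :
    ∃ (Ω : Type u) (_ : Field Ω) (_ : IsAlgClosed Ω) (a : A →+* Ω) (b : B →+* Ω), a.comp i = b.comp j := by
  letI := i.toAlgebra
  letI := j.toAlgebra
  obtain ⟨m, hm⟩ := Ideal.exists_maximal (TensorProduct K A B)
  letI : Field (TensorProduct K A B ⧸ m) := Ideal.Quotient.field m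
  let q : TensorProduct K A B →+* AlgebraicClosure (TensorProduct K A B ⧸ m) :=
    (algebraMap (TensorProduct K A B ⧸ m) _).comp (Ideal.Quotient.mk m)
  refine ⟨AlgebraicClosure (TensorProduct K A B ⧸ m), inferInstance, inferInstance,
    q.comp Algebra.TensorProduct.includeLeftRingHom,
    q.comp (Algebra.TensorProduct.includeRight : B →ₐ[K] TensorProduct K A B).toRingHom, RingHom.ext fun c => ?_⟩
  exact congrArg q (((Algebra.TensorProduct.includeLeft (S := K) : A →ₐ[K] TensorProduct K A B).commutes c).trans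
    ((Algebra.TensorProduct.includeRight : B →ₐ[K] TensorProduct K A B).commutes c).symm)

/-- A field extension `L` of an algebraically closed field `k` such that some locally finite type `L`-scheme
meets every pair of `k`-compatible points of `Spec L` is trivial. -/
theorem isIso_of_lift_pairs {k L : Type u} [Field k] [IsAlgClosed k] [Field L]
    (g : Spec (CommRingCat.of L) ⟶ Spec (CommRingCat.of k)) {V : Scheme.{u}}
    (b₁ b₂ : V ⟶ Spec (CommRingCat.of L)) [LocallyOfFiniteType b₁]
    (hp : ∀ (Ω : Type u) [Field Ω] [IsAlgClosed Ω] (x₁ x₂ : Spec (CommRingCat.of Ω) ⟶ Spec (CommRingCat.of L)),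
      x₁ ≫ g = x₂ ≫ g → ∃ (Ω' : Type u) (_ : Field Ω') (e : Spec (CommRingCat.of Ω') ⟶ Spec (CommRingCat.of Ω))
        (v : Spec (CommRingCat.of Ω') ⟶ V), v ≫ b₁ = e ≫ x₁ ∧ v ≫ b₂ = e ≫ x₂)
    (hb : b₁ ≫ g = b₂ ≫ g) : IsIso g := by
  obtain ⟨f, rfl⟩ : ∃ f : CommRingCat.of k ⟶ CommRingCat.of L, Spec.map f = g := ⟨Spec.preimage g, Spec.map_preimage g⟩
  letI : Algebra k L := f.hom.toAlgebra
  suffices hb' : Function.Bijective (algebraMap k L) by
    haveI : IsIso f := (ConcreteCategory.isIso_iff_bijective f).2 hb'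
    infer_instance
  suffices halg : Algebra.IsAlgebraic k L by exact IsAlgClosed.algebraMap_bijective_of_isIntegral
  by_contra hna
  obtain ⟨t, ht⟩ : ∃ t : L, Transcendental k t := by
    by_contra h
    push Not at h
    exact hna ⟨fun x => not_not.1 (h x)⟩
  -- two generic points
  let φ : k[X] →ₐ[k] L := aeval t
  have hφ : Function.Injective φ := transcendental_iff_injective.1 ht
  let ψ : k[X] →+* FractionRing L[X] := (algebraMap L[X] _).comp (mapRingHom (algebraMap k L))
  have hψ : Function.Injective ψ :=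
    (IsFractionRing.injective L[X] _).comp (map_injective _ (algebraMap k L).injective)
  let i₁ : FractionRing k[X] →+* L := IsFractionRing.lift (g := φ.toRingHom) hφ
  let i₂ : FractionRing k[X] →+* FractionRing L[X] := IsFractionRing.lift hψ
  obtain ⟨Ω, _, _, j₁, j₂, hjj⟩ := exists_compositum i₂ i₁
  have hj : ∀ p : k[X], j₁ (ψ p) = j₂ (φ p) := fun p => by
    have h1 : i₁ (algebraMap _ _ p) = φ p := IsFractionRing.lift_algebraMap hφ p
    have h2 : i₂ (algebraMap _ _ p) = ψ p := IsFractionRing.lift_algebraMap hψ p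
    rw [← h1, ← h2]
    exact RingHom.congr_fun hjj _
  let x₁ : L →+* Ω := j₁.comp ((algebraMap L[X] (FractionRing L[X])).comp C)
  obtain ⟨Ω', _, e, v, hv₁, hv₂⟩ := hp Ω (Spec.map (CommRingCat.ofHom x₁)) (Spec.map (CommRingCat.ofHom j₂)) (by
    rw [← Spec.map_comp, ← Spec.map_comp]
    congr 1
    ext c
    have h := hj (C c)
    simp [x₁, ψ, φ] at h ⊢
    exact h)
  obtain ⟨ε, rfl⟩ : ∃ ε, Spec.map ε = e := ⟨Spec.preimage e, Spec.map_preimage e⟩
  -- an affine neighbourhood
  obtain ⟨U, hU, hvU, -⟩ := exists_isAffineOpen_mem_and_subset (x := v (IsLocalRing.closedPoint Ω')) (U := ⊤) trivial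
  haveI : IsAffine U.toScheme := hU
  have hr : Set.range v ⊆ U := by
    rintro _ ⟨y, rfl⟩
    rw [Subsingleton.elim y (IsLocalRing.closedPoint Ω')]
    exact hvU
  let v' : Spec (CommRingCat.of Ω') ⟶ Spec Γ(U.toScheme, ⊤) :=
    IsOpenImmersion.lift U.ι v (by rw [Scheme.Opens.range_ι]; exact hr) ≫ U.toScheme.isoSpec.hom
  obtain ⟨w, hw⟩ : ∃ w, Spec.map w = v' := ⟨Spec.preimage v', Spec.map_preimage v'⟩
  obtain ⟨β₁, hβ₁⟩ : ∃ β, Spec.map β = U.toScheme.isoSpec.inv ≫ U.ι ≫ b₁ :=
    ⟨Spec.preimage _, Spec.map_preimage _⟩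
  obtain ⟨β₂, hβ₂⟩ : ∃ β, Spec.map β = U.toScheme.isoSpec.inv ≫ U.ι ≫ b₂ :=
    ⟨Spec.preimage _, Spec.map_preimage _⟩
  haveI : LocallyOfFiniteType (Spec.map β₁) := by rw [hβ₁]; infer_instance
  have hβfin : β₁.hom.FiniteType := (HasRingHomProperty.Spec_iff (P := @LocallyOfFiniteType)).1 ‹_›
  have hw₁ : β₁ ≫ w = CommRingCat.ofHom x₁ ≫ ε := by
    apply Spec.map_injective
    rw [Spec.map_comp, Spec.map_comp, hw, hβ₁]
    simpa [v'] using hv₁
  have hw₂ : β₂ ≫ w = CommRingCat.ofHom j₂ ≫ ε := by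
    apply Spec.map_injective
    rw [Spec.map_comp, Spec.map_comp, hw, hβ₂]
    simpa [v'] using hv₂
  have hw₀ : f ≫ β₁ = f ≫ β₂ := by
    apply Spec.map_injective
    rw [Spec.map_comp, Spec.map_comp, hβ₁, hβ₂]
    simp [hb]
  let E : ↑Γ(U.toScheme, ⊤) →+* Ω' := w.hom
  let A := ↑Γ(U.toScheme, ⊤) ⧸ RingHom.ker E
  haveI : (RingHom.ker E).IsPrime := RingHom.ker_isPrime E
  let π : ↑Γ(U.toScheme, ⊤) →+* A := Ideal.Quotient.mk _
  let F : L[X] →+* A := eval₂RingHom (π.comp β₁.hom) (π (β₂.hom t))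
  have hcomp : (Ideal.Quotient.lift (RingHom.ker E) E (fun a h => h)).comp F =
      (ε.hom.comp j₁).comp (algebraMap L[X] (FractionRing L[X])) := by
    ext c
    · have h := congrArg (fun r => r.hom c) hw₁
      simp [F, π, E, x₁] at h ⊢
      exact h
    · have h := hj X
      simp [ψ, φ] at h
      simp [F, π, E]
      rw [h]
      exact congrArg (fun r => r.hom t) hw₂
  have hFi : Function.Injective F := by
    refine Function.Injective.of_comp (f := Ideal.Quotient.lift (RingHom.ker E) E (fun a h => h)) ?_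
    rw [← RingHom.coe_comp, hcomp]
    exact (ε.hom.comp j₁).injective.comp (IsFractionRing.injective L[X] _)
  have hFf : F.FiniteType := by
    have h : (F.comp C).FiniteType := by
      rw [show F.comp C = π.comp β₁.hom from RingHom.ext fun c => by simp [F]]
      exact hβfin.comp_surjective Ideal.Quotient.mk_surjective
    exact RingHom.FiniteType.of_comp_finiteType h
  obtain ⟨a, ⟨c, rfl⟩, ha⟩ := exists_not_isUnit F hFi hFf (Set.range (algebraMap k L))
    (Set.infinite_range_of_injective (algebraMap k L).injective)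
  refine ha ?_
  have hc : β₁.hom (algebraMap k L c) = β₂.hom (algebraMap k L c) := congrArg (fun r => r.hom c) hw₀
  have h : F (X - C (algebraMap k L c)) = π (β₂.hom (t - algebraMap k L c)) := by
    simp [F, hc]
  rw [h]
  refine ((IsUnit.mk0 _ (sub_ne_zero.2 fun he => ht ?_)).map β₂.hom).map π
  rw [he]
  exact isAlgebraic_algebraMap c

end Groth.Agent.AlgSt88
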