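import Groth.Agent.AlgSt88.CompP
import Groth.Agent.SpFP87.LocPRep
import Groth.Agent.SpFP87.EtLocInst
import Groth.Agent.SpPts86.Basic

/-! `LocP P` and surjectivity for morphisms representable by algebraic spaces. -/

set_option autoImplicit false
set_option backward.isDefEq.respectTransparency false
set_option backward.isDefEq.respectTransparency.types false
universe u

open CategoryTheory CategoryTheory.Limits AlgebraicGeometry Opposite AlgSt FibCat

namespace Groth.Agent.AlgSt88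

variable {S : Scheme.{u}} {P : MorphismProperty Scheme.{u}}

theorem respectsIso_locP (P : MorphismProperty Scheme.{u}) : (AlgSp.LocP (S := S) P).RespectsIso := by
  refine MorphismProperty.RespectsIso.mk _ (fun {X Y W} e f hf => ?_) (fun {X Y W} e f hf => ?_)
  · intro U V a b h ha hb w
    exact hf (a ≫ e.hom) b h (MorphismProperty.RespectsIso.postcomp (AlgSp.RepWith @Etale) e.hom a ha) hb
      (by rw [Category.assoc, w])
  · intro U V a b h ha hb w
    refine hf a (b ≫ e.inv) h ha (MorphismProperty.RespectsIso.postcomp (AlgSp.RepWith @Etale) e.inv b hb) ?_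
    rw [← cancel_mono e.hom]
    simpa using w

theorem spaceDescends_locP (P : MorphismProperty Scheme.{u}) [SpFP87.EtLoc P] :
    SpaceDescends (S := S) (AlgSp.LocP P) := by
  intro F G a ha
  obtain ⟨V, b, hb, hbs⟩ := G.property.atlas
  have sq := IsPullback.of_hasPullback a b
  obtain ⟨hF', hp⟩ := (AlgSp.repBySpWith_hom_iff _ a).1 ha b _ _ sq
  obtain ⟨U, c, h, hc, hcs, w⟩ := SpFP87.exists_compatible_chart (pullback.snd a b) hF'
    (AlgSp.IsAlgSpace.yon_obj V).diag (AlgSp.repWith_id @Etale V) (AlgSp.repWith_id @Surjective V)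
  have h1 : AlgSp.RepWith @Etale (pullback.fst a b) := MorphismProperty.of_isPullback sq.flip hb
  have h2 : AlgSp.RepWith @Surjective (pullback.fst a b) := MorphismProperty.of_isPullback sq.flip hbs
  refine SpFP87.locP_of_chart (h := h) (a := c ≫ pullback.fst a b) (b := b) F.property.diag G.property.diag
    (MorphismProperty.comp_mem _ _ _ hc h1) (MorphismProperty.comp_mem _ _ _ hcs h2) hb ?_
    (hp c (𝟙 _) h hc (AlgSp.repWith_id @Etale V) w)
  rw [Category.assoc, sq.w, ← Category.assoc, w, Category.comp_id]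

theorem respectsIso_surj : (AlgSp.IsSurjectiveMor (S := S)).RespectsIso := by
  have hi : ∀ {X Y : AlgSp.Sp S} (e : X ≅ Y), Function.Surjective (AlgSp.Points.map e.hom) := fun {X Y} e y =>
    ⟨AlgSp.Points.map e.inv y, by rw [← AlgSp.Points.map_comp, e.inv_hom_id, AlgSp.Points.map_id]⟩
  refine MorphismProperty.RespectsIso.mk _ (fun {X Y W} e f hf => ?_) (fun {X Y W} e f hf => ?_)
  · intro y
    obtain ⟨x, rfl⟩ := hf y
    obtain ⟨x', rfl⟩ := hi e x
    exact ⟨x', AlgSp.Points.map_comp e.hom f x'⟩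
  · intro y
    obtain ⟨y', rfl⟩ := hi e y
    obtain ⟨x, rfl⟩ := hf y'
    exact ⟨x, AlgSp.Points.map_comp f e.hom x⟩

theorem spaceDescends_surj : SpaceDescends (S := S) AlgSp.IsSurjectiveMor := by
  intro F G a ha y
  obtain ⟨T, g, t, rfl, -⟩ := SpPts86.exists_ofPt_eq y
  have sq := IsPullback.of_hasPullback a g
  obtain ⟨-, hp⟩ := (AlgSp.repBySpWith_hom_iff _ a).1 ha g _ _ sq
  obtain ⟨z, hz⟩ := hp (AlgSp.Points.ofScheme T t)
  exact ⟨AlgSp.Points.map (pullback.fst a g) z, by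
    rw [← AlgSp.Points.map_comp, sq.w, AlgSp.Points.map_comp, hz, ← AlgSp.Points.ofPt_eq_map_ofScheme]⟩

theorem repByAlgSpWith_locP_comp (P : MorphismProperty Scheme.{u}) [SpFP87.EtLoc P] {𝒳 𝒴 𝒵 : AlgSt.Cat S}
    (hX : IsFibGrpd 𝒳.p) (hY : IsFibGrpd 𝒴.p) {f : 𝒳 ⥤ᵇ 𝒴} {g : 𝒴 ⥤ᵇ 𝒵}
    (hf : RepByAlgSpWith (AlgSp.LocP P) f) (hg : RepByAlgSpWith (AlgSp.LocP P) g) :
    RepByAlgSpWith (AlgSp.LocP P) (BasedFunctor.comp f g) :=
  repByAlgSpWith_comp_of hX hY (respectsIso_locP P) (spaceDescends_locP P)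
    (fun _ _ _ hA hB hC _ _ ha hb => SpFP87.locP_comp hA hB hC ha hb) hf hg

theorem repByAlgSpWith_surj_comp {𝒳 𝒴 𝒵 : AlgSt.Cat S} (hX : IsFibGrpd 𝒳.p) (hY : IsFibGrpd 𝒴.p)
    {f : 𝒳 ⥤ᵇ 𝒴} {g : 𝒴 ⥤ᵇ 𝒵}
    (hf : RepByAlgSpWith AlgSp.IsSurjectiveMor f) (hg : RepByAlgSpWith AlgSp.IsSurjectiveMor g) :
    RepByAlgSpWith AlgSp.IsSurjectiveMor (BasedFunctor.comp f g) :=
  repByAlgSpWith_comp_of hX hY respectsIso_surj spaceDescends_surj
    (fun _ _ _ _ _ _ a b ha hb y => by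
      obtain ⟨y', rfl⟩ := hb y
      obtain ⟨x, rfl⟩ := ha y'
      exact ⟨x, AlgSp.Points.map_comp a b x⟩) hf hg

end Groth.Agent.AlgSt88
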