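import Groth.Prelude.Def_AlgSpCov
import Groth.Agent.SpFP87.LocPRep
import Groth.Agent.SpFP87.EtLocInst
import Groth.Agent.SpPts86.Basic

/-! Consequences of locality on the base for fppf coverings. -/

set_option autoImplicit false
universe u

open CategoryTheory CategoryTheory.Limits AlgebraicGeometry Opposite AlgSp

namespace Groth.Agent.AlgSt88

variable {S : Scheme.{u}} {P : MorphismProperty (Sp S)}

/-- The restriction of a property to morphisms of algebraic spaces. -/
def onSpaces (P : MorphismProperty (Sp S)) : MorphismProperty (Sp S) :=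
  fun X Y f => IsAlgSpace X ∧ IsAlgSpace Y ∧ P f

theorem onSpaces_le : onSpaces P ≤ P := fun _ _ _ h => h.2.2

theorem isFppfCover_single {Y Y' : Sp S} (g : Y' ⟶ Y) (hflat : LocP @Flat g)
    (hfp : LocP @LocallyOfFinitePresentation g) (hs : IsSurjectiveMor g) :
    IsFppfCover (fun _ : PUnit.{u+1} => Y') (fun _ => g) :=
  ⟨fun _ => ⟨hflat, hfp⟩, fun x => ⟨PUnit.unit, hs x⟩⟩

theorem isFppfCover_of_etale_surjective {Y : Sp S} (hY : IsAlgSpace Y) {V : Over S} {b : (yon S).obj V ⟶ Y}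
    (hb : RepWith @Etale b) (hbs : RepWith @Surjective b) :
    IsFppfCover (fun _ : PUnit.{u+1} => (yon S).obj V) (fun _ => b) :=
  isFppfCover_single b
    (SpFP87.LocP.of_le (fun _ _ f (h : Etale f) => (inferInstance : Flat f))
      (SpFP87.locP_of_repWith (IsAlgSpace.yon_obj V).diag hY hb))
    (SpFP87.LocP.of_le (fun _ _ f (h : Etale f) => (inferInstance : LocallyOfFinitePresentation f))
      (SpFP87.locP_of_repWith (IsAlgSpace.yon_obj V).diag hY hb))
    (SpPts86.isSurjectiveMor_of_repWith hbs)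

theorem isFppfCover_of_isIso {Y Y' : Sp S} (g : Y' ⟶ Y) [IsIso g] (hY : IsAlgSpace Y) :
    IsFppfCover (fun _ : PUnit.{u+1} => Y') (fun _ => g) :=
  haveI : MorphismProperty.ContainsIdentities (@LocallyOfFinitePresentation.{u} : MorphismProperty Scheme.{u}) :=
    ⟨fun X => (inferInstance : LocallyOfFinitePresentation (𝟙 X))⟩
  haveI : MorphismProperty.ContainsIdentities (@Flat.{u} : MorphismProperty Scheme.{u}) :=
    ⟨fun X => (inferInstance : Flat (𝟙 X))⟩
  isFppfCover_single g (SpFP87.locP_of_isIso g (hY.of_iso (asIso g).symm) hY)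
    (SpFP87.locP_of_isIso g (hY.of_iso (asIso g).symm) hY)
    (fun x => by
      obtain ⟨z, hz, -⟩ := SpPts86.exists_of_isPullback
        (IsPullback.of_vert_isIso ⟨by simp⟩ : IsPullback g g (𝟙 Y) (𝟙 Y)) x x rfl
      exact ⟨z, hz⟩)

/-- A property local on the base may be checked on one fppf covering map. -/
theorem of_single_cover (hP : IsLocalOnBase IsFppfCover P) {Y Y' X X' : Sp S} (g : Y' ⟶ Y)
    (hg : IsFppfCover (fun _ : PUnit.{u+1} => Y') (fun _ => g)) (hY : IsAlgSpace Y) (hY' : IsAlgSpace Y')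
    (hX : IsAlgSpace X) (hX' : IsAlgSpace X') {f : X ⟶ Y} {p : X' ⟶ Y'} {q : X' ⟶ X}
    (sq : IsPullback q p f g) : P f ↔ P p :=
  (hP (fun _ : PUnit.{u+1} => Y') (fun _ => g) hY (fun _ => hY') hg f hX (fun _ => X') (fun _ => p) (fun _ => q)
    (fun _ => hX') (fun _ => sq)).trans ⟨fun h => h PUnit.unit, fun h _ => h⟩

theorem onSpaces_respectsIso (hP : IsLocalOnBase IsFppfCover P) : (onSpaces P).RespectsIso := by
  refine MorphismProperty.RespectsIso.mk _ (fun {X Y Z} e f hf => ?_) (fun {X Y Z} e f hf => ?_)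
  · obtain ⟨hY, hZ, hPf⟩ := hf
    refine ⟨hY.of_iso e.symm, hZ, ?_⟩
    exact (of_single_cover hP (𝟙 Z) (isFppfCover_of_isIso (𝟙 Z) hZ) hZ hZ hY (hY.of_iso e.symm)
      (IsPullback.of_horiz_isIso ⟨by simp⟩ : IsPullback e.hom (e.hom ≫ f) f (𝟙 Z))).1 hPf
  · obtain ⟨hZ, hY, hPf⟩ := hf
    refine ⟨hZ, hY.of_iso e, ?_⟩
    exact (of_single_cover hP e.hom (isFppfCover_of_isIso e.hom (hY.of_iso e)) (hY.of_iso e) hY hZ hZ
      (IsPullback.of_horiz_isIso ⟨by simp⟩ : IsPullback (𝟙 _) f (f ≫ e.hom) e.hom)).2 hPf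

end Groth.Agent.AlgSt88
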