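import Groth.Agent.AlgSt88.FpSpace
import Groth.Agent.AlgSt88.LocalBase

/-! Composition of morphisms representable by algebraic spaces. -/

set_option autoImplicit false
set_option backward.isDefEq.respectTransparency false
set_option backward.isDefEq.respectTransparency.types false
universe w₂ v₂ w v u

open CategoryTheory CategoryTheory.Limits AlgebraicGeometry Opposite AlgSt FibCat

namespace Groth.Agent.AlgSt88

variable {S : Scheme.{u}} {P : MorphismProperty (AlgSp.Sp S)}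

theorem repByAlgSpWith_onSpaces_iff {𝒳 : BasedCategory.{v, w} (Over S)} {𝒴 : BasedCategory.{v₂, w₂} (Over S)}
    {f : 𝒳 ⥤ᵇ 𝒴} : RepByAlgSpWith (onSpaces P) f ↔ RepByAlgSpWith P f :=
  ⟨repByAlgSpWith_mono onSpaces_le, fun h U y => by
    obtain ⟨F, e, he, hP⟩ := h U y
    exact ⟨F, e, he, F.property, AlgSp.IsAlgSpace.yon_obj U, hP⟩⟩

variable {𝒳 𝒴 𝒵 : AlgSt.Cat S}

theorem repByAlgSp1_comp (hX : IsFibGrpd 𝒳.p) (hY : IsFibGrpd 𝒴.p) {f : 𝒳 ⥤ᵇ 𝒴} {g : 𝒴 ⥤ᵇ 𝒵}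
    (hf : RepByAlgSp1 f) (hg : RepByAlgSp1 g) : RepByAlgSp1 (BasedFunctor.comp f g) := by
  intro U y
  have h1 : RepByAlgSp (fp g y) := repByAlgSp_of_equiv (hg U y) isEquivOver_fpSwap
  have h2 : RepByAlgSp (fp f (fpFst g y)) :=
    repByAlgSp_of_equiv (repByAlgSp_fp hX hY (fpFst g y) hf h1) isEquivOver_fpSwap
  exact repByAlgSp_of_equiv (repByAlgSp_of_equiv h2 (isEquivOver_fpPaste f g y)) isEquivOver_fpSwap

/-- A space over a space with property `P` on the base changes to schemes has property `P`. -/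
theorem prop_of_repBySpWith (hP : AlgSp.IsLocalOnBase AlgSp.IsFppfCover P) {F G : AlgSp.Space S}
    (a : F.obj ⟶ G.obj) (ha : AlgSp.RepBySpWith (onSpaces P) a.hom) : P a := by
  obtain ⟨V, u, hue, hus⟩ := G.property.atlas
  have sq := IsPullback.of_hasPullback a u
  obtain ⟨h1, -, -, h3⟩ := (AlgSp.repBySpWith_hom_iff _ a).1 ha u _ _ sq
  exact (of_single_cover hP u (isFppfCover_of_etale_surjective G.property hue hus) G.property
    (AlgSp.IsAlgSpace.yon_obj V) F.property h1 sq).2 h3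

theorem repByAlgSpWith_comp (hX : IsFibGrpd 𝒳.p) (hY : IsFibGrpd 𝒴.p)
    (hPc : ∀ ⦃X Y Z : AlgSp.Sp S⦄, AlgSp.IsAlgSpace X → AlgSp.IsAlgSpace Y → AlgSp.IsAlgSpace Z →
      ∀ (a : X ⟶ Y) (b : Y ⟶ Z), P a → P b → P (a ≫ b))
    (hP : AlgSp.IsLocalOnBase AlgSp.IsFppfCover P)
    {f : 𝒳 ⥤ᵇ 𝒴} {g : 𝒴 ⥤ᵇ 𝒵} (hf : RepByAlgSpWith P f) (hg : RepByAlgSpWith P g) :
    RepByAlgSpWith P (BasedFunctor.comp f g) := by
  intro U y
  obtain ⟨G, e, he, hb⟩ := hg U y
  let q : fp g y ⥤ᵇ 𝒴 := fpFst g y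
  let e' : ofSp G.obj ⥤ᵇ fp g y := BasedFunctor.comp e (fpSwap y g)
  have he' : IsEquivOver e' := isEquivOver_comp he isEquivOver_fpSwap
  obtain ⟨F, a, ψ, hψ, ⟨α⟩, hQ⟩ := exists_space_fp hX hY (repByAlgSp1_of_with hf) G (BasedFunctor.comp e' q)
  have hPa : P a := prop_of_repBySpWith hP a (hQ _ (onSpaces_respectsIso hP) (repByAlgSpWith_onSpaces_iff.2 hf))
  let χ : fp (BasedFunctor.comp e' q) f ⥤ᵇ fp y (BasedFunctor.comp f g) :=
    BasedFunctor.comp (fpMapFst q f e') (BasedFunctor.comp (fpSwap q f)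
      (BasedFunctor.comp (fpPaste f g y) (fpSwap (BasedFunctor.comp f g) y)))
  have hχ : IsEquivOver χ :=
    isEquivOver_comp (isEquivOver_fpMapFst q f e' he') (isEquivOver_comp isEquivOver_fpSwap
      (isEquivOver_comp (isEquivOver_fpPaste f g y) isEquivOver_fpSwap))
  refine ⟨F, BasedFunctor.comp ψ χ, isEquivOver_comp hψ hχ, ?_⟩
  have hmap : spMapOfOver (BasedFunctor.comp (BasedFunctor.comp ψ χ) (fpFst y (BasedFunctor.comp f g))) =
      a ≫ spMapOfOver (BasedFunctor.comp e (fpFst y g)) := by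
    have h := spMapOfOver_congr (bRight α (BasedFunctor.comp e (fpFst y g)))
    rw [spMapOfOver_comp (ofSpMap a) (BasedFunctor.comp e (fpFst y g)), homOfBased_ofSpMap] at h
    exact h
  rw [hmap]
  exact hPc F.property G.property (AlgSp.IsAlgSpace.yon_obj U) a _ hPa hb

end Groth.Agent.AlgSt88
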