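import Groth.Agent.AlgSt88.Invar
import Groth.Agent.AlgSt88.Compose
import Groth.Agent.Fib44.Psh
import Groth.Agent.SpPts86.EtaleMor

/-! Algebraic spaces are Deligne-Mumford stacks. -/

set_option autoImplicit false
set_option backward.isDefEq.respectTransparency false
set_option backward.isDefEq.respectTransparency.types false
universe u

open CategoryTheory CategoryTheory.Limits AlgebraicGeometry Opposite AlgSt FibCat

namespace Groth.Agent.AlgSt88

variable {S : Scheme.{u}}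

theorem repByAlgSpWith_mono_spaces {P Q : MorphismProperty (AlgSp.Sp S)} {𝒳 𝒴 : AlgSt.Cat S} {f : 𝒳 ⥤ᵇ 𝒴}
    (hPQ : ∀ ⦃X Y : AlgSp.Sp S⦄, AlgSp.IsAlgSpace X → AlgSp.IsAlgSpace Y → ∀ a : X ⟶ Y, P a → Q a)
    (h : RepByAlgSpWith P f) : RepByAlgSpWith Q f :=
  repByAlgSpWith_mono (P := onSpaces P) (fun _ _ a ha => hPQ ha.1 ha.2.1 a ha.2.2)
    (repByAlgSpWith_onSpaces_iff.2 h)

theorem repBySpWith_repWith_of {Q : MorphismProperty Scheme.{u}} [Q.IsStableUnderBaseChange] {F G : AlgSp.Sp S}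
    (a : F ⟶ G) (ha : AlgSp.RepWith Q a) : AlgSp.RepBySpWith (AlgSp.RepWith Q) a.hom := by
  refine (AlgSp.repBySpWith_hom_iff _ a).2 fun U ξ F' fst snd sq =>
    ⟨?_, MorphismProperty.of_isPullback sq ha⟩
  obtain ⟨W, i, fst', sq'⟩ := ha.1 ξ
  exact (AlgSp.IsAlgSpace.yon_obj W).of_iso (sq'.isoIsPullback _ _ sq)

theorem isDM_ofSp (F : AlgSp.Space S) : IsDM Scheme.fppfPrecoverage (ofSp F.obj) := by
  have hF : Stk.IsStack (QuotSh.J Scheme.fppfPrecoverage S) (ofSp F.obj) :=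
    (Fib44.isStack_ofPsh_iff (P := F.obj.obj) _).2 ((isSheaf_iff_isSheaf_of_type _ _).1 F.obj.property)
  have hd : RepByAlgSp1 (diag (toSelf (ofSp F.obj))) :=
    (diag_iff hF.1).2 fun U x => repByAlgSp1_of_repByAlgSp (repByAlgSp_overCat U) (repByAlgSp_ofSp F) x
  obtain ⟨V, u, hue, hus⟩ := F.property.atlas
  let x : overCat V ⥤ᵇ ofSp F.obj := BasedFunctor.comp (ofOverCat V) (Stk.ofPshMap u.hom)
  have he : RepByAlgSpWith (AlgSp.RepWith @Etale) x :=
    (repByAlgSpWith_precomp_equiv (isEquivOver_ofOverCat V)).2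
      ((repByAlgSpWith_ofPshMap_iff _ u.hom).1 (repBySpWith_repWith_of u hue))
  have hs : RepByAlgSpWith (AlgSp.RepWith @Surjective) x :=
    (repByAlgSpWith_precomp_equiv (isEquivOver_ofOverCat V)).2
      ((repByAlgSpWith_ofPshMap_iff _ u.hom).1 (repBySpWith_repWith_of u hus))
  have hs' : RepByAlgSpWith AlgSp.IsSurjectiveMor x :=
    repByAlgSpWith_mono (fun _ _ _ h => SpPts86.isSurjectiveMor_of_repWith h) hs
  have he' : RepByAlgSpWith AlgSp.IsEtaleMor x :=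
    repByAlgSpWith_mono (fun _ _ _ h => SpPts86.isEtaleMor_of_repWith_etale h) he
  refine ⟨⟨hF, hd, V, x, ?_, hs'⟩, V, x, he', hs'⟩
  exact repByAlgSpWith_mono_spaces (fun _ _ hX hY a h =>
    SpFP87.LocP.of_le (fun _ _ f (hf : Etale f) => (inferInstance : Smooth f))
      (SpFP87.locP_of_repWith hX.diag hY h)) he

theorem isDM_of_repByAlgSp {𝒳 : AlgSt.Cat S} (h : RepByAlgSp 𝒳) : IsDM Scheme.fppfPrecoverage 𝒳 := by
  obtain ⟨F, e, he⟩ := h
  exact (isDM_iff he).1 (isDM_ofSp F)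

end Groth.Agent.AlgSt88
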