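import Groth.Agent.AlgSt88.ProdRep
import Groth.Agent.AlgSt88.LocPSt
import Groth.Agent.AlgSt88.SpaceDM
import Groth.Agent.Fib44.StackFp

/-! Fibre products of algebraic stacks. -/

set_option autoImplicit false
set_option backward.isDefEq.respectTransparency false
set_option backward.isDefEq.respectTransparency.types false
universe u

open CategoryTheory CategoryTheory.Limits AlgebraicGeometry Opposite AlgSt FibCat

namespace Groth.Agent.AlgSt88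

variable {S : Scheme.{u}} {𝒳 𝒴 𝒵 𝒲 : AlgSt.Cat S} {P : MorphismProperty (AlgSp.Sp S)}

theorem repByAlgSpWith_fpMapFst (f : 𝒳 ⥤ᵇ 𝒵) (g : 𝒴 ⥤ᵇ 𝒵) {u : 𝒲 ⥤ᵇ 𝒳} (hu : RepByAlgSpWith P u) :
    RepByAlgSpWith P (fpMapFst f g u) :=
  (repByAlgSpWith_precomp_equiv (isEquivOver_fpPaste u f g)).1
    (repByAlgSpWith_of_iso
      ((fpNatIso (Φ := BasedFunctor.comp (fpPaste u f g) (fpMapFst f g u)) (Ψ := fpSnd u (fpFst f g))
        (fpIso u (fpFst f g)) (Iso.refl _) (fun x => (by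
          change f.map x.obj.iso.hom ≫ x.obj.snd.obj.iso.hom =
            (f.map x.obj.iso.hom ≫ x.obj.snd.obj.iso.hom) ≫ g.map (𝟙 _)
          rw [g.map_id, Category.comp_id]))).symm)
      (repByAlgSpWith_fpSnd (fpFst f g) hu))

theorem repByAlgSpWith_fpMapSnd (f : 𝒳 ⥤ᵇ 𝒵) (g : 𝒴 ⥤ᵇ 𝒵) {v : 𝒲 ⥤ᵇ 𝒴} (hv : RepByAlgSpWith P v) :
    RepByAlgSpWith P (fpMapSnd f g v) :=
  repByAlgSpWith_of_iso
    (fpNatIso (Φ := BasedFunctor.comp (fpSwap f (BasedFunctor.comp v g))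
        (BasedFunctor.comp (fpMapFst g f v) (fpSwap g f)))
      (Ψ := fpMapSnd f g v) (Iso.refl _) (Iso.refl _) (fun x => (by
        change f.map (𝟙 x.obj.fst) ≫ x.obj.iso.hom = x.obj.iso.hom ≫ g.map (𝟙 (v.obj x.obj.snd))
        simp only [f.map_id, g.map_id, Category.id_comp]; exact (Category.comp_id _).symm)))
    ((repByAlgSpWith_precomp_equiv isEquivOver_fpSwap).2
      ((repByAlgSpWith_postcomp_equiv isEquivOver_fpSwap).2 (repByAlgSpWith_fpMapFst g f hv)))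

/-- The atlas of a 2-fibre product. -/
theorem hasAtlas_fp (hX : IsFibGrpd 𝒳.p) (hY : IsFibGrpd 𝒴.p) (hZ : IsFibGrpd 𝒵.p)
    (dZ : RepByAlgSp1 (diag (toSelf 𝒵)))
    (hPi : P.RespectsIso) (hPd : SpaceDescends P)
    (hPc : ∀ ⦃X Y Z : AlgSp.Sp S⦄, AlgSp.IsAlgSpace X → AlgSp.IsAlgSpace Y → AlgSp.IsAlgSpace Z →
      ∀ (a : X ⟶ Y) (b : Y ⟶ Z), P a → P b → P (a ≫ b))
    (hsp : ∀ {𝒜 : AlgSt.Cat S}, RepByAlgSp 𝒜 → HasAtlas P 𝒜)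
    (aX : HasAtlas P 𝒳) (aY : HasAtlas P 𝒴) (f : 𝒳 ⥤ᵇ 𝒵) (g : 𝒴 ⥤ᵇ 𝒵) : HasAtlas P (fp f g) := by
  obtain ⟨U, u, hu, hus⟩ := aX
  obtain ⟨V, v, hv, hvs⟩ := aY
  let g' := BasedFunctor.comp v g
  have hA : RepByAlgSp (fp (BasedFunctor.comp u f) g') := repByAlgSp1_of_diag hZ dZ
    (isFibGrpd_overCat V) (repByAlgSp_overCat U) (repByAlgSp_overCat V) _ g'
  obtain ⟨W, w, hw, hws⟩ := hsp hA
  have hA' : IsFibGrpd (fp (BasedFunctor.comp u f) g').p :=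
    isFibGrpd_fp (isFibGrpd_overCat U) (isFibGrpd_overCat V) hZ _ g'
  have hB' : IsFibGrpd (fp f g').p := isFibGrpd_fp hX (isFibGrpd_overCat V) hZ f g'
  refine ⟨W, BasedFunctor.comp (BasedFunctor.comp w (fpMapFst f g' u)) (fpMapSnd f g v), ?_, ?_⟩
  · exact repByAlgSpWith_comp_of (isFibGrpd_overCat W) hB' hPi hPd hPc
      (repByAlgSpWith_comp_of (isFibGrpd_overCat W) hA' hPi hPd hPc hw (repByAlgSpWith_fpMapFst f g' hu))
      (repByAlgSpWith_fpMapSnd f g hv)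
  · exact repByAlgSpWith_surj_comp (isFibGrpd_overCat W) hB'
      (repByAlgSpWith_surj_comp (isFibGrpd_overCat W) hA' hws (repByAlgSpWith_fpMapFst f g' hus))
      (repByAlgSpWith_fpMapSnd f g hvs)

theorem isAlgStack_fp {K : Precoverage Scheme.{u}} (hZs : Stk.IsStack (QuotSh.J K S) 𝒵)
    (dZ : RepByAlgSp1 (diag (toSelf 𝒵))) (hX : IsAlgStack K 𝒳) (hY : IsAlgStack K 𝒴)
    (f : 𝒳 ⥤ᵇ 𝒵) (g : 𝒴 ⥤ᵇ 𝒵) : IsAlgStack K (fp f g) :=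
  ⟨Fib44.isStack_fp hX.isStack hY.isStack (Fib44.isPrestack_of_isStack hZs),
    repByAlgSp1_diag_fp hX.isStack.1 hY.isStack.1 hZs.1 hX.diag hY.diag dZ f g,
    hasAtlas_fp hX.isStack.1 hY.isStack.1 hZs.1 dZ (respectsIso_locP _) (spaceDescends_locP _)
      (fun _ _ _ hA hB hC _ _ ha hb => SpFP87.locP_comp hA hB hC ha hb)
      (fun hA => (isDM_of_repByAlgSp hA).1.atlas) hX.atlas hY.atlas f g⟩

end Groth.Agent.AlgSt88

namespace Groth.Agent.AlgSt88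

variable {S : Scheme.{u}} {𝒳 𝒴 𝒵 : AlgSt.Cat S}

theorem hasAtlas_etale_iff : HasAtlas AlgSp.IsEtaleMor 𝒳 ↔ HasAtlas (AlgSp.LocP @Etale) 𝒳 :=
  ⟨fun ⟨U, x, h, h'⟩ => ⟨U, x, repByAlgSpWith_mono_spaces (fun _ _ _ _ _ h => SpPts86.locP_etale_of_isEtaleMor h) h, h'⟩,
    fun ⟨U, x, h, h'⟩ => ⟨U, x, repByAlgSpWith_mono_spaces (fun _ _ _ hY _ h => SpPts86.isEtaleMor_of_locP_etale hY h) h, h'⟩⟩

theorem isAlgStack_self : IsAlgStack Scheme.fppfPrecoverage (selfOver (Over S)) :=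
  (isDM_of_repByAlgSp repByAlgSp_selfOver).1

theorem isDM_fp {K : Precoverage Scheme.{u}} (hX : IsDM K 𝒳) (hY : IsDM K 𝒴) (hZ : IsAlgStack K 𝒵)
    (f : 𝒳 ⥤ᵇ 𝒵) (g : 𝒴 ⥤ᵇ 𝒵) : IsDM K (fp f g) :=
  ⟨isAlgStack_fp hZ.isStack hZ.diag hX.1 hY.1 f g, hasAtlas_etale_iff.2
    (hasAtlas_fp hX.1.isStack.1 hY.1.isStack.1 hZ.isStack.1 hZ.diag (respectsIso_locP _) (spaceDescends_locP _)
      (fun _ _ _ hA hB hC _ _ ha hb => SpFP87.locP_comp hA hB hC ha hb)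
      (fun hA => hasAtlas_etale_iff.1 (isDM_of_repByAlgSp hA).2)
      (hasAtlas_etale_iff.1 hX.2) (hasAtlas_etale_iff.1 hY.2) f g)⟩

end Groth.Agent.AlgSt88
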