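import Groth.Agent.AlgSt88.ProdRep
import Groth.Agent.AlgSt88.LocPSt

/-! Products of morphisms with a property. -/

set_option autoImplicit false
set_option backward.isDefEq.respectTransparency false
set_option backward.isDefEq.respectTransparency.types false
universe u

open CategoryTheory CategoryTheory.Limits AlgebraicGeometry Opposite AlgSt FibCat

namespace Groth.Agent.AlgSt88

variable {S : Scheme.{u}} {P : MorphismProperty (AlgSp.Sp S)}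

theorem isEquivOver_fpSnd_id {U : Over S} {𝒳 : AlgSt.Cat S} (g : 𝒳 ⥤ᵇ overCat U) :
    IsEquivOver (fpSnd (BasedFunctor.id (overCat U)) g) :=
  isEquivOver_of_iso (F := BasedFunctor.comp (fpSwap (BasedFunctor.id _) g) (fpFst g (BasedFunctor.id _))) (Iso.refl _)
    (isEquivOver_comp isEquivOver_fpSwap (isEquivOver_fpFst g (isEquivOver_id _)))

/-- A morphism to a scheme with `P` has `P` over that scheme. -/
theorem repOver_of_repWith {U : Over S} {𝒳 : AlgSt.Cat S} {g : 𝒳 ⥤ᵇ overCat U} (h : RepByAlgSpWith P g) :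
    RepOver P g :=
  RepOver.transport (h U (BasedFunctor.id _)) (isEquivOver_fpSnd_id g)
    (fpIso (BasedFunctor.id (overCat U)) g).symm

theorem repByAlgSpWith_prodFun {𝒳₁ 𝒳₂ 𝒴₁ 𝒴₂ : AlgSt.Cat S} (hX₁ : IsFibGrpd 𝒳₁.p) (hX₂ : IsFibGrpd 𝒳₂.p)
    (hY₁ : IsFibGrpd 𝒴₁.p) (hY₂ : IsFibGrpd 𝒴₂.p)
    (hPi : P.RespectsIso) (hPd : SpaceDescends P)
    (hPc : ∀ ⦃X Y Z : AlgSp.Sp S⦄, AlgSp.IsAlgSpace X → AlgSp.IsAlgSpace Y → AlgSp.IsAlgSpace Z →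
      ∀ (a : X ⟶ Y) (b : Y ⟶ Z), P a → P b → P (a ≫ b))
    {f₁ : 𝒳₁ ⥤ᵇ 𝒴₁} {f₂ : 𝒳₂ ⥤ᵇ 𝒴₂} (h₁ : RepByAlgSpWith P f₁) (h₂ : RepByAlgSpWith P f₂)
    (e : BasedFunctor.comp (BasedFunctor.comp (fpFst (toSelf 𝒳₁) (toSelf 𝒳₂)) f₁) (toSelf 𝒴₁) ≅
      BasedFunctor.comp (BasedFunctor.comp (fpSnd (toSelf 𝒳₁) (toSelf 𝒳₂)) f₂) (toSelf 𝒴₂)) :
    RepByAlgSpWith P (Fib44.prodFun f₁ f₂ e) := by
  intro U G
  have hA : IsFibGrpd (Fib44.prodA f₁ G).p := isFibGrpd_fp (isFibGrpd_overCat U) hX₁ hY₁ _ f₁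
  have h : RepByAlgSpWith P (BasedFunctor.comp (fpFst (Fib44.prodG₂ f₁ G) f₂)
      (fpFst (BasedFunctor.comp G (fpFst _ _)) f₁)) :=
    repByAlgSpWith_comp_of (isFibGrpd_fp hA hX₂ hY₂ (Fib44.prodG₂ f₁ G) f₂) hA hPi hPd hPc
      (repByAlgSpWith_fpFst _ h₂) (repByAlgSpWith_fpFst _ h₁)
  exact RepOver.transport (repOver_of_repWith h) (Fib44.prodCmp_isEquivOver f₁ f₂ G e) (Iso.refl _)

end Groth.Agent.AlgSt88
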