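import Groth.Agent.AlgSt88.DiagLFT
import Groth.Agent.AlgSt88.ProdP

/-! The diagonal of an algebraic stack is locally of finite type. -/

set_option autoImplicit false
set_option backward.isDefEq.respectTransparency false
set_option backward.isDefEq.respectTransparency.types false
universe u

open CategoryTheory CategoryTheory.Limits AlgebraicGeometry Opposite AlgSt FibCat

namespace Groth.Agent.AlgSt88

variable {S : Scheme.{u}} {𝒳 𝒴 : AlgSt.Cat S} {K : Precoverage Scheme.{u}}

theorem smooth_le_lft : (@Smooth : MorphismProperty Scheme.{u}) ≤ @LocallyOfFiniteType :=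
  fun _ _ f (_ : Smooth f) => inferInstance

theorem lft_diag_toSelf (h : IsAlgStack K 𝒳) :
    RepByAlgSpWith (AlgSp.LocP @LocallyOfFiniteType) (diag (toSelf 𝒳)) := by
  have hX := h.isStack.1
  obtain ⟨U, u, hu, hus⟩ := h.atlas
  have hUf := isFibGrpd_overCat (C := Over S) U
  have hXX := isFibGrpd_fp hX hX isFibGrpd_selfOver (toSelf 𝒳) (toSelf 𝒳)
  let h' := prodMap u u
  have hh : RepByAlgSpWith (AlgSp.LocP @Smooth) h' :=
    repByAlgSpWith_prodFun hUf hUf hX hX (respectsIso_locP _) (spaceDescends_locP _) (stableComp_locP _) hu hu _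
  have hhs : RepByAlgSpWith AlgSp.IsSurjectiveMor h' :=
    repByAlgSpWith_prodFun hUf hUf hX hX respectsIso_surj spaceDescends_surj
      (fun _ _ _ _ _ _ a b ha hb y => by
        obtain ⟨y', rfl⟩ := hb y
        obtain ⟨x, rfl⟩ := ha y'
        exact ⟨x, AlgSp.Points.map_comp a b x⟩) hus hus _
  have hR : RepByAlgSpWith (AlgSp.LocP @LocallyOfFiniteType) (fpFst h' (diag (toSelf 𝒳))) := by
    refine (repByAlgSpWith_precomp_equiv (isEquivOver_fpToDiag u u)).1 (repByAlgSpWith_of_comp (h := fpToProd u u)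
      (c := fpFst (toSelf (overCat U)) (toSelf (overCat U))) (stableBC_locP _) (respectsIso_locP _)
      (cancels_locP (fun f g h => @locallyOfFiniteType_of_comp _ _ _ f g h))
      (repByAlgSpWith_top_iff.2 (repByAlgSp1_of_repByAlgSp (repByAlgSp_prod hUf (repByAlgSp_overCat U)
        (repByAlgSp_overCat U)) (repByAlgSp_overCat U) _)) ?_)
    exact repByAlgSpWith_mono (fun _ _ _ hf => SpFP87.LocP.of_le smooth_le_lft hf)
      (repByAlgSpWith_of_iso (f := fpFst u u) (Iso.refl _) (repByAlgSpWith_fpFst u hu))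
  intro V z
  haveI := respectsIso_locP (S := S) @Smooth
  obtain ⟨G, e, he, hb⟩ := (repByAlgSpWith_inf hh hhs) V z
  obtain ⟨W, c, hc, hcs⟩ := G.property.atlas
  let Φ : ofSp ((AlgSp.yon S).obj W) ⥤ᵇ overCat V :=
    BasedFunctor.comp (ofSpMap c) (BasedFunctor.comp e (fpFst z h'))
  obtain ⟨p, hp⟩ := (AlgSp.yon S).map_surjective (spMapOfOver Φ)
  have hp' : (AlgSp.yon S).map p = c ≫ spMapOfOver (BasedFunctor.comp e (fpFst z h')) := by
    rw [hp, spMapOfOver_comp (ofSpMap c) (BasedFunctor.comp e (fpFst z h')), homOfBased_ofSpMap]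
  have hsm : Smooth p.left := hb.1 c (𝟙 _) p hc (AlgSp.repWith_id @Etale V)
    (by rw [Category.comp_id, hp'])
  have hsu : Surjective p.left := ⟨fun v => by
    obtain ⟨x, hx⟩ := hb.2 (AlgSp.Points.ofScheme V v)
    obtain ⟨y, rfl⟩ := SpPts86.isSurjectiveMor_of_repWith hcs x
    rw [← AlgSp.Points.map_comp, ← hp'] at hx
    obtain ⟨t, rfl⟩ := (AlgSp.Points.schemeHomeo W).surjective y
    rw [AlgSp.Points.map_yon_map_apply] at hx
    exact ⟨t, (AlgSp.Points.schemeHomeo V).injective hx⟩⟩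
  let w : overCat W ⥤ᵇ fp z h' := BasedFunctor.comp (ofOverCat W) (BasedFunctor.comp (ofSpMap c) e)
  obtain ⟨ι⟩ := overMap_iso p
  obtain ⟨α⟩ := nonempty_iso_ofPshMap (Q := ((AlgSp.yon S).obj V).obj) (BasedFunctor.comp Φ (ofOverCat V))
  have hα : (ObjectProperty.homMk (pshHom (Q := ((AlgSp.yon S).obj V).obj) (BasedFunctor.comp Φ (ofOverCat V))) :
      (AlgSp.yon S).obj W ⟶ (AlgSp.yon S).obj V) = (AlgSp.yon S).map p := by
    rw [hp, spMapOfOver_eq]
    refine (homOfBased_ofSpMap _).symm.trans (homOfBased_congr (F := (AlgSp.yon S).obj W)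
      (G := (AlgSp.yon S).obj V) α.symm)
  have α' : BasedFunctor.comp Φ (ofOverCat V) ≅ ofSpMap ((AlgSp.yon S).map p) := hα ▸ α
  let β : BasedFunctor.comp (ofOverCat V) (toOverCat V) ≅ BasedFunctor.id (overCat V) :=
    BasedNatIso.mkNatIso
      (NatIso.ofComponents (fun a => Iso.refl _)
        (fun {a b} f => Over.OverMorphism.ext ((Category.comp_id _).trans (Category.id_comp _).symm)))
      (fun a => IsHomLift.id rfl)
  let γ : BasedFunctor.comp w (fpFst z h') ≅ overMap p :=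
    bLeft (ofOverCat W) ((bLeft Φ β).symm ≪≫ bRight α' (toOverCat V)) ≪≫ ι
  let δ : BasedFunctor.comp (BasedFunctor.comp w (fpSnd z h')) h' ≅ BasedFunctor.comp (overMap p) z :=
    (bLeft w (fpIso z h')).symm ≪≫ bRight γ z
  haveI := SpPts86.lft_descends.{u}
  refine repOver_of_cover hX hXX h.diag p
    ((SpFP87.fppfSurj_iff _).2 ⟨hsu, inferInstance, inferInstance⟩) z ?_
  exact RepOver.transport (hR W (BasedFunctor.comp w (fpSnd z h')))
    (isEquivOver_comp (isEquivOver_fpPaste (BasedFunctor.comp w (fpSnd z h')) h' (diag (toSelf 𝒳)))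
      (isEquivOver_fpCongr δ (Iso.refl _))) (Iso.refl _)

theorem lft_diag (hX : IsAlgStack K 𝒳) (hY : IsAlgStack K 𝒴) (f : 𝒳 ⥤ᵇ 𝒴) :
    RepByAlgSpWith (AlgSp.LocP @LocallyOfFiniteType) (diag f) :=
  repByAlgSpWith_diag_of_comp (stableBC_locP _) (respectsIso_locP _)
    (cancels_locP (fun f g h => @locallyOfFiniteType_of_comp _ _ _ f g h))
    (repByAlgSpWith_top_iff.2 hY.diag)
    (repByAlgSpWith_diag_of_iso (selfIso (toSelf 𝒳) (BasedFunctor.comp f (toSelf 𝒴))) (lft_diag_toSelf hX))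

end Groth.Agent.AlgSt88
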