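import Groth.Agent.AlgSt88.AutScheme
import Groth.Agent.AlgSt88.DiagLFT2
import Groth.Agent.SpFP87.EtLocInst
import Groth.Agent.QAGrp57.Affine
import Groth.Prelude.Def_AlgSp3

/-! Stabilisers of points for quasi-affine diagonals. -/

set_option autoImplicit false
set_option maxHeartbeats 1000000
set_option linter.style.haveILetI false
set_option backward.isDefEq.respectTransparency false
set_option backward.isDefEq.respectTransparency.types false
universe u

open CategoryTheory CategoryTheory.Limits AlgebraicGeometry Opposite AlgSt FibCat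

namespace Groth.Agent.AlgSt88

variable {S : Scheme.{u}}

theorem respectsIso_isQuasiAffineMor : (AlgSp.IsQuasiAffineMor (S := S)).RespectsIso := by
  refine MorphismProperty.RespectsIso.mk _ (fun {F F' G} e f hf => ?_) (fun {F G G'} e f hf => ?_)
  · intro Z hZ g
    obtain ⟨W, i, fst, sq, hW⟩ := hf hZ g
    exact ⟨W, i, fst ≫ e.inv, IsPullback.of_iso sq (Iso.refl _) e.symm (Iso.refl _) (Iso.refl _)
      (by simp) (by simp) (by simp) (by simp), hW⟩
  · intro Z hZ g
    obtain ⟨W, i, fst, sq, hW⟩ := hf hZ (g ≫ e.inv)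
    exact ⟨W, i, fst, IsPullback.of_iso sq (Iso.refl _) (Iso.refl _) (Iso.refl _) e
      (by simp) (by simp) (by simp) (by simp), hW⟩

theorem isQuasiAffine_of_map {U G' : Over S} [IsAffine U.left] (g : G' ⟶ U)
    (h : AlgSp.IsQuasiAffineMor ((AlgSp.yon S).map g)) : G'.left.IsQuasiAffine := by
  obtain ⟨W, i, fst, sq, hW⟩ := h (Z := U) inferInstance (𝟙 _)
  haveI := hW
  haveI : IsIso fst := sq.isIso_fst_of_isIso
  let e : W ≅ G' := (AlgSp.yon S).preimageIso (asIso fst)
  haveI : IsIso e.hom.left := (inferInstance : IsIso ((Over.forget S).map e.hom))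
  haveI : CompactSpace ↥G'.left :=
    (asIso e.hom.left).hom.homeomorph.compactSpace
  exact Scheme.IsQuasiAffine.of_isImmersion (inv e.hom.left)

theorem isAffine_stabilizer (𝒳 : AlgSt.Cat S) (h𝒳 : AlgSt.IsAlgStack Scheme.fppfPrecoverage 𝒳)
    (hΔ : AlgSt.RepByAlgSpWith AlgSp.IsQuasiAffineMor (FibCat.diag (FibCat.toSelf 𝒳)))
    (k : Type u) [Field k] (p : Spec (CommRingCat.of k) ⟶ S)
    (x : FibCat.overCat (Over.mk p) ⥤ᵇ 𝒳) (G : Over (Spec (CommRingCat.of k))) [GrpObj G]
    (hG : Gerb.AutRep x (Gerb.ptsGrp (Over.mk p) G)) :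
    IsAffine G.left ∧ LocallyOfFiniteType G.hom := by
  have hX := h𝒳.isStack.1
  let G' : Over S := Over.mk (G.hom ≫ p)
  let g : G' ⟶ Over.mk p := Over.homMk G.hom rfl
  let m : G'.left ⟶ G.left := 𝟙 G.left
  haveI : IsIso m := ⟨𝟙 G.left, Category.id_comp _, Category.id_comp _⟩
  have hm : m ≫ G.hom = g.left := Category.id_comp _
  haveI := respectsIso_locP (S := S) @LocallyOfFiniteType
  haveI := respectsIso_isQuasiAffineMor (S := S)
  have h1 : LocallyOfFiniteType g.left := (SpFP87.locP_yon_map_iff g).1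
    (prop_of_autRep hX (repByAlgSpWith_inertiaToBase hX _ (lft_diag_toSelf h𝒳)) hG G' g m hm)
  haveI : IsAffine (Over.mk p).left := inferInstanceAs (IsAffine (Spec (CommRingCat.of k)))
  have h2 : G'.left.IsQuasiAffine := isQuasiAffine_of_map g
    (prop_of_autRep hX (repByAlgSpWith_inertiaToBase hX _ hΔ) hG G' g m hm)
  haveI : LocallyOfFiniteType G.hom := h1
  haveI : G.left.IsQuasiAffine := h2
  exact ⟨QAGrp57.isAffine_of_isQuasiAffine G, h1⟩

end Groth.Agent.AlgSt88
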