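import Groth.Prelude.Def_FibCat2

/-! Calculus of 2-isomorphisms and equivalences over a base category. -/

set_option autoImplicit false
universe v₆ u₆ v₅ u₅ v₄ u₄ v₃ u₃ v₂ u₂ v u

open CategoryTheory FibCat

namespace Groth.Agent.AlgSt88

variable {C : Type u} [Category.{v} C] {𝒳 : BasedCategory.{v₂, u₂} C} {𝒴 : BasedCategory.{v₃, u₃} C}
  {𝒵 : BasedCategory.{v₄, u₄} C} {𝒲 : BasedCategory.{v₅, u₅} C}

/-- Whiskering a 2-isomorphism on the left. -/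
def bLeft (F : 𝒳 ⥤ᵇ 𝒴) {G H : 𝒴 ⥤ᵇ 𝒵} (α : G ≅ H) : BasedFunctor.comp F G ≅ BasedFunctor.comp F H where
  hom := BasedCategory.whiskerLeft F α.hom
  inv := BasedCategory.whiskerLeft F α.inv
  hom_inv_id := by
    ext a
    exact congrArg (fun t => t.toNatTrans.app (F.obj a)) α.hom_inv_id
  inv_hom_id := by
    ext a
    exact congrArg (fun t => t.toNatTrans.app (F.obj a)) α.inv_hom_id

/-- Whiskering a 2-isomorphism on the right. -/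
def bRight {F G : 𝒳 ⥤ᵇ 𝒴} (α : F ≅ G) (H : 𝒴 ⥤ᵇ 𝒵) : BasedFunctor.comp F H ≅ BasedFunctor.comp G H where
  hom := BasedCategory.whiskerRight α.hom H
  inv := BasedCategory.whiskerRight α.inv H
  hom_inv_id := by
    ext a
    refine (H.map_comp _ _).symm.trans ?_
    exact (congrArg (fun t => H.map (t.toNatTrans.app a)) α.hom_inv_id).trans (H.map_id _)
  inv_hom_id := by
    ext a
    refine (H.map_comp _ _).symm.trans ?_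
    exact (congrArg (fun t => H.map (t.toNatTrans.app a)) α.inv_hom_id).trans (H.map_id _)

theorem isEquivOver_id (𝒳 : BasedCategory.{v₂, u₂} C) : IsEquivOver (BasedFunctor.id 𝒳) :=
  ⟨BasedFunctor.id 𝒳, ⟨Iso.refl _⟩, ⟨Iso.refl _⟩⟩

theorem isEquivOver_comp {F : 𝒳 ⥤ᵇ 𝒴} {G : 𝒴 ⥤ᵇ 𝒵} (hF : IsEquivOver F) (hG : IsEquivOver G) :
    IsEquivOver (BasedFunctor.comp F G) := by
  obtain ⟨F', ⟨a⟩, ⟨b⟩⟩ := hF
  obtain ⟨G', ⟨c⟩, ⟨d⟩⟩ := hG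
  exact ⟨BasedFunctor.comp G' F',
    ⟨bLeft F (bRight c F') ≪≫ a⟩, ⟨bLeft G' (bRight b G) ≪≫ d⟩⟩

theorem isEquivOver_of_iso {F G : 𝒳 ⥤ᵇ 𝒴} (e : F ≅ G) (hF : IsEquivOver F) : IsEquivOver G := by
  obtain ⟨F', ⟨a⟩, ⟨b⟩⟩ := hF
  exact ⟨F', ⟨bRight e.symm F' ≪≫ a⟩, ⟨bLeft F' e.symm ≪≫ b⟩⟩

theorem isEquivOver_inverse {F : 𝒳 ⥤ᵇ 𝒴} (hF : IsEquivOver F) :
    ∃ G : 𝒴 ⥤ᵇ 𝒳, IsEquivOver G ∧ Nonempty (BasedFunctor.comp F G ≅ BasedFunctor.id 𝒳) ∧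
      Nonempty (BasedFunctor.comp G F ≅ BasedFunctor.id 𝒴) := by
  obtain ⟨G, ha, hb⟩ := hF
  exact ⟨G, ⟨F, hb, ha⟩, ha, hb⟩

end Groth.Agent.AlgSt88
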