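import Groth.Prelude.Def_FibCat2
import Groth.Agent.AlgSt88.Based

/-! A functor over the base is an equivalence over the base iff it is fully faithful and fibrewise essentially
surjective. -/

set_option autoImplicit false
set_option backward.isDefEq.respectTransparency false
set_option backward.isDefEq.respectTransparency.types false
universe v₃ u₃ v₂ u₂ v u

open CategoryTheory CategoryTheory.Limits FibCat

namespace Groth.Agent.AlgSt88

variable {C : Type u} [Category.{v} C] {𝒳 : BasedCategory.{v₂, u₂} C} {𝒴 : BasedCategory.{v₃, u₃} C}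

/-- Fully faithful and fibrewise essentially surjective. -/
structure IsEquivData (F : 𝒳 ⥤ᵇ 𝒴) : Prop where
  faithful : ∀ {x x' : 𝒳.obj} (f g : x ⟶ x'), F.map f = F.map g → f = g
  full : ∀ {x x' : 𝒳.obj} (g : F.obj x ⟶ F.obj x'), ∃ f : x ⟶ x', F.map f = g
  essSurj : ∀ y : 𝒴.obj, ∃ (x : 𝒳.obj) (e : F.obj x ≅ y), 𝒴.p.IsHomLift (𝟙 (𝒴.p.obj y)) e.hom

theorem IsEquivData.isEquivOver {F : 𝒳 ⥤ᵇ 𝒴} (h : IsEquivData F) : IsEquivOver F := by
  choose o e he using h.essSurj
  haveI : F.toFunctor.Faithful := ⟨fun {_ _ _ _} h' => h.faithful _ _ h'⟩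
  haveI : F.toFunctor.Full := ⟨fun g => h.full g⟩
  have hobj : ∀ y, 𝒳.p.obj (o y) = 𝒴.p.obj y := fun y => by
    haveI := he y
    exact (F.w_obj (o y)).symm.trans (IsHomLift.domain_eq 𝒴.p (𝟙 (𝒴.p.obj y)) (e y).hom)
  let pre : ∀ {x x' : 𝒳.obj}, (F.obj x ⟶ F.obj x') → (x ⟶ x') := fun {x x'} g => F.toFunctor.preimage g
  have hpre : ∀ {x x' : 𝒳.obj} (g : F.obj x ⟶ F.obj x'), F.map (pre g) = g := fun g =>
    F.toFunctor.map_preimage g
  have hlift : ∀ {x x' : 𝒳.obj} (T : C) (hT : 𝒳.p.obj x = T) (g : F.obj x ⟶ F.obj x') ,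
      𝒴.p.IsHomLift (𝟙 T) g → 𝒳.p.IsHomLift (𝟙 T) (pre g) := fun T hT g hg => by
    haveI : 𝒴.p.IsHomLift (𝟙 T) (F.map (pre g)) := by rw [hpre]; exact hg
    exact F.isHomLift_map (𝟙 T) (pre g)
  let G : 𝒴 ⥤ᵇ 𝒳 :=
    { toFunctor :=
        { obj := o
          map := fun {y y'} g => pre ((e y).hom ≫ g ≫ (e y').inv)
          map_id := fun y => F.toFunctor.map_injective (by simp [hpre])
          map_comp := fun {a b c} f g => F.toFunctor.map_injective (by simp [hpre]) }
      w := Functor.ext hobj (fun y y' g => by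
        haveI := he y
        haveI := he y'
        have e1 := IsHomLift.fac' 𝒴.p (𝒴.p.map g) ((e y).hom ≫ g ≫ (e y').inv)
        have e2 := Functor.congr_hom F.w (pre ((e y).hom ≫ g ≫ (e y').inv))
        rw [Functor.comp_map, hpre, e1] at e2
        have e3 : 𝒳.p.map (pre ((e y).hom ≫ g ≫ (e y').inv)) =
            eqToHom (F.w_obj _).symm ≫
              (eqToHom (F.w_obj _) ≫ 𝒳.p.map (pre ((e y).hom ≫ g ≫ (e y').inv)) ≫ eqToHom (F.w_obj _).symm) ≫
              eqToHom (F.w_obj _) := by simp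
        change 𝒳.p.map (pre _) = _
        rw [e3, ← e2]
        simp) }
  refine ⟨G, ⟨?_⟩, ⟨?_⟩⟩
  · exact BasedNatIso.mkNatIso
      (NatIso.ofComponents (fun x => F.toFunctor.preimageIso (e (F.obj x)))
        (fun {x x'} f => F.toFunctor.map_injective (by
          change F.map (pre ((e (F.obj x)).hom ≫ F.map f ≫ (e (F.obj x')).inv) ≫
              F.toFunctor.preimage (e (F.obj x')).hom) = F.map (F.toFunctor.preimage (e (F.obj x)).hom ≫ f)
          rw [F.map_comp, F.map_comp, hpre, F.toFunctor.map_preimage, F.toFunctor.map_preimage]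
          simp)))
      (fun x => by
        haveI := he (F.obj x)
        refine hlift (𝒳.p.obj x) ((hobj _).trans (F.w_obj x)) _ ?_
        rw [← F.w_obj x]; exact he (F.obj x))
  · exact BasedNatIso.mkNatIso (NatIso.ofComponents (fun y => e y) (fun {y y'} g => by
      change F.map (pre ((e y).hom ≫ g ≫ (e y').inv)) ≫ (e y').hom = (e y).hom ≫ g
      rw [hpre]; simp))
      (fun y => he y)

theorem isEquivData_of_isEquivOver {F : 𝒳 ⥤ᵇ 𝒴} (hF : IsEquivOver F) : IsEquivData F := by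
  obtain ⟨G, ⟨a⟩, ⟨b⟩⟩ := hF
  let a' : F.toFunctor ⋙ G.toFunctor ≅ 𝟭 _ := (BasedNatTrans.forgetful _ _).mapIso a
  let b' : G.toFunctor ⋙ F.toFunctor ≅ 𝟭 _ := (BasedNatTrans.forgetful _ _).mapIso b
  have : F.toFunctor.IsEquivalence :=
    (CategoryTheory.Equivalence.mk F.toFunctor G.toFunctor a'.symm b').isEquivalence_functor
  exact {
    faithful := fun f g h => F.toFunctor.map_injective h
    full := fun g => F.toFunctor.map_surjective g
    essSurj := fun y => ⟨G.obj y, b'.app y, b.hom.isHomLift' y⟩ }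

theorem isEquivOver_iff (F : 𝒳 ⥤ᵇ 𝒴) : IsEquivOver F ↔ IsEquivData F :=
  ⟨isEquivData_of_isEquivOver, IsEquivData.isEquivOver⟩

end Groth.Agent.AlgSt88
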