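import Groth.Agent.AlgSt88.DiagCalc

/-! The diagonal of a morphism of stacks with representable diagonals. -/

set_option autoImplicit false
set_option backward.isDefEq.respectTransparency false
set_option backward.isDefEq.respectTransparency.types false
universe u

open CategoryTheory CategoryTheory.Limits AlgebraicGeometry Opposite AlgSt FibCat

namespace Groth.Agent.AlgSt88

variable {S : Scheme.{u}} {𝒳 𝒴 : AlgSt.Cat S} {P : MorphismProperty (AlgSp.Sp S)}

/-- Diagonals of isomorphic functors. -/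
theorem repByAlgSpWith_diag_of_iso {f f' : 𝒳 ⥤ᵇ 𝒴} (α : f ≅ f') (h : RepByAlgSpWith P (diag f)) :
    RepByAlgSpWith P (diag f') :=
  repByAlgSpWith_of_iso
    (fpNatIso (Φ := BasedFunctor.comp (diag f) (fpCongr α α)) (Ψ := diag f') (Iso.refl _) (Iso.refl _)
      (fun x => by
        change f'.map (𝟙 x) ≫ 𝟙 _ = (α.inv.toNatTrans.app x ≫ 𝟙 _ ≫ α.hom.toNatTrans.app x) ≫ f'.map (𝟙 x)
        rw [Category.id_comp, map_id' f']
        have := congrArg (fun t => t.toNatTrans.app x) α.inv_hom_id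
        exact (congrArg (· ≫ 𝟙 (f'.obj x)) this).symm))
    ((repByAlgSpWith_postcomp_equiv (isEquivOver_fpCongr α α)).2 h)

theorem stableBC_top : StableBC (S := S) (⊤ : MorphismProperty (AlgSp.Sp S)) :=
  fun _ _ _ _ _ _ _ _ _ _ _ _ _ _ => trivial

theorem cancels_top : CancelsAlong (S := S) (⊤ : MorphismProperty (AlgSp.Sp S)) ⊤ :=
  fun _ _ _ _ _ _ _ _ _ _ => trivial

/-- The diagonal of any morphism is representable by algebraic spaces, when those of source and target are. -/
theorem repByAlgSp1_diag (dX : RepByAlgSp1 (diag (toSelf 𝒳))) (dY : RepByAlgSp1 (diag (toSelf 𝒴)))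
    (f : 𝒳 ⥤ᵇ 𝒴) : RepByAlgSp1 (diag f) :=
  repByAlgSpWith_top_iff.1 (repByAlgSpWith_diag_of_comp stableBC_top inferInstance cancels_top
    (repByAlgSpWith_top_iff.2 dY)
    (repByAlgSpWith_diag_of_iso (selfIso (toSelf 𝒳) (BasedFunctor.comp f (toSelf 𝒴))) (repByAlgSpWith_top_iff.2 dX)))

end Groth.Agent.AlgSt88
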