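import Groth.Agent.AlgSt88.SepLocP
import Groth.Agent.AlgSt88.DiagRep2

/-! Graphs, sections and comparison maps. -/

set_option autoImplicit false
set_option backward.isDefEq.respectTransparency false
set_option backward.isDefEq.respectTransparency.types false
universe u

open CategoryTheory CategoryTheory.Limits AlgebraicGeometry Opposite AlgSt FibCat

namespace Groth.Agent.AlgSt88

variable {S : Scheme.{u}} {𝒳 𝒴 𝒵 𝒯 : AlgSt.Cat S} {P : MorphismProperty (AlgSp.Sp S)}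

/-- The graph of a morphism over `𝒯`. -/
theorem repByAlgSpWith_graph {p : 𝒳 ⥤ᵇ 𝒯} {q : 𝒴 ⥤ᵇ 𝒯} (g : 𝒳 ⥤ᵇ 𝒴)
    (e : BasedFunctor.comp (BasedFunctor.id 𝒳) p ≅ BasedFunctor.comp g q) (h : RepByAlgSpWith P (diag q)) :
    RepByAlgSpWith P (fpLift (BasedFunctor.id 𝒳) g e) := by
  let i := BasedFunctor.id 𝒴
  have hc : IsEquivOver (fpCongr (F := BasedFunctor.comp g q) (G := BasedFunctor.comp i q) (F' := p) (G' := q)
      e.symm (Iso.refl _)) := isEquivOver_fpCongr _ _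
  refine (repByAlgSpWith_precomp_equiv (isEquivOver_fpFst g (isEquivOver_id 𝒴))).1 (repByAlgSpWith_of_iso
    (f := BasedFunctor.comp (fpPost g i q) (fpCongr (F := BasedFunctor.comp g q) (G := BasedFunctor.comp i q)
      (F' := p) (G' := q) e.symm (Iso.refl _))) ?_ ((repByAlgSpWith_postcomp_equiv hc).2 (repByAlgSpWith_fpPost g i h)))
  refine (fpNatIso (Φ := BasedFunctor.comp (fpFst g i) (fpLift (BasedFunctor.id 𝒳) g e))
    (Ψ := BasedFunctor.comp (fpPost g i q) (fpCongr (F := BasedFunctor.comp g q) (G := BasedFunctor.comp i q)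
      (F' := p) (G' := q) e.symm (Iso.refl _))) (Iso.refl _) (fpIso g i) (fun x => ?_)).symm
  change p.map (𝟙 x.obj.fst) ≫ e.hom.toNatTrans.app x.obj.fst ≫ q.map x.obj.iso.hom ≫ 𝟙 _ =
    e.hom.toNatTrans.app x.obj.fst ≫ q.map x.obj.iso.hom
  rw [map_id' p, Category.comp_id]
  exact Category.id_comp _

/-- A section. -/
theorem repByAlgSpWith_section {f : 𝒳 ⥤ᵇ 𝒯} {s : 𝒯 ⥤ᵇ 𝒳} (e : BasedFunctor.comp s f ≅ BasedFunctor.id 𝒯)
    (h : RepByAlgSpWith P (diag f)) : RepByAlgSpWith P s :=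
  repByAlgSpWith_of_iso (f := BasedFunctor.comp
      (fpLift (F := BasedFunctor.id 𝒯) (G := f) (BasedFunctor.id 𝒯) s e.symm) (fpSnd (BasedFunctor.id 𝒯) f)) (Iso.refl _)
    ((repByAlgSpWith_postcomp_equiv
      (isEquivOver_of_iso (F := BasedFunctor.comp (fpSwap (BasedFunctor.id 𝒯) f) (fpFst f (BasedFunctor.id 𝒯))) (Iso.refl _)
        (isEquivOver_comp isEquivOver_fpSwap (isEquivOver_fpFst f (isEquivOver_id 𝒯))))).2
      (repByAlgSpWith_graph (p := BasedFunctor.id 𝒯) (q := f) s e.symm h))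

/-- The comparison of 2-fibre products over two bases. -/
theorem repByAlgSpWith_fpComparison (f : 𝒳 ⥤ᵇ 𝒵) (g : 𝒴 ⥤ᵇ 𝒵) {t : 𝒵 ⥤ᵇ 𝒯}
    (e : BasedFunctor.comp (fpFst f g) (BasedFunctor.comp f t) ≅ BasedFunctor.comp (fpSnd f g) (BasedFunctor.comp g t))
    (he : ∀ x, e.hom.toNatTrans.app x = t.map x.obj.iso.hom) (h : RepByAlgSpWith P (diag t)) :
    RepByAlgSpWith P (fpLift (fpFst f g) (fpSnd f g) e) :=
  repByAlgSpWith_of_iso
    (fpNatIso (Φ := fpPost f g t) (Ψ := fpLift (fpFst f g) (fpSnd f g) e) (Iso.refl _) (Iso.refl _) (fun x => by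
      change t.map (f.map (𝟙 x.obj.fst)) ≫ e.hom.toNatTrans.app x = t.map x.obj.iso.hom ≫ t.map (g.map (𝟙 x.obj.snd))
      rw [map_id' f, map_id' g, map_id' t, map_id' t, he]
      exact (Category.id_comp _).trans (Category.comp_id _).symm))
    (repByAlgSpWith_fpPost f g h)

end Groth.Agent.AlgSt88
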