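import Groth.Agent.AlgSt88.Compose
import Groth.Agent.SpFP87.Basic
import Groth.Agent.SpPts86.Subspace
import Groth.Prelude.Def_AlgSt3

/-! Composition for properties which are determined by the base changes to schemes. -/

set_option autoImplicit false
set_option backward.isDefEq.respectTransparency false
set_option backward.isDefEq.respectTransparency.types false
universe u

open CategoryTheory CategoryTheory.Limits AlgebraicGeometry Opposite AlgSt FibCat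

namespace Groth.Agent.AlgSt88

variable {S : Scheme.{u}} {P : MorphismProperty (AlgSp.Sp S)}

/-- `P a` follows from `P` of all base changes of `a` to schemes. -/
def SpaceDescends (P : MorphismProperty (AlgSp.Sp S)) : Prop :=
  ∀ (F G : AlgSp.Space S) (a : F.obj ⟶ G.obj), AlgSp.RepBySpWith P a.hom → P a

theorem repByAlgSpWith_comp_of {𝒳 𝒴 𝒵 : AlgSt.Cat S} (hX : IsFibGrpd 𝒳.p) (hY : IsFibGrpd 𝒴.p)
    (hPi : P.RespectsIso) (hPa : SpaceDescends P)
    (hPc : ∀ ⦃X Y Z : AlgSp.Sp S⦄, AlgSp.IsAlgSpace X → AlgSp.IsAlgSpace Y → AlgSp.IsAlgSpace Z →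
      ∀ (a : X ⟶ Y) (b : Y ⟶ Z), P a → P b → P (a ≫ b))
    {f : 𝒳 ⥤ᵇ 𝒴} {g : 𝒴 ⥤ᵇ 𝒵} (hf : RepByAlgSpWith P f) (hg : RepByAlgSpWith P g) :
    RepByAlgSpWith P (BasedFunctor.comp f g) := by
  intro U y
  obtain ⟨G, e, he, hb⟩ := hg U y
  let q : fp g y ⥤ᵇ 𝒴 := fpFst g y
  let e' : ofSp G.obj ⥤ᵇ fp g y := BasedFunctor.comp e (fpSwap y g)
  have he' : IsEquivOver e' := isEquivOver_comp he isEquivOver_fpSwap
  obtain ⟨F, a, ψ, hψ, ⟨α⟩, hQ⟩ := exists_space_fp hX hY (repByAlgSp1_of_with hf) G (BasedFunctor.comp e' q)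
  have hPaa : P a := hPa F G a (hQ _ hPi hf)
  let χ : fp (BasedFunctor.comp e' q) f ⥤ᵇ fp y (BasedFunctor.comp f g) :=
    BasedFunctor.comp (fpMapFst q f e') (BasedFunctor.comp (fpSwap q f)
      (BasedFunctor.comp (fpPaste f g y) (fpSwap (BasedFunctor.comp f g) y)))
  have hχ : IsEquivOver χ :=
    isEquivOver_comp (isEquivOver_fpMapFst q f e' he') (isEquivOver_comp isEquivOver_fpSwap
      (isEquivOver_comp (isEquivOver_fpPaste f g y) isEquivOver_fpSwap))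
  refine ⟨F, BasedFunctor.comp ψ χ, isEquivOver_comp hψ hχ, ?_⟩
  have hmap : spMapOfOver (BasedFunctor.comp (BasedFunctor.comp ψ χ) (fpFst y (BasedFunctor.comp f g))) =
      a ≫ spMapOfOver (BasedFunctor.comp e (fpFst y g)) := by
    have h := spMapOfOver_congr (bRight α (BasedFunctor.comp e (fpFst y g)))
    rw [spMapOfOver_comp (ofSpMap a) (BasedFunctor.comp e (fpFst y g)), homOfBased_ofSpMap] at h
    exact h
  rw [hmap]
  exact hPc F.property G.property (AlgSp.IsAlgSpace.yon_obj U) a _ hPaa hb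

/-! ### The instances -/

theorem spaceDescends_repWith (Q : MorphismProperty Scheme.{u}) :
    SpaceDescends (S := S) (AlgSp.RepWith Q) := by
  intro F G a ha
  have h := (AlgSp.repBySpWith_hom_iff _ a).1 ha
  refine ⟨fun U g => ?_, fun U V g fst snd sq => ?_⟩
  · obtain ⟨-, hp⟩ := h g _ _ (IsPullback.of_hasPullback a g)
    obtain ⟨W, i, fst, sq⟩ := hp.1 (𝟙 _)
    exact ⟨W, i, fst ≫ pullback.fst a g, by
      simpa using sq.paste_horiz (IsPullback.of_hasPullback a g)⟩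
  · obtain ⟨-, hp⟩ := h g fst ((AlgSp.yon S).map snd) sq
    exact hp.2 (𝟙 _) (𝟙 _) snd (IsPullback.of_horiz_isIso ⟨by simp⟩)

theorem spaceDescends_mono : SpaceDescends (S := S) (MorphismProperty.monomorphisms (AlgSp.Sp S)) := by
  intro F G a ha
  have h := (AlgSp.repBySpWith_hom_iff _ a).1 ha
  refine SpFP87.mono_of_probe fun T x y hxy => ?_
  have sq := IsPullback.of_hasPullback a (x ≫ a)
  obtain ⟨-, hp⟩ := h (x ≫ a) _ _ sq
  haveI : Mono (pullback.snd a (x ≫ a)) := hp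
  have e : sq.lift x (𝟙 _) (by simp) = sq.lift y (𝟙 _) (by simp [hxy]) :=
    (cancel_mono (pullback.snd a (x ≫ a))).1 (by rw [IsPullback.lift_snd, IsPullback.lift_snd])
  simpa using congrArg (fun z => z ≫ pullback.fst a (x ≫ a)) e

theorem spaceDescends_affine : SpaceDescends (S := S) AlgSp.IsAffineMor := by
  intro F G a ha Z hZ g
  have sq := IsPullback.of_hasPullback a g
  obtain ⟨-, hp⟩ := (AlgSp.repBySpWith_hom_iff _ a).1 ha g _ _ sq
  obtain ⟨W, i, fst, sq', h1⟩ := hp hZ (𝟙 _)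
  exact ⟨W, i, fst ≫ pullback.fst a g, by simpa using sq'.paste_horiz sq, h1⟩

theorem spaceDescends_integral : SpaceDescends (S := S) AlgSp.IsIntegralMor := by
  intro F G a ha Z hZ g
  have sq := IsPullback.of_hasPullback a g
  obtain ⟨-, hp⟩ := (AlgSp.repBySpWith_hom_iff _ a).1 ha g _ _ sq
  obtain ⟨W, i, fst, sq', h1⟩ := hp hZ (𝟙 _)
  exact ⟨W, i, fst ≫ pullback.fst a g, by simpa using sq'.paste_horiz sq, h1⟩

theorem spaceDescends_finite : SpaceDescends (S := S) AlgSp.IsFiniteMor := by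
  intro F G a ha Z hZ g
  have sq := IsPullback.of_hasPullback a g
  obtain ⟨-, hp⟩ := (AlgSp.repBySpWith_hom_iff _ a).1 ha g _ _ sq
  obtain ⟨W, i, fst, sq', h1⟩ := hp hZ (𝟙 _)
  exact ⟨W, i, fst ≫ pullback.fst a g, by simpa using sq'.paste_horiz sq, h1⟩

/-- The defining condition of affine, integral and finite morphisms respects isomorphisms. -/
theorem respectsIso_affineLike (Q : MorphismProperty (Over S))
    (P : MorphismProperty (AlgSp.Sp S))
    (hP : ∀ (F G : AlgSp.Sp S) (f : F ⟶ G), P f ↔ ∀ ⦃Z : Over S⦄, IsAffine Z.left → ∀ (g : (AlgSp.yon S).obj Z ⟶ G),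
      ∃ (W : Over S) (i : W ⟶ Z) (fst : (AlgSp.yon S).obj W ⟶ F),
        IsPullback fst ((AlgSp.yon S).map i) f g ∧ IsAffine W.left ∧ Q i) : P.RespectsIso := by
  refine MorphismProperty.RespectsIso.mk _ (fun {X Y W} e f hf => ?_) (fun {X Y W} e f hf => ?_)
  · refine (hP _ _ _).2 fun Z hZ g => ?_
    obtain ⟨V, i, fst, sq, h1⟩ := (hP _ _ _).1 hf hZ g
    exact ⟨V, i, fst ≫ e.inv, sq.of_iso (Iso.refl _) e.symm (Iso.refl _) (Iso.refl _) (by simp) (by simp)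
      (by simp) (by simp), h1⟩
  · refine (hP _ _ _).2 fun Z hZ g => ?_
    obtain ⟨V, i, fst, sq, h1⟩ := (hP _ _ _).1 hf hZ (g ≫ e.inv)
    exact ⟨V, i, fst, sq.of_iso (Iso.refl _) (Iso.refl _) (Iso.refl _) e (by simp) (by simp)
      (by simp) (by simp), h1⟩

theorem respectsIso_affine : (AlgSp.IsAffineMor (S := S)).RespectsIso :=
  respectsIso_affineLike ⊤ _ fun F G f =>
    ⟨fun h Z hZ g => by obtain ⟨W, i, fst, sq, h1⟩ := h hZ g; exact ⟨W, i, fst, sq, h1, trivial⟩,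
      fun h Z hZ g => by obtain ⟨W, i, fst, sq, h1, -⟩ := h hZ g; exact ⟨W, i, fst, sq, h1⟩⟩

theorem respectsIso_integral : (AlgSp.IsIntegralMor (S := S)).RespectsIso :=
  respectsIso_affineLike (fun _ _ i => IsIntegralHom i.left) _ fun _ _ _ => Iff.rfl

theorem respectsIso_finite : (AlgSp.IsFiniteMor (S := S)).RespectsIso :=
  respectsIso_affineLike (fun _ _ i => IsFinite i.left) _ fun _ _ _ => Iff.rfl

theorem affine_comp {F G H : AlgSp.Sp S} (a : F ⟶ G) (b : G ⟶ H)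
    (ha : AlgSp.IsAffineMor a) (hb : AlgSp.IsAffineMor b) : AlgSp.IsAffineMor (a ≫ b) := by
  intro Z hZ g
  obtain ⟨W, i, fst, sq, h1⟩ := hb hZ g
  obtain ⟨W', i', fst', sq', h1'⟩ := ha h1 fst
  exact ⟨W', i' ≫ i, fst', by simpa using sq'.paste_vert sq, h1'⟩

theorem integral_comp {F G H : AlgSp.Sp S} (a : F ⟶ G) (b : G ⟶ H)
    (ha : AlgSp.IsIntegralMor a) (hb : AlgSp.IsIntegralMor b) : AlgSp.IsIntegralMor (a ≫ b) := by
  intro Z hZ g
  obtain ⟨W, i, fst, sq, h1, h2⟩ := hb hZ g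
  obtain ⟨W', i', fst', sq', h1', h2'⟩ := ha h1 fst
  exact ⟨W', i' ≫ i, fst', by simpa using sq'.paste_vert sq, h1',
    MorphismProperty.comp_mem @IsIntegralHom _ _ h2' h2⟩

theorem finite_comp {F G H : AlgSp.Sp S} (a : F ⟶ G) (b : G ⟶ H)
    (ha : AlgSp.IsFiniteMor a) (hb : AlgSp.IsFiniteMor b) : AlgSp.IsFiniteMor (a ≫ b) := by
  intro Z hZ g
  obtain ⟨W, i, fst, sq, h1, h2⟩ := hb hZ g
  obtain ⟨W', i', fst', sq', h1', h2'⟩ := ha h1 fst
  exact ⟨W', i' ≫ i, fst', by simpa using sq'.paste_vert sq, h1',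
    MorphismProperty.comp_mem @IsFinite _ _ h2' h2⟩

theorem repByAlgSpWith_repWith_comp (Q : MorphismProperty Scheme.{u}) [Q.IsStableUnderBaseChange] [Q.IsMultiplicative]
    {𝒳 𝒴 𝒵 : AlgSt.Cat S} (hX : IsFibGrpd 𝒳.p) (hY : IsFibGrpd 𝒴.p)
    {f : 𝒳 ⥤ᵇ 𝒴} {g : 𝒴 ⥤ᵇ 𝒵} (hf : RepByAlgSpWith (AlgSp.RepWith Q) f) (hg : RepByAlgSpWith (AlgSp.RepWith Q) g) :
    RepByAlgSpWith (AlgSp.RepWith Q) (BasedFunctor.comp f g) :=
  repByAlgSpWith_comp_of hX hY MorphismProperty.IsStableUnderBaseChange.respectsIso (spaceDescends_repWith Q)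
    (fun _ _ _ _ _ _ a b ha hb => MorphismProperty.comp_mem _ a b ha hb) hf hg

theorem isMono_comp {𝒳 𝒴 𝒵 : AlgSt.Cat S} (hX : IsFibGrpd 𝒳.p) (hY : IsFibGrpd 𝒴.p)
    {f : 𝒳 ⥤ᵇ 𝒴} {g : 𝒴 ⥤ᵇ 𝒵} (hf : AlgSt.IsMono f) (hg : AlgSt.IsMono g) : AlgSt.IsMono (BasedFunctor.comp f g) :=
  repByAlgSpWith_comp_of hX hY inferInstance spaceDescends_mono
    (fun _ _ _ _ _ _ a b ha hb => by
      haveI : Mono a := ha
      haveI : Mono b := hb
      exact mono_comp a b) hf hg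

theorem isMono_of_isImm {𝒳 𝒴 : AlgSt.Cat S} {f : 𝒳 ⥤ᵇ 𝒴} (hf : AlgSt.IsImm f) : AlgSt.IsMono f :=
  repByAlgSpWith_mono (fun _ _ _ h => SpPts86.mono_of_repWith_le SpPts86.isImmersion_le_monomorphisms h) hf

end Groth.Agent.AlgSt88
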