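import Groth.Agent.AlgSt88.PointsBasic
import Groth.Prelude.Def_AlgSp2

/-! Field-valued points of categories fibred in groupoids. -/

set_option autoImplicit false
set_option backward.isDefEq.respectTransparency false
set_option backward.isDefEq.respectTransparency.types false
universe u

open CategoryTheory CategoryTheory.Limits AlgebraicGeometry Opposite AlgSt FibCat

namespace Groth.Agent.AlgSt88

variable {S : Scheme.{u}} {𝒳 𝒴 𝒵 : AlgSt.Cat S}

/-- The projection of a morphism between field-valued points, as a morphism of their spectra over `S`. -/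
noncomputable def fptBase {p q : FPt 𝒳} (a : p.obj ⟶ q.obj) : Over.mk p.str ⟶ Over.mk q.str :=
  eqToHom p.lies.symm ≫ 𝒳.p.map a ≫ eqToHom q.lies

theorem map_fptBase {p q : FPt 𝒳} (a : p.obj ⟶ q.obj) :
    𝒳.p.map a = eqToHom p.lies ≫ fptBase a ≫ eqToHom q.lies.symm := by
  simp [fptBase]

theorem exists_common_fpt {p q r : FPt 𝒳} (hX : IsFibGrpd 𝒳.p) (a : p.obj ⟶ r.obj) (b : q.obj ⟶ r.obj) :
    ∃ (t : FPt 𝒳) (_ : t.obj ⟶ p.obj) (_ : t.obj ⟶ q.obj), True := by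
  let A : Spec (CommRingCat.of p.K) ⟶ Spec (CommRingCat.of r.K) := (fptBase a).left
  let B : Spec (CommRingCat.of q.K) ⟶ Spec (CommRingCat.of r.K) := (fptBase b).left
  have hA : A ≫ r.str = p.str := Over.w (fptBase a)
  have hB : B ≫ r.str = q.str := Over.w (fptBase b)
  obtain ⟨Ω, _, i₁, i₂, hi⟩ :=
    AlgSp.FieldPt.exists_amalgamation (Spec.preimage A).hom (Spec.preimage B).hom
  have hL : Spec.map (CommRingCat.ofHom i₁) ≫ A = Spec.map (CommRingCat.ofHom i₂) ≫ B := by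
    rw [← Spec.map_preimage A, ← Spec.map_preimage B, ← Spec.map_comp, ← Spec.map_comp]
    congr 1
    exact CommRingCat.hom_ext hi
  let w : Spec (CommRingCat.of Ω) ⟶ S := Spec.map (CommRingCat.ofHom i₁) ≫ p.str
  let d₁ : Over.mk w ⟶ Over.mk p.str := Over.homMk (Spec.map (CommRingCat.ofHom i₁)) rfl
  let d₂ : Over.mk w ⟶ Over.mk q.str := Over.homMk (Spec.map (CommRingCat.ofHom i₂)) (by
    change _ = Spec.map (CommRingCat.ofHom i₁) ≫ p.str
    exact (congrArg (Spec.map (CommRingCat.ofHom i₂) ≫ ·) hB.symm).trans ((Category.assoc _ _ _).symm.trans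
      ((congrArg (· ≫ r.str) hL.symm).trans ((Category.assoc _ _ _).trans (congrArg (Spec.map (CommRingCat.ofHom i₁) ≫ ·) hA)))))
  have hd : d₁ ≫ fptBase a = d₂ ≫ fptBase b := Over.OverMorphism.ext hL
  obtain ⟨y, hy, φ, hφ⟩ := fg_exists_lift hX (d₁ ≫ eqToHom p.lies.symm)
  obtain ⟨χ, -, -⟩ := fg_exists_fac hX b (φ ≫ a) (eqToHom hy ≫ d₂ ≫ eqToHom q.lies.symm) (by
    rw [Functor.map_comp, hφ, map_fptBase a, map_fptBase b]
    have := congrArg (fun t => eqToHom hy ≫ t ≫ eqToHom r.lies.symm) hd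
    simp only [Category.assoc, eqToHom_trans_assoc, eqToHom_refl, Category.id_comp] at this ⊢
    exact this.symm)
  exact ⟨{ K := Ω, str := w, obj := y, lies := hy }, φ, χ, trivial⟩

theorem fptRel_equivalence (hX : IsFibGrpd 𝒳.p) : _root_.Equivalence (@FPt.Rel S 𝒳) where
  refl p := ⟨p, 𝟙 _, 𝟙 _, trivial⟩
  symm := fun ⟨r, a, b, _⟩ => ⟨r, b, a, trivial⟩
  trans := fun {p q s} ⟨r, a, b, _⟩ ⟨r', c, d, _⟩ => by
    obtain ⟨t, φ, χ, -⟩ := exists_common_fpt hX b c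
    exact ⟨t, φ ≫ a, χ ≫ d, trivial⟩

theorem rel_of_mk_eq (hX : IsFibGrpd 𝒳.p) {p q : FPt 𝒳} (h : Points.mk p = Points.mk q) : FPt.Rel p q :=
  Equivalence.eqvGen_iff (fptRel_equivalence hX) |>.1 (Quot.eq.1 h)

theorem exists_points_fp (hY : IsFibGrpd 𝒴.p) (hX : IsFibGrpd 𝒳.p) (hZ : IsFibGrpd 𝒵.p)
    (f : 𝒳 ⥤ᵇ 𝒴) (g : 𝒵 ⥤ᵇ 𝒴) (z : Points 𝒵) (x : Points 𝒳) (h : Points.map g z = Points.map f x) :
    ∃ w : Points (fp g f), Points.map (fpFst g f) w = z ∧ Points.map (fpSnd g f) w = x := by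
  obtain ⟨p, rfl⟩ := Points.mk_surjective z
  obtain ⟨q, rfl⟩ := Points.mk_surjective x
  obtain ⟨r, a, b, -⟩ := rel_of_mk_eq hY (p := p.map g) (q := q.map f) h
  obtain ⟨p', hp', φ, hφ⟩ := fg_exists_lift hZ (fptBase (p := r) (q := p.map g) a ≫ eqToHom p.lies.symm)
  obtain ⟨q', hq', ψ, hψ⟩ := fg_exists_lift hX (fptBase (p := r) (q := q.map f) b ≫ eqToHom q.lies.symm)
  obtain ⟨i, hi, -⟩ := fg_exists_fac hY a (g.map φ) (eqToHom ((g.w_obj p').trans (hp'.trans r.lies.symm))) (by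
    rw [p_map_eq, hφ, map_fptBase (p := r) (q := p.map g) a]
    simp [FPt.map])
  obtain ⟨j, hj, -⟩ := fg_exists_fac hY b (f.map ψ) (eqToHom ((f.w_obj q').trans (hq'.trans r.lies.symm))) (by
    rw [p_map_eq, hψ, map_fptBase (p := r) (q := q.map f) b]
    simp [FPt.map])
  haveI : IsIso (𝒴.p.map i) := by rw [hi]; infer_instance
  haveI : IsIso (𝒴.p.map j) := by rw [hj]; infer_instance
  haveI := fg_isIso_of_isIso_map hY i
  haveI := fg_isIso_of_isIso_map hY j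
  have hlift : 𝒴.p.IsHomLift (𝟙 (𝒵.p.obj p')) (i ≫ inv j) :=
    IsHomLift.of_fac' 𝒴.p _ _ (g.w_obj p') ((f.w_obj q').trans (hq'.trans hp'.symm)) (by
      rw [Functor.map_comp, Functor.map_inv]
      simp [hi, hj])
  let w : FPt (fp g f) :=
    { K := r.K, str := r.str, obj := ⟨⟨p', q', asIso (i ≫ inv j)⟩, hlift⟩, lies := hp' }
  refine ⟨Points.mk w, ?_, ?_⟩
  · exact Points.sound ⟨w.map (fpFst g f), 𝟙 _, φ, trivial⟩
  · exact Points.sound ⟨w.map (fpSnd g f), 𝟙 _, ψ, trivial⟩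

theorem isSurjective_fpFst (hY : IsFibGrpd 𝒴.p) (hX : IsFibGrpd 𝒳.p) (hZ : IsFibGrpd 𝒵.p)
    {f : 𝒳 ⥤ᵇ 𝒴} (g : 𝒵 ⥤ᵇ 𝒴) (hf : IsSurjective f) : IsSurjective (fpFst g f) := fun z => by
  obtain ⟨x, hx⟩ := hf (Points.map g z)
  obtain ⟨w, hw, -⟩ := exists_points_fp hY hX hZ f g z x hx.symm
  exact ⟨w, hw⟩

end Groth.Agent.AlgSt88
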