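import Groth.Agent.AlgSt88.RepSp
import Groth.Agent.AlgSt88.CompP
import Groth.Agent.AlgSt88.PointsRel

/-! Monomorphisms are fully faithful. -/

set_option autoImplicit false
set_option backward.isDefEq.respectTransparency false
set_option backward.isDefEq.respectTransparency.types false
universe u

open CategoryTheory CategoryTheory.Limits AlgebraicGeometry Opposite AlgSt FibCat

namespace Groth.Agent.AlgSt88

variable {S : Scheme.{u}} {𝒳 𝒴 : AlgSt.Cat S}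

theorem full_of_isMono (hX : IsFibGrpd 𝒳.p) (hY : IsFibGrpd 𝒴.p) {f : 𝒳 ⥤ᵇ 𝒴} (hf : AlgSt.IsMono f) :
    f.toFunctor.Full := by
  refine ⟨fun {a b} k => ?_⟩
  let g₀ : 𝒳.p.obj a ⟶ 𝒳.p.obj b := eqToHom (f.w_obj a).symm ≫ 𝒴.p.map k ≫ eqToHom (f.w_obj b)
  obtain ⟨b', hb', ψ, hψ⟩ := fg_exists_lift hX g₀
  obtain ⟨l, hl, hlk⟩ := fg_exists_fac hY (f.map ψ) k (eqToHom ((f.w_obj a).trans ((f.w_obj b').trans hb').symm)) (by
    rw [p_map_eq, hψ]
    simp [g₀])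
  haveI : IsIso (𝒴.p.map l) := by rw [hl]; infer_instance
  haveI := fg_isIso_of_isIso_map hY l
  haveI hll : 𝒴.p.IsHomLift (𝟙 (𝒳.p.obj a)) l :=
    IsHomLift.of_fac' _ _ _ (f.w_obj a) ((f.w_obj b').trans hb') (by rw [hl]; simp)
  let U := 𝒳.p.obj a
  obtain ⟨e, he⟩ := classify_mk_id hY (f.obj a) (f.w_obj a)
  let y := classify hY (f.obj a) (f.w_obj a)
  let o₁ : (fp y f).obj := ⟨⟨Over.mk (𝟙 U), a, e⟩, he⟩
  let o₂ : (fp y f).obj := ⟨⟨Over.mk (𝟙 U), b', e ≪≫ asIso l⟩,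
    @IsHomLift.comp_of_lift_id _ _ _ _ 𝒴.p U _ _ _ e.hom l he hll⟩
  obtain ⟨F, e₀, he₀, hm⟩ := hf U y
  obtain ⟨G, hG, -, ⟨β⟩⟩ := isEquivOver_inverse he₀
  let Ψ : ofSp F.obj ⥤ᵇ ofSp ((AlgSp.yon S).obj U) :=
    BasedFunctor.comp (BasedFunctor.comp e₀ (fpFst y f)) (ofOverCat U)
  have hm' : Mono (homOfBased Ψ) := by
    have := hm
    rw [spMapOfOver_eq] at this
    exact this
  let a₁ := G.obj o₁
  let a₂ := G.obj o₂
  have hb₁ : a₁.base = U := G.w_obj o₁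
  have hb₂ : a₂.base = U := G.w_obj o₂
  let s₁ : F.obj.obj.obj (op U) := F.obj.obj.map (eqToHom hb₁.symm).op a₁.sec
  let s₂ : F.obj.obj.obj (op U) := F.obj.obj.map (eqToHom hb₂.symm).op a₂.sec
  let c₁ : (ofSp F.obj).obj := ⟨U, s₁⟩
  let c₂ : (ofSp F.obj).obj := ⟨U, s₂⟩
  let i₁ : c₁ ⟶ a₁ := ⟨eqToHom hb₁.symm, rfl⟩
  let i₂ : c₂ ⟶ a₂ := ⟨eqToHom hb₂.symm, rfl⟩
  have hj : ∀ (o : (fp y f).obj) (hb : (G.obj o).base = U) (hh : o.obj.fst = Over.mk (𝟙 U)),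
      ∃ m : Ψ.obj ⟨U, F.obj.obj.map (eqToHom hb.symm).op (G.obj o).sec⟩ ⟶ (ofOverCat U).obj (Over.mk (𝟙 U)),
        (ofSp ((AlgSp.yon S).obj U)).p.IsHomLift (𝟙 U) m := fun o hb hh => by
    let i : (⟨U, F.obj.obj.map (eqToHom hb.symm).op (G.obj o).sec⟩ : (ofSp F.obj).obj) ⟶ G.obj o :=
      ⟨eqToHom hb.symm, rfl⟩
    haveI hi : (ofSp F.obj).p.IsHomLift (𝟙 U) i := IsHomLift.of_fac' _ _ _ rfl hb
      (show eqToHom hb.symm = _ by simp)
    haveI h1 : (fp y f).p.IsHomLift (𝟙 U) (β.hom.toNatTrans.app o) := by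
      have ho : (fp y f).p.obj o = U := by
        change (overCat U).p.obj o.obj.fst = U
        rw [hh]; rfl
      exact BasedNatTrans.isHomLift β.hom ho
    haveI h2 : (fp y f).p.IsHomLift (𝟙 U) (e₀.map i ≫ β.hom.toNatTrans.app o) :=
      @IsHomLift.comp_of_lift_id _ _ _ _ (fp y f).p U _ _ _ (e₀.map i) (β.hom.toNatTrans.app o)
        (BasedFunctor.preserves_isHomLift e₀ _ i) h1
    haveI h3 := BasedFunctor.preserves_isHomLift (fpFst y f) (𝟙 U) (e₀.map i ≫ β.hom.toNatTrans.app o)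
    refine ⟨(ofOverCat U).map ((fpFst y f).map (e₀.map i ≫ β.hom.toNatTrans.app o) ≫ eqToHom hh), ?_⟩
    haveI h4 : (overCat U).p.IsHomLift (𝟙 U)
        ((fpFst y f).map (e₀.map i ≫ β.hom.toNatTrans.app o) ≫ eqToHom hh) := by
      haveI : (overCat U).p.IsHomLift (𝟙 U) (eqToHom hh) :=
        IsHomLift.eqToHom_codomain_lift_id hh (by rfl)
      exact IsHomLift.comp_of_lift_id (p := (overCat U).p) U _ _
    exact BasedFunctor.preserves_isHomLift (ofOverCat U) _ _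
  obtain ⟨m₁, hm₁⟩ := hj o₁ hb₁ rfl
  obtain ⟨m₂, hm₂⟩ := hj o₂ hb₂ rfl
  have hsec : ∀ (c : (ofSp F.obj).obj) (hc : U = c.base) (m : Ψ.obj c ⟶ (ofOverCat U).obj (Over.mk (𝟙 U))),
      (ofSp ((AlgSp.yon S).obj U)).p.IsHomLift (𝟙 U) m →
      ((AlgSp.yon S).obj U).obj.map (eqToHom hc).op (secOf Ψ c) = ((ofOverCat U).obj (Over.mk (𝟙 U))).sec := by
    intro c hc m hm
    have := sec_transport m (hc.trans (Ψ.w_obj c).symm) (rfl : U = U) (𝟙 U)
      (@IsHomLift.fac' _ _ _ _ (ofSp ((AlgSp.yon S).obj U)).p _ _ _ _ (𝟙 U) m hm)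
    simp only [secOf]
    simp only [Category.id_comp, eqToHom_refl] at this
    erw [← Functor.map_comp_apply]
    refine Eq.trans ?_ (this.symm.trans ?_)
    · rw [← op_comp, eqToHom_trans]
      rfl
    · exact ((AlgSp.yon S).obj U).obj.map_id_apply _ _
  have hs : s₁ = s₂ := by
    have hinj : Function.Injective ((homOfBased Ψ).hom.app (op U)) := by
      haveI : Mono (homOfBased Ψ).hom :=
        (inferInstance : Mono ((sheafToPresheaf (QuotSh.J Scheme.fppfPrecoverage S) (Type (u+1))).map (homOfBased Ψ)))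
      exact (CategoryTheory.mono_iff_injective _).1 (inferInstance : Mono ((homOfBased Ψ).hom.app (op U)))
    refine hinj ?_
    change secOf Ψ c₁ = secOf Ψ c₂
    have e₁ := hsec c₁ rfl m₁ hm₁
    have e₂ := hsec c₂ rfl m₂ hm₂
    exact ((((AlgSp.yon S).obj U).obj.map_id_apply (op U) _).symm.trans e₁).trans
      (e₂.symm.trans (((AlgSp.yon S).obj U).obj.map_id_apply (op U) _))
  let t : a₁ ⟶ a₂ := ⟨eqToHom (hb₁.trans hb₂.symm), by
    have : s₁ = s₂ := hs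
    have h' := congrArg (F.obj.obj.map (eqToHom hb₁).op) this
    simp only [s₁, s₂, ← Functor.map_comp_apply, ← op_comp, eqToHom_trans] at h'
    simpa using h'.symm⟩
  obtain ⟨t', ht'⟩ := (isEquivData_of_isEquivOver hG).full t
  have hfst : t'.hom.fst = 𝟙 (Over.mk (𝟙 U)) := Over.OverMorphism.ext (by
    have := Over.w t'.hom.fst
    exact (Category.comp_id _).symm.trans this)
  have hw := t'.hom.w
  rw [hfst] at hw
  have hfl : f.map t'.hom.snd = l := by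
    rw [y.map_id, Category.id_comp] at hw
    exact ((cancel_epi e.hom).1 hw).symm
  exact ⟨t'.hom.snd ≫ ψ, by rw [f.map_comp, hfl, hlk]⟩

theorem faithful_of_isMono (hX : IsFibGrpd 𝒳.p) (hY : IsFibGrpd 𝒴.p) {f : 𝒳 ⥤ᵇ 𝒴} (hf : AlgSt.IsMono f) :
    f.toFunctor.Faithful :=
  faithful_of_repByAlgSp1 hX hY (repByAlgSp1_of_with hf)

theorem points_map_injective (hX : IsFibGrpd 𝒳.p) (hY : IsFibGrpd 𝒴.p) (f : 𝒳 ⥤ᵇ 𝒴) [f.toFunctor.Full] :
    Function.Injective (Points.map f) := by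
  intro x₁ x₂ h
  obtain ⟨p, rfl⟩ := Points.mk_surjective x₁
  obtain ⟨q, rfl⟩ := Points.mk_surjective x₂
  obtain ⟨r, a, b, -⟩ := rel_of_mk_eq hY (p := p.map f) (q := q.map f) h
  obtain ⟨p', hp', φ, hφ⟩ := fg_exists_lift hX (fptBase (p := r) (q := p.map f) a ≫ eqToHom p.lies.symm)
  obtain ⟨q', hq', ψ, hψ⟩ := fg_exists_lift hX (fptBase (p := r) (q := q.map f) b ≫ eqToHom q.lies.symm)
  obtain ⟨i, hi, -⟩ := fg_exists_fac hY a (f.map φ) (eqToHom ((f.w_obj p').trans (hp'.trans r.lies.symm))) (by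
    rw [p_map_eq, hφ, map_fptBase (p := r) (q := p.map f) a]
    simp [FPt.map])
  obtain ⟨j, hj, -⟩ := fg_exists_fac hY b (f.map ψ) (eqToHom ((f.w_obj q').trans (hq'.trans r.lies.symm))) (by
    rw [p_map_eq, hψ, map_fptBase (p := r) (q := q.map f) b]
    simp [FPt.map])
  haveI : IsIso (𝒴.p.map j) := by rw [hj]; infer_instance
  haveI := fg_isIso_of_isIso_map hY j
  obtain ⟨k, -⟩ := f.toFunctor.map_surjective (i ≫ inv j)
  exact Points.sound ⟨{ K := r.K, str := r.str, obj := p', lies := hp' }, φ, k ≫ ψ, trivial⟩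

end Groth.Agent.AlgSt88
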