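import Groth.Agent.AlgSt88.DiagLFT
import Groth.Agent.AlgSt88.MonoFull

/-! Equivalences are representable, and monomorphisms have equivalences as diagonals. -/

set_option autoImplicit false
set_option backward.isDefEq.respectTransparency false
set_option backward.isDefEq.respectTransparency.types false
universe u

open CategoryTheory CategoryTheory.Limits AlgebraicGeometry Opposite AlgSt FibCat

namespace Groth.Agent.AlgSt88

variable {S : Scheme.{u}} {𝒳 𝒴 : AlgSt.Cat S} {P : MorphismProperty (AlgSp.Sp S)}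

theorem repByAlgSpWith_of_isEquivOver {f : 𝒳 ⥤ᵇ 𝒴} (hf : IsEquivOver f)
    (hP : ∀ U : Over S, P (𝟙 ((AlgSp.yon S).obj U))) : RepByAlgSpWith P f := by
  intro U y
  obtain ⟨Ψ, hΨ, -, ⟨b⟩⟩ := isEquivOver_inverse (isEquivOver_fpFst y hf)
  refine ⟨⟨(AlgSp.yon S).obj U, AlgSp.IsAlgSpace.yon_obj U⟩, BasedFunctor.comp (toOverCat U) Ψ,
    isEquivOver_comp (isEquivOver_toOverCat U) hΨ, ?_⟩
  have h : spMapOfOver (BasedFunctor.comp (BasedFunctor.comp (toOverCat U) Ψ) (fpFst y f)) =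
      spMapOfOver (toOverCat U) := spMapOfOver_congr (bLeft (toOverCat U) b)
  rw [h, spMapOfOver_toOverCat]
  exact hP U

theorem isEquivOver_diag_of_fullyFaithful (hX : IsFibGrpd 𝒳.p) (hY : IsFibGrpd 𝒴.p) (f : 𝒳 ⥤ᵇ 𝒴)
    [f.toFunctor.Full] [f.toFunctor.Faithful] : IsEquivOver (diag f) := by
  refine IsEquivData.isEquivOver ⟨?_, ?_, ?_⟩
  · intro x x' a b h
    exact congrArg (fun t => t.hom.fst) h
  · intro x x' k
    have hw : f.map k.hom.fst ≫ 𝟙 _ = 𝟙 _ ≫ f.map k.hom.snd := k.hom.w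
    rw [Category.comp_id, Category.id_comp] at hw
    exact ⟨k.hom.fst, fpHom_ext rfl (f.toFunctor.map_injective hw)⟩
  · intro z
    let j : z.obj.fst ≅ z.obj.snd := f.toFunctor.preimageIso z.obj.iso
    have hj : f.map j.hom = z.obj.iso.hom := f.toFunctor.map_preimage _
    refine ⟨z.obj.fst, fpObjIso (Iso.refl _) j ?_, ?_⟩
    · change f.map (𝟙 _) ≫ z.obj.iso.hom = 𝟙 _ ≫ f.map j.hom
      rw [map_id' f, hj]
    · exact fp_isHomLift _ (IsHomLift.id rfl)

end Groth.Agent.AlgSt88
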