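import Groth.Agent.AlgSt88.Bootstrap
import Groth.Agent.AlgSt88.EquivRep

/-! Representability of morphisms of algebraic stacks in terms of automorphisms. -/

set_option autoImplicit false
set_option backward.isDefEq.respectTransparency false
set_option backward.isDefEq.respectTransparency.types false
set_option linter.style.haveILetI false
universe u

open CategoryTheory CategoryTheory.Limits AlgebraicGeometry Opposite AlgSt FibCat

namespace Groth.Agent.AlgSt88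

variable {S : Scheme.{u}} {𝒳 𝒴 : AlgSt.Cat S} {f : 𝒳 ⥤ᵇ 𝒴}

/-- The automorphisms killed by a morphism are trivial. -/
def TrivKer (f : 𝒳 ⥤ᵇ 𝒴) : Prop :=
  ∀ (a : 𝒳.obj) (φ : a ⟶ a), 𝒳.p.map φ = 𝟙 (𝒳.p.obj a) → f.map φ = 𝟙 (f.obj a) → φ = 𝟙 a

theorem faithful_of_trivKer (hX : IsFibGrpd 𝒳.p) (hY : IsFibGrpd 𝒴.p) (h : TrivKer f) : f.toFunctor.Faithful := by
  refine ⟨fun {x x'} φ φ' e => ?_⟩
  have hp : 𝒳.p.map φ = 𝒳.p.map φ' := by
    have h' : 𝒴.p.map (f.map φ) = 𝒴.p.map (f.map φ') := congrArg (fun t => 𝒴.p.map t) e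
    rw [p_map_eq f φ, p_map_eq f φ', cancel_epi, cancel_mono] at h'
    exact h'
  obtain ⟨χ, hχ1, hχ2⟩ := fg_exists_fac hX φ' φ (𝟙 _) ((Category.id_comp _).trans hp.symm)
  have hfχ : f.map χ = 𝟙 _ := by
    refine fg_hom_ext hY (f.map φ') ?_ ?_
    · rw [p_map_eq, hχ1]; simp
    · rw [← f.map_comp, hχ2, Category.id_comp]; exact e
  rw [← hχ2, h x χ hχ1 hfχ, Category.id_comp]

theorem trivKer_of_faithful [f.toFunctor.Faithful] : TrivKer f := fun a _ _ h =>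
  f.toFunctor.map_injective (h.trans (f.map_id a).symm)

theorem repByAlgSp1_of_faithful (h𝒳 : IsAlgStack Scheme.fppfPrecoverage 𝒳)
    (h𝒴 : IsAlgStack Scheme.fppfPrecoverage 𝒴) [f.toFunctor.Faithful] : RepByAlgSp1 f := by
  intro U y
  have hT : IsAlgStack Scheme.fppfPrecoverage (overCat U) := by
    refine ⟨isStack_overCat_fppf U, ?_, ?_⟩
    · exact (repByAlgSp1_diag_of_cover (isStack_overCat_fppf U) (Stk.isFibGrpd_ofPsh _)
        (repByAlgSp_ofSp ⟨_, AlgSp.IsAlgSpace.yon_obj U⟩) (toOverCat U)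
        (rep_flat_of_sm (sm_equiv (isEquivOver_toOverCat U))) (rep_lfp_of_sm (sm_equiv (isEquivOver_toOverCat U)))
        (sj_equiv (isEquivOver_toOverCat U)))
    · obtain ⟨V, a, ha, ha'⟩ := (isDM_ofSp ⟨(AlgSp.yon S).obj U, AlgSp.IsAlgSpace.yon_obj U⟩).1.atlas
      exact ⟨V, BasedFunctor.comp a (toOverCat U),
        (repByAlgSpWith_postcomp_equiv (isEquivOver_toOverCat U)).2 ha,
        (repByAlgSpWith_postcomp_equiv (isEquivOver_toOverCat U)).2 ha'⟩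
  have hA := isAlgStack_fp h𝒴.isStack h𝒴.diag hT h𝒳 y f
  refine repByAlgSp_of_setoid_chart hA.isStack (fun {a b} g g' h => ?_) hA.atlas
  have h1 : g.hom.fst = g'.hom.fst := Over.OverMorphism.ext h
  refine fpHom_ext h1 (f.toFunctor.map_injective ((cancel_epi a.obj.iso.hom).1 ?_))
  rw [← g.hom.w, ← g'.hom.w, h1]

theorem faithful_iff_repByAlgSp1' (h𝒳 : IsAlgStack Scheme.fppfPrecoverage 𝒳)
    (h𝒴 : IsAlgStack Scheme.fppfPrecoverage 𝒴) : f.toFunctor.Faithful ↔ RepByAlgSp1 f :=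
  ⟨fun h => haveI := h; repByAlgSp1_of_faithful h𝒳 h𝒴,
    fun h => faithful_of_repByAlgSp1 h𝒳.isStack.1 h𝒴.isStack.1 h⟩

theorem trivKer_iff_repByAlgSp1 (h𝒳 : IsAlgStack Scheme.fppfPrecoverage 𝒳)
    (h𝒴 : IsAlgStack Scheme.fppfPrecoverage 𝒴) : RepByAlgSp1 f ↔ TrivKer f :=
  ⟨fun h => haveI := faithful_of_repByAlgSp1 h𝒳.isStack.1 h𝒴.isStack.1 h; trivKer_of_faithful,
    fun h => (faithful_iff_repByAlgSp1' h𝒳 h𝒴).1 (faithful_of_trivKer h𝒳.isStack.1 h𝒴.isStack.1 h)⟩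

/-- A fully faithful morphism of algebraic stacks is a monomorphism. -/
theorem isMono_of_fullyFaithful (h𝒳 : IsAlgStack Scheme.fppfPrecoverage 𝒳)
    (h𝒴 : IsAlgStack Scheme.fppfPrecoverage 𝒴) [f.toFunctor.Full] [f.toFunctor.Faithful] : AlgSt.IsMono f := by
  intro U y
  obtain ⟨F, e, he⟩ := repByAlgSp1_of_faithful h𝒳 h𝒴 (f := f) U y
  refine ⟨F, e, he, ?_⟩
  rw [spMapOfOver_eq]
  let Ψ : ofSp F.obj ⥤ᵇ ofSch U := BasedFunctor.comp (BasedFunctor.comp e (fpFst y f)) (ofOverCat U)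
  have hd := isEquivData_of_isEquivOver he
  have hfull : ∀ {a b : (ofSp F.obj).obj} (g : Ψ.obj a ⟶ Ψ.obj b), ∃ j : a ⟶ b, Ψ.map j = g := by
    intro a b g
    obtain ⟨g₁, hg₁⟩ := (isEquivData_of_isEquivOver (isEquivOver_ofOverCat U)).full g
    let k : e.obj a ⟶ e.obj b := fpHom g₁
      (f.toFunctor.preimage ((e.obj a).obj.iso.inv ≫ y.map g₁ ≫ (e.obj b).obj.iso.hom))
      (by
        change _ = _ ≫ f.toFunctor.map (f.toFunctor.preimage _)
        rw [f.toFunctor.map_preimage, Iso.hom_inv_id_assoc])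
    obtain ⟨j, hj⟩ := hd.full k
    refine ⟨j, ?_⟩
    change (ofOverCat U).map ((fpFst y f).map (e.map j)) = g
    rw [hj]
    exact hg₁
  obtain ⟨α⟩ := exists_hom_iso (F := F.obj) (G := (AlgSp.yon S).obj U) Ψ
  let a : F.obj ⟶ (AlgSp.yon S).obj U := homOfBased (F := F.obj) (G := (AlgSp.yon S).obj U) Ψ
  refine ⟨fun {Z} g₁ g₂ hg => ?_⟩
  refine sp_hom_ext fun T z => ?_
  have h0 : a.hom.app (op T) (g₁.hom.app (op T) z) = a.hom.app (op T) (g₂.hom.app (op T) z) :=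
    congrArg (fun t : Z ⟶ (AlgSp.yon S).obj U => t.hom.app (op T) z) hg
  let o₁ : (ofSp F.obj).obj := ⟨T, g₁.hom.app (op T) z⟩
  let o₂ : (ofSp F.obj).obj := ⟨T, g₂.hom.app (op T) z⟩
  let i : (ofSpMap a).obj o₁ ⟶ (ofSpMap a).obj o₂ :=
    ⟨𝟙 T, (((AlgSp.yon S).obj U).obj.map_id_apply (op T) _).trans h0.symm⟩
  obtain ⟨j, hj⟩ := hfull (α.hom.toNatTrans.app o₁ ≫ i ≫ α.inv.toNatTrans.app o₂)
  have hj1 : j.hom = 𝟙 T := by
    haveI h1 := BasedNatTrans.isHomLift α.hom (show (ofSp F.obj).p.obj o₁ = T from rfl)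
    haveI h2 := BasedNatTrans.isHomLift α.inv (show (ofSp F.obj).p.obj o₂ = T from rfl)
    haveI h3 : (ofSch U).p.IsHomLift (𝟙 T) i :=
      IsHomLift.of_fac' _ _ _ rfl rfl ((Category.id_comp _).trans (Category.comp_id _)).symm
    haveI h4 : (ofSch U).p.IsHomLift (𝟙 T) (i ≫ α.inv.toNatTrans.app o₂) :=
      @IsHomLift.comp_of_lift_id _ _ _ _ (ofSch U).p T _ _ _ i (α.inv.toNatTrans.app o₂) h3 h2
    have h5 : (ofSch U).p.IsHomLift (𝟙 T) (Ψ.map j) := hj ▸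
      @IsHomLift.comp_of_lift_id _ _ _ _ (ofSch U).p T _ _ _ (α.hom.toNatTrans.app o₁) _ h1 h4
    haveI h6 := (Ψ.isHomLift_iff (𝟙 T) j).1 h5
    have h7 := IsHomLift.fac' (ofSp F.obj).p (𝟙 T) j
    simpa using h7
  have := j.map_sec
  rw [hj1] at this
  exact ((F.obj.obj.map_id_apply (op T) _).symm.trans this).symm

end Groth.Agent.AlgSt88
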