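import Groth.Agent.SpPts86.QCMor
import Groth.Agent.SpPts86.UnivTop
import Groth.Agent.SpPts86.Proper
import Groth.Agent.SpPts86.AffineCharts

/-! Universally closed morphisms of algebraic spaces are quasi-compact. -/

set_option autoImplicit false
set_option maxHeartbeats 1000000
set_option linter.style.haveILetI false
set_option backward.isDefEq.respectTransparency false
set_option backward.isDefEq.respectTransparency.types false
universe u

open CategoryTheory CategoryTheory.Limits AlgebraicGeometry Opposite AlgSp Topology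

namespace Groth.Agent.AlgSt88

variable {S : Scheme.{u}} {X Y : AlgSp.Sp S}

theorem isQuasiCompactMor_of_isUnivClosedMor (hX : IsAlgSpace X) (hY : IsAlgSpace Y) {f : X ⟶ Y}
    (hf : IsUnivClosedMor f) : AlgSp.IsQuasiCompactMor f := by
  classical
  refine SpPts86.isQuasiCompactMor_of_affine hX hY fun T hT g Q fst snd sq => ?_
  haveI := hT
  have hQ : IsAlgSpace Q := SpFP87.isAlgSpace_of_isPullback sq hX (IsAlgSpace.yon_obj T) hY.diag
  obtain ⟨U, p, hp, hps⟩ := hQ.atlas
  let ι := {V : U.left.Opens // IsAffineOpen V}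
  let W : ι → Set (Points Q) := fun i => Points.ofPt p '' (i.1 : Set ↥U.left)
  have hWo : ∀ i, IsOpen (W i) := fun i => SpPts86.isOpenMap_ofPt hp _ i.1.2
  have hWc : ∀ i, IsCompact (W i) := fun i => i.2.isCompact.image (Points.continuous_ofPt p)
  have hW : ∀ x : Points Q, ∃ i, x ∈ W i := fun x => by
    obtain ⟨u, rfl⟩ := SpPts86.surjective_ofPt hps x
    obtain ⟨V, hV, hu, -⟩ := exists_isAffineOpen_mem_and_subset (x := u) (U := ⊤) trivial
    exact ⟨⟨V, hV⟩, u, hu, rfl⟩
  let A : CommRingCat.{u} := Γ(T.left, ⊤)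
  let R := MvPolynomial ι A
  let q₀ : Spec (CommRingCat.of R) ⟶ Spec A := Spec.map (CommRingCat.ofHom MvPolynomial.C)
  let q : Spec (CommRingCat.of R) ⟶ T.left := q₀ ≫ T.left.isoSpec.inv
  let T' : Over S := Over.mk (q ≫ T.hom)
  let qm : T' ⟶ T := Over.homMk q rfl
  have sq' := IsPullback.of_hasPullback snd ((AlgSp.yon S).map qm)
  let Q' := pullback snd ((AlgSp.yon S).map qm)
  have hcl : IsClosedMap (Points.map (pullback.snd snd ((AlgSp.yon S).map qm))) :=
    hf (IsAlgSpace.yon_obj T') _ _ _ (sq'.paste_horiz sq)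
  let e := Points.schemeHomeo T'
  let fT : Points Q' → ↥(Spec (CommRingCat.of R)) :=
    fun z => e.symm (Points.map (pullback.snd snd ((AlgSp.yon S).map qm)) z)
  let pr : Points Q' → Points Q := Points.map (pullback.fst snd ((AlgSp.yon S).map qm))
  let Ti : ι → (Spec (CommRingCat.of R)).Opens := fun i => PrimeSpectrum.basicOpen (MvPolynomial.X i : R)
  let Z : Set (Points Q') := (⋃ i, fT ⁻¹' (Ti i) ∩ pr ⁻¹' (W i))ᶜ
  have hfc : Continuous fT := e.symm.continuous.comp (Points.continuous_map _)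
  have hZ : IsClosed Z :=
    (isOpen_iUnion fun i => ((Ti i).2.preimage hfc).inter ((hWo i).preimage (Points.continuous_map _))).isClosed_compl
  let O : Set (PrimeSpectrum R) := (fT '' Z)ᶜ
  have hO : IsOpen O := (e.symm.isClosedMap.comp hcl _ hZ).isOpen_compl
  let ψ : R →+* A := (MvPolynomial.aeval (fun _ => (1 : A)) : R →ₐ[A] A).toRingHom
  have hψO : Set.range (PrimeSpectrum.comap ψ) ⊆ O := by
    rintro _ ⟨y, rfl⟩ ⟨z, hz, hzy⟩
    obtain ⟨i, hi⟩ := hW (pr z)
    exact hz (Set.mem_iUnion.2 ⟨i, by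
      show fT z ∈ Ti i
      rw [hzy]
      show ψ (MvPolynomial.X i) ∉ y.asIdeal
      rw [show ψ (MvPolynomial.X i) = 1 from MvPolynomial.aeval_X _ i]
      exact fun h => y.2.ne_top ((Ideal.eq_top_iff_one _).2 h), hi⟩)
  have hcpt : IsCompact (Set.range (PrimeSpectrum.comap ψ)) := isCompact_range (PrimeSpectrum.continuous_comap ψ)
  obtain ⟨s, hs⟩ := hcpt.elim_finite_subcover
    (fun g : {g : R // (PrimeSpectrum.basicOpen g : Set (PrimeSpectrum R)) ⊆ O} => (PrimeSpectrum.basicOpen g.1 : Set _))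
    (fun g => (PrimeSpectrum.basicOpen g.1).2) (fun t ht => by
      obtain ⟨_, ⟨g, rfl⟩, h1, h2⟩ :=
        PrimeSpectrum.isTopologicalBasis_basic_opens.exists_subset_of_mem_open (hψO ht) hO
      exact Set.mem_iUnion.2 ⟨⟨g, h2⟩, h1⟩)
  let σ : Finset ι := s.biUnion fun g => MvPolynomial.vars g.1
  let φ : R →+* R := (MvPolynomial.aeval (fun i : ι => if i ∈ σ then MvPolynomial.X i else 0) : R →ₐ[A] R).toRingHom
  refine ⟨?_⟩
  rw [show (Set.univ : Set (Points Q)) = ⋃ i ∈ σ, W i from ?_]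
  · exact σ.isCompact_biUnion fun i _ => hWc i
  refine (Set.eq_univ_of_forall fun x => ?_).symm
  let y : PrimeSpectrum A := T.left.isoSpec.hom ((Points.schemeHomeo T).symm (Points.map snd x))
  let t : PrimeSpectrum R := PrimeSpectrum.comap (ψ.comp φ) y
  obtain ⟨g, hg, hgy⟩ := Set.mem_iUnion₂.1 (hs ⟨y, rfl⟩)
  have hfix : φ g.1 = g.1 :=
    MvPolynomial.aeval_ite_mem_eq_self g.1 (fun i hi => Finset.mem_biUnion.2 ⟨g, hg, hi⟩)
  have htO : t ∈ O := g.2 (show ψ (φ g.1) ∉ y.asIdeal by rw [hfix]; exact hgy)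
  have hty : q t = (Points.schemeHomeo T).symm (Points.map snd x) := by
    have h0 : q₀ t = y := PrimeSpectrum.ext (by
      show Ideal.comap (MvPolynomial.C : A →+* R) (Ideal.comap (ψ.comp φ) y.asIdeal) = y.asIdeal
      rw [Ideal.comap_comap]
      convert Ideal.comap_id y.asIdeal
      ext a
      show (MvPolynomial.aeval fun _ => (1 : A)) ((MvPolynomial.aeval fun i : ι => if i ∈ σ then MvPolynomial.X i else 0) (MvPolynomial.C a : R)) = a
      erw [MvPolynomial.aeval_C, MvPolynomial.aeval_C]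
      rfl)
    show T.left.isoSpec.inv (q₀ t) = _
    rw [h0]
    exact Scheme.hom_inv_apply T.left.isoSpec _
  obtain ⟨z, hz₁, hz₂⟩ := SpPts86.exists_of_isPullback sq' x (Points.schemeHomeo T' t) (by
    rw [AlgSp.Points.map_yon_map_apply]
    exact ((Homeomorph.apply_symm_apply _ _).symm.trans (congrArg _ hty.symm)))
  have hft : fT z = t := by
    show e.symm _ = t
    rw [hz₂]; exact e.symm_apply_apply t
  have hzZ : z ∉ Z := fun h => htO ⟨z, h, hft⟩
  obtain ⟨i, hi₁, hi₂⟩ := Set.mem_iUnion.1 (not_not.1 hzZ)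
  refine Set.mem_iUnion₂.2 ⟨i, ?_, hz₁ ▸ hi₂⟩
  by_contra hiσ
  have h1 : ψ (φ (MvPolynomial.X i)) ∉ y.asIdeal := by
    rw [Set.mem_preimage, hft] at hi₁; exact hi₁
  refine h1 ?_
  rw [show φ (MvPolynomial.X i) = 0 from (MvPolynomial.aeval_X _ i).trans (if_neg hiσ), map_zero]
  exact Ideal.zero_mem _

end Groth.Agent.AlgSt88
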