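import Groth.Agent.AlgSt88.SepRep
import Groth.Agent.AlgSt88.Graph
import Groth.Agent.AlgSt88.RepCrit
import Groth.Agent.AlgSt88.UnivClosedQC
import Groth.Agent.Fib44.Inertia

/-! The inertia as the base change of the diagonal along itself. -/

set_option autoImplicit false
set_option linter.style.haveILetI false
set_option linter.unusedVariables false
set_option backward.isDefEq.respectTransparency false
set_option backward.isDefEq.respectTransparency.types false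
universe u

open CategoryTheory CategoryTheory.Limits AlgebraicGeometry Opposite AlgSt FibCat

namespace Groth.Agent.AlgSt88

variable {S : Scheme.{u}} {𝒳 𝒴 : AlgSt.Cat S} {P : MorphismProperty (AlgSp.Sp S)}

theorem aut_isHomLift {f : 𝒳 ⥤ᵇ 𝒴} (x : InertiaObj f) : 𝒳.p.IsHomLift (𝟙 (𝒳.p.obj x.pt)) x.aut.hom := by
  rw [← BasedFunctor.isHomLift_iff f, x.map_aut]
  infer_instance

/-- The inertia mapped to the self-product of the diagonal. -/
noncomputable def inertiaToFp (f : 𝒳 ⥤ᵇ 𝒴) : inertia f ⥤ᵇ fp (FibCat.diag f) (FibCat.diag f) where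
  toFunctor :=
    { obj := fun x => ⟨⟨x.pt, x.pt, fpObjIso (x := (FibCat.diag f).obj x.pt) (y := (FibCat.diag f).obj x.pt)
          x.aut (Iso.refl x.pt) (by
            change f.map x.aut.hom ≫ 𝟙 _ = 𝟙 _ ≫ f.map (𝟙 x.pt)
            rw [x.map_aut, map_id' f])⟩,
        fp_isHomLift _ (aut_isHomLift x)⟩
      map := fun {x y} φ => fpHom φ.hom φ.hom (fpHom_ext φ.comm.symm
        ((Category.comp_id _).trans (Category.id_comp _).symm))
      map_id := fun x => fpHom_ext rfl rfl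
      map_comp := fun a b => fpHom_ext rfl rfl }
  w := rfl

theorem isEquivOver_inertiaToFp (hX : IsFibGrpd 𝒳.p) (f : 𝒳 ⥤ᵇ 𝒴) : IsEquivOver (inertiaToFp f) := by
  refine IsEquivData.isEquivOver ⟨fun a b e => InertiaObj.hom_ext (congrArg (fun t => t.hom.fst) e),
    fun {x y} g => ?_, fun z => ?_⟩
  · have h1 : g.hom.fst ≫ y.aut.hom = x.aut.hom ≫ g.hom.snd := congrArg (fun t => t.hom.fst) g.hom.w
    have h2 : g.hom.fst ≫ 𝟙 y.pt = 𝟙 x.pt ≫ g.hom.snd := congrArg (fun t => t.hom.snd) g.hom.w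
    have h3 : g.hom.fst = g.hom.snd := (Category.comp_id _).symm.trans (h2.trans (Category.id_comp _))
    exact ⟨⟨g.hom.fst, (h1.trans (congrArg (x.aut.hom ≫ ·) h3.symm)).symm⟩,
      fpHom_ext rfl h3⟩
  · let p : z.obj.fst ≅ z.obj.snd := (fpFst f f).toFunctor.mapIso z.obj.iso
    let q : z.obj.fst ≅ z.obj.snd := (fpSnd f f).toFunctor.mapIso z.obj.iso
    have hw : f.map p.hom ≫ 𝟙 _ = 𝟙 _ ≫ f.map q.hom := z.obj.iso.hom.hom.w
    rw [Category.comp_id, Category.id_comp] at hw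
    let x : InertiaObj f := ⟨z.obj.fst, p ≪≫ q.symm, by
      rw [Iso.trans_hom, Iso.symm_hom, f.map_comp, hw, ← f.map_comp, Iso.hom_inv_id, f.map_id]⟩
    refine ⟨x, fpObjIso (Iso.refl z.obj.fst) q (fpHom_ext
      (show 𝟙 _ ≫ p.hom = (p ≪≫ q.symm).hom ≫ q.hom by simp) rfl), ?_⟩
    exact IsHomLift.of_fac' (fp (FibCat.diag f) (FibCat.diag f)).p (𝟙 _) _ rfl rfl (by
      change 𝒳.p.map (𝟙 z.obj.fst) = _
      rw [𝒳.p.map_id]
      simp; rfl)

theorem repByAlgSpWith_inertiaToBase (hX : IsFibGrpd 𝒳.p) (f : 𝒳 ⥤ᵇ 𝒴) (h : RepByAlgSpWith P (FibCat.diag f)) :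
    RepByAlgSpWith P (inertiaToBase f) :=
  repByAlgSpWith_of_iso (f := BasedFunctor.comp (inertiaToFp f) (fpFst (FibCat.diag f) (FibCat.diag f))) (Iso.refl _)
    ((repByAlgSpWith_precomp_equiv (isEquivOver_inertiaToFp hX f)).2 (repByAlgSpWith_fpFst _ h))

theorem repByAlgSpWith_inertiaNeutral_iff (hX : IsFibGrpd 𝒳.p) (f : 𝒳 ⥤ᵇ 𝒴) :
    RepByAlgSpWith P (inertiaNeutral f) ↔ RepByAlgSpWith P (FibCat.diag (FibCat.diag f)) := by
  let α : BasedFunctor.comp (inertiaNeutral f) (inertiaToFp f) ≅ FibCat.diag (FibCat.diag f) :=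
    fpNatIso (Φ := BasedFunctor.comp (inertiaNeutral f) (inertiaToFp f)) (Ψ := FibCat.diag (FibCat.diag f))
      (Iso.refl _) (Iso.refl _) (fun x => by
        change (FibCat.diag f).map (𝟙 x) ≫ 𝟙 _ = _ ≫ (FibCat.diag f).map (𝟙 x)
        exact fpHom_ext rfl rfl)
  refine ⟨fun h => repByAlgSpWith_of_iso α ((repByAlgSpWith_postcomp_equiv (isEquivOver_inertiaToFp hX f)).2 h),
    fun h => (repByAlgSpWith_postcomp_equiv (isEquivOver_inertiaToFp hX f)).1 (repByAlgSpWith_of_iso α.symm h)⟩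

theorem repByAlgSpWith_neutral_of_diag (f : 𝒳 ⥤ᵇ 𝒴) (h : RepByAlgSpWith P (FibCat.diag (inertiaToBase f))) :
    RepByAlgSpWith P (inertiaNeutral f) :=
  repByAlgSpWith_section (f := inertiaToBase f) (s := inertiaNeutral f) (Iso.refl _) h

theorem isFibGrpd_inertia (hX : IsFibGrpd 𝒳.p) (hY : IsFibGrpd 𝒴.p) (f : 𝒳 ⥤ᵇ 𝒴) : IsFibGrpd (inertia f).p :=
  Fib44.isFibGrpd_inertia hX (fun _ _ φ _ => by
    haveI := hY.isStronglyCartesian (f.map φ)
    exact Fib44.isSC_of_isSC_self 𝒴.p _ _ inferInstance)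

theorem tfae_inertia_sep (h𝒳 : IsAlgStack Scheme.fppfPrecoverage 𝒳) (h𝒴 : IsAlgStack Scheme.fppfPrecoverage 𝒴)
    (f : 𝒳 ⥤ᵇ 𝒴) :
    [RepByAlgSpWith AlgSp.IsSeparatedMor (inertiaToBase f), RepByAlgSpWith AlgSp.IsSeparatedMor (FibCat.diag f),
      IsClosedImm (inertiaNeutral f)].TFAE := by
  have hX := h𝒳.isStack.1
  have hY := h𝒴.isStack.1
  have hF := isFibGrpd_fp hX hX hY f f
  tfae_have 1 → 3 := fun h => repByAlgSpWith_neutral_of_diag f (closedImm_diag_of_sep (isFibGrpd_inertia hX hY f) hX h)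
  tfae_have 3 → 2 := fun h => sep_of_univClosed_diag (repByAlgSp1_of_with (lft_diag h𝒳 h𝒴 f))
    (univClosed_diag_of_isSeparatedMor (isSeparatedMor_of_closedImm_diag
      ((repByAlgSpWith_inertiaNeutral_iff hX f).1 h)))
  tfae_have 2 → 1 := repByAlgSpWith_inertiaToBase hX f
  tfae_finish

theorem tfae_inertia_qs (h𝒳 : IsAlgStack Scheme.fppfPrecoverage 𝒳) (h𝒴 : IsAlgStack Scheme.fppfPrecoverage 𝒴)
    (f : 𝒳 ⥤ᵇ 𝒴) :
    [RepByAlgSpWith AlgSp.IsQuasiSeparatedMor (inertiaToBase f),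
      RepByAlgSpWith AlgSp.IsQuasiSeparatedMor (FibCat.diag f),
      RepByAlgSpWith AlgSp.IsQuasiCompactMor (inertiaNeutral f)].TFAE := by
  have hX := h𝒳.isStack.1
  have hY := h𝒴.isStack.1
  have hF := isFibGrpd_fp hX hX hY f f
  tfae_have 1 → 3 := fun h => repByAlgSpWith_neutral_of_diag f (qc_diag_of_qs (isFibGrpd_inertia hX hY f) hX h)
  tfae_have 3 → 2 := fun h => qs_of_qc_diag (repByAlgSp1_of_with (lft_diag h𝒳 h𝒴 f))
    ((repByAlgSpWith_inertiaNeutral_iff hX f).1 h)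
  tfae_have 2 → 1 := repByAlgSpWith_inertiaToBase hX f
  tfae_finish

end Groth.Agent.AlgSt88
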