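import Groth.Agent.AlgSt88.SpQ
import Groth.Agent.AlgSt88.EquivRep
import Groth.Agent.AlgSt88.Compose

/-! Calculus of charts of morphisms of stacks. -/

set_option autoImplicit false
set_option maxHeartbeats 1000000
set_option linter.style.haveILetI false
set_option linter.unusedVariables false
set_option backward.isDefEq.respectTransparency false
set_option backward.isDefEq.respectTransparency.types false
universe u

open CategoryTheory CategoryTheory.Limits AlgebraicGeometry Opposite AlgSt FibCat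

namespace Groth.Agent.AlgSt88

variable {S : Scheme.{u}} {𝒳 𝒴 𝒵 : AlgSt.Cat S} {P : MorphismProperty (AlgSp.Sp S)}

theorem smooth_id (F : AlgSp.Space S) : AlgSp.LocP @Smooth (𝟙 F.obj) := SpFP87.locP_smooth_id F.property

theorem sm_equiv {e : 𝒳 ⥤ᵇ 𝒴} (he : IsEquivOver e) : Sm e :=
  repByAlgSpWith_of_isEquivOver he fun U => SpFP87.locP_smooth_id (AlgSp.IsAlgSpace.yon_obj U)

theorem sj_equiv {e : 𝒳 ⥤ᵇ 𝒴} (he : IsEquivOver e) : Sj e :=
  repByAlgSpWith_of_isEquivOver he fun U => SpFP87.isSurjectiveMor_id _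

theorem ofSpMap_comp_iso {F G H : AlgSp.Sp S} (a : F ⟶ G) (b : G ⟶ H) :
    Nonempty (BasedFunctor.comp (ofSpMap a) (ofSpMap b) ≅ ofSpMap (a ≫ b)) := by
  obtain ⟨γ⟩ := exists_hom_iso (BasedFunctor.comp (ofSpMap a) (ofSpMap b))
  rw [homOfBased_comp, homOfBased_ofSpMap, homOfBased_ofSpMap] at γ
  exact ⟨γ⟩

/-- A chart of the base change gives charts of the morphism. -/
theorem spQ_mk (hX : IsFibGrpd 𝒳.p) (hY : IsFibGrpd 𝒴.p) {f : 𝒳 ⥤ᵇ 𝒴} {U V : AlgSp.Space S}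
    {y : ofSp V.obj ⥤ᵇ 𝒴} {l : ofSp U.obj ⥤ᵇ fp f y} (hy : Sm y) (hy' : Sj y) (hl : Sm l) (hl' : Sj l)
    (h : P (homOfBased (BasedFunctor.comp l (fpSnd f y)))) : SpQ P f := by
  have hC : IsFibGrpd (fp f y).p := isFibGrpd_fp hX (Stk.isFibGrpd_ofPsh _) hY f y
  obtain ⟨γ⟩ := exists_hom_iso (BasedFunctor.comp l (fpSnd f y))
  exact ⟨U, V, BasedFunctor.comp l (fpFst f y), y, _, bLeft l (fpIso f y) ≪≫ bRight γ y,
    sm_comp (Stk.isFibGrpd_ofPsh _) hC hl (repByAlgSpWith_fpFst f hy),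
    repByAlgSpWith_surj_comp (Stk.isFibGrpd_ofPsh _) hC hl' (repByAlgSpWith_fpFst f hy'), hy, h⟩

theorem exists_overMap_iso {U V : Over S} (g : overCat U ⥤ᵇ overCat V) : ∃ k : U ⟶ V, Nonempty (g ≅ overMap k) := by
  let T := (g.obj (Over.mk (𝟙 U))).left
  have hT : T = U := g.w_obj (Over.mk (𝟙 U))
  refine ⟨eqToHom hT.symm ≫ (g.obj (Over.mk (𝟙 U))).hom, nonempty_iso_of_app_id (isFibGrpd_overCat V)
    (Over.isoMk (eqToIso hT) (by simp [overMap, T])) ?_⟩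
  exact IsHomLift.of_fac' (overCat V).p _ _ hT rfl (by simp [overCat, T]; rfl)

theorem toOver_overMap_hom {U V : Over S} (k : U ⟶ V) (g : overCat U ⥤ᵇ overCat V) (ι : g ≅ overMap k) :
    spMapOfOver (BasedFunctor.comp (toOverCat U) g) = (AlgSp.yon S).map k := by
  obtain ⟨j⟩ := toOver_overMap k
  have h := spMapOfOver_congr (bLeft (toOverCat U) ι ≪≫ j)
  rw [spMapOfOver_comp (ofSpMap _) (toOverCat V), homOfBased_ofSpMap, spMapOfOver_toOverCat] at h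
  exact h.trans (Category.comp_id _)

/-- The first main characterisation. -/
theorem locQ_iff_forall_squares (hP : AlgSp.IsSmoothLocalST P) (h𝒳 : IsAlgStack Scheme.fppfPrecoverage 𝒳)
    (h𝒴 : IsAlgStack Scheme.fppfPrecoverage 𝒴) {f : 𝒳 ⥤ᵇ 𝒴} :
    LocQ P f ↔ ∀ (U V : Over S) (x : overCat U ⥤ᵇ 𝒳) (y : overCat V ⥤ᵇ 𝒴) (h : U ⟶ V)
      (α : BasedFunctor.comp x f ≅ BasedFunctor.comp (overMap h) y),
      Sm x → Sm y → Sm (fpLift x (overMap h) α) → P ((AlgSp.yon S).map h) := by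
  constructor
  · intro hf U V x y h α _ hy hl
    obtain ⟨j⟩ := toOver_overMap h
    let y₁ : ofSch V ⥤ᵇ 𝒴 := BasedFunctor.comp (toOverCat V) y
    let x₁ : ofSch U ⥤ᵇ 𝒳 := BasedFunctor.comp (toOverCat U) x
    let a := (AlgSp.yon S).map h
    let α₁ : BasedFunctor.comp x₁ f ≅ BasedFunctor.comp (ofSpMap a) y₁ := bLeft (toOverCat U) α ≪≫ bRight j y
    let l := fpLift x₁ (ofSpMap a) α₁
    have hl₁ : Sm l := by
      refine (repByAlgSpWith_postcomp_equiv (isEquivOver_fpMapSnd f y (toOverCat V) (isEquivOver_toOverCat V))).1 ?_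
      refine repByAlgSpWith_of_iso
        (fpNatIso (Φ := BasedFunctor.comp (toOverCat U) (fpLift x (overMap h) α))
          (Ψ := BasedFunctor.comp l (fpMapSnd f y (toOverCat V))) (Iso.refl _) j (fun a => ?_))
        ((repByAlgSpWith_precomp_equiv (isEquivOver_toOverCat U)).2 hl)
      change f.map (𝟙 (x₁.obj a)) ≫ _ = _
      rw [map_id' f]
      exact Category.id_comp _
    have := (spQ_of_locQ hf).prop hP h𝒳.isStack.1 h𝒴.isStack.1 (U := ⟨_, AlgSp.IsAlgSpace.yon_obj U⟩)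
      (V := ⟨_, AlgSp.IsAlgSpace.yon_obj V⟩) y₁ l
      ((repByAlgSpWith_precomp_equiv (isEquivOver_toOverCat V)).2 hy) hl₁
    have h3 : homOfBased (BasedFunctor.comp l (fpSnd f y₁)) = a := homOfBased_ofSpMap a
    exact (congrArg (fun t => P t) h3).mp this
  · intro h
    obtain ⟨V, y, hy, hy'⟩ := h𝒴.atlas
    obtain ⟨U, u, hu, hu'⟩ :=
      (isAlgStack_fp h𝒴.isStack h𝒴.diag h𝒳 (isDM_of_repByAlgSp (repByAlgSp_overCat V)).1 f y).atlas
    have hC : IsFibGrpd (fp f y).p := isFibGrpd_fp h𝒳.isStack.1 (isFibGrpd_overCat V) h𝒴.isStack.1 f y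
    obtain ⟨k, ⟨ι⟩⟩ := exists_overMap_iso (BasedFunctor.comp u (fpSnd f y))
    have hx : Sm (BasedFunctor.comp u (fpFst f y)) := sm_comp (isFibGrpd_overCat U) hC hu (repByAlgSpWith_fpFst f hy)
    let α := bLeft u (fpIso f y) ≪≫ bRight ι y
    refine ⟨U, V, _, y, k, α, hx, repByAlgSpWith_surj_comp (isFibGrpd_overCat U) hC hu' (repByAlgSpWith_fpFst f hy'),
      hy, h U V _ y k α hx hy ?_⟩
    refine repByAlgSpWith_of_iso
      (fpNatIso (Φ := u) (Ψ := fpLift (BasedFunctor.comp u (fpFst f y)) (overMap k) α) (Iso.refl _) ι (fun a => ?_)) hu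
    change f.map (𝟙 (u.obj a).obj.fst) ≫ _ = _
    rw [map_id' f]
    exact Category.id_comp _

/-- On algebraic spaces nothing changes. -/
theorem spQ_ofSpMap_iff (hP : AlgSp.IsSmoothLocalST P) {F G : AlgSp.Space S} (a : F.obj ⟶ G.obj) :
    SpQ P (ofSpMap a) ↔ P a := by
  have hF := Stk.isFibGrpd_ofPsh F.obj.obj
  have hG := Stk.isFibGrpd_ofPsh G.obj.obj
  constructor
  · intro h
    let y := BasedFunctor.id (ofSp G.obj)
    obtain ⟨ψ, hψ, -, ⟨β⟩⟩ := isEquivOver_inverse (isEquivOver_fpFst (ofSpMap a) (isEquivOver_id (ofSp G.obj)))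
    have := h.prop hP hF hG y ψ (sm_equiv (isEquivOver_id _)) (sm_equiv hψ)
    have e : homOfBased (BasedFunctor.comp ψ (fpSnd (ofSpMap a) y)) = a := by
      refine Eq.trans ?_ (homOfBased_ofSpMap a)
      exact homOfBased_congr (F := F.obj) (G := G.obj)
        ((bLeft ψ (fpIso (ofSpMap a) y)).symm ≪≫ bRight β (ofSpMap a))
    rwa [e] at this
  · intro h
    exact ⟨F, G, BasedFunctor.id _, BasedFunctor.id _, a, Iso.refl _, sm_equiv (isEquivOver_id _),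
      sj_equiv (isEquivOver_id _), sm_equiv (isEquivOver_id _), h⟩

theorem flat_of_smooth' {F G : AlgSp.Sp S} {a : F ⟶ G} (h : AlgSp.LocP @Smooth a) : AlgSp.LocP @Flat a :=
  SpFP87.LocP.of_le (fun _ _ f hf => by haveI := hf; exact (inferInstance : Flat f)) h

theorem lfp_of_smooth' {F G : AlgSp.Sp S} {a : F ⟶ G} (h : AlgSp.LocP @Smooth a) :
    AlgSp.LocP @LocallyOfFinitePresentation a :=
  SpFP87.LocP.of_le (fun _ _ f hf => by haveI := hf; exact (inferInstance : LocallyOfFinitePresentation f)) h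

theorem rep_flat_of_sm {f : 𝒳 ⥤ᵇ 𝒴} (h : Sm f) : RepByAlgSpWith (AlgSp.LocP @Flat) f :=
  repByAlgSpWith_mono (fun _ _ _ ha => flat_of_smooth' ha) h

theorem rep_lfp_of_sm {f : 𝒳 ⥤ᵇ 𝒴} (h : Sm f) : RepByAlgSpWith (AlgSp.LocP @LocallyOfFinitePresentation) f :=
  repByAlgSpWith_mono (fun _ _ _ ha => lfp_of_smooth' ha) h

/-- The space representing the base change of a representable morphism as a chart. -/
theorem exists_rep_chart (hX : IsFibGrpd 𝒳.p) (hY : IsFibGrpd 𝒴.p) {f : 𝒳 ⥤ᵇ 𝒴} (hf : RepByAlgSp1 f)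
    {V : AlgSp.Space S} (y : ofSp V.obj ⥤ᵇ 𝒴) :
    ∃ (F : AlgSp.Space S) (e : ofSp F.obj ⥤ᵇ fp y f) (a : F.obj ⟶ V.obj), IsEquivOver e ∧
      homOfBased (BasedFunctor.comp e (fpFst y f)) = a ∧
      homOfBased (BasedFunctor.comp (BasedFunctor.comp e (fpSwap y f)) (fpSnd f y)) = a ∧
      ∀ (Q : MorphismProperty (AlgSp.Sp S)), Q.RespectsIso → RepByAlgSpWith Q f → AlgSp.RepBySpWith Q a.hom := by
  obtain ⟨F, a, e, he, ⟨α⟩, hQ⟩ := exists_space_fp hX hY hf V y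
  refine ⟨F, e, a, he, ?_, ?_, hQ⟩
  · rw [homOfBased_congr α, homOfBased_ofSpMap]
  · change homOfBased (BasedFunctor.comp e (fpFst y f)) = a
    rw [homOfBased_congr α, homOfBased_ofSpMap]

/-- For representable morphisms the two notions agree. -/
theorem locQ_iff_repByAlgSpWith (hP : AlgSp.IsSmoothLocalST P) (hPb : StableBC P)
    (hP₂ : AlgSp.IsLocalOnBase AlgSp.IsFppfCover P) (h𝒳 : IsAlgStack Scheme.fppfPrecoverage 𝒳)
    (h𝒴 : IsAlgStack Scheme.fppfPrecoverage 𝒴) {f : 𝒳 ⥤ᵇ 𝒴} (hf : RepByAlgSp1 f) :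
    LocQ P f ↔ RepByAlgSpWith P f := by
  have hX := h𝒳.isStack.1
  have hY := h𝒴.isStack.1
  obtain ⟨V, y, hy, hy'⟩ := exists_space_atlas h𝒴
  obtain ⟨F, e, a, he, ha₁, ha₂, hQ⟩ := exists_rep_chart hX hY hf (V := ⟨_, AlgSp.IsAlgSpace.yon_obj V⟩) y
  have hl : IsEquivOver (BasedFunctor.comp e (fpSwap y f)) := isEquivOver_comp he isEquivOver_fpSwap
  have hls : Sm (BasedFunctor.comp e (fpSwap y f)) :=
    sm_equiv (𝒳 := ofSp F.obj) (𝒴 := fp f y) (e := BasedFunctor.comp e (fpSwap y f)) hl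
  have hlj : Sj (BasedFunctor.comp e (fpSwap y f)) :=
    sj_equiv (𝒳 := ofSp F.obj) (𝒴 := fp f y) (e := BasedFunctor.comp e (fpSwap y f)) hl
  rw [locQ_iff_spQ hP h𝒳 h𝒴]
  constructor
  · intro h
    have h1 := h.prop hP hX hY (U := F) (V := ⟨_, AlgSp.IsAlgSpace.yon_obj V⟩) y (BasedFunctor.comp e (fpSwap y f)) hy hls
    rw [ha₂] at h1
    exact repByAlgSpWith_of_repSp_cover hX hY hPb hP₂ hf ⟨_, AlgSp.IsAlgSpace.yon_obj V⟩ y (rep_flat_of_sm hy)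
      (rep_lfp_of_sm hy) hy' ⟨F, e, he, ha₁ ▸ h1⟩
  · intro h
    refine spQ_mk (U := F) (V := ⟨_, AlgSp.IsAlgSpace.yon_obj V⟩) (y := y) (l := BasedFunctor.comp e (fpSwap y f)) hX hY hy hy' hls hlj ?_
    rw [ha₂]
    exact prop_of_repBySpWith hP₂ a (hQ _ (onSpaces_respectsIso hP₂) (repByAlgSpWith_onSpaces_iff.2 h))

/-- Changing the chart of the target by a map of spaces. -/
theorem exists_bc_chart {f : 𝒳 ⥤ᵇ 𝒴} {U V G : AlgSp.Space S} (b : G.obj ⟶ V.obj) (y : ofSp V.obj ⥤ᵇ 𝒴)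
    (l : ofSp U.obj ⥤ᵇ fp f y) :
    ∃ (W : AlgSp.Space S) (l' : ofSp W.obj ⥤ᵇ fp f (BasedFunctor.comp (ofSpMap b) y)) (q : W.obj ⟶ U.obj),
      (∀ Q : MorphismProperty (AlgSp.Sp S), RepByAlgSpWith Q l → RepByAlgSpWith Q l') ∧
      IsPullback q (homOfBased (BasedFunctor.comp l' (fpSnd f _))) (homOfBased (BasedFunctor.comp l (fpSnd f y))) b := by
  let a := homOfBased (BasedFunctor.comp l (fpSnd f y))
  obtain ⟨α⟩ := exists_hom_iso (BasedFunctor.comp l (fpSnd f y))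
  have sq := IsPullback.of_hasPullback a b
  have sqP := sq.flip.map (sheafToPresheaf (QuotSh.J Scheme.fppfPrecoverage S) (Type (u + 1)))
  let W : AlgSp.Space S :=
    ⟨pullback a b, SpFP87.isAlgSpace_of_isPullback sq U.property G.property V.property.diag⟩
  let ly : ofSp U.obj ⥤ᵇ fp y f := BasedFunctor.comp l (fpSwap f y)
  let c := fpCongr (F := ofSpMap b) (F' := ofSpMap b) (G := ofSpMap a)
      (G' := BasedFunctor.comp ly (fpFst y f)) (Iso.refl _) α.symm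
  let Φ : ofSp W.obj ⥤ᵇ fp (ofSpMap b) (BasedFunctor.comp ly (fpFst y f)) := BasedFunctor.comp (pshFpLift sqP.w) c
  let Θ : fp (ofSpMap b) (fpFst y f) ⥤ᵇ fp f (BasedFunctor.comp (ofSpMap b) y) :=
    BasedFunctor.comp (fpPaste (ofSpMap b) y f) (fpSwap _ f)
  let l' : ofSp W.obj ⥤ᵇ fp f (BasedFunctor.comp (ofSpMap b) y) :=
    BasedFunctor.comp (BasedFunctor.comp Φ (fpMapSnd (ofSpMap b) (fpFst y f) ly)) Θ
  have e : homOfBased (BasedFunctor.comp l' (fpSnd f _)) = pullback.snd a b := by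
    change homOfBased (ofSpMap (pullback.snd a b)) = _
    exact homOfBased_ofSpMap _
  refine ⟨W, l', pullback.fst a b, fun Q hQ => ?_, ?_⟩
  · exact (repByAlgSpWith_postcomp_equiv (f := BasedFunctor.comp Φ (fpMapSnd (ofSpMap b) (fpFst y f) ly))
      (isEquivOver_comp (isEquivOver_fpPaste _ _ _) isEquivOver_fpSwap)).2
      ((repByAlgSpWith_precomp_equiv (a := Φ)
        (isEquivOver_comp (isEquivOver_pshFpLift sqP) (isEquivOver_fpCongr _ _))).2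
        (repByAlgSpWith_fpMapSnd _ _ ((repByAlgSpWith_postcomp_equiv isEquivOver_fpSwap).2 hQ)))
  · rw [e]
    exact sq

/-- Replacing the chart of the target by an isomorphic one. -/
theorem exists_chart_congr {f : 𝒳 ⥤ᵇ 𝒴} {U V : AlgSp.Space S} {y y' : ofSp V.obj ⥤ᵇ 𝒴} (ι : y ≅ y')
    (l : ofSp U.obj ⥤ᵇ fp f y) :
    ∃ l' : ofSp U.obj ⥤ᵇ fp f y', (∀ Q : MorphismProperty (AlgSp.Sp S), RepByAlgSpWith Q l → RepByAlgSpWith Q l') ∧
      homOfBased (BasedFunctor.comp l' (fpSnd f y')) = homOfBased (BasedFunctor.comp l (fpSnd f y)) :=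
  ⟨BasedFunctor.comp l (fpCongr (Iso.refl f) ι),
    fun _ hQ => (repByAlgSpWith_postcomp_equiv (isEquivOver_fpCongr _ _)).2 hQ, rfl⟩

/-- A chart of a base change of a morphism. -/
theorem exists_chart_fpFst {f : 𝒳 ⥤ᵇ 𝒴} (g : 𝒵 ⥤ᵇ 𝒴) {U V : AlgSp.Space S} (z : ofSp V.obj ⥤ᵇ 𝒵)
    (l : ofSp U.obj ⥤ᵇ fp f (BasedFunctor.comp z g)) :
    ∃ l' : ofSp U.obj ⥤ᵇ fp (fpFst g f) z,
      (∀ Q : MorphismProperty (AlgSp.Sp S), RepByAlgSpWith Q l → RepByAlgSpWith Q l') ∧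
      homOfBased (BasedFunctor.comp l' (fpSnd (fpFst g f) z)) =
        homOfBased (BasedFunctor.comp l (fpSnd f (BasedFunctor.comp z g))) := by
  obtain ⟨ψ, hψ, -, ⟨β⟩⟩ := isEquivOver_inverse (isEquivOver_fpPaste z g f)
  let ls := BasedFunctor.comp l (fpSwap f (BasedFunctor.comp z g))
  refine ⟨BasedFunctor.comp (BasedFunctor.comp ls ψ) (fpSwap z (fpFst g f)), fun Q hQ => ?_, ?_⟩
  · exact (repByAlgSpWith_postcomp_equiv isEquivOver_fpSwap).2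
      ((repByAlgSpWith_postcomp_equiv hψ).2 ((repByAlgSpWith_postcomp_equiv isEquivOver_fpSwap).2 hQ))
  · exact homOfBased_congr (F := U.obj) (G := V.obj) (bLeft ls (bRight β (fpFst (BasedFunctor.comp z g) f)))

/-- Composites. -/
theorem spQ_comp (hP : AlgSp.IsSmoothLocalST P) (hPc : StableComp P) (h𝒳 : IsAlgStack Scheme.fppfPrecoverage 𝒳)
    (h𝒴 : IsAlgStack Scheme.fppfPrecoverage 𝒴) (h𝒵 : IsAlgStack Scheme.fppfPrecoverage 𝒵)
    {f : 𝒳 ⥤ᵇ 𝒴} {g : 𝒴 ⥤ᵇ 𝒵} (hf : SpQ P f) (hg : SpQ P g) : SpQ P (BasedFunctor.comp f g) := by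
  obtain ⟨W, z, hz, hz'⟩ := exists_space_atlas h𝒵
  let W' : AlgSp.Space S := ⟨_, AlgSp.IsAlgSpace.yon_obj W⟩
  obtain ⟨V, lg, hlg, hlg'⟩ := exists_lift_chart h𝒴 h𝒵 g (V := W') z
  let V' : AlgSp.Space S := ⟨_, AlgSp.IsAlgSpace.yon_obj V⟩
  have hC := isFibGrpd_fp h𝒴.isStack.1 (Stk.isFibGrpd_ofPsh W'.obj.obj) h𝒵.isStack.1 g z
  let y := BasedFunctor.comp lg (fpFst g z)
  have hy : Sm y := sm_comp (Stk.isFibGrpd_ofPsh _) hC hlg (repByAlgSpWith_fpFst g hz)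
  have hy' : Sj y := repByAlgSpWith_surj_comp (Stk.isFibGrpd_ofPsh _) hC hlg' (repByAlgSpWith_fpFst g hz')
  obtain ⟨U, lf, hlf, hlf'⟩ := exists_lift_chart h𝒳 h𝒴 f (V := V') y
  let U' : AlgSp.Space S := ⟨_, AlgSp.IsAlgSpace.yon_obj U⟩
  have h1 := hf.prop hP h𝒳.isStack.1 h𝒴.isStack.1 (U := U') (V := V') y lf hy hlf
  have h2 := hg.prop hP h𝒴.isStack.1 h𝒵.isStack.1 (U := V') (V := W') z lg hz hlg
  have hD := isFibGrpd_fp h𝒳.isStack.1 (Stk.isFibGrpd_ofPsh V'.obj.obj) h𝒴.isStack.1 f y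
  obtain ⟨γ₁⟩ := exists_hom_iso (BasedFunctor.comp lf (fpSnd f y))
  obtain ⟨γ₂⟩ := exists_hom_iso (BasedFunctor.comp lg (fpSnd g z))
  let h₁ := homOfBased (BasedFunctor.comp lf (fpSnd f y))
  let h₂ := homOfBased (BasedFunctor.comp lg (fpSnd g z))
  obtain ⟨γ⟩ := ofSpMap_comp_iso h₁ h₂
  exact ⟨U', W', BasedFunctor.comp lf (fpFst f y), z, h₁ ≫ h₂,
    bRight (bLeft lf (fpIso f y) ≪≫ bRight γ₁ y) g ≪≫
      bLeft (ofSpMap h₁) (bLeft lg (fpIso g z) ≪≫ bRight γ₂ z) ≪≫ bRight γ z,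
    sm_comp (Stk.isFibGrpd_ofPsh _) hD hlf (repByAlgSpWith_fpFst f hy),
    repByAlgSpWith_surj_comp (Stk.isFibGrpd_ofPsh _) hD hlf' (repByAlgSpWith_fpFst f hy'), hz,
    hPc U'.property V'.property W'.property h₁ h₂ h1 h2⟩

/-- Base change. -/
theorem spQ_fpFst (hP : AlgSp.IsSmoothLocalST P) (hPb : StableBC P) (h𝒳 : IsAlgStack Scheme.fppfPrecoverage 𝒳)
    (h𝒴 : IsAlgStack Scheme.fppfPrecoverage 𝒴) (h𝒵 : IsAlgStack Scheme.fppfPrecoverage 𝒵)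
    {f : 𝒳 ⥤ᵇ 𝒴} (g : 𝒵 ⥤ᵇ 𝒴) (hf : SpQ P f) : SpQ P (fpFst g f) := by
  obtain ⟨V, y, hy, hy'⟩ := exists_space_atlas h𝒴
  let V' : AlgSp.Space S := ⟨_, AlgSp.IsAlgSpace.yon_obj V⟩
  obtain ⟨U, l, hl, hl'⟩ := exists_lift_chart h𝒳 h𝒴 f (V := V') y
  obtain ⟨G, lg, hlg, hlg'⟩ := exists_lift_chart h𝒵 h𝒴 g (V := V') y
  let U' : AlgSp.Space S := ⟨_, AlgSp.IsAlgSpace.yon_obj U⟩
  let G' : AlgSp.Space S := ⟨_, AlgSp.IsAlgSpace.yon_obj G⟩
  have h1 := hf.prop hP h𝒳.isStack.1 h𝒴.isStack.1 (U := U') (V := V') y l hy hl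
  have hC := isFibGrpd_fp h𝒵.isStack.1 (Stk.isFibGrpd_ofPsh V'.obj.obj) h𝒴.isStack.1 g y
  let z := BasedFunctor.comp lg (fpFst g y)
  obtain ⟨γ⟩ := exists_hom_iso (BasedFunctor.comp lg (fpSnd g y))
  obtain ⟨W, l₁, q, hQ₁, sq⟩ := exists_bc_chart (f := f) (U := U') (G := G') (V := V')
    (homOfBased (BasedFunctor.comp lg (fpSnd g y))) y l
  obtain ⟨l₂, hQ₂, e₂⟩ := exists_chart_congr
    ((bRight γ y).symm ≪≫ (bLeft lg (fpIso g y)).symm) l₁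
  obtain ⟨l₃, hQ₃, e₃⟩ := exists_chart_fpFst (f := f) g (U := W) (V := G') z l₂
  refine spQ_mk (U := W) (V := G') (y := z) (l := l₃) (isFibGrpd_fp h𝒵.isStack.1 h𝒳.isStack.1 h𝒴.isStack.1 g f) h𝒵.isStack.1
    (sm_comp (Stk.isFibGrpd_ofPsh _) hC hlg (repByAlgSpWith_fpFst g hy))
    (repByAlgSpWith_surj_comp (Stk.isFibGrpd_ofPsh _) hC hlg' (repByAlgSpWith_fpFst g hy'))
    (hQ₃ _ (hQ₂ _ (hQ₁ _ hl))) (hQ₃ _ (hQ₂ _ (hQ₁ _ hl'))) ?_
  refine (congrArg (fun t => P t) (e₃.trans e₂)).mpr ?_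
  exact hPb U'.property V'.property W.property G'.property _ _ _ _ sq h1

end Groth.Agent.AlgSt88
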