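import Groth.Agent.Gerb44.GerbeAut
import Groth.Agent.AlgSt88.Inertia
import Groth.Agent.AlgSt88.SpQProps
import Groth.Agent.AlgSt88.EquivCrit

/-! The automorphism group scheme of a point is a base change of the inertia. -/

set_option autoImplicit false
set_option maxHeartbeats 1000000
set_option linter.style.haveILetI false
set_option backward.isDefEq.respectTransparency false
set_option backward.isDefEq.respectTransparency.types false
universe u

open CategoryTheory CategoryTheory.Limits AlgebraicGeometry Opposite AlgSt FibCat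

namespace Groth.Agent.AlgSt88

theorem comm_inv {C : Type*} [Category C] {a b : C} (e : a ≅ b) (A : a ⟶ a) (B : b ⟶ b)
    (h : A ≫ e.hom = e.hom ≫ B) : B ≫ e.inv = e.inv ≫ A := by
  rw [Iso.eq_inv_comp, ← Category.assoc, ← h, Category.assoc, Iso.hom_inv_id, Category.comp_id]

variable {S : Scheme.{u}} {𝒳 : AlgSt.Cat S} {U : Over S} {x : overCat U ⥤ᵇ 𝒳} {G : Over U.left} [GrpObj G]
  (r : Gerb.AutRep x (Gerb.ptsGrp U G)) {G' : Over S} (g : G' ⟶ U)
  (m : G'.left ⟶ G.left) (hm : m ≫ G.hom = g.left)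

/-- The tautological automorphism at an object over the group scheme, as a point of the inertia. -/
noncomputable def autObj (o : Over G') : (inertia (toSelf 𝒳)).obj :=
  let α := r.iso ((AlgSt.overMap g).obj o) (Gerb44.tautPt g m hm o)
  { pt := x.obj ((AlgSt.overMap g).obj o)
    aut := (Functor.Fiber.fiberInclusion (p := 𝒳.p)).mapIso α
    map_aut := Fib44.autHom_map α }

/-- The tautological point of the inertia over the group scheme. -/
noncomputable def autFunctor : overCat G' ⥤ᵇ fp x (inertiaToBase (toSelf 𝒳)) where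
  toFunctor :=
    { obj := fun o => Fib44.fpMk ((AlgSt.overMap g).obj o) (autObj r g m hm o) (Iso.refl _)
        (IsHomLift.id (x.w_obj _))
      map := fun {o o'} s => Fib44.fpHom ((AlgSt.overMap g).map s)
        (⟨x.map ((AlgSt.overMap g).map s), (Gerb44.tautIso r g m hm).hom.toNatTrans.naturality s |>.symm⟩ :
          InertiaObj.Hom (autObj r g m hm o) (autObj r g m hm o'))
        ((Category.comp_id _).trans (Category.id_comp _).symm)
      map_id := fun o => Fib44.fp_hom_ext ((AlgSt.overMap g).map_id o)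
        (InertiaObj.hom_ext (by
          change x.map ((AlgSt.overMap g).map (𝟙 o)) = 𝟙 _
          rw [(AlgSt.overMap g).map_id, x.map_id]))
      map_comp := fun s s' => Fib44.fp_hom_ext ((AlgSt.overMap g).map_comp s s')
        (InertiaObj.hom_ext (by
          change x.map ((AlgSt.overMap g).map (s ≫ s')) = x.map _ ≫ x.map _
          rw [(AlgSt.overMap g).map_comp, x.map_comp])) }
  w := rfl

theorem isEquivOver_autFunctor (hX : IsFibGrpd 𝒳.p) [IsIso m] :
    IsEquivOver (autFunctor r g m hm) := by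
  haveI := Fib44.isFibered_of_isFibGrpd 𝒳.p (h := hX)
  refine IsEquivData.isEquivOver ⟨fun {o o'} s s' e => ?_, fun {o o'} k => ?_, fun z => ?_⟩
  · exact Over.OverMorphism.ext (congrArg (fun t => t.hom.fst.left) e)
  · -- fullness: the components agree on the group scheme
    let b : (AlgSt.overMap g).obj o ⟶ (AlgSt.overMap g).obj o' := k.hom.fst
    have hsnd : k.hom.snd.hom = x.map b := by
      have h : x.map b ≫ 𝟙 _ = 𝟙 _ ≫ k.hom.snd.hom := k.hom.w
      exact ((Category.comp_id _).symm.trans (h.trans (Category.id_comp _))).symm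
    have hc := k.hom.snd.comm
    rw [hsnd] at hc
    have hnat := r.natural b (Gerb44.tautPt g m hm o')
    have h1 : (r.iso _ ((Gerb.ptsGrp U G).map b.op (Gerb44.tautPt g m hm o'))).hom.1 ≫ x.map b =
        (r.iso _ (Gerb44.tautPt g m hm o)).hom.1 ≫ x.map b := hnat.trans hc.symm
    have h2 : (r.iso _ ((Gerb.ptsGrp U G).map b.op (Gerb44.tautPt g m hm o'))) =
        (r.iso _ (Gerb44.tautPt g m hm o)) := by
      refine Iso.ext (Functor.Fiber.hom_ext ?_)
      haveI := hX.isStronglyCartesian (x.map b)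
      haveI := (r.iso _ ((Gerb.ptsGrp U G).map b.op (Gerb44.tautPt g m hm o'))).hom.2
      haveI := (r.iso _ (Gerb44.tautPt g m hm o)).hom.2
      exact Functor.IsStronglyCartesian.ext 𝒳.p (𝒳.p.map (x.map b)) (x.map b) (𝟙 _) h1
    have h3 := congrArg (fun t => Over.Hom.left t) ((r.iso _).injective h2)
    change b.left.left ≫ o'.hom.left ≫ m = o.hom.left ≫ m at h3
    rw [← Category.assoc, cancel_mono, ← Over.comp_left] at h3
    refine ⟨Over.homMk b.left (Over.OverMorphism.ext h3), Fib44.fp_hom_ext ?_ (InertiaObj.hom_ext ?_)⟩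
    · exact Over.OverMorphism.ext rfl
    · change x.map ((AlgSt.overMap g).map (Over.homMk b.left (Over.OverMorphism.ext h3) : o ⟶ o')) = k.hom.snd.hom
      rw [hsnd]
      exact congrArg x.map (Over.OverMorphism.ext rfl)
  · -- essential surjectivity
    let a : Over U := z.obj.fst
    let i : x.obj a ≅ z.obj.snd.pt := z.obj.iso
    have hi : 𝒳.p.IsHomLift (𝟙 a.left) i.hom := z.property
    have hi' : 𝒳.p.IsHomLift (𝟙 a.left) i.inv := IsHomLift.lift_id_inv _ _ i
    have hy : 𝒳.p.IsHomLift (𝟙 a.left) z.obj.snd.aut.hom :=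
      Fib44.lift_id_of_eq 𝒳.p (IsHomLift.codomain_eq 𝒳.p (𝟙 a.left) i.hom) (Fib44.aut_lift z.obj.snd)
    have hβ : 𝒳.p.IsHomLift (𝟙 (𝒳.p.obj (x.obj a))) (i.hom ≫ z.obj.snd.aut.hom ≫ i.inv) :=
      Fib44.lift_id_of_eq 𝒳.p (IsHomLift.domain_eq 𝒳.p (𝟙 a.left) i.hom).symm inferInstance
    obtain ⟨β, hβ'⟩ := Fib44.exists_autO hX _ hβ
    obtain ⟨s, hs⟩ := (r.iso a).surjective β
    let s' : (Over.iteratedSliceForward U).obj a ⟶ G := s
    have hw : (s'.left ≫ inv m) ≫ g.left = a.hom.left := by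
      rw [Category.assoc, ← hm, IsIso.inv_hom_id_assoc]
      exact Over.w s'
    let k₀ : a.left ⟶ G' := Over.homMk (s'.left ≫ inv m) (by
      rw [← Over.w g, ← Category.assoc, hw]
      exact Over.w a.hom)
    have hk₀ : k₀ ≫ g = a.hom := Over.OverMorphism.ext hw
    let j : (AlgSt.overMap g).obj (Over.mk k₀) ≅ a := Over.isoMk (Iso.refl _) (by
      change 𝟙 _ ≫ a.hom = k₀ ≫ g
      rw [Category.id_comp, hk₀])
    have hj : (overCat U).p.IsHomLift (𝟙 a.left) j.hom :=
      IsHomLift.of_fac' _ _ _ rfl rfl (by simp [j]; rfl)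
    have hnat := r.natural j.hom s
    have hs0 : (Gerb.ptsGrp U G).map j.hom.op s = Gerb44.tautPt g m hm (Over.mk k₀) :=
      Over.OverMorphism.ext (by
        change j.hom.left.left ≫ s'.left = k₀.left ≫ m
        simp [j, k₀])
    rw [hs0, hs] at hnat
    have hcomm : (autObj r g m hm (Over.mk k₀)).aut.hom ≫ (x.map j.hom ≫ i.hom) =
        (x.map j.hom ≫ i.hom) ≫ z.obj.snd.aut.hom := by
      rw [← Category.assoc]
      refine (congrArg (fun t => t ≫ i.hom) hnat).trans ?_
      change (x.map j.hom ≫ Fib44.autHom β) ≫ i.hom = _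
      rw [hβ']
      simp
    let e₀ : (autObj r g m hm (Over.mk k₀)).pt ≅ z.obj.snd.pt := x.toFunctor.mapIso j ≪≫ i
    have hcomm' : z.obj.snd.aut.hom ≫ e₀.inv = e₀.inv ≫ (autObj r g m hm (Over.mk k₀)).aut.hom :=
      comm_inv e₀ _ _ hcomm
    let sndIso : autObj r g m hm (Over.mk k₀) ≅ z.obj.snd :=
      { hom := ⟨x.map j.hom ≫ i.hom, hcomm⟩
        inv := ⟨e₀.inv, hcomm'⟩
        hom_inv_id := InertiaObj.hom_ext e₀.hom_inv_id
        inv_hom_id := InertiaObj.hom_ext e₀.inv_hom_id }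
    exact ⟨Over.mk k₀, Fib44.fpIsoMk j sndIso (Category.id_comp _).symm,
      (Fib44.fp_isHomLift_iff _ _).2 hj⟩

theorem prop_of_equiv {P : MorphismProperty (AlgSp.Sp S)} [P.RespectsIso] {G' : Over S} (g : G' ⟶ U)
    {𝒵 : AlgSt.Cat S} (q : 𝒵 ⥤ᵇ overCat U) (hq : RepOver P q) (Φ : overCat G' ⥤ᵇ 𝒵) (hΦ : IsEquivOver Φ)
    (ι : BasedFunctor.comp Φ q ≅ AlgSt.overMap g) : P ((AlgSp.yon S).map g) := by
  have := RepOver.any hq (isEquivOver_comp (isEquivOver_toOverCat G') hΦ)
  rw [← toOver_overMap_hom g (BasedFunctor.comp Φ q) ι]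
  exact this

/-- Properties of the diagonal pass to automorphism group schemes. -/
theorem prop_of_autRep {P : MorphismProperty (AlgSp.Sp S)} [P.RespectsIso] (hX : IsFibGrpd 𝒳.p)
    (hP : RepByAlgSpWith P (inertiaToBase (toSelf 𝒳))) (r : Gerb.AutRep x (Gerb.ptsGrp U G))
    (G' : Over S) (g : G' ⟶ U) (m : G'.left ⟶ G.left) (hm : m ≫ G.hom = g.left) [IsIso m] :
    P ((AlgSp.yon S).map g) :=
  prop_of_equiv g (fpFst x (inertiaToBase (toSelf 𝒳))) (hP U x) (autFunctor r g m hm)
    (isEquivOver_autFunctor r g m hm hX) (Iso.refl _)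

end Groth.Agent.AlgSt88
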