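import Groth.Agent.AlgSt88.DiagCalc
import Groth.Agent.SpPts86.LocPMore

/-! DM and quasi-DM morphisms. -/

set_option autoImplicit false
set_option backward.isDefEq.respectTransparency false
set_option backward.isDefEq.respectTransparency.types false
universe u

open CategoryTheory CategoryTheory.Limits AlgebraicGeometry Opposite AlgSt FibCat

namespace Groth.Agent.AlgSt88

variable {S : Scheme.{u}} {P : MorphismProperty Scheme.{u}}

theorem stableBC_locP (P : MorphismProperty Scheme.{u}) [SpFP87.EtLoc P] : StableBC (S := S) (AlgSp.LocP P) :=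
  fun _ _ _ _ hX hY _ hY' _ _ _ _ sq h => SpFP87.locP_baseChange sq hX hY hY' h

theorem stableComp_locP (P : MorphismProperty Scheme.{u}) [SpFP87.EtLoc P] : StableComp (S := S) (AlgSp.LocP P) :=
  fun _ _ _ hX hY hZ _ _ ha hb => SpFP87.locP_comp hX hY hZ ha hb

theorem cancels_locP {P : MorphismProperty Scheme.{u}} [SpFP87.EtLoc P]
    (h : ∀ {A B C : Scheme.{u}} (f : A ⟶ B) (g : B ⟶ C), P (f ≫ g) → P f) :
    CancelsAlong (S := S) (AlgSp.LocP P) (⊤ : MorphismProperty (AlgSp.Sp S)) :=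
  fun _ _ _ hX hY hZ _ _ _ hab => SpPts86.locP_of_comp (P := P) (Q := ⊤) (R := P)
    (fun f g h' _ => h f g h') hX hY hZ hab (fun _ _ _ _ _ _ _ _ => trivial)

theorem dm_cancel {A B C : Scheme.{u}} (f : A ⟶ B) (g : B ⟶ C)
    (h : (@LocallyOfFiniteType ⊓ @FormallyUnramified : MorphismProperty Scheme.{u}) (f ≫ g)) :
    (@LocallyOfFiniteType ⊓ @FormallyUnramified : MorphismProperty Scheme.{u}) f :=
  have := h.1
  have := h.2
  ⟨locallyOfFiniteType_of_comp f g, FormallyUnramified.of_comp f g⟩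

theorem qdm_cancel {A B C : Scheme.{u}} (f : A ⟶ B) (g : B ⟶ C)
    (h : (@LocallyQuasiFinite ⊓ @LocallyOfFiniteType : MorphismProperty Scheme.{u}) (f ≫ g)) :
    (@LocallyQuasiFinite ⊓ @LocallyOfFiniteType : MorphismProperty Scheme.{u}) f :=
  have := h.1
  have := h.2
  ⟨LocallyQuasiFinite.of_comp f g, locallyOfFiniteType_of_comp f g⟩

end Groth.Agent.AlgSt88
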