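import Groth.Agent.AlgSt88.DiagRep2
import Groth.Agent.AlgSt88.SepLocP
import Groth.Agent.SpPts86.Props
import Groth.Agent.SpPts86.DiagProps

/-! The diagonal of an algebraic stack is locally of finite type. -/

set_option autoImplicit false
set_option backward.isDefEq.respectTransparency false
set_option backward.isDefEq.respectTransparency.types false
universe u

open CategoryTheory CategoryTheory.Limits AlgebraicGeometry Opposite AlgSt FibCat

namespace Groth.Agent.AlgSt88

variable {S : Scheme.{u}} {𝒳 𝒴 : AlgSt.Cat S}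

theorem spMapOfOver_toOverCat (V : Over S) : spMapOfOver (toOverCat V) = 𝟙 _ := by
  rw [spMapOfOver_eq]
  refine (homOfBased_congr (F := (AlgSp.yon S).obj V) (G := (AlgSp.yon S).obj V)
    (Ψ := BasedFunctor.id _) (BasedNatIso.mkNatIso
      (NatIso.ofComponents (fun a => Iso.refl _)
        (fun {a b} f => Stk.EltObj.hom_ext ((Category.comp_id _).trans (Category.id_comp _).symm)))
      (fun a => IsHomLift.id rfl))).trans (homOfBased_id)

theorem overMap_iso {W V : Over S} (p : W ⟶ V) :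
    Nonempty (BasedFunctor.comp (BasedFunctor.comp (ofOverCat W) (ofSpMap ((AlgSp.yon S).map p))) (toOverCat V) ≅
      overMap p) :=
  nonempty_iso_of_app_id (isFibGrpd_overCat V) (Iso.refl _) (IsHomLift.id rfl)

/-- Descend `LocP P` along an fppf surjective map of schemes. -/
theorem locP_descend {P : MorphismProperty Scheme.{u}} [SpFP87.EtLoc P] [P.DescendsAlong SpFP87.fppfSurj]
    {I I'' : AlgSp.Sp S} (hI : AlgSp.IsAlgSpace I) {W V : Over S} (p : W ⟶ V) (hp : SpFP87.fppfSurj p.left)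
    {a : I ⟶ (AlgSp.yon S).obj V} {fst : I'' ⟶ I} {snd : I'' ⟶ (AlgSp.yon S).obj W}
    (sq : IsPullback fst snd a ((AlgSp.yon S).map p)) (h : AlgSp.LocP P snd) : AlgSp.LocP P a := by
  have hV := AlgSp.IsAlgSpace.yon_obj (S := S) V
  obtain ⟨A, c, k, hc, hcs, w⟩ := SpFP87.exists_compatible_chart a hI hV.diag
    (AlgSp.repWith_id @Etale V) (AlgSp.repWith_id @Surjective V)
  rw [Category.comp_id] at w
  refine SpFP87.locP_of_chart (h := k) hI.diag hV.diag hc hcs (AlgSp.repWith_id @Etale V) (by rwa [Category.comp_id]) ?_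
  obtain ⟨B, q, r, sqB⟩ := SpFP87.exists_isPullback_yon hV.diag ((AlgSp.yon S).map k) ((AlgSp.yon S).map p)
  let c'' : (AlgSp.yon S).obj B ⟶ I'' := sq.lift ((AlgSp.yon S).map q ≫ c) ((AlgSp.yon S).map r)
    (by rw [Category.assoc, w, sqB.w])
  have e1 : c'' ≫ fst = (AlgSp.yon S).map q ≫ c := sq.lift_fst _ _ _
  have e2 : c'' ≫ snd = (AlgSp.yon S).map r := sq.lift_snd _ _ _
  have sqc : IsPullback c'' ((AlgSp.yon S).map q) fst c := by
    refine (IsPullback.of_bot (h₁₁ := (AlgSp.yon S).map q) (v₁₁ := c'') (v₁₂ := c) (h₂₁ := fst) ?_ e1.symm sq).flip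
    rw [e2, w]
    exact sqB
  have hc'' : AlgSp.RepWith @Etale c'' := MorphismProperty.of_isPullback sqc.flip hc
  exact MorphismProperty.of_isPullback_of_descendsAlong (Q := SpFP87.fppfSurj)
    (SpFP87.isPullback_left sqB).flip hp
    (h c'' (𝟙 _) r hc'' (AlgSp.repWith_id @Etale W) (by rw [Category.comp_id, e2]))

/-- A property may be checked after a surjective flat cover of the test scheme. -/
theorem repOver_of_cover {P : MorphismProperty Scheme.{u}} [SpFP87.EtLoc P] [P.DescendsAlong SpFP87.fppfSurj]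
    (hX : IsFibGrpd 𝒳.p) (hY : IsFibGrpd 𝒴.p) {f : 𝒳 ⥤ᵇ 𝒴} (hf : RepByAlgSp1 f) {W V : Over S} (p : W ⟶ V)
    (hp : SpFP87.fppfSurj p.left) (z : overCat V ⥤ᵇ 𝒴)
    (h : RepOver (AlgSp.LocP P) (fpFst (BasedFunctor.comp (overMap p) z) f)) :
    RepOver (AlgSp.LocP P) (fpFst z f) := by
  let GV : AlgSp.Space S := ⟨(AlgSp.yon S).obj V, AlgSp.IsAlgSpace.yon_obj V⟩
  let m : ofSp GV.obj ⥤ᵇ 𝒴 := BasedFunctor.comp (toOverCat V) z
  obtain ⟨I, a, e, he, ⟨α⟩, -⟩ := exists_space_fp hX hY hf GV m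
  haveI := respectsIso_locP (S := S) P
  let ξ := (AlgSp.yon S).map p
  let w' : overCat W ⥤ᵇ ofSp GV.obj := BasedFunctor.comp (ofOverCat W) (ofSpMap ξ)
  obtain ⟨ι⟩ := overMap_iso p
  have h1 : RepOver (AlgSp.LocP P) (fpFst w' (fpFst m f)) :=
    RepOver.transport' h (isEquivOver_comp (isEquivOver_fpPaste w' m f)
      (isEquivOver_fpCongr (F := BasedFunctor.comp w' m) (F' := BasedFunctor.comp (overMap p) z)
        (bRight ι z) (Iso.refl f))) (Iso.refl _)
  have h2 : RepOver (AlgSp.LocP P) (fpFst w' (ofSpMap a)) :=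
    RepOver.transport' h1 (isEquivOver_comp (isEquivOver_fpCongr (F := w') (F' := w') (G := ofSpMap a) (Iso.refl _) α.symm)
      (isEquivOver_fpMapSnd w' (fpFst m f) e he)) (Iso.refl _)
  have sq := IsPullback.of_hasPullback a ξ
  have sq' := sq.map (sheafToPresheaf (QuotSh.J Scheme.fppfPrecoverage S) (Type (u + 1)))
  obtain ⟨e', he', ⟨β⟩⟩ := exists_pullback_equiv a.hom (Iso.refl _) sq'
  have hI'' : AlgSp.LocP P (pullback.snd a ξ) := by
    have := RepOver.any (P := AlgSp.LocP P) (F := pullback a ξ) h2 he'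
    rw [spMapOfOver_eq] at this
    rw [homOfBased_congr (F := pullback a ξ) (G := (AlgSp.yon S).obj W)
      (Φ := BasedFunctor.comp (BasedFunctor.comp e' (fpFst w' (ofSpMap a))) (ofOverCat W))
      (Ψ := ofSpMap (pullback.snd a ξ)) β, homOfBased_ofSpMap] at this
    exact this
  have hPa := locP_descend I.property p hp sq hI''
  refine ⟨I, BasedFunctor.comp e (fpMapFst z f (toOverCat V)),
    isEquivOver_comp he (isEquivOver_fpMapFst z f _ (isEquivOver_toOverCat V)), ?_⟩
  have hmap : spMapOfOver (BasedFunctor.comp (BasedFunctor.comp e (fpMapFst z f (toOverCat V))) (fpFst z f)) =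
      a ≫ spMapOfOver (toOverCat V) := by
    have h' := spMapOfOver_congr (bRight α (toOverCat V))
    rw [spMapOfOver_comp (ofSpMap a) (toOverCat V), homOfBased_ofSpMap] at h'
    exact h'
  rw [hmap, spMapOfOver_toOverCat V]
  erw [Category.comp_id]
  exact hPa

end Groth.Agent.AlgSt88
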