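import Groth.Agent.AlgSt88.Bootstrap
import Groth.Agent.SpPts86.EtaleSheaf

/-! The diagonal of an etale stack with a smooth atlas is representable. -/

set_option autoImplicit false
set_option linter.style.haveILetI false
set_option backward.isDefEq.respectTransparency false
set_option backward.isDefEq.respectTransparency.types false
universe u

open CategoryTheory CategoryTheory.Limits AlgebraicGeometry Opposite AlgSt FibCat

namespace Groth.Agent.AlgSt88

variable {S : Scheme.{u}} {𝒳 : AlgSt.Cat S}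

/-- An etale stack in setoids with a smooth surjective chart from a space is an algebraic space. -/
theorem repByAlgSp_of_setoid_cover_etale (hX : Stk.IsStack (QuotSh.J Scheme.etalePrecoverage S) 𝒳)
    (thin : ∀ {x y : 𝒳.obj} (f g : x ⟶ y), 𝒳.p.map f = 𝒳.p.map g → f = g)
    (G : AlgSp.Space S) (g : ofSp G.obj ⥤ᵇ 𝒳) (h1 : RepByAlgSpWith (AlgSp.LocP @Smooth) g)
    (h3 : RepByAlgSpWith AlgSp.IsSurjectiveMor g) : RepByAlgSp 𝒳 := by
  have he := isEquivOver_toPi0 hX.1 thin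
  have hs : Presieve.IsSheaf (QuotSh.J Scheme.etalePrecoverage S) (pi0 𝒳 hX.1) :=
    (Fib44.isStack_ofPsh_iff _).1 ((Fib44.isStack_iff_of_isEquivOver he _).1 hX)
  let F : AlgSp.PSp S := pi0 𝒳 hX.1
  obtain ⟨α⟩ := nonempty_iso_ofPshMap (P := G.obj.obj) (Q := F) (BasedFunctor.comp g (toPi0 hX.1))
  let p : G.obj.obj ⟶ F := pshHom (Q := F) (BasedFunctor.comp g (toPi0 hX.1))
  haveI : (AlgSp.IsSurjectiveMor ⊓ AlgSp.LocP @Smooth : MorphismProperty (AlgSp.Sp S)).RespectsIso :=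
    haveI := respectsIso_surj (S := S); haveI := respectsIso_locP (S := S) @Smooth; inferInstance
  have hw : RepByAlgSpWith (AlgSp.IsSurjectiveMor ⊓ AlgSp.LocP @Smooth) g :=
    haveI := respectsIso_surj (S := S); repByAlgSpWith_inf h3 h1
  have key : AlgSp.RepBySpWith (AlgSp.IsSurjectiveMor ⊓ AlgSp.LocP @Smooth) p :=
    (repByAlgSpWith_ofPshMap_iff _ p).2
      (repByAlgSpWith_of_iso α ((repByAlgSpWith_postcomp_equiv he).2 hw))
  have hF : AlgSp.IsAlgSpaceP F :=
    SpPts86.isAlgSpaceP_of_smooth_cover ((isSheaf_iff_isSheaf_of_type _ _).2 hs) G.property p key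
  exact repByAlgSp_of_equiv' (repByAlgSp_of_isAlgSpaceP hF) he

theorem isStack_overCat_etale (U : Over S) : Stk.IsStack (QuotSh.J Scheme.etalePrecoverage S) (overCat U) :=
  (Fib44.isStack_iff_of_isEquivOver (isEquivOver_toOverCat U) _).1
    ((Fib44.isStack_ofPsh_iff _).2
      ((isSheaf_iff_isSheaf_of_type _ _).1 (SpPts86.isSheaf_etale ((AlgSp.yon S).obj U))))

theorem repByAlgSp1_diag_etale (hX : Stk.IsStack (QuotSh.J Scheme.etalePrecoverage S) 𝒳) {W : AlgSp.Space S}
    (u : ofSp W.obj ⥤ᵇ 𝒳) (h1 : RepByAlgSpWith (AlgSp.LocP @Smooth) u)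
    (h3 : RepByAlgSpWith AlgSp.IsSurjectiveMor u) : RepByAlgSp1 (diag (toSelf 𝒳)) := by
  refine (diag_iff hX.1).2 fun T x V y => ?_
  have hW : IsFibGrpd (ofSp W.obj).p := Stk.isFibGrpd_ofPsh _
  have hV := isFibGrpd_overCat V
  have hT := isFibGrpd_overCat T
  have hru := repByAlgSp1_of_with h1
  have hH : Stk.IsStack (QuotSh.J Scheme.etalePrecoverage S) (fp y x) :=
    Fib44.isStack_fp (isStack_overCat_etale V) (isStack_overCat_etale T) (Fib44.isPrestack_of_isStack hX)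
  have thin : ∀ {a b : (fp y x).obj} (f g : a ⟶ b), (fp y x).p.map f = (fp y x).p.map g → f = g := by
    intro a b f g h
    refine fpHom_ext (Over.OverMorphism.ext h) (Over.OverMorphism.ext ?_)
    have h' : (overCat T).p.map f.hom.snd = (overCat T).p.map g.hom.snd := by
      change (overCat T).p.map ((fpSnd y x).map f) = (overCat T).p.map ((fpSnd y x).map g)
      rw [p_map_eq, p_map_eq, h]
    exact h'
  have hUT : RepByAlgSp (fp u x) := repByAlgSp_of_equiv (hru T x) isEquivOver_fpSwap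
  have hP : RepByAlgSp (fp (fpSnd y u) (fpFst u x)) :=
    repByAlgSp_fp (isFibGrpd_fp hW hT hX.1 u x) hW (fpSnd y u)
      (repByAlgSp1_of_repByAlgSp hUT (repByAlgSp_ofSp W) _) (hru V y)
  have h4 : RepByAlgSp (fp (BasedFunctor.comp (fpFst y u) y) x) :=
    repByAlgSp_of_equiv (repByAlgSp_of_equiv hP (isEquivOver_fpPaste (fpSnd y u) u x))
      (isEquivOver_fpCongr (fpIso y u).symm (Iso.refl x))
  have h5 : RepByAlgSp (fp (fpFst y x) (fpFst y u)) :=
    repByAlgSp_of_equiv (repByAlgSp_of_equiv' h4 (isEquivOver_fpPaste (fpFst y u) y x)) isEquivOver_fpSwap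
  obtain ⟨G, e, he⟩ := h5
  have hb : ∀ {Q : MorphismProperty (AlgSp.Sp S)}, RepByAlgSpWith Q u →
      RepByAlgSpWith Q (BasedFunctor.comp e (fpFst (fpFst y x) (fpFst y u))) := fun h =>
    (repByAlgSpWith_precomp_equiv he).2 (repByAlgSpWith_fpFst _ (repByAlgSpWith_fpFst y h))
  exact repByAlgSp_of_setoid_cover_etale hH thin G (BasedFunctor.comp e (fpFst (fpFst y x) (fpFst y u))) (hb h1) (hb h3)

theorem isAlgStack_etale_of_atlas (hX : Stk.IsStack (QuotSh.J Scheme.etalePrecoverage S) 𝒳)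
    (hU : HasAtlas (AlgSp.LocP @Smooth) 𝒳) : IsAlgStack Scheme.etalePrecoverage 𝒳 := by
  obtain ⟨U, u, hu, hu'⟩ := hU
  exact ⟨hX, repByAlgSp1_diag_etale hX (W := ⟨_, AlgSp.IsAlgSpace.yon_obj U⟩) (BasedFunctor.comp (toOverCat U) u)
    ((repByAlgSpWith_precomp_equiv (isEquivOver_toOverCat U)).2 hu)
    ((repByAlgSpWith_precomp_equiv (isEquivOver_toOverCat U)).2 hu'), ⟨U, u, hu, hu'⟩⟩

end Groth.Agent.AlgSt88
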