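import Groth.Agent.AlgSt88.FibreMono
import Groth.Agent.AlgSt88.DiagLFT2
import Groth.Agent.AlgSt88.EquivCrit
import Groth.Agent.AlgSt88.BootstrapEtale
import Groth.Agent.Fib44.Yoneda
import Groth.Prelude

/-! A stack whose field valued points have no automorphisms has no automorphisms. -/

set_option autoImplicit false
set_option linter.style.haveILetI false
set_option backward.isDefEq.respectTransparency false
set_option backward.isDefEq.respectTransparency.types false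
universe u

open CategoryTheory CategoryTheory.Limits AlgebraicGeometry Opposite AlgSt FibCat

namespace Groth.Agent.AlgSt88

variable {S : Scheme.{u}} {𝒳 : AlgSt.Cat S}

/-- Trivial automorphisms at field valued points. -/
def PtAutTrivial (𝒳 : AlgSt.Cat S) : Prop :=
  ∀ (K : Type u) [Field K] (sk : Spec (CommRingCat.of K) ⟶ S) (x : overCat (Over.mk sk) ⥤ᵇ 𝒳) (T : Over (Over.mk sk))
    (a : x.obj T ⟶ x.obj T), 𝒳.p.map a = 𝟙 _ → a = 𝟙 _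

/-- The test functor for automorphisms of an object. -/
abbrev autTest {T : Over S} (xb : overCat T ⥤ᵇ 𝒳) : overCat T ⥤ᵇ fp (toSelf 𝒳) (toSelf 𝒳) :=
  BasedFunctor.comp xb (diag (toSelf 𝒳))

theorem exists_fp_hom (hX : IsFibGrpd 𝒳.p) {T : Over S} (xb : overCat T ⥤ᵇ 𝒳)
    (o o' : (fp (autTest xb) (diag (toSelf 𝒳))).obj) (φ : o.obj.fst ⟶ o'.obj.fst)
    (htriv : ∀ a : xb.obj o.obj.fst ⟶ xb.obj o.obj.fst, 𝒳.p.map a = 𝟙 _ → a = 𝟙 _)
    (htriv' : ∀ a : xb.obj o'.obj.fst ⟶ xb.obj o'.obj.fst, 𝒳.p.map a = 𝟙 _ → a = 𝟙 _) :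
    ∃ k : o ⟶ o', k.hom.fst = φ := by
  let αI := (fpFst (toSelf 𝒳) (toSelf 𝒳)).toFunctor.mapIso o.obj.iso
  let βI := (fpSnd (toSelf 𝒳) (toSelf 𝒳)).toFunctor.mapIso o.obj.iso
  let αI' := (fpFst (toSelf 𝒳) (toSelf 𝒳)).toFunctor.mapIso o'.obj.iso
  let βI' := (fpSnd (toSelf 𝒳) (toSelf 𝒳)).toFunctor.mapIso o'.obj.iso
  have h₁ : βI.hom ≫ αI.inv = 𝟙 _ := htriv _ (by
    have hw : 𝒳.p.map αI.hom ≫ 𝟙 _ = 𝟙 _ ≫ 𝒳.p.map βI.hom := o.obj.iso.hom.hom.w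
    rw [Category.comp_id, Category.id_comp] at hw
    rw [Functor.map_comp, ← hw, ← Functor.map_comp, Iso.hom_inv_id, CategoryTheory.Functor.map_id]; rfl)
  have h₂ : βI'.hom ≫ αI'.inv = 𝟙 _ := htriv' _ (by
    have hw : 𝒳.p.map αI'.hom ≫ 𝟙 _ = 𝟙 _ ≫ 𝒳.p.map βI'.hom := o'.obj.iso.hom.hom.w
    rw [Category.comp_id, Category.id_comp] at hw
    rw [Functor.map_comp, ← hw, ← Functor.map_comp, Iso.hom_inv_id, CategoryTheory.Functor.map_id]; rfl)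
  refine ⟨fpHom φ (αI.inv ≫ xb.map φ ≫ αI'.hom) (fpHom_ext ?_ ?_), rfl⟩
  · show xb.map φ ≫ αI'.hom = αI.hom ≫ αI.inv ≫ xb.map φ ≫ αI'.hom
    rw [Iso.hom_inv_id_assoc]
  · show xb.map φ ≫ βI'.hom = βI.hom ≫ αI.inv ≫ xb.map φ ≫ αI'.hom
    rw [reassoc_of% h₁, (Iso.comp_inv_eq _).1 h₂, Category.id_comp]

theorem uliftYonedaEquiv_symm_comp {G : AlgSp.Sp S} {T : Over S} (Φ : ofSp G ⥤ᵇ overCat T) {W : Over S}
    (s : G.obj.obj (op W)) (m : W ⟶ T) :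
    (AlgSp.J S).uliftYonedaEquiv.symm s ≫ spMapOfOver Φ = (AlgSp.yon S).map m ↔ secHom Φ ⟨W, s⟩ = m := by
  rw [← (AlgSp.J S).uliftYonedaEquiv.injective.eq_iff, GrothendieckTopology.uliftYonedaEquiv_comp,
    Equiv.apply_symm_apply]
  change (⟨secHom Φ ⟨W, s⟩⟩ : ULift (W ⟶ T)) = ⟨𝟙 W ≫ m⟩ ↔ _
  rw [Category.id_comp]
  exact ⟨fun h => congrArg ULift.down h, fun h => congrArg ULift.up h⟩

theorem aut_eq_id_of_pt (hX : IsFibGrpd 𝒳.p) (hd : RepByAlgSpWith (AlgSp.LocP @LocallyOfFiniteType) (diag (toSelf 𝒳)))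
    (htriv : PtAutTrivial 𝒳) (x : 𝒳.obj) (a : x ⟶ x) (ha : 𝒳.p.map a = 𝟙 _) : a = 𝟙 x := by
  haveI := Fib44.isFibered_of_isFibGrpd 𝒳.p (h := hX)
  obtain ⟨xb, e₀, he₀, -⟩ := Fib44.exists_ofObj (𝒳 := 𝒳) (x := x) rfl
  let T := 𝒳.p.obj x
  obtain ⟨G, e, he, hP⟩ := hd T (autTest xb)
  let F := fp (autTest xb) (diag (toSelf 𝒳))
  let Φ := BasedFunctor.comp e (fpFst (autTest xb) (diag (toSelf 𝒳)))
  have hE := isEquivData_of_isEquivOver he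
  have hsub : FibSubsingleton (spMapOfOver Φ) := by
    intro K _ str t W r u v hu hv
    obtain ⟨s, rfl⟩ := (AlgSp.J S).uliftYonedaEquiv.symm.surjective u
    obtain ⟨s', rfl⟩ := (AlgSp.J S).uliftYonedaEquiv.symm.surjective v
    rw [uliftYonedaEquiv_symm_comp] at hu hv
    have hb : ∀ s : G.obj.obj.obj (op W), (e.obj ⟨W, s⟩).obj.fst.left = W := fun s => Φ.w_obj ⟨W, s⟩
    have htr : ∀ (o : (F).obj) (ho : o.obj.fst.left = W), eqToHom ho.symm ≫ o.obj.fst.hom = r ≫ t →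
        ∀ c : xb.obj o.obj.fst ⟶ xb.obj o.obj.fst, 𝒳.p.map c = 𝟙 _ → c = 𝟙 _ := by
      intro o ho hf c hc
      obtain ⟨⟨f, w, i⟩, hi⟩ := o
      obtain ⟨fl, ⟨⟨⟩⟩, fh⟩ := f
      change fl = W at ho
      subst ho
      have hfh : fh = r ≫ t := by simpa using hf
      subst hfh
      exact htriv K str (BasedFunctor.comp (overMap t) xb) (Over.mk r) c hc
    let φ : (e.obj ⟨W, s⟩).obj.fst ⟶ (e.obj ⟨W, s'⟩).obj.fst :=
      Over.homMk (eqToHom ((hb s).trans (hb s').symm)) (by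
        calc eqToHom ((hb s).trans (hb s').symm) ≫ (e.obj ⟨W, s'⟩).obj.fst.hom
            = eqToHom (hb s) ≫ secHom Φ ⟨W, s'⟩ := by simp [secHom, Φ]; rfl
          _ = eqToHom (hb s) ≫ secHom Φ ⟨W, s⟩ := by rw [hu, hv]
          _ = (e.obj ⟨W, s⟩).obj.fst.hom := by simp [secHom, Φ]; rfl)
    obtain ⟨k, hk⟩ := exists_fp_hom hX xb (e.obj ⟨W, s⟩) (e.obj ⟨W, s'⟩) φ
      (htr _ (hb s) hu) (htr _ (hb s') hv)
    obtain ⟨ψ, hψ⟩ := hE.full k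
    have h1 : ψ.hom = 𝟙 W := by
      have h2 : (e.map ψ).hom.fst.left = eqToHom (hb s) ≫ ψ.hom ≫ eqToHom (hb s').symm :=
        Functor.congr_hom Φ.w ψ
      rw [hψ, hk] at h2
      change eqToHom ((hb s).trans (hb s').symm) = _ at h2
      have h3 := congrArg (fun z => eqToHom (hb s).symm ≫ z ≫ eqToHom (hb s')) h2
      simpa using h3.symm
    have h4 := ψ.map_sec
    rw [h1] at h4
    exact congrArg _ (((congrArg (fun z => z s') (G.obj.obj.map_id (op W))).symm.trans h4).symm)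
  have hm : Mono (spMapOfOver Φ) := mono_of_fibSubsingleton G.property hP hsub
  let f₀ : (overCat T).obj := Over.mk (𝟙 T)
  let xx := xb.obj f₀
  let c : xx ⟶ xx := e₀.hom ≫ a ≫ e₀.inv
  have hc : 𝒳.p.map c = 𝟙 _ := by
    show 𝒳.p.map (e₀.hom ≫ a ≫ e₀.inv) = _
    rw [Functor.map_comp, Functor.map_comp, ha, Category.id_comp, ← Functor.map_comp, Iso.hom_inv_id,
      CategoryTheory.Functor.map_id]
  have hciso : IsIso c := by
    haveI : IsIso (𝒳.p.map c) := by rw [hc]; infer_instance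
    exact fg_isIso_of_isIso_map hX c
  let d := diag (toSelf 𝒳)
  let i₂ : (autTest xb).obj f₀ ≅ d.obj xx :=
    fpObjIso (Iso.refl _) (asIso c) (by
      show (toSelf 𝒳).map (𝟙 _) ≫ 𝟙 _ = 𝟙 _ ≫ 𝒳.p.map c
      rw [hc, Category.comp_id, Category.id_comp, CategoryTheory.Functor.map_id]; rfl)
  let o₁ : (F).obj := ⟨⟨f₀, xx, Iso.refl _⟩, IsHomLift.id ((autTest xb).w_obj f₀)⟩
  let o₂ : (F).obj := ⟨⟨f₀, xx, i₂⟩, by
    refine fp_isHomLift (g := 𝟙 ((overCat T).p.obj f₀)) _ ?_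
    exact IsHomLift.id (xb.w_obj f₀)⟩
  obtain ⟨w₁, j₁, hj₁⟩ := hE.essSurj o₁
  obtain ⟨w₂, j₂, hj₂⟩ := hE.essSurj o₂
  have hv : ∀ (o : (F).obj) (ho : o.obj.fst = f₀) (w : (ofSp G.obj).obj) (j : e.obj w ≅ o),
      F.p.IsHomLift (𝟙 (F.p.obj o)) j.hom → ∃ (hT : w.base = T), secHom Φ w = eqToHom hT := by
    intro o ho w j hj
    have hbase : (e.obj w).obj.fst.left = w.base := Φ.w_obj w
    have h2 : F.p.obj (e.obj w) = F.p.obj o := IsHomLift.domain_eq F.p (𝟙 (F.p.obj o)) j.hom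
    have h3 : o.obj.fst.left = T := congrArg (fun z : Over T => z.left) ho
    refine ⟨hbase.symm.trans (h2.trans h3), ?_⟩
    have h4 : j.hom.hom.fst.left = eqToHom h2 ≫ 𝟙 _ ≫ eqToHom rfl := IsHomLift.fac' F.p (𝟙 (F.p.obj o)) j.hom
    have h5 : j.hom.hom.fst.left ≫ o.obj.fst.hom = (e.obj w).obj.fst.hom := Over.w j.hom.hom.fst
    rw [h4] at h5
    show eqToHom hbase.symm ≫ (e.obj w).obj.fst.hom = _
    rw [← h5]
    obtain ⟨⟨of, ow, oi⟩, _⟩ := o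
    subst ho
    simp; rfl
  obtain ⟨hb₁, hs₁⟩ := hv o₁ rfl w₁ j₁ hj₁
  obtain ⟨hb₂, hs₂⟩ := hv o₂ rfl w₂ j₂ hj₂
  obtain ⟨b₁, s₁⟩ := w₁
  obtain ⟨b₂, s₂⟩ := w₂
  change b₁ = T at hb₁
  change b₂ = T at hb₂
  subst hb₁ hb₂
  have hs : s₁ = s₂ := (AlgSp.J S).uliftYonedaEquiv.symm.injective ((cancel_mono (spMapOfOver Φ)).1
    (((uliftYonedaEquiv_symm_comp Φ s₁ (𝟙 T)).2 hs₁).trans ((uliftYonedaEquiv_symm_comp Φ s₂ (𝟙 T)).2 hs₂).symm))
  subst hs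
  let k : o₁ ⟶ o₂ := j₁.inv ≫ j₂.hom
  have hkl : F.p.IsHomLift (𝟙 T) k := by
    haveI : F.p.IsHomLift (𝟙 T) j₁.hom := hj₁
    haveI : F.p.IsHomLift (𝟙 T) j₁.inv := IsHomLift.lift_id_inv _ _ j₁
    haveI : F.p.IsHomLift (𝟙 T) j₂.hom := hj₂
    exact IsHomLift.comp_of_lift_id (p := F.p) T j₁.inv j₂.hom
  have hk : k.hom.fst = 𝟙 f₀ := Over.OverMorphism.ext ((IsHomLift.fac' F.p (𝟙 T) k).trans (by simp; rfl))
  have hw₁ : xb.map k.hom.fst ≫ 𝟙 xx = 𝟙 xx ≫ k.hom.snd := congrArg (fun t => t.hom.fst) k.hom.w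
  have hw₂ : xb.map k.hom.fst ≫ c = 𝟙 xx ≫ k.hom.snd := congrArg (fun t => t.hom.snd) k.hom.w
  rw [hk, xb.map_id] at hw₁ hw₂
  have hc1 : c = 𝟙 xx := (Category.id_comp c).symm.trans ((hw₂.trans hw₁.symm).trans (Category.id_comp _))
  have : a = e₀.inv ≫ c ≫ e₀.hom := by simp [c]
  rw [this, hc1, Category.id_comp, Iso.inv_hom_id]

theorem repByAlgSp_iff_ptAutTrivial (h𝒳 : IsAlgStack Scheme.etalePrecoverage 𝒳) :
    RepByAlgSp 𝒳 ↔ ∀ (k : Type u) [Field k] (sk : Spec (CommRingCat.of k) ⟶ S)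
        (x : overCat (Over.mk sk) ⥤ᵇ 𝒳) (T : Over (Over.mk sk)), Subsingleton (Gerb.AutO (x.obj T)) := by
  constructor
  · intro h k _ sk x T
    have := (isFibSetoid_of_repByAlgSp h𝒳.isStack.1 h).2 (𝒳.p.obj (x.obj T))
    exact ⟨fun α β => Iso.ext (Subsingleton.elim _ _)⟩
  · intro h
    have htriv : PtAutTrivial 𝒳 := by
      intro K _ sk x T a ha
      haveI : IsIso (𝒳.p.map a) := by rw [ha]; infer_instance
      haveI := fg_isIso_of_isIso_map h𝒳.isStack.1 a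
      have h1 : 𝒳.p.IsHomLift (𝟙 (𝒳.p.obj (x.obj T))) a :=
        IsHomLift.of_fac' _ _ _ rfl rfl (by simp [ha])
      haveI h1' : 𝒳.p.IsHomLift (𝟙 (𝒳.p.obj (x.obj T))) (asIso a).hom := h1
      have h2 : 𝒳.p.IsHomLift (𝟙 (𝒳.p.obj (x.obj T))) (inv a) :=
        IsHomLift.lift_id_inv 𝒳.p (𝒳.p.obj (x.obj T)) (asIso a)
      let α : Gerb.AutO (x.obj T) :=
        { hom := ⟨a, h1⟩, inv := ⟨inv a, h2⟩, hom_inv_id := Subtype.ext (IsIso.hom_inv_id a),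
          inv_hom_id := Subtype.ext (IsIso.inv_hom_id a) }
      have := h K sk x T
      exact congrArg (fun β : Gerb.AutO (x.obj T) => β.hom.1) (Subsingleton.elim α 1)
    have thin : ∀ {x y : 𝒳.obj} (f g : x ⟶ y), 𝒳.p.map f = 𝒳.p.map g → f = g := by
      intro x y f g hfg
      obtain ⟨χ, h1, h2⟩ := fg_exists_fac h𝒳.isStack.1 g f (𝟙 _) ((Category.id_comp _).trans hfg.symm)
      rw [← h2, aut_eq_id_of_pt h𝒳.isStack.1 (lft_diag_toSelf h𝒳) htriv x χ h1, Category.id_comp]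
    obtain ⟨U, u, hu, hu'⟩ := h𝒳.atlas
    exact repByAlgSp_of_setoid_cover_etale h𝒳.isStack thin ⟨_, AlgSp.IsAlgSpace.yon_obj U⟩
      (BasedFunctor.comp (toOverCat U) u)
      ((repByAlgSpWith_precomp_equiv (isEquivOver_toOverCat U)).2 hu)
      ((repByAlgSpWith_precomp_equiv (isEquivOver_toOverCat U)).2 hu')

end Groth.Agent.AlgSt88
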