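import Groth.Agent.AlgSt88.Fp
import Groth.Agent.AlgSt88.EquivCrit

/-! Equivalences of 2-fibre products: change of factors, pasting. -/

set_option autoImplicit false
set_option backward.isDefEq.respectTransparency false
set_option backward.isDefEq.respectTransparency.types false
universe v₆ u₆ v₅ u₅ v₄ u₄ v₃ u₃ v₂ u₂ v u

open CategoryTheory CategoryTheory.Limits FibCat

namespace Groth.Agent.AlgSt88

variable {C : Type u} [Category.{v} C] {𝒳 : BasedCategory.{v₂, u₂} C} {𝒴 : BasedCategory.{v₃, u₃} C}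
  {𝒮 : BasedCategory.{v₄, u₄} C} {𝒲 : BasedCategory.{v₅, u₅} C} {𝒵 : BasedCategory.{v₆, u₆} C}

theorem fpHom_ext {F : 𝒳 ⥤ᵇ 𝒮} {G : 𝒴 ⥤ᵇ 𝒮} {x y : (fp F G).obj} {f g : x ⟶ y}
    (h₁ : f.hom.fst = g.hom.fst) (h₂ : f.hom.snd = g.hom.snd) : f = g :=
  ObjectProperty.hom_ext _ (CategoricalPullback.hom_ext h₁ h₂)

/-- The morphism of a fibre product with given components. -/
def fpHom {F : 𝒳 ⥤ᵇ 𝒮} {G : 𝒴 ⥤ᵇ 𝒮} {x y : (fp F G).obj} (a : x.obj.fst ⟶ y.obj.fst)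
    (b : x.obj.snd ⟶ y.obj.snd) (w : F.map a ≫ y.obj.iso.hom = x.obj.iso.hom ≫ G.map b) : x ⟶ y :=
  ObjectProperty.homMk { fst := a, snd := b, w := w }

/-- The isomorphism of a fibre product with given components. -/
def fpObjIso {F : 𝒳 ⥤ᵇ 𝒮} {G : 𝒴 ⥤ᵇ 𝒮} {x y : (fp F G).obj} (a : x.obj.fst ≅ y.obj.fst)
    (b : x.obj.snd ≅ y.obj.snd) (w : F.map a.hom ≫ y.obj.iso.hom = x.obj.iso.hom ≫ G.map b.hom) : x ≅ y :=
  (fpProp F G).isoMk (CategoricalPullback.mkIso a b w)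

theorem fp_isHomLift {F : 𝒳 ⥤ᵇ 𝒮} {G : 𝒴 ⥤ᵇ 𝒮} {x y : (fp F G).obj} {R T : C} {g : R ⟶ T} (φ : x ⟶ y)
    (h : 𝒳.p.IsHomLift g φ.hom.fst) : (fp F G).p.IsHomLift g φ :=
  IsHomLift.of_fac' (fp F G).p g φ (IsHomLift.domain_eq 𝒳.p g φ.hom.fst)
    (IsHomLift.codomain_eq 𝒳.p g φ.hom.fst) (IsHomLift.fac' 𝒳.p g φ.hom.fst)

section MapFst

variable (F : 𝒳 ⥤ᵇ 𝒮) (G : 𝒴 ⥤ᵇ 𝒮) (a : 𝒲 ⥤ᵇ 𝒳)

/-- Change of the first factor. -/
def fpMapFst : fp (BasedFunctor.comp a F) G ⥤ᵇ fp F G :=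
  fpLift (BasedFunctor.comp (fpFst (BasedFunctor.comp a F) G) a) (fpSnd (BasedFunctor.comp a F) G)
    (fpIso (BasedFunctor.comp a F) G)

theorem isEquivOver_fpMapFst (ha : IsEquivOver a) : IsEquivOver (fpMapFst F G a) := by
  have d := isEquivData_of_isEquivOver ha
  refine IsEquivData.isEquivOver ⟨?_, ?_, ?_⟩
  · intro x y f g h
    exact fpHom_ext (d.faithful _ _ (congrArg (fun t => t.hom.fst) h)) (congrArg (fun t => t.hom.snd) h)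
  · intro x y g
    obtain ⟨u, hu⟩ := d.full g.hom.fst
    refine ⟨fpHom u g.hom.snd ?_, fpHom_ext hu rfl⟩
    change F.map (a.map u) ≫ _ = _
    rw [hu]
    exact g.hom.w
  · intro z
    obtain ⟨w, ε, hε⟩ := d.essSurj z.obj.fst
    haveI := hε
    have hp : 𝒲.p.obj w = 𝒳.p.obj z.obj.fst :=
      (a.w_obj w).symm.trans (IsHomLift.domain_eq 𝒳.p (𝟙 (𝒳.p.obj z.obj.fst)) ε.hom)
    haveI hz : 𝒮.p.IsHomLift (𝟙 (𝒳.p.obj z.obj.fst)) z.obj.iso.hom := z.property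
    refine ⟨⟨⟨w, z.obj.snd, F.toFunctor.mapIso ε ≪≫ z.obj.iso⟩, ?_⟩,
      fpObjIso ε (Iso.refl _) (by
        change F.map ε.hom ≫ z.obj.iso.hom = (F.map ε.hom ≫ z.obj.iso.hom) ≫ G.map (𝟙 _)
        rw [G.map_id, Category.comp_id]), fp_isHomLift _ hε⟩
    change 𝒮.p.IsHomLift (𝟙 (𝒲.p.obj w)) (F.map ε.hom ≫ z.obj.iso.hom)
    rw [hp]
    haveI : 𝒮.p.IsHomLift (𝟙 (𝒳.p.obj z.obj.fst)) (F.map ε.hom) := inferInstance
    infer_instance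

end MapFst

section Paste

variable (a : 𝒲 ⥤ᵇ 𝒵) (g : 𝒵 ⥤ᵇ 𝒮) (f : 𝒳 ⥤ᵇ 𝒮)

/-- Pasting of 2-fibre products. -/
def fpPaste : fp a (fpFst g f) ⥤ᵇ fp (BasedFunctor.comp a g) f :=
  fpLift (fpFst a (fpFst g f)) (BasedFunctor.comp (fpSnd a (fpFst g f)) (fpSnd g f))
    (bRight (fpIso a (fpFst g f)) g ≪≫ bLeft (fpSnd a (fpFst g f)) (fpIso g f))

theorem fpPaste_fst : BasedFunctor.comp (fpPaste a g f) (fpFst (BasedFunctor.comp a g) f) = fpFst a (fpFst g f) :=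
  rfl

theorem isEquivOver_fpPaste : IsEquivOver (fpPaste a g f) := by
  have key : ∀ {x y : (fp a (fpFst g f)).obj} (u : x ⟶ y),
      a.map u.hom.fst ≫ y.obj.iso.hom = x.obj.iso.hom ≫ u.hom.snd.hom.fst := fun u => u.hom.w
  refine IsEquivData.isEquivOver ⟨?_, ?_, ?_⟩
  · intro x y u u' h
    have h1 : u.hom.fst = u'.hom.fst := congrArg (fun t => t.hom.fst) h
    have h2 : u.hom.snd.hom.snd = u'.hom.snd.hom.snd := congrArg (fun t => t.hom.snd) h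
    have k := key u
    rw [h1, key u', cancel_epi] at k
    exact fpHom_ext h1 (fpHom_ext k.symm h2)
  · intro x y v
    let u : x.obj.snd.obj.fst ⟶ y.obj.snd.obj.fst := x.obj.iso.inv ≫ a.map v.hom.fst ≫ y.obj.iso.hom
    have w : g.map (a.map v.hom.fst) ≫ (g.map y.obj.iso.hom ≫ y.obj.snd.obj.iso.hom) =
        (g.map x.obj.iso.hom ≫ x.obj.snd.obj.iso.hom) ≫ f.map v.hom.snd := v.hom.w
    refine ⟨fpHom v.hom.fst (fpHom u v.hom.snd ?_) ?_, fpHom_ext rfl rfl⟩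
    · refine (cancel_epi (g.map x.obj.iso.hom)).1 ?_
      calc g.map x.obj.iso.hom ≫ g.map u ≫ y.obj.snd.obj.iso.hom
          = g.map (a.map v.hom.fst) ≫ (g.map y.obj.iso.hom ≫ y.obj.snd.obj.iso.hom) := by
            rw [← Category.assoc, ← g.map_comp, Iso.hom_inv_id_assoc, g.map_comp, Category.assoc]
        _ = g.map x.obj.iso.hom ≫ x.obj.snd.obj.iso.hom ≫ f.map v.hom.snd := w.trans (Category.assoc _ _ _)
    · change a.map v.hom.fst ≫ y.obj.iso.hom = x.obj.iso.hom ≫ u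
      simp [u]
  · intro z
    have hp : 𝒵.p.obj (a.obj z.obj.fst) = 𝒲.p.obj z.obj.fst := a.w_obj _
    refine ⟨⟨⟨z.obj.fst, ⟨⟨a.obj z.obj.fst, z.obj.snd, z.obj.iso⟩, ?_⟩, Iso.refl _⟩, ?_⟩,
      fpObjIso (Iso.refl _) (Iso.refl _) (by
        change g.map (a.map (𝟙 z.obj.fst)) ≫ z.obj.iso.hom =
          (g.map (𝟙 (a.obj z.obj.fst)) ≫ z.obj.iso.hom) ≫ f.map (𝟙 _)
        simp), fp_isHomLift _ (IsHomLift.id rfl)⟩
    · change 𝒮.p.IsHomLift (𝟙 (𝒵.p.obj (a.obj z.obj.fst))) z.obj.iso.hom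
      rw [hp]
      exact z.property
    · change 𝒵.p.IsHomLift (𝟙 (𝒲.p.obj z.obj.fst)) (𝟙 (a.obj z.obj.fst))
      exact IsHomLift.id hp

end Paste

section Id

/-- Base change along an equivalence is an equivalence. -/
theorem isEquivOver_fpFst (F : 𝒳 ⥤ᵇ 𝒮) {G : 𝒴 ⥤ᵇ 𝒮} (hG : IsEquivOver G) : IsEquivOver (fpFst F G) := by
  have d := isEquivData_of_isEquivOver hG
  refine IsEquivData.isEquivOver ⟨?_, ?_, ?_⟩
  · intro x y u u' h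
    have h1 : u.hom.fst = u'.hom.fst := h
    refine fpHom_ext h1 (d.faithful _ _ ((cancel_epi x.obj.iso.hom).1 ?_))
    rw [← u.hom.w, ← u'.hom.w, h1]
  · intro x y v
    obtain ⟨t, ht⟩ := d.full (x.obj.iso.inv ≫ F.map v ≫ y.obj.iso.hom)
    exact ⟨fpHom v t (by
      change F.map v ≫ _ = _
      rw [ht, Iso.hom_inv_id_assoc]), rfl⟩
  · intro x
    obtain ⟨y, ε, hε⟩ := d.essSurj (F.obj x)
    refine ⟨⟨⟨x, y, ε.symm⟩, ?_⟩, Iso.refl _, IsHomLift.id rfl⟩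
    change 𝒮.p.IsHomLift (𝟙 (𝒳.p.obj x)) ε.inv
    haveI := hε
    rw [← F.w_obj x]
    exact IsHomLift.lift_id_inv 𝒮.p (𝒮.p.obj (F.obj x)) ε

end Id

end Groth.Agent.AlgSt88
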