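import Groth.Prelude.Def_FibCat2
import Groth.Agent.AlgSt88.FpMap

/-! Categories fibred in groupoids: basic lemmas, 2-Yoneda, fibre products. -/

set_option autoImplicit false
set_option backward.isDefEq.respectTransparency false
set_option backward.isDefEq.respectTransparency.types false
universe v₄ u₄ v₃ u₃ v₂ u₂ v u

open CategoryTheory CategoryTheory.Limits FibCat

namespace Groth.Agent.AlgSt88

variable {C : Type u} [Category.{v} C] {𝒳 : BasedCategory.{v₂, u₂} C} {𝒴 : BasedCategory.{v₃, u₃} C}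
  {𝒮 : BasedCategory.{v₄, u₄} C}

theorem p_map_eq (F : 𝒳 ⥤ᵇ 𝒴) {x x' : 𝒳.obj} (φ : x ⟶ x') :
    𝒴.p.map (F.map φ) = eqToHom (F.w_obj x) ≫ 𝒳.p.map φ ≫ eqToHom (F.w_obj x').symm := by
  simpa using Functor.congr_hom F.w φ

theorem map_eqToHom_lift {x : 𝒳.obj} {R : C} (h : 𝒳.p.obj x = R) : 𝒳.p.IsHomLift (𝟙 R) (𝟙 x) :=
  IsHomLift.id h

theorem fg_hom_ext (h : IsFibGrpd 𝒳.p) {z y x : 𝒳.obj} {a b : z ⟶ y} (φ : y ⟶ x)
    (hp : 𝒳.p.map a = 𝒳.p.map b) (hc : a ≫ φ = b ≫ φ) : a = b := by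
  haveI := h.isStronglyCartesian φ
  haveI : 𝒳.p.IsHomLift (𝒳.p.map a) b := by rw [hp]; exact IsHomLift.map _ _
  exact Functor.IsStronglyCartesian.ext 𝒳.p (𝒳.p.map φ) φ (𝒳.p.map a) (ψ := a) (ψ' := b) hc

theorem fg_exists_fac (h : IsFibGrpd 𝒳.p) {z y x : 𝒳.obj} (φ : y ⟶ x) (ψ : z ⟶ x)
    (g : 𝒳.p.obj z ⟶ 𝒳.p.obj y) (hg : g ≫ 𝒳.p.map φ = 𝒳.p.map ψ) :
    ∃ χ : z ⟶ y, 𝒳.p.map χ = g ∧ χ ≫ φ = ψ := by
  haveI := h.isStronglyCartesian φ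
  haveI : 𝒳.p.IsHomLift (g ≫ 𝒳.p.map φ) ψ := by rw [hg]; exact IsHomLift.map _ _
  obtain ⟨χ, ⟨h1, h2⟩, -⟩ := Functor.IsStronglyCartesian.universal_property 𝒳.p (𝒳.p.map φ) φ g _ rfl ψ
  exact ⟨χ, by simpa using IsHomLift.fac' 𝒳.p g χ, h2⟩

/-- Existence of a pullback with prescribed source. -/
theorem fg_exists_lift (h : IsFibGrpd 𝒳.p) {x : 𝒳.obj} {V : C} (f : V ⟶ 𝒳.p.obj x) :
    ∃ (y : 𝒳.obj) (hy : 𝒳.p.obj y = V) (φ : y ⟶ x), 𝒳.p.map φ = eqToHom hy ≫ f := by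
  obtain ⟨y, φ, hφ⟩ := h.exists_lift f
  refine ⟨y, IsHomLift.domain_eq 𝒳.p f φ, φ, ?_⟩
  simpa using IsHomLift.fac' 𝒳.p f φ

theorem fg_isIso_of_isIso_map (h : IsFibGrpd 𝒳.p) {y x : 𝒳.obj} (φ : y ⟶ x) [IsIso (𝒳.p.map φ)] : IsIso φ := by
  obtain ⟨χ, h1, h2⟩ := fg_exists_fac h φ (𝟙 x) (inv (𝒳.p.map φ)) (by simp)
  refine ⟨χ, fg_hom_ext h φ (by simp [h1]) (by rw [Category.assoc, h2]; simp), h2⟩

theorem fg_isIso_of_lift_id (h : IsFibGrpd 𝒳.p) {y x : 𝒳.obj} (φ : y ⟶ x) (U : C)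
    [𝒳.p.IsHomLift (𝟙 U) φ] : IsIso φ := by
  haveI : IsIso (𝒳.p.map φ) := by rw [IsHomLift.fac' 𝒳.p (𝟙 U) φ]; infer_instance
  exact fg_isIso_of_isIso_map h φ

section Yoneda

variable (h : IsFibGrpd 𝒳.p) {U : C} (x : 𝒳.obj) (hx : 𝒳.p.obj x = U)

/-- The functor from a slice classifying an object. -/
noncomputable def classify : overCat U ⥤ᵇ 𝒳 :=
  letI o : Over U → 𝒳.obj := fun g => (fg_exists_lift h (g.hom ≫ eqToHom hx.symm)).choose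
  have ho : ∀ g, 𝒳.p.obj (o g) = g.left := fun g =>
    (fg_exists_lift h (g.hom ≫ eqToHom hx.symm)).choose_spec.choose
  letI φ : ∀ g, o g ⟶ x := fun g => (fg_exists_lift h (g.hom ≫ eqToHom hx.symm)).choose_spec.choose_spec.choose
  have hφ : ∀ g, 𝒳.p.map (φ g) = eqToHom (ho g) ≫ g.hom ≫ eqToHom hx.symm := fun g =>
    (fg_exists_lift h (g.hom ≫ eqToHom hx.symm)).choose_spec.choose_spec.choose_spec
  letI m : ∀ {g g' : Over U}, (g ⟶ g') → (o g ⟶ o g') := fun {g g'} t =>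
    (fg_exists_fac h (φ g') (φ g) (eqToHom (ho g) ≫ t.left ≫ eqToHom (ho g').symm) (by simp [hφ])).choose
  have hm : ∀ {g g' : Over U} (t : g ⟶ g'),
      𝒳.p.map (m t) = eqToHom (ho g) ≫ t.left ≫ eqToHom (ho g').symm ∧ m t ≫ φ g' = φ g := fun {g g'} t =>
    (fg_exists_fac h (φ g') (φ g) (eqToHom (ho g) ≫ t.left ≫ eqToHom (ho g').symm) (by simp [hφ])).choose_spec
  { toFunctor :=
      { obj := o
        map := m
        map_id := fun g => fg_hom_ext h (φ g) (by rw [(hm _).1, Over.id_left, 𝒳.p.map_id]; simp) (by simp [(hm _).2])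
        map_comp := fun {a b c} s t => fg_hom_ext h (φ c)
          (by rw [(hm _).1, Over.comp_left, 𝒳.p.map_comp, (hm _).1, (hm _).1]; simp) (by simp [(hm _).2]) }
    w := Functor.ext ho (fun g g' t => (hm t).1) }

/-- The classifying functor sends the identity to the object. -/
theorem classify_mk_id : ∃ e : (classify h x hx).obj (Over.mk (𝟙 U)) ≅ x, 𝒳.p.IsHomLift (𝟙 U) e.hom := by
  let φ := (fg_exists_lift h ((Over.mk (𝟙 U)).hom ≫ eqToHom hx.symm)).choose_spec.choose_spec.choose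
  have hd := (fg_exists_lift h ((Over.mk (𝟙 U)).hom ≫ eqToHom hx.symm)).choose_spec.choose
  have hφ := (fg_exists_lift h ((Over.mk (𝟙 U)).hom ≫ eqToHom hx.symm)).choose_spec.choose_spec.choose_spec
  haveI : 𝒳.p.IsHomLift (𝟙 U) φ := IsHomLift.of_fac' 𝒳.p (𝟙 U) φ hd hx (by simpa [φ] using hφ)
  haveI := fg_isIso_of_lift_id h φ U
  exact ⟨@asIso _ _ _ _ φ this, by assumption⟩

end Yoneda

section EquivIso

variable {U : C}

theorem overHom_mk_id (g : Over U) : ∃ t : g ⟶ Over.mk (𝟙 U), t.left = g.hom :=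
  ⟨Over.homMk g.hom, rfl⟩

/-- Two functors out of a slice whose values at the identity are isomorphic over it are isomorphic. -/
theorem nonempty_iso_of_app_id (h : IsFibGrpd 𝒳.p) {y y' : overCat U ⥤ᵇ 𝒳}
    (e : y.obj (Over.mk (𝟙 U)) ≅ y'.obj (Over.mk (𝟙 U))) (he : 𝒳.p.IsHomLift (𝟙 U) e.hom) :
    Nonempty (y ≅ y') := by
  let t : ∀ g : Over U, g ⟶ Over.mk (𝟙 U) := fun g => Over.homMk g.hom
  have hy : ∀ (y : overCat U ⥤ᵇ 𝒳) (g : Over U), 𝒳.p.map (y.map (t g)) =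
      eqToHom (y.w_obj g) ≫ g.hom ≫ eqToHom (y.w_obj (Over.mk (𝟙 U))).symm := fun y g => p_map_eq y (t g)
  have hpe : 𝒳.p.map e.hom = eqToHom (y.w_obj _) ≫ 𝟙 U ≫ eqToHom (y'.w_obj (Over.mk (𝟙 U))).symm := by
    haveI := he
    exact IsHomLift.fac' 𝒳.p (𝟙 U) e.hom
  have ex : ∀ g, ∃ χ : y.obj g ⟶ y'.obj g,
      𝒳.p.map χ = eqToHom (y.w_obj g) ≫ eqToHom (y'.w_obj g).symm ∧ χ ≫ y'.map (t g) = y.map (t g) ≫ e.hom :=
    fun g => fg_exists_fac h (y'.map (t g)) (y.map (t g) ≫ e.hom) _ (by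
      rw [hy y', 𝒳.p.map_comp, hy y, hpe]; simp only [Category.assoc, eqToHom_trans_assoc, eqToHom_refl, Category.id_comp]; exact congrArg (eqToHom _ ≫ ·) (congrArg (g.hom ≫ ·) (Category.id_comp _).symm))
  choose χ hχ1 hχ2 using ex
  haveI : ∀ g, 𝒳.p.IsHomLift (𝟙 ((overCat U).p.obj g)) (χ g) := fun g =>
    IsHomLift.of_fac' 𝒳.p (𝟙 ((overCat U).p.obj g)) (χ g) (y.w_obj g) (y'.w_obj g)
      (by rw [Category.id_comp]; exact hχ1 g)
  haveI : ∀ g, IsIso (χ g) := fun g => fg_isIso_of_lift_id h (χ g) ((overCat U).p.obj g)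
  exact ⟨BasedNatIso.mkNatIso
    (NatIso.ofComponents (fun g => asIso (χ g)) (fun {g g'} s => fg_hom_ext h (y'.map (t g'))
      (by
        simp only [asIso_hom, Functor.map_comp, hχ1, p_map_eq]
        simp)
      (by
        have hs : s ≫ t g' = t g := Over.OverMorphism.ext (Over.w s)
        simp only [asIso_hom, Category.assoc, hχ2]
        rw [← Category.assoc, ← y.map_comp, ← y'.map_comp, hs, hχ2])))
    (fun g => (inferInstance : 𝒳.p.IsHomLift (𝟙 ((overCat U).p.obj g)) (χ g)))⟩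

end EquivIso

theorem isFibGrpd_overCat (U : C) : IsFibGrpd (overCat U).p where
  exists_lift := fun {x} {V} f =>
    ⟨Over.mk (f ≫ x.hom), Over.homMk f, IsHomLift.of_fac' _ f _ rfl rfl (by
      change f = eqToHom _ ≫ f ≫ eqToHom _
      simp)⟩
  isStronglyCartesian := fun {y x} φ =>
    { universal_property' := fun {a'} g φ' hφ' => by
        have hg : g ≫ φ.left = φ'.left :=
          @IsHomLift.eq_of_isHomLift _ _ _ _ (Over.forget U) _ _ (g ≫ (Over.forget U).map φ) φ' hφ'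
        have hw : g ≫ y.hom = a'.hom := by
          rw [← Over.w φ, ← Over.w φ', ← Category.assoc, hg]
        refine ⟨Over.homMk g hw, ⟨IsHomLift.map (Over.forget U) (Over.homMk g hw : a' ⟶ y),
          Over.OverMorphism.ext hg⟩, ?_⟩
        rintro χ ⟨hχ, -⟩
        exact Over.OverMorphism.ext (@IsHomLift.eq_of_isHomLift _ _ _ _ (Over.forget U) _ _ g χ hχ).symm }

theorem isFibGrpd_of (hlift : ∀ {x : 𝒳.obj} {V : C} (f : V ⟶ 𝒳.p.obj x),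
      ∃ (y : 𝒳.obj) (hy : 𝒳.p.obj y = V) (φ : y ⟶ x), 𝒳.p.map φ = eqToHom hy ≫ f)
    (hfac : ∀ {z y x : 𝒳.obj} (φ : y ⟶ x) (ψ : z ⟶ x) (g : 𝒳.p.obj z ⟶ 𝒳.p.obj y),
      g ≫ 𝒳.p.map φ = 𝒳.p.map ψ → ∃! χ : z ⟶ y, 𝒳.p.map χ = g ∧ χ ≫ φ = ψ) : IsFibGrpd 𝒳.p where
  exists_lift := fun {x V} f => by
    obtain ⟨y, hy, φ, hφ⟩ := hlift f
    exact ⟨y, φ, IsHomLift.of_fac' _ f φ hy rfl (by simpa using hφ)⟩
  isStronglyCartesian := fun {y x} φ =>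
    { universal_property' := fun {a'} g φ' hφ' => by
        obtain ⟨χ, ⟨h1, h2⟩, h3⟩ := hfac φ φ' g (IsHomLift.eq_of_isHomLift 𝒳.p (g ≫ 𝒳.p.map φ) φ')
        refine ⟨χ, ⟨?_, h2⟩, ?_⟩
        · rw [← h1]; exact IsHomLift.map _ _
        · rintro χ' ⟨hχ', e⟩
          exact h3 χ' ⟨(IsHomLift.eq_of_isHomLift 𝒳.p g χ').symm, e⟩ }

/-- A 2-fibre product of categories fibred in groupoids is fibred in groupoids. -/
theorem isFibGrpd_fp (hX : IsFibGrpd 𝒳.p) (hY : IsFibGrpd 𝒴.p) (hS : IsFibGrpd 𝒮.p)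
    (F : 𝒳 ⥤ᵇ 𝒮) (G : 𝒴 ⥤ᵇ 𝒮) : IsFibGrpd (fp F G).p := by
  have pq : ∀ (z : (fp F G).obj), 𝒴.p.obj z.obj.snd = 𝒳.p.obj z.obj.fst := fun z => (fpSnd F G).w_obj z
  have piso : ∀ (z : (fp F G).obj), 𝒮.p.map z.obj.iso.hom =
      eqToHom (F.w_obj z.obj.fst) ≫ eqToHom ((G.w_obj z.obj.snd).trans (pq z)).symm := fun z => by
    haveI : 𝒮.p.IsHomLift (𝟙 (𝒳.p.obj z.obj.fst)) z.obj.iso.hom := z.property
    simpa using IsHomLift.fac' 𝒮.p (𝟙 (𝒳.p.obj z.obj.fst)) z.obj.iso.hom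
  have psnd : ∀ {z z' : (fp F G).obj} (φ : z ⟶ z'),
      𝒴.p.map φ.hom.snd = eqToHom (pq z) ≫ 𝒳.p.map φ.hom.fst ≫ eqToHom (pq z').symm := fun {z z'} φ =>
    p_map_eq (fpSnd F G) φ
  refine isFibGrpd_of ?_ ?_
  · intro z V f
    obtain ⟨x', hx', a, ha⟩ := fg_exists_lift hX (x := z.obj.fst) f
    obtain ⟨y', hy', b, hb⟩ := fg_exists_lift hY (x := z.obj.snd) (f ≫ eqToHom (pq z).symm)
    have e : 𝒮.p.obj (F.obj x') = 𝒮.p.obj (G.obj y') :=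
      (F.w_obj x').trans (hx'.trans (hy'.symm.trans (G.w_obj y').symm))
    obtain ⟨χ, hχ1, hχ2⟩ := fg_exists_fac hS (G.map b) (F.map a ≫ z.obj.iso.hom) (eqToHom e) (by
      simp [p_map_eq, piso, ha, hb])
    haveI : 𝒮.p.IsHomLift (𝟙 (𝒳.p.obj x')) χ :=
      IsHomLift.of_fac' 𝒮.p (𝟙 (𝒳.p.obj x')) χ (F.w_obj x')
        ((G.w_obj y').trans (hy'.trans hx'.symm)) (by rw [hχ1]; simp)
    haveI := fg_isIso_of_lift_id hS χ (𝒳.p.obj x')
    refine ⟨⟨⟨x', y', @asIso _ _ _ _ χ this⟩, ‹_›⟩, hx', fpHom a b hχ2.symm, ha⟩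
  · intro z y x φ ψ g hg
    obtain ⟨a, ha1, ha2⟩ := fg_exists_fac hX φ.hom.fst ψ.hom.fst g hg
    obtain ⟨b, hb1, hb2⟩ := fg_exists_fac hY φ.hom.snd ψ.hom.snd
      (eqToHom (pq z) ≫ g ≫ eqToHom (pq y).symm) (by
        rw [psnd φ, psnd ψ]
        have hg' : g ≫ 𝒳.p.map φ.hom.fst = 𝒳.p.map ψ.hom.fst := hg
        simp [reassoc_of% hg'])
    have w : F.map a ≫ y.obj.iso.hom = z.obj.iso.hom ≫ G.map b := by
      refine fg_hom_ext hS (G.map φ.hom.snd) ?_ ?_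
      · simp [p_map_eq, piso, ha1, hb1]
      · rw [Category.assoc, ← φ.hom.w, ← Category.assoc, ← F.map_comp, ha2, ψ.hom.w, Category.assoc,
          ← G.map_comp, hb2]
    refine ⟨fpHom a b w, ⟨ha1, fpHom_ext ha2 hb2⟩, ?_⟩
    rintro χ ⟨h1, h2⟩
    refine fpHom_ext (fg_hom_ext hX φ.hom.fst ?_ ?_) (fg_hom_ext hY φ.hom.snd ?_ ?_)
    · exact h1.trans ha1.symm
    · exact (congrArg (fun t => t.hom.fst) h2).trans ha2.symm
    · have h1' : 𝒳.p.map χ.hom.fst = g := h1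
      rw [psnd χ, h1']; exact hb1.symm
    · exact (congrArg (fun t => t.hom.snd) h2).trans hb2.symm

end Groth.Agent.AlgSt88
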