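import Groth.Prelude.Def_AlgSt
import Groth.Agent.AlgSt88.Fibred

/-! A category fibred in setoids is equivalent to the category of a presheaf. -/

set_option autoImplicit false
set_option backward.isDefEq.respectTransparency false
set_option backward.isDefEq.respectTransparency.types false
universe v₂ u₂ v u

open CategoryTheory Opposite FibCat

namespace Groth.Agent.AlgSt88

variable {C : Type u} [Category.{v} C] (𝒳 : BasedCategory.{v₂, u₂} C)

/-- Objects over a given object of the base. -/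
abbrev ObOver (T : C) : Type _ := {x : 𝒳.obj // 𝒳.p.obj x = T}

variable {𝒳}

/-- Isomorphism over the identity. -/
def IsoOver {T : C} (a b : ObOver 𝒳 T) : Prop := ∃ φ : a.1 ⟶ b.1, 𝒳.p.map φ = eqToHom (a.2.trans b.2.symm)

theorem isoOver_equivalence (h : IsFibGrpd 𝒳.p) (T : C) : _root_.Equivalence (@IsoOver _ _ 𝒳 T) where
  refl a := ⟨𝟙 a.1, by simp⟩
  symm := by
    rintro a b ⟨φ, hφ⟩
    obtain ⟨χ, h1, -⟩ := fg_exists_fac h φ (𝟙 b.1) (eqToHom (b.2.trans a.2.symm)) (by simp [hφ])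
    exact ⟨χ, h1⟩
  trans := by
    rintro a b c ⟨φ, hφ⟩ ⟨ψ, hψ⟩
    exact ⟨φ ≫ ψ, by simp [hφ, hψ]⟩

theorem isoOver_of_quot_eq (h : IsFibGrpd 𝒳.p) {T : C} {a b : ObOver 𝒳 T}
    (e : Quot.mk IsoOver a = Quot.mk IsoOver b) : IsoOver a b := by
  have := Quot.eqvGen_exact e
  clear e
  induction this with
  | rel _ _ r => exact r
  | refl a => exact (isoOver_equivalence h T).refl a
  | symm _ _ _ ih => exact (isoOver_equivalence h T).symm ih
  | trans _ _ _ _ _ ih₁ ih₂ => exact (isoOver_equivalence h T).trans ih₁ ih₂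

/-- `b` is a restriction of `a` along `g`. -/
def IsRestr {T T' : C} (g : T' ⟶ T) (a : ObOver 𝒳 T) (b : ObOver 𝒳 T') : Prop :=
  ∃ φ : b.1 ⟶ a.1, 𝒳.p.map φ = eqToHom b.2 ≫ g ≫ eqToHom a.2.symm

theorem exists_isRestr (h : IsFibGrpd 𝒳.p) {T T' : C} (g : T' ⟶ T) (a : ObOver 𝒳 T) :
    ∃ b, IsRestr g a b := by
  obtain ⟨y, hy, φ, hφ⟩ := fg_exists_lift h (x := a.1) (g ≫ eqToHom a.2.symm)
  exact ⟨⟨y, hy⟩, φ, by simpa using hφ⟩

theorem IsRestr.unique (h : IsFibGrpd 𝒳.p) {T T' : C} {g : T' ⟶ T} {a a' : ObOver 𝒳 T} {b b' : ObOver 𝒳 T'}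
    (hb : IsRestr g a b) (hb' : IsRestr g a' b') (ha : IsoOver a a') : IsoOver b b' := by
  obtain ⟨φ, hφ⟩ := hb
  obtain ⟨φ', hφ'⟩ := hb'
  obtain ⟨τ, hτ⟩ := ha
  obtain ⟨χ, h1, -⟩ := fg_exists_fac h φ' (φ ≫ τ) (eqToHom (b.2.trans b'.2.symm)) (by simp [hφ, hφ', hτ])
  exact ⟨χ, h1⟩

/-- Restriction of isomorphism classes. -/
noncomputable def piRestr (h : IsFibGrpd 𝒳.p) {T T' : C} (g : T' ⟶ T) :
    Quot (@IsoOver _ _ 𝒳 T) → Quot (@IsoOver _ _ 𝒳 T') :=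
  Quot.lift (fun a => Quot.mk _ (exists_isRestr h g a).choose) fun a a' ha =>
    Quot.sound ((exists_isRestr h g a).choose_spec.unique h (exists_isRestr h g a').choose_spec ha)

theorem piRestr_eq (h : IsFibGrpd 𝒳.p) {T T' : C} {g : T' ⟶ T} {a : ObOver 𝒳 T} {b : ObOver 𝒳 T'}
    (hb : IsRestr g a b) : piRestr h g (Quot.mk _ a) = Quot.mk _ b :=
  Quot.sound ((exists_isRestr h g a).choose_spec.unique h hb ((isoOver_equivalence h T).refl a))

variable (𝒳) in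
/-- The presheaf of isomorphism classes. -/
noncomputable def pi0 (h : IsFibGrpd 𝒳.p) : Cᵒᵖ ⥤ Type (max u₂ v₂) where
  obj T := ULift.{v₂} (Quot (@IsoOver _ _ 𝒳 T.unop))
  map g := ↾fun q => ⟨piRestr h g.unop q.down⟩
  map_id T := by
    ext q
    obtain ⟨q⟩ := q
    induction q using Quot.ind with
    | _ a => exact piRestr_eq h (g := 𝟙 T.unop) ⟨𝟙 a.1, by simp⟩
  map_comp {A B D} f g := by
    ext q
    obtain ⟨q⟩ := q
    induction q using Quot.ind with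
    | _ a =>
      obtain ⟨b, hb⟩ := exists_isRestr h f.unop a
      obtain ⟨c, hc⟩ := exists_isRestr h g.unop b
      obtain ⟨φ, hφ⟩ := id hb
      obtain ⟨ψ, hψ⟩ := id hc
      change piRestr h (g.unop ≫ f.unop) (Quot.mk _ a) = piRestr h g.unop (piRestr h f.unop (Quot.mk _ a))
      rw [piRestr_eq h hb, piRestr_eq h hc, piRestr_eq h (b := c) ⟨ψ ≫ φ, by simp [hφ, hψ]⟩]

/-- The comparison functor to the presheaf of isomorphism classes. -/
noncomputable def toPi0 (h : IsFibGrpd 𝒳.p) : 𝒳 ⥤ᵇ Stk.ofPsh (pi0 𝒳 h) where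
  toFunctor :=
    { obj := fun x => ⟨𝒳.p.obj x, ⟨Quot.mk _ ⟨x, rfl⟩⟩⟩
      map := fun {x x'} φ => ⟨𝒳.p.map φ, congrArg ULift.up (piRestr_eq h ⟨φ, by simp⟩)⟩
      map_id := fun x => Stk.EltObj.hom_ext (𝒳.p.map_id x)
      map_comp := fun f g => Stk.EltObj.hom_ext (𝒳.p.map_comp f g) }
  w := rfl

theorem isEquivOver_toPi0 (h : IsFibGrpd 𝒳.p)
    (thin : ∀ {x y : 𝒳.obj} (f g : x ⟶ y), 𝒳.p.map f = 𝒳.p.map g → f = g) : IsEquivOver (toPi0 h) := by
  refine IsEquivData.isEquivOver ⟨fun f g e => thin f g (congrArg (fun t => t.hom) e), ?_, ?_⟩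
  · intro x x' g
    obtain ⟨y, hy⟩ := exists_isRestr h g.hom ⟨x', rfl⟩
    obtain ⟨τ, hτ⟩ := isoOver_of_quot_eq h ((congrArg ULift.down g.map_sec).symm.trans (piRestr_eq h hy))
    obtain ⟨φ, hφ⟩ := hy
    refine ⟨τ ≫ φ, Stk.EltObj.hom_ext ?_⟩
    change 𝒳.p.map (τ ≫ φ) = g.hom
    have hφ' : 𝒳.p.map φ = eqToHom y.2 ≫ g.hom := by rw [hφ, eqToHom_refl, Category.comp_id]
    rw [𝒳.p.map_comp, hτ, hφ']
    simp
  · rintro ⟨T, ⟨q⟩⟩
    induction q using Quot.ind with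
    | _ a =>
      obtain ⟨x, hx⟩ := a
      change 𝒳.p.obj x = T at hx
      subst hx
      exact ⟨x, Iso.refl _, IsHomLift.id rfl⟩

end Groth.Agent.AlgSt88
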