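import Mathlib.CategoryTheory.Limits.Types.Pullbacks
import Mathlib.CategoryTheory.Limits.Shapes.Pullback.IsPullback.Basic
import Mathlib.CategoryTheory.Limits.FunctorCategory.Basic
import Groth.Prelude.Def_AlgSt
import Groth.Agent.AlgSt88.Fibred

/-! Fibre products of categories of presheaves are categories of fibre products of presheaves. -/

set_option autoImplicit false
set_option backward.isDefEq.respectTransparency false
set_option backward.isDefEq.respectTransparency.types false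
universe w v u

open CategoryTheory CategoryTheory.Limits Opposite FibCat

namespace Groth.Agent.AlgSt88

variable {C : Type u} [Category.{v} C] {P Q G : Cᵒᵖ ⥤ Type w}

theorem psh_sec_transport {P : Cᵒᵖ ⥤ Type w} {a b : Stk.EltObj P} (f : a ⟶ b) {T T' : C}
    (ha : T = a.base) (hb : T' = b.base) (g : T ⟶ T') (hg : f.hom = eqToHom ha.symm ≫ g ≫ eqToHom hb) :
    P.map g.op (P.map (eqToHom hb).op b.sec) = P.map (eqToHom ha).op a.sec := by
  subst ha hb
  have h' : f.hom = g := by simpa using hg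
  subst h'
  simpa using f.map_sec

/-- The section of the image of an object, transported to its base. -/
def pshSec (Φ : Stk.ofPsh P ⥤ᵇ Stk.ofPsh Q) (a : (Stk.ofPsh P).obj) : Q.obj (op a.base) :=
  Q.map (eqToHom (Φ.w_obj a).symm).op (Φ.obj a).sec

/-- The map of presheaves of a functor over the base. -/
def pshHom (Φ : Stk.ofPsh P ⥤ᵇ Stk.ofPsh Q) : P ⟶ Q where
  app T := ↾fun x => pshSec Φ ⟨T.unop, x⟩
  naturality T T' g := by
    ext x
    let ψ : (⟨T'.unop, P.map g x⟩ : (Stk.ofPsh P).obj) ⟶ ⟨T.unop, x⟩ := ⟨g.unop, rfl⟩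
    exact (psh_sec_transport (Φ.map ψ) (Φ.w_obj _).symm (Φ.w_obj _).symm g.unop (p_map_eq Φ ψ)).symm

theorem nonempty_iso_ofPshMap (Φ : Stk.ofPsh P ⥤ᵇ Stk.ofPsh Q) : Nonempty (Φ ≅ Stk.ofPshMap (pshHom Φ)) := by
  have hs : ∀ a : (Stk.ofPsh P).obj, Q.map (eqToHom (Φ.w_obj a)).op (pshSec Φ a) = (Φ.obj a).sec := fun a => by
    simp [pshSec, ← Functor.map_comp_apply, ← op_comp]
  exact ⟨BasedNatIso.mkNatIso
    (NatIso.ofComponents
      (fun a => ({ hom := ⟨eqToHom (Φ.w_obj a), hs a⟩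
                   inv := ⟨eqToHom (Φ.w_obj a).symm, rfl⟩
                   hom_inv_id := Stk.EltObj.hom_ext (by simp)
                   inv_hom_id := Stk.EltObj.hom_ext (by simp) } :
        Φ.obj a ≅ (Stk.ofPshMap (pshHom Φ)).obj a))
      (fun {a b} f => Stk.EltObj.hom_ext (by
        change (Stk.ofPsh Q).p.map (Φ.map f) ≫ eqToHom (Φ.w_obj b) = eqToHom (Φ.w_obj a) ≫ f.hom
        rw [p_map_eq]
        simp)))
    (fun a => IsHomLift.of_fac' (Stk.ofPsh Q).p (𝟙 a.base) _ (Φ.w_obj a) rfl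
      (by
        change eqToHom (Φ.w_obj a) = eqToHom (Φ.w_obj a) ≫ 𝟙 a.base ≫ eqToHom _
        simp))⟩

section Square

variable {F' : Cᵒᵖ ⥤ Type w} {fst : F' ⟶ P} {snd : F' ⟶ Q} {a : P ⟶ G} {b : Q ⟶ G}

/-- The comparison functor of a commutative square of presheaves. -/
def pshFpLift (h : fst ≫ a = snd ≫ b) : Stk.ofPsh F' ⥤ᵇ fp (Stk.ofPshMap a) (Stk.ofPshMap b) :=
  fpLift (Stk.ofPshMap fst) (Stk.ofPshMap snd)
    (BasedNatIso.mkNatIso
      (NatIso.ofComponents
        (fun x => (⟨⟨𝟙 x.base, (G.map_id_apply _ _).trans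
            (congrArg (fun t : F' ⟶ G => t.app (op x.base) x.sec) h).symm⟩,
          ⟨𝟙 x.base, (G.map_id_apply _ _).trans
            (congrArg (fun t : F' ⟶ G => t.app (op x.base) x.sec) h)⟩,
          Stk.EltObj.hom_ext (Category.id_comp _), Stk.EltObj.hom_ext (Category.id_comp _)⟩ :
          (Stk.ofPshMap a).obj ((Stk.ofPshMap fst).obj x) ≅ (Stk.ofPshMap b).obj ((Stk.ofPshMap snd).obj x)))
        (fun {x y} f => Stk.EltObj.hom_ext ((Category.comp_id _).trans (Category.id_comp _).symm)))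
      (fun x => IsHomLift.of_fac' (Stk.ofPsh G).p (𝟙 x.base) _ rfl rfl
        ((Category.id_comp _).trans (Category.comp_id _)).symm))

theorem isEquivOver_pshFpLift (sq : IsPullback fst snd a b) : IsEquivOver (pshFpLift sq.w) := by
  have hT : ∀ T, IsPullback (fst.app T) (snd.app T) (a.app T) (b.app T) := fun T =>
    sq.map ((evaluation _ _).obj T)
  have pq : ∀ (z : (fp (Stk.ofPshMap a) (Stk.ofPshMap b)).obj), z.obj.snd.base = z.obj.fst.base :=
    fun z => (fpSnd _ _).w_obj z
  refine IsEquivData.isEquivOver ⟨?_, ?_, ?_⟩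
  · intro x y f g h
    exact Stk.EltObj.hom_ext (congrArg (fun t => t.hom.fst.hom) h)
  · intro x y g
    have hv : g.hom.snd.hom = g.hom.fst.hom :=
      (p_map_eq (fpSnd _ _) g).trans ((Category.id_comp _).trans (Category.comp_id _))
    have hsec : F'.map g.hom.fst.hom.op y.sec = x.sec := by
      apply Types.ext_of_isPullback (hT (op x.base))
      · exact (NatTrans.naturality_apply fst g.hom.fst.hom.op y.sec).trans g.hom.fst.map_sec
      · exact (NatTrans.naturality_apply snd g.hom.fst.hom.op y.sec).trans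
          ((congrArg (fun t => Q.map t.op (snd.app (op y.base) y.sec)) hv.symm).trans g.hom.snd.map_sec)
    exact ⟨⟨g.hom.fst.hom, hsec⟩, fpHom_ext (Stk.EltObj.hom_ext rfl) (Stk.EltObj.hom_ext hv.symm)⟩
  · intro z
    have hz : (Stk.ofPsh G).p.IsHomLift (𝟙 z.obj.fst.base) z.obj.iso.hom := z.property
    have e : z.obj.iso.hom.hom = eqToHom (pq z).symm := by
      have e1 := IsHomLift.fac' (Stk.ofPsh G).p (𝟙 z.obj.fst.base) z.obj.iso.hom
      change z.obj.iso.hom.hom = _ at e1
      rw [e1]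
      exact (Category.id_comp _).trans (Category.id_comp _)
    have hms := z.obj.iso.hom.map_sec
    rw [e] at hms
    have hw : a.app (op z.obj.fst.base) z.obj.fst.sec =
        b.app (op z.obj.fst.base) (Q.map (eqToHom (pq z).symm).op z.obj.snd.sec) :=
      hms.symm.trans (NatTrans.naturality_apply b (eqToHom (pq z).symm).op z.obj.snd.sec).symm
    obtain ⟨t, ht1, ht2⟩ := Types.exists_of_isPullback (hT (op z.obj.fst.base)) _ _ hw
    refine ⟨⟨z.obj.fst.base, t⟩, fpObjIso
      ⟨⟨𝟙 _, ?_⟩, ⟨𝟙 _, ?_⟩, Stk.EltObj.hom_ext (Category.id_comp _), Stk.EltObj.hom_ext (Category.id_comp _)⟩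
      ⟨⟨eqToHom (pq z).symm, ht2.symm⟩, ⟨eqToHom (pq z), ?_⟩,
        Stk.EltObj.hom_ext (by simp), Stk.EltObj.hom_ext (by simp)⟩
      (Stk.EltObj.hom_ext ?_), ?_⟩
    · exact (P.map_id_apply _ _).trans ht1.symm
    · exact (P.map_id_apply _ _).trans ht1
    · change Q.map (eqToHom (pq z)).op (snd.app _ t) = z.obj.snd.sec
      rw [ht2]
      simp [← Functor.map_comp_apply, ← op_comp]
    · exact congrArg (𝟙 z.obj.fst.base ≫ ·) e
    · exact fp_isHomLift _ (IsHomLift.of_fac' (Stk.ofPsh P).p (𝟙 z.obj.fst.base) _ rfl rfl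
        ((Category.id_comp _).trans (Category.comp_id _)).symm)

end Square

end Groth.Agent.AlgSt88
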