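import Groth.Agent.AlgSt88.FpMap

/-! Change of the second factor of a 2-fibre product. -/

set_option autoImplicit false
set_option backward.isDefEq.respectTransparency false
set_option backward.isDefEq.respectTransparency.types false
universe v₆ u₆ v₅ u₅ v₄ u₄ v₃ u₃ v₂ u₂ v u

open CategoryTheory CategoryTheory.Limits FibCat

namespace Groth.Agent.AlgSt88

variable {C : Type u} [Category.{v} C] {𝒳 : BasedCategory.{v₂, u₂} C} {𝒴 : BasedCategory.{v₃, u₃} C}
  {𝒮 : BasedCategory.{v₄, u₄} C} {𝒲 : BasedCategory.{v₅, u₅} C}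
  (F : 𝒳 ⥤ᵇ 𝒮) (G : 𝒴 ⥤ᵇ 𝒮) (b : 𝒲 ⥤ᵇ 𝒴)

/-- Change of the second factor. -/
def fpMapSnd : fp F (BasedFunctor.comp b G) ⥤ᵇ fp F G :=
  fpLift (fpFst F (BasedFunctor.comp b G)) (BasedFunctor.comp (fpSnd F (BasedFunctor.comp b G)) b)
    (fpIso F (BasedFunctor.comp b G))

theorem fpMapSnd_fst : BasedFunctor.comp (fpMapSnd F G b) (fpFst F G) = fpFst F (BasedFunctor.comp b G) := rfl

theorem isEquivOver_fpMapSnd (hb : IsEquivOver b) : IsEquivOver (fpMapSnd F G b) :=
  isEquivOver_of_iso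
    (fpNatIso (Φ := BasedFunctor.comp (fpSwap F (BasedFunctor.comp b G))
        (BasedFunctor.comp (fpMapFst G F b) (fpSwap G F)))
      (Ψ := fpMapSnd F G b) (Iso.refl _) (Iso.refl _) (fun x => (by
        change F.map (𝟙 x.obj.fst) ≫ x.obj.iso.hom = x.obj.iso.hom ≫ G.map (𝟙 (b.obj x.obj.snd))
        simp only [F.map_id, G.map_id, Category.id_comp]; exact (Category.comp_id _).symm)))
    (isEquivOver_comp isEquivOver_fpSwap (isEquivOver_comp (isEquivOver_fpMapFst G F b hb) isEquivOver_fpSwap))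

end Groth.Agent.AlgSt88
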