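import Groth.Prelude.Def_AlgSt2
import Groth.Agent.AlgSt88.Based

/-! Functors over the base between categories of sheaves are maps of sheaves. -/

set_option autoImplicit false
set_option backward.isDefEq.respectTransparency false
set_option backward.isDefEq.respectTransparency.types false
universe w v u

open CategoryTheory CategoryTheory.Limits AlgebraicGeometry Opposite AlgSt FibCat

namespace Groth.Agent.AlgSt88

noncomputable section

variable {S : Scheme.{u}} {F G H : AlgSp.Sp S}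

theorem sec_transport {P : (Over S)ᵒᵖ ⥤ Type (u+1)} {a b : Stk.EltObj P} (f : a ⟶ b) {T T' : Over S}
    (ha : T = a.base) (hb : T' = b.base) (g : T ⟶ T') (hg : f.hom = eqToHom ha.symm ≫ g ≫ eqToHom hb) :
    P.map g.op (P.map (eqToHom hb).op b.sec) = P.map (eqToHom ha).op a.sec := by
  subst ha hb
  have h' : f.hom = g := by simpa using hg
  subst h'
  simpa using f.map_sec

/-- The section underlying the image of an object. -/
def secOf (Φ : ofSp F ⥤ᵇ ofSp G) (a : (ofSp F).obj) : G.obj.obj (op a.base) :=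
  G.obj.map (eqToHom (Φ.w_obj a).symm).op (Φ.obj a).sec

theorem map_hom (Φ : ofSp F ⥤ᵇ ofSp G) {a b : (ofSp F).obj} (ψ : a ⟶ b) :
    (Φ.map ψ).hom = eqToHom (Φ.w_obj a) ≫ ψ.hom ≫ eqToHom (Φ.w_obj b).symm :=
  haveI : (ofSp F).p.IsHomLift ((ofSp F).p.map ψ) ψ := IsHomLift.map (ofSp F).p ψ
  @IsHomLift.fac' _ _ _ _ (ofSp G).p _ _ _ _ ((ofSp F).p.map ψ) (Φ.map ψ) (BasedFunctor.preserves_isHomLift Φ _ ψ)

theorem secOf_natural (Φ : ofSp F ⥤ᵇ ofSp G) {a b : (ofSp F).obj} (ψ : a ⟶ b) :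
    G.obj.map ψ.hom.op (secOf Φ b) = secOf Φ a :=
  sec_transport (Φ.map ψ) (Φ.w_obj a).symm (Φ.w_obj b).symm ψ.hom (map_hom Φ ψ)

/-- The map of sheaves determined by a functor over the base. -/
def homOfBased (Φ : ofSp F ⥤ᵇ ofSp G) : F ⟶ G :=
  ObjectProperty.homMk
    { app := fun T => ↾fun x => secOf Φ ⟨T.unop, x⟩
      naturality := fun T T' g => by
        ext x
        exact (secOf_natural Φ (⟨g.unop, rfl⟩ :
          (⟨T'.unop, F.obj.map g x⟩ : (ofSp F).obj) ⟶ ⟨T.unop, x⟩)).symm }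

theorem homOfBased_app (Φ : ofSp F ⥤ᵇ ofSp G) (T : Over S) (x : F.obj.obj (op T)) :
    (homOfBased Φ).hom.app (op T) x = secOf Φ ⟨T, x⟩ := rfl

theorem sp_hom_ext {f g : F ⟶ G} (h : ∀ (T : Over S) (x : F.obj.obj (op T)),
    f.hom.app (op T) x = g.hom.app (op T) x) : f = g :=
  ObjectProperty.hom_ext _ (NatTrans.ext (funext fun T => ConcreteCategory.hom_ext _ _ fun x => h T.unop x))

theorem homOfBased_ofSpMap (a : F ⟶ G) : homOfBased (ofSpMap a) = a := by
  refine sp_hom_ext fun T x => ?_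
  change G.obj.map (𝟙 (op T)) _ = _
  simp only [G.obj.map_id]; rfl

theorem homOfBased_id : homOfBased (BasedFunctor.id (ofSp F)) = 𝟙 F := by
  refine sp_hom_ext fun T x => ?_
  change F.obj.map (𝟙 (op T)) _ = _
  simp only [F.obj.map_id]; rfl

theorem app_heq {a : (ofSp F).obj} (Φ : ofSp F ⥤ᵇ ofSp G) (f : G ⟶ H) :
    f.hom.app (op a.base) (secOf Φ a) =
      H.obj.map (eqToHom (Φ.w_obj a).symm).op (f.hom.app (op (Φ.obj a).base) (Φ.obj a).sec) :=
  NatTrans.naturality_apply f.hom (eqToHom (Φ.w_obj a).symm).op _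

theorem homOfBased_comp (Φ : ofSp F ⥤ᵇ ofSp G) (Ψ : ofSp G ⥤ᵇ ofSp H) :
    homOfBased (BasedFunctor.comp Φ Ψ) = homOfBased Φ ≫ homOfBased Ψ := by
  refine sp_hom_ext fun T x => ?_
  change secOf (BasedFunctor.comp Φ Ψ) ⟨T, x⟩ = (homOfBased Ψ).hom.app (op T) (secOf Φ ⟨T, x⟩)
  rw [app_heq Φ (homOfBased Ψ) (a := ⟨T, x⟩), homOfBased_app]
  simp only [secOf, ← Functor.map_comp_apply, ← op_comp, eqToHom_trans]
  rfl

theorem secOf_congr {Φ Ψ : ofSp F ⥤ᵇ ofSp G} (e : Φ ≅ Ψ) (a : (ofSp F).obj) : secOf Φ a = secOf Ψ a := by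
  have h : ((e.hom.toNatTrans.app a)).hom = eqToHom (Φ.w_obj a) ≫ 𝟙 a.base ≫ eqToHom (Ψ.w_obj a).symm :=
    @IsHomLift.fac' _ _ _ _ (ofSp G).p _ _ _ _ (𝟙 ((ofSp F).p.obj a)) (e.hom.toNatTrans.app a) (e.hom.isHomLift' a)
  have := sec_transport (e.hom.toNatTrans.app a) (Φ.w_obj a).symm (Ψ.w_obj a).symm (𝟙 a.base) h
  exact (by simpa [secOf] using this.symm)

theorem homOfBased_congr {Φ Ψ : ofSp F ⥤ᵇ ofSp G} (e : Φ ≅ Ψ) : homOfBased Φ = homOfBased Ψ :=
  sp_hom_ext fun T x => secOf_congr e ⟨T, x⟩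

theorem isIso_homOfBased {Φ : ofSp F ⥤ᵇ ofSp G} (h : IsEquivOver Φ) : IsIso (homOfBased Φ) := by
  obtain ⟨Ψ, ⟨a⟩, ⟨b⟩⟩ := h
  exact ⟨homOfBased Ψ, (homOfBased_comp Φ Ψ).symm.trans ((homOfBased_congr a).trans homOfBased_id),
    (homOfBased_comp Ψ Φ).symm.trans ((homOfBased_congr b).trans homOfBased_id)⟩

/-- Objects over the same base with the same section are isomorphic. -/
def eltIso {P : (Over S)ᵒᵖ ⥤ Type (u+1)} {T : Over S} {x y : P.obj (op T)} (h : x = y) :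
    (⟨T, x⟩ : Stk.EltObj P) ≅ ⟨T, y⟩ where
  hom := ⟨𝟙 T, by subst h; exact P.map_id_apply (op T) x⟩
  inv := ⟨𝟙 T, by subst h; exact P.map_id_apply (op T) x⟩
  hom_inv_id := Stk.EltObj.hom_ext (Category.id_comp _)
  inv_hom_id := Stk.EltObj.hom_ext (Category.id_comp _)

theorem isEquivOver_ofSpMap (a : F ⟶ G) [IsIso a] : IsEquivOver (ofSpMap a) := by
  have h1 : ∀ (T : Over S) (x : F.obj.obj (op T)), (inv a).hom.app (op T) (a.hom.app (op T) x) = x := fun T x =>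
    congrArg (fun f : F ⟶ F => f.hom.app (op T) x) (IsIso.hom_inv_id a)
  have h2 : ∀ (T : Over S) (x : G.obj.obj (op T)), a.hom.app (op T) ((inv a).hom.app (op T) x) = x := fun T x =>
    congrArg (fun f : G ⟶ G => f.hom.app (op T) x) (IsIso.inv_hom_id a)
  refine ⟨ofSpMap (inv a), ⟨?_⟩, ⟨?_⟩⟩
  · exact BasedNatIso.mkNatIso
      (NatIso.ofComponents (fun z => eltIso (h1 z.base z.sec))
        (fun f => Stk.EltObj.hom_ext ((Category.comp_id _).trans (Category.id_comp _).symm)))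
      (fun z => IsHomLift.of_fac' (ofSp F).p (𝟙 z.base) _ rfl rfl ((Category.id_comp _).trans (Category.id_comp _)).symm)
  · exact BasedNatIso.mkNatIso
      (NatIso.ofComponents (fun z => eltIso (h2 z.base z.sec))
        (fun f => Stk.EltObj.hom_ext ((Category.comp_id _).trans (Category.id_comp _).symm)))
      (fun z => IsHomLift.of_fac' (ofSp G).p (𝟙 z.base) _ rfl rfl ((Category.id_comp _).trans (Category.id_comp _)).symm)

theorem spMapOfOver_eq {U : Over S} (Φ : ofSp F ⥤ᵇ overCat U) :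
    spMapOfOver Φ = homOfBased (BasedFunctor.comp Φ (ofOverCat U)) := by
  refine sp_hom_ext fun T x => ?_
  rfl

theorem spMapOfOver_comp {U : Over S} (Φ : ofSp F ⥤ᵇ ofSp G) (Ψ : ofSp G ⥤ᵇ overCat U) :
    spMapOfOver (BasedFunctor.comp Φ Ψ) = homOfBased Φ ≫ spMapOfOver Ψ := by
  rw [spMapOfOver_eq, spMapOfOver_eq, ← homOfBased_comp]
  rfl

theorem spMapOfOver_congr {U : Over S} {Φ Ψ : ofSp F ⥤ᵇ overCat U} (e : Φ ≅ Ψ) :
    spMapOfOver Φ = spMapOfOver Ψ := by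
  rw [spMapOfOver_eq, spMapOfOver_eq]
  exact homOfBased_congr (bRight e _)

/-- Two representing sheaves differ by an isomorphism compatible with any map to a slice. -/
theorem exists_iso_of_equivOver {𝒳 : BasedCategory.{v, w} (Over S)} {e : ofSp F ⥤ᵇ 𝒳} {e' : ofSp G ⥤ᵇ 𝒳}
    (he : IsEquivOver e) (he' : IsEquivOver e') :
    ∃ i : F ≅ G, ∀ {U : Over S} (q : 𝒳 ⥤ᵇ overCat U),
      spMapOfOver (BasedFunctor.comp e q) = i.hom ≫ spMapOfOver (BasedFunctor.comp e' q) := by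
  obtain ⟨g, hg, ⟨a⟩, ⟨b⟩⟩ := isEquivOver_inverse he'
  haveI := isIso_homOfBased (isEquivOver_comp he hg)
  refine ⟨asIso (homOfBased (BasedFunctor.comp e g)), fun q => ?_⟩
  refine Eq.trans ?_ (spMapOfOver_comp (BasedFunctor.comp e g) (BasedFunctor.comp e' q))
  exact spMapOfOver_congr (bLeft e (bRight b.symm q))

end

end Groth.Agent.AlgSt88
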