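import Groth.Prelude.Def_AlgSt2
import Groth.Agent.AlgSt88.SpHom
import Groth.Agent.AlgSt88.FpMap2

/-! Calculus of representability by algebraic spaces. -/

set_option autoImplicit false
set_option backward.isDefEq.respectTransparency false
set_option backward.isDefEq.respectTransparency.types false
universe w₃ v₃ w₂ v₂ w v u

open CategoryTheory CategoryTheory.Limits AlgebraicGeometry Opposite AlgSt FibCat

namespace Groth.Agent.AlgSt88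

variable {S : Scheme.{u}} {𝒳 : BasedCategory.{v, w} (Over S)} {𝒴 : BasedCategory.{v₂, w₂} (Over S)}
  {𝒵 : BasedCategory.{v₃, w₃} (Over S)} {P Q : MorphismProperty (AlgSp.Sp S)}

theorem repByAlgSp_of_equiv (h : RepByAlgSp 𝒳) {e : 𝒳 ⥤ᵇ 𝒴} (he : IsEquivOver e) : RepByAlgSp 𝒴 := by
  obtain ⟨F, e₀, h₀⟩ := h
  exact ⟨F, BasedFunctor.comp e₀ e, isEquivOver_comp h₀ he⟩

theorem repByAlgSp_of_equiv' (h : RepByAlgSp 𝒴) {e : 𝒳 ⥤ᵇ 𝒴} (he : IsEquivOver e) : RepByAlgSp 𝒳 := by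
  obtain ⟨e', h', -⟩ := isEquivOver_inverse he
  exact repByAlgSp_of_equiv h h'

theorem repByAlgSp_ofSp (F : AlgSp.Space S) : RepByAlgSp (ofSp F.obj) :=
  ⟨F, BasedFunctor.id _, isEquivOver_id _⟩

/-- The representation data of a category over a slice. -/
def RepOver (P : MorphismProperty (AlgSp.Sp S)) {U : Over S} (q : 𝒳 ⥤ᵇ overCat U) : Prop :=
  ∃ (F : AlgSp.Space S) (e : ofSp F.obj ⥤ᵇ 𝒳), IsEquivOver e ∧ P (spMapOfOver (BasedFunctor.comp e q))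

theorem repByAlgSpWith_iff_repOver (f : 𝒳 ⥤ᵇ 𝒴) :
    RepByAlgSpWith P f ↔ ∀ (U : Over S) (y : overCat U ⥤ᵇ 𝒴), RepOver P (fpFst y f) := Iff.rfl

theorem RepOver.transport {U : Over S} {q : 𝒳 ⥤ᵇ overCat U} {q' : 𝒴 ⥤ᵇ overCat U} (h : RepOver P q)
    {Φ : 𝒳 ⥤ᵇ 𝒴} (hΦ : IsEquivOver Φ) (α : BasedFunctor.comp Φ q' ≅ q) : RepOver P q' := by
  obtain ⟨F, e, he, hP⟩ := h
  refine ⟨F, BasedFunctor.comp e Φ, isEquivOver_comp he hΦ, ?_⟩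
  rw [← spMapOfOver_congr (bLeft e α)] at hP
  exact hP

theorem RepOver.transport' {U : Over S} {q : 𝒳 ⥤ᵇ overCat U} {q' : 𝒴 ⥤ᵇ overCat U} (h : RepOver P q')
    {Φ : 𝒳 ⥤ᵇ 𝒴} (hΦ : IsEquivOver Φ) (α : BasedFunctor.comp Φ q' ≅ q) : RepOver P q := by
  obtain ⟨Ψ, hΨ, -, ⟨b⟩⟩ := isEquivOver_inverse hΦ
  exact h.transport hΨ ((bLeft Ψ α).symm ≪≫ bRight b q')

theorem RepOver.mono (hPQ : P ≤ Q) {U : Over S} {q : 𝒳 ⥤ᵇ overCat U} (h : RepOver P q) : RepOver Q q := by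
  obtain ⟨F, e, he, hP⟩ := h
  exact ⟨F, e, he, hPQ _ hP⟩

theorem RepOver.any [P.RespectsIso] {U : Over S} {q : 𝒳 ⥤ᵇ overCat U} (h : RepOver P q) {F : AlgSp.Sp S}
    {e : ofSp F ⥤ᵇ 𝒳} (he : IsEquivOver e) : P (spMapOfOver (BasedFunctor.comp e q)) := by
  obtain ⟨G, e', he', hP⟩ := h
  obtain ⟨i, hi⟩ := exists_iso_of_equivOver he he'
  rw [hi q]
  exact (MorphismProperty.cancel_left_of_respectsIso P i.hom _).2 hP

theorem RepOver.inf [P.RespectsIso] {U : Over S} {q : 𝒳 ⥤ᵇ overCat U} (h : RepOver P q) (h' : RepOver Q q) :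
    RepOver (P ⊓ Q) q := by
  obtain ⟨F, e, he, hQ⟩ := h'
  exact ⟨F, e, he, h.any he, hQ⟩

theorem repByAlgSp1_of_with {f : 𝒳 ⥤ᵇ 𝒴} (h : RepByAlgSpWith P f) : RepByAlgSp1 f := fun U y => by
  obtain ⟨F, e, he, -⟩ := h U y
  exact ⟨F, e, he⟩

theorem repByAlgSpWith_top_iff {f : 𝒳 ⥤ᵇ 𝒴} : RepByAlgSpWith (⊤ : MorphismProperty (AlgSp.Sp S)) f ↔ RepByAlgSp1 f :=
  ⟨repByAlgSp1_of_with, fun h U y => by
    obtain ⟨F, e, he⟩ := h U y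
    exact ⟨F, e, he, trivial⟩⟩

theorem repByAlgSpWith_mono (hPQ : P ≤ Q) {f : 𝒳 ⥤ᵇ 𝒴} (h : RepByAlgSpWith P f) : RepByAlgSpWith Q f :=
  fun U y => RepOver.mono hPQ (h U y)

theorem repByAlgSpWith_inf [P.RespectsIso] {f : 𝒳 ⥤ᵇ 𝒴} (h : RepByAlgSpWith P f) (h' : RepByAlgSpWith Q f) :
    RepByAlgSpWith (P ⊓ Q) f := fun U y => RepOver.inf (h U y) (h' U y)

theorem repByAlgSpWith_inf_iff [P.RespectsIso] {f : 𝒳 ⥤ᵇ 𝒴} :
    RepByAlgSpWith (P ⊓ Q) f ↔ RepByAlgSpWith P f ∧ RepByAlgSpWith Q f :=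
  ⟨fun h => ⟨repByAlgSpWith_mono inf_le_left h, repByAlgSpWith_mono inf_le_right h⟩,
    fun h => repByAlgSpWith_inf h.1 h.2⟩

theorem repByAlgSpWith_of_iso {f f' : 𝒳 ⥤ᵇ 𝒴} (α : f ≅ f') (h : RepByAlgSpWith P f) : RepByAlgSpWith P f' :=
  fun U y => RepOver.transport (h U y) (isEquivOver_fpCongr (Iso.refl y) α) (Iso.refl _)

theorem repByAlgSpWith_precomp_equiv {f : 𝒳 ⥤ᵇ 𝒴} {a : 𝒵 ⥤ᵇ 𝒳} (ha : IsEquivOver a) :
    RepByAlgSpWith P (BasedFunctor.comp a f) ↔ RepByAlgSpWith P f :=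
  ⟨fun h U y => RepOver.transport (h U y) (isEquivOver_fpMapSnd y f a ha) (Iso.refl _),
    fun h U y => RepOver.transport' (h U y) (isEquivOver_fpMapSnd y f a ha) (Iso.refl _)⟩

/-- Base change. -/
theorem repByAlgSpWith_fpFst {f : 𝒳 ⥤ᵇ 𝒴} (g : 𝒵 ⥤ᵇ 𝒴) (h : RepByAlgSpWith P f) :
    RepByAlgSpWith P (fpFst g f) :=
  fun U y => RepOver.transport' (h U (BasedFunctor.comp y g)) (isEquivOver_fpPaste y g f) (Iso.refl _)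

theorem repByAlgSp1_fpFst {f : 𝒳 ⥤ᵇ 𝒴} (g : 𝒵 ⥤ᵇ 𝒴) (h : RepByAlgSp1 f) : RepByAlgSp1 (fpFst g f) :=
  repByAlgSpWith_top_iff.1 (repByAlgSpWith_fpFst g (repByAlgSpWith_top_iff.2 h))

theorem repByAlgSpWith_fpSnd {f : 𝒳 ⥤ᵇ 𝒴} (g : 𝒵 ⥤ᵇ 𝒴) (h : RepByAlgSpWith P f) :
    RepByAlgSpWith P (fpSnd f g) :=
  repByAlgSpWith_of_iso (f := BasedFunctor.comp (fpSwap f g) (fpFst g f)) (Iso.refl _)
    ((repByAlgSpWith_precomp_equiv isEquivOver_fpSwap).2 (repByAlgSpWith_fpFst g h))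

end Groth.Agent.AlgSt88
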