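import Groth.Agent.AlgSt88.Rep

/-! Composition with equivalences on the target. -/

set_option autoImplicit false
set_option backward.isDefEq.respectTransparency false
set_option backward.isDefEq.respectTransparency.types false
universe w₄ v₄ w₃ v₃ w₂ v₂ w v u v₁ u₁

open CategoryTheory CategoryTheory.Limits AlgebraicGeometry AlgSt FibCat

namespace Groth.Agent.AlgSt88

section Cat

variable {C : Type u₁} [Category.{v₁} C] {𝒳 : BasedCategory.{v, w} C} {𝒴 : BasedCategory.{v₂, w₂} C}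
  {𝒮 : BasedCategory.{v₃, w₃} C} {𝒯 : BasedCategory.{v₄, w₄} C}
  (F : 𝒳 ⥤ᵇ 𝒮) (G : 𝒴 ⥤ᵇ 𝒮) (b : 𝒮 ⥤ᵇ 𝒯)

/-- Composing both legs with a functor. -/
def fpPost : fp F G ⥤ᵇ fp (BasedFunctor.comp F b) (BasedFunctor.comp G b) :=
  fpLift (fpFst F G) (fpSnd F G) (bRight (fpIso F G) b)

theorem isEquivOver_fpPost (hb : IsEquivOver b) : IsEquivOver (fpPost F G b) := by
  have d := isEquivData_of_isEquivOver hb
  refine IsEquivData.isEquivOver ⟨?_, ?_, ?_⟩
  · intro x y f g h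
    exact fpHom_ext (congrArg (fun t => t.hom.fst) h) (congrArg (fun t => t.hom.snd) h)
  · intro x y g
    refine ⟨fpHom g.hom.fst g.hom.snd (d.faithful _ _ ?_), fpHom_ext rfl rfl⟩
    rw [b.map_comp, b.map_comp]
    exact g.hom.w
  · intro z
    haveI : b.toFunctor.Faithful := ⟨fun {_ _ _ _} h' => d.faithful _ _ h'⟩
    haveI : b.toFunctor.Full := ⟨fun g => d.full g⟩
    refine ⟨⟨⟨z.obj.fst, z.obj.snd, b.toFunctor.preimageIso z.obj.iso⟩, ?_⟩,
      fpObjIso (Iso.refl _) (Iso.refl _) (by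
        change b.map (F.map (𝟙 _)) ≫ z.obj.iso.hom =
          b.map (b.toFunctor.preimage z.obj.iso.hom) ≫ b.map (G.map (𝟙 _))
        rw [F.map_id, G.map_id, b.map_id, b.map_id, b.toFunctor.map_preimage, Category.id_comp, Category.comp_id]),
      fp_isHomLift _ (IsHomLift.id rfl)⟩
    change 𝒮.p.IsHomLift (𝟙 (𝒳.p.obj z.obj.fst)) (b.toFunctor.preimage z.obj.iso.hom)
    haveI : 𝒯.p.IsHomLift (𝟙 (𝒳.p.obj z.obj.fst)) (b.map (b.toFunctor.preimage z.obj.iso.hom)) := by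
      rw [b.toFunctor.map_preimage]; exact z.property
    exact b.isHomLift_map (𝟙 (𝒳.p.obj z.obj.fst)) (b.toFunctor.preimage z.obj.iso.hom)

end Cat

variable {S : Scheme.{u}} {𝒳 : BasedCategory.{v, w} (Over S)} {𝒴 : BasedCategory.{v₂, w₂} (Over S)}
  {𝒵 : BasedCategory.{v₃, w₃} (Over S)} {P : MorphismProperty (AlgSp.Sp S)}

theorem repByAlgSpWith_postcomp_equiv {f : 𝒳 ⥤ᵇ 𝒴} {b : 𝒴 ⥤ᵇ 𝒵} (hb : IsEquivOver b) :
    RepByAlgSpWith P (BasedFunctor.comp f b) ↔ RepByAlgSpWith P f := by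
  obtain ⟨c, -, -, ⟨β⟩⟩ := isEquivOver_inverse hb
  refine ⟨fun h U y => RepOver.transport' (h U (BasedFunctor.comp y b)) (isEquivOver_fpPost y f b hb) (Iso.refl _),
    fun h U z => ?_⟩
  refine RepOver.transport (h U (BasedFunctor.comp z c)) (isEquivOver_comp
    (isEquivOver_fpPost (BasedFunctor.comp z c) f b hb)
    (isEquivOver_fpCongr (F' := z) (bLeft z β) (Iso.refl (BasedFunctor.comp f b)))) (Iso.refl _)

theorem repByAlgSp1_postcomp_equiv {f : 𝒳 ⥤ᵇ 𝒴} {b : 𝒴 ⥤ᵇ 𝒵} (hb : IsEquivOver b) :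
    RepByAlgSp1 (BasedFunctor.comp f b) ↔ RepByAlgSp1 f :=
  repByAlgSpWith_top_iff.symm.trans ((repByAlgSpWith_postcomp_equiv hb).trans repByAlgSpWith_top_iff)

end Groth.Agent.AlgSt88
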