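import Groth.Prelude.Def_AlgSpRep
import Groth.Agent.AlgSt88.Rep
import Groth.Agent.AlgSt88.PshFp
import Groth.Agent.AlgSt88.RepPost

/-! Comparison with representability of maps of presheaves. -/

set_option autoImplicit false
set_option backward.isDefEq.respectTransparency false
set_option backward.isDefEq.respectTransparency.types false
universe w v u

open CategoryTheory CategoryTheory.Limits AlgebraicGeometry Opposite AlgSt FibCat

namespace Groth.Agent.AlgSt88

variable {S : Scheme.{u}}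

theorem isEquivOver_toOverCat (U : Over S) : IsEquivOver (toOverCat U) := by
  refine ⟨ofOverCat U, ⟨?_⟩, ⟨?_⟩⟩
  · exact BasedNatIso.mkNatIso
      (NatIso.ofComponents (fun a => Iso.refl _)
        (fun {a b} f => Stk.EltObj.hom_ext ((Category.comp_id _).trans (Category.id_comp _).symm)))
      (fun a => IsHomLift.id rfl)
  · exact BasedNatIso.mkNatIso
      (NatIso.ofComponents (fun a => Iso.refl _)
        (fun {a b} f => Over.OverMorphism.ext ((Category.comp_id _).trans (Category.id_comp _).symm)))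
      (fun a => IsHomLift.id rfl)

theorem isEquivOver_ofOverCat (U : Over S) : IsEquivOver (ofOverCat U) := by
  obtain ⟨g, ha, hb⟩ := isEquivOver_toOverCat U
  refine ⟨toOverCat U, ⟨?_⟩, ⟨?_⟩⟩
  · exact BasedNatIso.mkNatIso
      (NatIso.ofComponents (fun a => Iso.refl _)
        (fun {a b} f => Over.OverMorphism.ext ((Category.comp_id _).trans (Category.id_comp _).symm)))
      (fun a => IsHomLift.id rfl)
  · exact BasedNatIso.mkNatIso
      (NatIso.ofComponents (fun a => Iso.refl _)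
        (fun {a b} f => Stk.EltObj.hom_ext ((Category.comp_id _).trans (Category.id_comp _).symm)))
      (fun a => IsHomLift.id rfl)

/-- A functor out of a slice into the category of a presheaf comes from a map of presheaves. -/
theorem exists_iso_ofOverCat_comp {U : Over S} {G : AlgSp.PSp S} (y : overCat U ⥤ᵇ Stk.ofPsh G) :
    ∃ ξ : (AlgSp.pyon S).obj U ⟶ G, Nonempty (BasedFunctor.comp (ofOverCat U) (Stk.ofPshMap ξ) ≅ y) := by
  obtain ⟨α⟩ := nonempty_iso_ofPshMap (BasedFunctor.comp (toOverCat U) y)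
  obtain ⟨β⟩ : Nonempty (BasedFunctor.comp (ofOverCat U) (toOverCat U) ≅ BasedFunctor.id (overCat U)) :=
    ⟨BasedNatIso.mkNatIso
      (NatIso.ofComponents (fun a => Iso.refl _)
        (fun {a b} f => Over.OverMorphism.ext ((Category.comp_id _).trans (Category.id_comp _).symm)))
      (fun a => IsHomLift.id rfl)⟩
  exact ⟨_, ⟨bLeft (ofOverCat U) α.symm ≪≫ bRight β y⟩⟩

theorem isIso_of_isEquivOver_ofPshMap {P Q : AlgSp.PSp S} (a : P ⟶ Q) (h : IsEquivOver (Stk.ofPshMap a)) :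
    IsIso a := by
  have d := isEquivData_of_isEquivOver h
  haveI : ∀ T, IsIso (a.app T) := fun T => by
    rw [isIso_iff_bijective]
    refine ⟨fun x x' e => ?_, fun y => ?_⟩
    · obtain ⟨f, hf⟩ := d.full (x := (⟨T.unop, x⟩ : Stk.EltObj P)) (x' := ⟨T.unop, x'⟩)
        ⟨𝟙 T.unop, (Q.map_id_apply _ _).trans e.symm⟩
      have h1 : f.hom = 𝟙 T.unop := congrArg (fun t => t.hom) hf
      have h2 := f.map_sec
      rw [h1] at h2
      exact h2.symm.trans (P.map_id_apply _ _)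
    · obtain ⟨z, ε, hε⟩ := d.essSurj ⟨T.unop, y⟩
      have hb : z.base = T.unop := @IsHomLift.domain_eq _ _ _ _ (Stk.ofPsh Q).p _ _ _ _ _ ε.hom hε
      have e1 : ε.hom.hom = eqToHom hb :=
        (@IsHomLift.fac' _ _ _ _ (Stk.ofPsh Q).p _ _ _ _ _ ε.hom hε).trans
          ((congrArg _ (Category.id_comp _)).trans (eqToHom_trans _ _))
      refine ⟨P.map (eqToHom hb.symm).op z.sec, (NatTrans.naturality_apply a (eqToHom hb.symm).op z.sec).trans ?_⟩
      have h2 := ε.hom.map_sec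
      rw [e1] at h2
      change Q.map (eqToHom hb.symm).op (a.app _ z.sec) = y
      change Q.map _ y = a.app _ z.sec at h2
      rw [← h2, ← Functor.map_comp_apply, ← op_comp, eqToHom_trans]
      exact Q.map_id_apply _ _
  exact NatIso.isIso_of_isIso_app a

theorem isAlgSpaceP_of_repByAlgSp {P : AlgSp.PSp S} (h : RepByAlgSp (Stk.ofPsh P)) : AlgSp.IsAlgSpaceP P := by
  obtain ⟨F, e, he⟩ := h
  obtain ⟨α⟩ := nonempty_iso_ofPshMap (P := F.obj.obj) e
  haveI := isIso_of_isEquivOver_ofPshMap _ (isEquivOver_of_iso α he)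
  exact AlgSp.IsAlgSpaceP.of_iso ((AlgSp.isAlgSpaceP_obj_iff F.obj).2 F.property) (asIso (pshHom (P := F.obj.obj) e))

theorem repByAlgSp_of_isAlgSpaceP {P : AlgSp.PSp S} (h : AlgSp.IsAlgSpaceP P) : RepByAlgSp (Stk.ofPsh P) := by
  obtain ⟨h', hP⟩ := h
  exact repByAlgSp_ofSp ⟨⟨P, h'⟩, hP⟩

/-- The base change of `ofPshMap a` along a map from a scheme, as the category of a pullback presheaf. -/
theorem exists_pullback_equiv {F G : AlgSp.PSp S} (a : F ⟶ G) {U : Over S} {y : overCat U ⥤ᵇ Stk.ofPsh G}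
    {ξ : (AlgSp.pyon S).obj U ⟶ G} (α : BasedFunctor.comp (ofOverCat U) (Stk.ofPshMap ξ) ≅ y)
    {F' : AlgSp.PSp S} {fst : F' ⟶ F} {snd : F' ⟶ (AlgSp.pyon S).obj U} (sq : IsPullback fst snd a ξ) :
    ∃ e : Stk.ofPsh F' ⥤ᵇ fp y (Stk.ofPshMap a), IsEquivOver e ∧
      Nonempty (BasedFunctor.comp e (BasedFunctor.comp (fpFst y (Stk.ofPshMap a)) (ofOverCat U)) ≅
        Stk.ofPshMap snd) := by
  have h1 := isEquivOver_fpMapFst (Stk.ofPshMap ξ) (Stk.ofPshMap a) (ofOverCat U) (isEquivOver_ofOverCat U)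
  obtain ⟨Ψ, hΨ, -, ⟨b⟩⟩ := isEquivOver_inverse h1
  refine ⟨BasedFunctor.comp (pshFpLift sq.flip.w) (BasedFunctor.comp Ψ (fpCongr α (Iso.refl _))),
    isEquivOver_comp (isEquivOver_pshFpLift sq.flip) (isEquivOver_comp hΨ (isEquivOver_fpCongr _ _)), ⟨?_⟩⟩
  exact bLeft (pshFpLift sq.flip.w) (bRight b (fpFst (Stk.ofPshMap ξ) (Stk.ofPshMap a)))

theorem repByAlgSp1_ofPshMap_iff {F G : AlgSp.PSp S} (a : F ⟶ G) :
    AlgSp.RepBySp a ↔ RepByAlgSp1 (Stk.ofPshMap a) := by
  constructor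
  · intro h U y
    obtain ⟨ξ, ⟨α⟩⟩ := exists_iso_ofOverCat_comp y
    obtain ⟨e, he, -⟩ := exists_pullback_equiv a α (IsPullback.of_hasPullback a ξ)
    exact repByAlgSp_of_equiv (repByAlgSp_of_isAlgSpaceP (h ξ _ _ (IsPullback.of_hasPullback a ξ))) he
  · intro h U ξ F' fst snd sq
    obtain ⟨e, he, -⟩ := exists_pullback_equiv a (Iso.refl _) sq
    exact isAlgSpaceP_of_repByAlgSp (repByAlgSp_of_equiv' (h U _) he)

theorem repByAlgSpWith_ofPshMap_iff (Q : MorphismProperty (AlgSp.Sp S)) [Q.RespectsIso] {F G : AlgSp.PSp S} (a : F ⟶ G) :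
    AlgSp.RepBySpWith Q a ↔ RepByAlgSpWith Q (Stk.ofPshMap a) := by
  constructor
  · intro h U y
    obtain ⟨ξ, ⟨α⟩⟩ := exists_iso_ofOverCat_comp y
    obtain ⟨h', hA, hQ⟩ := h ξ _ _ (IsPullback.of_hasPullback a ξ)
    obtain ⟨e, he, ⟨β⟩⟩ := exists_pullback_equiv a α (IsPullback.of_hasPullback a ξ)
    refine ⟨⟨⟨_, h'⟩, hA⟩, e, he, ?_⟩
    let snd' : (⟨_, h'⟩ : AlgSp.Sp S) ⟶ (AlgSp.yon S).obj U :=
      ObjectProperty.homMk (pullback.snd a ξ)
    change Q snd' at hQ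
    rw [spMapOfOver_eq]
    rw [← homOfBased_ofSpMap snd'] at hQ
    rw [← homOfBased_congr (Φ := BasedFunctor.comp e (BasedFunctor.comp (fpFst y (Stk.ofPshMap a)) (ofOverCat U)))
      (Ψ := ofSpMap snd') β] at hQ
    exact hQ
  · intro h U ξ F' fst snd sq
    obtain ⟨e, he, ⟨β⟩⟩ := exists_pullback_equiv a (Iso.refl _) sq
    obtain ⟨h', hA⟩ := isAlgSpaceP_of_repByAlgSp (repByAlgSp_of_equiv' (repByAlgSp1_of_with h U _) he)
    refine ⟨h', hA, ?_⟩
    let snd' : (⟨_, h'⟩ : AlgSp.Sp S) ⟶ (AlgSp.yon S).obj U := ObjectProperty.homMk snd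
    have := RepOver.any (P := Q) (F := ⟨F', h'⟩) (h U _) he
    rw [spMapOfOver_eq] at this
    rw [homOfBased_congr (F := (⟨F', h'⟩ : AlgSp.Sp S)) (G := (AlgSp.yon S).obj U)
      (Φ := BasedFunctor.comp (BasedFunctor.comp e (fpFst (BasedFunctor.comp (ofOverCat U) (Stk.ofPshMap ξ)) (Stk.ofPshMap a))) (ofOverCat U))
      (Ψ := ofSpMap snd') β, homOfBased_ofSpMap] at this
    exact this

end Groth.Agent.AlgSt88
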