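import Groth.Prelude.Def_AlgSpRep
import Mathlib.CategoryTheory.Limits.Types.Pullbacks
import Mathlib.CategoryTheory.Limits.Shapes.Diagonal
import Groth.Agent.SpFP87.Basic

/-! Maps representable by algebraic spaces: sheaf property, spaces over spaces, composition. -/

set_option autoImplicit false
universe u

open CategoryTheory CategoryTheory.Limits AlgebraicGeometry Opposite AlgSp

namespace Groth.Agent.AlgSt88

variable {S : Scheme.{u}}

section SimpLemmas

variable {X Y Z W A : Sp S}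

theorem sp_lift_fst (a : W ⟶ X) (b : W ⟶ Y) : prod.lift a b ≫ prod.fst = a := prod.lift_fst a b
theorem sp_lift_snd (a : W ⟶ X) (b : W ⟶ Y) : prod.lift a b ≫ prod.snd = b := prod.lift_snd a b
theorem sp_lift_fst' (a : W ⟶ X) (b : W ⟶ Y) (c : X ⟶ A) : prod.lift a b ≫ prod.fst ≫ c = a ≫ c :=
  prod.lift_fst_assoc a b c
theorem sp_lift_snd' (a : W ⟶ X) (b : W ⟶ Y) (c : Y ⟶ A) : prod.lift a b ≫ prod.snd ≫ c = b ≫ c :=
  prod.lift_snd_assoc a b c
theorem sp_map_fst (a : X ⟶ Z) (b : Y ⟶ W) : prod.map a b ≫ prod.fst = prod.fst ≫ a := prod.map_fst a b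
theorem sp_map_snd (a : X ⟶ Z) (b : Y ⟶ W) : prod.map a b ≫ prod.snd = prod.snd ≫ b := prod.map_snd a b
theorem sp_plift_fst (a : W ⟶ X) (b : W ⟶ Y) {f : X ⟶ Z} {g : Y ⟶ Z} (w : a ≫ f = b ≫ g) :
    pullback.lift a b w ≫ pullback.fst f g = a := pullback.lift_fst _ _ _
theorem sp_plift_snd (a : W ⟶ X) (b : W ⟶ Y) {f : X ⟶ Z} {g : Y ⟶ Z} (w : a ≫ f = b ≫ g) :
    pullback.lift a b w ≫ pullback.snd f g = b := pullback.lift_snd _ _ _
theorem sp_plift_fst' (a : W ⟶ X) (b : W ⟶ Y) {f : X ⟶ Z} {g : Y ⟶ Z} (w : a ≫ f = b ≫ g) (c : X ⟶ A) :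
    pullback.lift a b w ≫ pullback.fst f g ≫ c = a ≫ c := pullback.lift_fst_assoc _ _ _ _
theorem sp_plift_snd' (a : W ⟶ X) (b : W ⟶ Y) {f : X ⟶ Z} {g : Y ⟶ Z} (w : a ≫ f = b ≫ g) (c : Y ⟶ A) :
    pullback.lift a b w ≫ pullback.snd f g ≫ c = b ≫ c := pullback.lift_snd_assoc _ _ _ _
theorem sp_diag_fst (X : Sp S) : Limits.diag X ≫ prod.fst = 𝟙 X := prod.lift_fst _ _
theorem sp_diag_snd (X : Sp S) : Limits.diag X ≫ prod.snd = 𝟙 X := prod.lift_snd _ _
theorem sp_diagonal_fst (f : X ⟶ Y) : pullback.diagonal f ≫ pullback.fst f f = 𝟙 X := pullback.diagonal_fst f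
theorem sp_diagonal_snd (f : X ⟶ Y) : pullback.diagonal f ≫ pullback.snd f f = 𝟙 X := pullback.diagonal_snd f

end SimpLemmas

attribute [local simp] sp_lift_fst sp_lift_snd sp_lift_fst' sp_lift_snd' sp_map_fst sp_map_snd
  sp_plift_fst sp_plift_snd sp_plift_fst' sp_plift_snd' sp_diag_fst sp_diag_snd sp_diagonal_fst sp_diagonal_snd

/-- A presheaf over a sheaf whose base changes to representables are sheaves is a sheaf. -/
theorem isSheaf_of_forall_pullback {F G : PSp S} (a : F ⟶ G) (hG : Presheaf.IsSheaf (J S) G)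
    (h : ∀ (T : Over S) (ξ : (pyon S).obj T ⟶ G), Presheaf.IsSheaf (J S) (pullback a ξ)) :
    Presheaf.IsSheaf (J S) F := by
  rw [isSheaf_iff_isSheaf_of_type] at hG ⊢
  intro T R hR x hx
  obtain ⟨y, hy, hyu⟩ := hG R hR (fun V g hg => a.app (op V) (x g hg)) (fun Y₁ Y₂ W g₁ g₂ f₁ f₂ h₁ h₂ e => (NatTrans.naturality_apply a g₁.op _).symm.trans ((congrArg (a.app _) (hx g₁ g₂ h₁ h₂ e)).trans (NatTrans.naturality_apply a g₂.op _)))
  let ξ : (pyon S).obj T ⟶ G := uliftYonedaEquiv.symm y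
  have hξ : ∀ (V : Over S) (g : V ⟶ T), ξ.app (op V) ⟨g⟩ = G.map g.op y := fun V g => rfl
  have hP : ∀ V, IsPullback ((pullback.fst a ξ).app V) ((pullback.snd a ξ).app V) (a.app V) (ξ.app V) :=
    fun V => (IsPullback.of_hasPullback a ξ).map ((evaluation _ _).obj V)
  have hpt : ∀ (V : Over S) (g : V ⟶ T) (hg : R g),
      ∃ z : (pullback a ξ).obj (op V), (pullback.fst a ξ).app _ z = x g hg ∧ (pullback.snd a ξ).app _ z = ⟨g⟩ :=
    fun V g hg => Types.exists_of_isPullback (hP _) _ _ ((hy g hg).symm)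
  choose z hz₁ hz₂ using hpt
  have hz : Presieve.FamilyOfElements.Compatible (P := pullback a ξ) (R := R.arrows) (fun V g hg => z V g hg) := by
    intro Y₁ Y₂ W g₁ g₂ f₁ f₂ h₁ h₂ e
    apply Types.ext_of_isPullback (hP _)
    · rw [NatTrans.naturality_apply (pullback.fst a ξ), NatTrans.naturality_apply (pullback.fst a ξ), hz₁, hz₁]
      exact hx g₁ g₂ h₁ h₂ e
    · rw [NatTrans.naturality_apply (pullback.snd a ξ), NatTrans.naturality_apply (pullback.snd a ξ), hz₂, hz₂]
      exact congrArg ULift.up e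
  obtain ⟨w, hw, hwu⟩ := ((isSheaf_iff_isSheaf_of_type _ _).1 (h T ξ)) R hR _ hz
  have hsepT : Presieve.IsSeparatedFor ((pyon S).obj T) R.arrows :=
    (((isSheaf_iff_isSheaf_of_type _ _).1 ((yon S).obj T).property) R hR).isSeparatedFor
  refine ⟨(pullback.fst a ξ).app _ w, fun V g hg => ?_, fun x' hx' => ?_⟩
  · rw [← NatTrans.naturality_apply (pullback.fst a ξ), hw g hg, hz₁]
  · have hy' : a.app _ x' = y := hyu _ fun V g hg => by
      rw [← NatTrans.naturality_apply a, hx' g hg]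
    obtain ⟨w', hw₁, hw₂⟩ := Types.exists_of_isPullback (hP (op T)) x' ⟨𝟙 T⟩
      (by rw [hy', hξ, op_id, G.map_id_apply])
    have : w' = w := hwu _ fun V g hg => by
      apply Types.ext_of_isPullback (hP _)
      · rw [NatTrans.naturality_apply (pullback.fst a ξ), hw₁, hx' g hg, hz₁]
      · rw [NatTrans.naturality_apply (pullback.snd a ξ), hw₂, hz₂]
        exact congrArg ULift.up (Category.comp_id g)
  
    rw [← hw₁, this]

theorem isSheaf_of_repBySp {F G : PSp S} (a : F ⟶ G) (ha : RepBySp a) (hG : Presheaf.IsSheaf (J S) G) :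
    Presheaf.IsSheaf (J S) F :=
  isSheaf_of_forall_pullback a hG fun T ξ => (ha ξ _ _ (IsPullback.of_hasPullback a ξ)).1

/-- The diagonal against a test map, as an equalizer of two sections. -/
theorem isPullback_diagonal_of_equalizer {C : Type*} [Category C] [HasPullbacks C] {X Y U V : C} (f : X ⟶ Y)
    (ξ : U ⟶ pullback f f) (e : V ⟶ U) (he : e ≫ ξ ≫ pullback.fst f f = e ≫ ξ ≫ pullback.snd f f)
    (huniv : ∀ (T : C) (h : T ⟶ U), h ≫ ξ ≫ pullback.fst f f = h ≫ ξ ≫ pullback.snd f f →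
      ∃! l : T ⟶ V, l ≫ e = h) :
    IsPullback (e ≫ ξ ≫ pullback.fst f f) e (pullback.diagonal f) ξ := by
  have w : (e ≫ ξ ≫ pullback.fst f f) ≫ pullback.diagonal f = e ≫ ξ := by
    apply pullback.hom_ext
    · simp
    · simpa using he
  have hc : ∀ (s : PullbackCone (pullback.diagonal f) ξ),
      s.snd ≫ ξ ≫ pullback.fst f f = s.snd ≫ ξ ≫ pullback.snd f f := fun s => by
    rw [← Category.assoc, ← Category.assoc, ← s.condition]
    simp
  refine IsPullback.of_isLimit' ⟨w⟩ (PullbackCone.IsLimit.mk _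
    (fun s => (huniv _ s.snd (hc s)).choose) (fun s => ?_) (fun s => (huniv _ s.snd (hc s)).choose_spec.1)
    (fun s m _ h2 => (huniv _ s.snd (hc s)).choose_spec.2 m h2))
  rw [← Category.assoc, (huniv _ s.snd (hc s)).choose_spec.1, ← Category.assoc, ← s.condition]
  simp

/-- The relative diagonal of a map representable by algebraic spaces is representable. -/
theorem representable_diagonal_of_repBySp {F G : Sp S} (f : F ⟶ G) (hf : RepBySp f.hom) :
    Representable (pullback.diagonal f) := by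
  intro U ξ
  rw [repBySp_hom_iff] at hf
  let y : (yon S).obj U ⟶ G := ξ ≫ pullback.fst f f ≫ f
  have hy : (ξ ≫ pullback.snd f f) ≫ f = y := by simp [y, pullback.condition]
  have hP := hf y _ _ (IsPullback.of_hasPullback f y)
  let s₁ : (yon S).obj U ⟶ pullback f y := pullback.lift (ξ ≫ pullback.fst f f) (𝟙 _) (by simp [y])
  let s₂ : (yon S).obj U ⟶ pullback f y := pullback.lift (ξ ≫ pullback.snd f f) (𝟙 _) (by simp [hy])
  obtain ⟨V, e, k, sq⟩ := hP.diag (prod.lift s₁ s₂)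
  have hk : k = (yon S).map e ≫ s₁ := by simpa using congrArg (· ≫ prod.fst) sq.w
  have hk' : k = (yon S).map e ≫ s₂ := by simpa using congrArg (· ≫ prod.snd) sq.w
  have h12 : ∀ {T : Sp S} (h : T ⟶ (yon S).obj U),
      (h ≫ ξ ≫ pullback.fst f f = h ≫ ξ ≫ pullback.snd f f) ↔ h ≫ s₁ = h ≫ s₂ := fun h => by
    constructor
    · intro e'
      apply pullback.hom_ext <;> simp [s₁, s₂, e']
    · intro e'
      simpa [s₁, s₂] using congrArg (· ≫ pullback.fst f y) e'
  refine ⟨V, e, _, isPullback_diagonal_of_equalizer f ξ ((yon S).map e) ((h12 _).2 (hk.symm.trans hk')) ?_⟩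
  intro T h hh
  have w : (h ≫ s₁) ≫ Limits.diag _ = h ≫ prod.lift s₁ s₂ := by
    apply Limits.prod.hom_ext <;> simp [(h12 h).1 hh]
  exact ⟨sq.lift (h ≫ s₁) h w, sq.lift_snd _ _ _, fun l hl => sq.hom_ext
    (by rw [sq.lift_fst, hk, ← Category.assoc, hl]) (by rw [hl, sq.lift_snd])⟩

theorem representable_diag_of_repBySp {F G : Sp S} (f : F ⟶ G) (hf : RepBySp f.hom)
    (hG : Representable (Limits.diag G)) : Representable (Limits.diag F) := by
  have sq : IsPullback (pullback.fst f f ≫ f) (prod.lift (pullback.fst f f) (pullback.snd f f))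
      (Limits.diag G) (prod.map f f) := by
    refine IsPullback.of_isLimit' ⟨by apply Limits.prod.hom_ext <;> simp [pullback.condition]⟩ ?_
    have hc : ∀ (s : PullbackCone (Limits.diag G) (prod.map f f)),
        s.snd ≫ prod.fst ≫ f = s.fst ∧ s.snd ≫ prod.snd ≫ f = s.fst := fun s =>
      ⟨by simpa using (congrArg (· ≫ prod.fst) s.condition).symm,
        by simpa using (congrArg (· ≫ prod.snd) s.condition).symm⟩
    refine PullbackCone.IsLimit.mk _ (fun s => pullback.lift (s.snd ≫ prod.fst) (s.snd ≫ prod.snd)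
      (by simp [(hc s).1, (hc s).2])) (fun s => ?_) (fun s => ?_) (fun s m _ h2 => ?_)
    · simp [(hc s).1]
    · apply Limits.prod.hom_ext <;> simp
    · apply pullback.hom_ext <;> simp [← h2]
  have e : Limits.diag F = pullback.diagonal f ≫ prod.lift (pullback.fst f f) (pullback.snd f f) := by
    apply Limits.prod.hom_ext <;> simp
  rw [e]
  exact MorphismProperty.comp_mem _ _ _ (representable_diagonal_of_repBySp f hf)
    (MorphismProperty.of_isPullback sq hG)

theorem isAlgSpace_of_repBySp {F G : Sp S} (f : F ⟶ G) (hf : RepBySp f.hom) (hG : IsAlgSpace G) :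
    IsAlgSpace F where
  diag := representable_diag_of_repBySp f hf hG.diag
  atlas := by
    obtain ⟨U, u, hue, hus⟩ := hG.atlas
    have sq := IsPullback.of_hasPullback f u
    obtain ⟨V, v, hve, hvs⟩ := (((repBySp_hom_iff f).1 hf) u _ _ sq).atlas
    exact ⟨V, v ≫ pullback.fst f u, MorphismProperty.comp_mem _ _ _ hve (MorphismProperty.of_isPullback sq.flip hue),
      MorphismProperty.comp_mem _ _ _ hvs (MorphismProperty.of_isPullback sq.flip hus)⟩

theorem isAlgSpaceP_of_repBySp {F G : PSp S} (a : F ⟶ G) (ha : RepBySp a) (hG : IsAlgSpaceP G) :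
    IsAlgSpaceP F := by
  obtain ⟨hG', hG⟩ := hG
  have hF := isSheaf_of_repBySp a ha hG'
  exact ⟨hF, isAlgSpace_of_repBySp (F := ⟨F, hF⟩) (G := ⟨G, hG'⟩) (ObjectProperty.homMk a) ha hG⟩

theorem repBySp_of_isPullback {P F G H : PSp S} {fst : P ⟶ F} {snd : P ⟶ H} {a : F ⟶ G} {b : H ⟶ G}
    (sq : IsPullback fst snd a b) (ha : RepBySp a) : RepBySp snd :=
  fun _ ξ _ f' s' sq' => ha (ξ ≫ b) (f' ≫ fst) s' (sq'.paste_horiz sq)

theorem isAlgSpaceP_pullback_of_repBySp {P F G H : PSp S} {fst : P ⟶ F} {snd : P ⟶ H} {a : F ⟶ G} {b : H ⟶ G}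
    (sq : IsPullback fst snd a b) (ha : RepBySp a) (hH : IsAlgSpaceP H) : IsAlgSpaceP P :=
  isAlgSpaceP_of_repBySp snd (repBySp_of_isPullback sq ha) hH

theorem repBySp_comp {F G H : PSp S} {a : F ⟶ G} {b : G ⟶ H} (ha : RepBySp a) (hb : RepBySp b) :
    RepBySp (a ≫ b) := by
  intro U ξ F' fst snd sq
  have sqb := IsPullback.of_hasPullback b ξ
  have w : (fst ≫ a) ≫ b = snd ≫ ξ := by rw [Category.assoc]; exact sq.w
  have sq' : IsPullback fst (pullback.lift (fst ≫ a) snd w ≫ pullback.snd b ξ) (a ≫ b) ξ := by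
    rw [pullback.lift_snd]; exact sq
  exact isAlgSpaceP_pullback_of_repBySp (IsPullback.of_bot sq' (pullback.lift_fst _ _ _).symm sqb) ha
    (hb ξ _ _ sqb)

end Groth.Agent.AlgSt88
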