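import Groth.Agent.AlgSt88.Setoid
import Groth.Agent.AlgSt88.Pi0
import Groth.Agent.AlgSt88.PshRep
import Groth.Agent.AlgSt88.RepBySp
import Groth.Agent.AlgSt88.RepPost

/-! Base change of a representable morphism to an algebraic space. -/

set_option autoImplicit false
set_option backward.isDefEq.respectTransparency false
set_option backward.isDefEq.respectTransparency.types false
universe u

open CategoryTheory CategoryTheory.Limits AlgebraicGeometry Opposite AlgSt FibCat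

namespace Groth.Agent.AlgSt88

variable {S : Scheme.{u}} {𝒳 𝒴 𝒵 : AlgSt.Cat S}

/-- Base change of a morphism representable by algebraic spaces to an algebraic space is an algebraic space,
compatibly with the projections. -/
theorem exists_space_fp (hX : IsFibGrpd 𝒳.p) (hY : IsFibGrpd 𝒴.p) {f : 𝒳 ⥤ᵇ 𝒴} (hf : RepByAlgSp1 f)
    (G : AlgSp.Space S) (m : ofSp G.obj ⥤ᵇ 𝒴) :
    ∃ (F : AlgSp.Space S) (a : F.obj ⟶ G.obj) (e : ofSp F.obj ⥤ᵇ fp m f), IsEquivOver e ∧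
      Nonempty (BasedFunctor.comp e (fpFst m f) ≅ ofSpMap a) ∧
      ∀ (Q : MorphismProperty (AlgSp.Sp S)), Q.RespectsIso → RepByAlgSpWith Q f → AlgSp.RepBySpWith Q a.hom := by
  have hfp : IsFibGrpd (fp m f).p := isFibGrpd_fp (Stk.isFibGrpd_ofPsh G.obj.obj) hX hY m f
  haveI := faithful_of_repByAlgSp1 hX hY hf
  have thin : ∀ {x y : (fp m f).obj} (u v : x ⟶ y), (fp m f).p.map u = (fp m f).p.map v → u = v := by
    intro x y u v h
    have h1 : u.hom.fst = v.hom.fst := Stk.EltObj.hom_ext h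
    refine fpHom_ext h1 (f.toFunctor.map_injective ((cancel_epi x.obj.iso.hom).1 ?_))
    rw [← u.hom.w, ← v.hom.w, h1]
  obtain ⟨ψ, hψ, -, -⟩ := isEquivOver_inverse (isEquivOver_toPi0 hfp thin)
  obtain ⟨α⟩ := nonempty_iso_ofPshMap (Q := G.obj.obj) (BasedFunctor.comp ψ (fpFst m f))
  let aP := pshHom (Q := G.obj.obj) (BasedFunctor.comp ψ (fpFst m f))
  have hQ : ∀ (Q : MorphismProperty (AlgSp.Sp S)), RepByAlgSpWith Q f → RepByAlgSpWith Q (Stk.ofPshMap aP) :=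
    fun Q h => repByAlgSpWith_of_iso α ((repByAlgSpWith_precomp_equiv hψ).2 (repByAlgSpWith_fpFst m h))
  have ha : AlgSp.RepBySp aP := (repByAlgSp1_ofPshMap_iff _).2
    (repByAlgSpWith_top_iff.1 (hQ ⊤ (repByAlgSpWith_top_iff.2 hf)))
  obtain ⟨hF, hA⟩ := isAlgSpaceP_of_repBySp aP ha ((AlgSp.isAlgSpaceP_obj_iff G.obj).2 G.property)
  refine ⟨⟨⟨_, hF⟩, hA⟩, ObjectProperty.homMk aP, ψ, hψ, ⟨α⟩, fun Q hQi h => ?_⟩
  haveI := hQi
  exact (repByAlgSpWith_ofPshMap_iff Q aP).2 (hQ Q h)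

theorem repByAlgSp_fp (hX : IsFibGrpd 𝒳.p) (hY : IsFibGrpd 𝒴.p) {f : 𝒳 ⥤ᵇ 𝒴} (g : 𝒵 ⥤ᵇ 𝒴)
    (hf : RepByAlgSp1 f) (hZ : RepByAlgSp 𝒵) : RepByAlgSp (fp g f) := by
  obtain ⟨G, eZ, hZ⟩ := hZ
  obtain ⟨F, a, e, he, -, -⟩ := exists_space_fp hX hY hf G (BasedFunctor.comp eZ g)
  exact repByAlgSp_of_equiv (repByAlgSp_of_equiv (repByAlgSp_ofSp F) he) (isEquivOver_fpMapFst g f eZ hZ)

end Groth.Agent.AlgSt88
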