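import Groth.Agent.AlgSt88.DiagRep
import Groth.Agent.AlgSt88.SpQProps
import Groth.Agent.AlgSt88.FpSpace
import Groth.Agent.AlgSt88.AtlasFp
import Groth.Agent.Fib44.Post
import Groth.Agent.Fib44.Psh
import Groth.Agent.Fib44.StackFp
import Groth.Agent.SpPts86.BootSpace

/-! The bootstrap theorem for stacks in setoids and its consequences. -/

set_option autoImplicit false
set_option backward.isDefEq.respectTransparency false
set_option backward.isDefEq.respectTransparency.types false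
set_option linter.style.haveILetI false
universe u

open CategoryTheory CategoryTheory.Limits AlgebraicGeometry Opposite AlgSt FibCat

namespace Groth.Agent.AlgSt88

variable {S : Scheme.{u}} {𝒳 𝒴 𝒲 : AlgSt.Cat S}

/-- A stack in setoids covered by an algebraic space is an algebraic space. -/
theorem repByAlgSp_of_setoid_cover (hX : Stk.IsStack (QuotSh.J Scheme.fppfPrecoverage S) 𝒳)
    (thin : ∀ {x y : 𝒳.obj} (f g : x ⟶ y), 𝒳.p.map f = 𝒳.p.map g → f = g)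
    (G : AlgSp.Space S) (g : ofSp G.obj ⥤ᵇ 𝒳) (h1 : RepByAlgSpWith (AlgSp.LocP @Flat) g)
    (h2 : RepByAlgSpWith (AlgSp.LocP @LocallyOfFinitePresentation) g)
    (h3 : RepByAlgSpWith AlgSp.IsSurjectiveMor g) : RepByAlgSp 𝒳 := by
  have he := isEquivOver_toPi0 hX.1 thin
  have hs : Presieve.IsSheaf (QuotSh.J Scheme.fppfPrecoverage S) (pi0 𝒳 hX.1) :=
    (Fib44.isStack_ofPsh_iff _).1 ((Fib44.isStack_iff_of_isEquivOver he _).1 hX)
  let F : AlgSp.Sp S := ⟨pi0 𝒳 hX.1, (isSheaf_iff_isSheaf_of_type _ _).2 hs⟩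
  obtain ⟨α⟩ := exists_hom_iso (F := G.obj) (G := F) (BasedFunctor.comp g (toPi0 hX.1))
  let p : G.obj ⟶ F := homOfBased (F := G.obj) (G := F) (BasedFunctor.comp g (toPi0 hX.1))
  have key : ∀ (Q : MorphismProperty (AlgSp.Sp S)), Q.RespectsIso → RepByAlgSpWith Q g →
      AlgSp.RepBySpWith Q p.hom := fun Q hQi hQ => by
    haveI := hQi
    exact (repByAlgSpWith_ofPshMap_iff Q p.hom).2
      (repByAlgSpWith_of_iso α ((repByAlgSpWith_postcomp_equiv he).2 hQ))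
  have hF : AlgSp.IsAlgSpace F := by
    refine SpPts86.isAlgSpace_of_fppf_cover G.property p ((AlgSp.repBySpWith_hom_iff _ p).2
      fun U ξ F' fst snd sq => ?_)
    obtain ⟨hA, ha⟩ := (AlgSp.repBySpWith_hom_iff _ p).1 (key _ (respectsIso_locP _) h1) ξ fst snd sq
    exact ⟨hA, ⟨((AlgSp.repBySpWith_hom_iff _ p).1 (key _ respectsIso_surj h3) ξ fst snd sq).2, ha⟩,
      ((AlgSp.repBySpWith_hom_iff _ p).1 (key _ (respectsIso_locP _) h2) ξ fst snd sq).2⟩
  exact repByAlgSp_of_equiv' (repByAlgSp_ofSp ⟨F, hF⟩) he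


theorem thin_of_isFibSetoid (h : IsFibSetoid 𝒳.p) {x y : 𝒳.obj} (f g : x ⟶ y)
    (hfg : 𝒳.p.map f = 𝒳.p.map g) : f = g := by
  obtain ⟨χ, h1, h2⟩ := fg_exists_fac h.1 g f (𝟙 _) ((Category.id_comp _).trans hfg.symm)
  haveI := h.2 (𝒳.p.obj x)
  let a : 𝒳.p.Fiber (𝒳.p.obj x) := ⟨x, rfl⟩
  have hl : 𝒳.p.IsHomLift (𝟙 (𝒳.p.obj x)) χ := IsHomLift.of_fac' _ _ _ rfl rfl (by simp [h1])
  have hi : 𝒳.p.IsHomLift (𝟙 (𝒳.p.obj x)) (𝟙 x) := IsHomLift.id rfl
  have := Subsingleton.elim (α := a ⟶ a) ⟨χ, hl⟩ ⟨𝟙 x, hi⟩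
  have hχ : χ = 𝟙 x := congrArg (fun t => t.1) this
  rw [← h2, hχ, Category.id_comp]

/-- A stack in setoids with a smooth surjective chart is an algebraic space. -/
theorem repByAlgSp_of_setoid_chart (hX : Stk.IsStack (QuotSh.J Scheme.fppfPrecoverage S) 𝒳)
    (thin : ∀ {x y : 𝒳.obj} (f g : x ⟶ y), 𝒳.p.map f = 𝒳.p.map g → f = g)
    (hA : HasAtlas (AlgSp.LocP @Smooth) 𝒳) : RepByAlgSp 𝒳 := by
  obtain ⟨U, u, hu, hu'⟩ := hA
  have h1 : Sm (BasedFunctor.comp (toOverCat U) u) :=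
    (repByAlgSpWith_precomp_equiv (isEquivOver_toOverCat U)).2 hu
  exact repByAlgSp_of_setoid_cover hX thin ⟨_, AlgSp.IsAlgSpace.yon_obj U⟩ (BasedFunctor.comp (toOverCat U) u)
    (rep_flat_of_sm h1) (rep_lfp_of_sm h1) ((repByAlgSpWith_precomp_equiv (isEquivOver_toOverCat U)).2 hu')

theorem isStack_overCat_fppf (U : Over S) : Stk.IsStack (QuotSh.J Scheme.fppfPrecoverage S) (overCat U) :=
  (Fib44.isStack_iff_of_isEquivOver (isEquivOver_toOverCat U) _).1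
    (isDM_ofSp ⟨(AlgSp.yon S).obj U, AlgSp.IsAlgSpace.yon_obj U⟩).1.isStack

/-- The diagonal of a stack with an atlas is representable by algebraic spaces. -/
theorem repByAlgSp1_diag_of_cover (hX : Stk.IsStack (QuotSh.J Scheme.fppfPrecoverage S) 𝒳) (hW : IsFibGrpd 𝒲.p)
    (hWs : RepByAlgSp 𝒲) (u : 𝒲 ⥤ᵇ 𝒳) (h1 : RepByAlgSpWith (AlgSp.LocP @Flat) u)
    (h2 : RepByAlgSpWith (AlgSp.LocP @LocallyOfFinitePresentation) u)
    (h3 : RepByAlgSpWith AlgSp.IsSurjectiveMor u) : RepByAlgSp1 (diag (toSelf 𝒳)) := by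
  refine (diag_iff hX.1).2 fun T x V y => ?_
  have hV := isFibGrpd_overCat V
  have hT := isFibGrpd_overCat T
  have hru := repByAlgSp1_of_with h1
  have hH : Stk.IsStack (QuotSh.J Scheme.fppfPrecoverage S) (fp y x) :=
    Fib44.isStack_fp (isStack_overCat_fppf V) (isStack_overCat_fppf T) (Fib44.isPrestack_of_isStack hX)
  have thin : ∀ {a b : (fp y x).obj} (f g : a ⟶ b), (fp y x).p.map f = (fp y x).p.map g → f = g := by
    intro a b f g h
    refine fpHom_ext (Over.OverMorphism.ext h) (Over.OverMorphism.ext ?_)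
    have h' : (overCat T).p.map f.hom.snd = (overCat T).p.map g.hom.snd := by
      change (overCat T).p.map ((fpSnd y x).map f) = (overCat T).p.map ((fpSnd y x).map g)
      rw [p_map_eq, p_map_eq, h]
    exact h'
  have hUT : RepByAlgSp (fp u x) := repByAlgSp_of_equiv (hru T x) isEquivOver_fpSwap
  have hP : RepByAlgSp (fp (fpSnd y u) (fpFst u x)) :=
    repByAlgSp_fp (isFibGrpd_fp hW hT hX.1 u x) hW (fpSnd y u) (repByAlgSp1_of_repByAlgSp hUT hWs _) (hru V y)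
  have h4 : RepByAlgSp (fp (BasedFunctor.comp (fpFst y u) y) x) :=
    repByAlgSp_of_equiv (repByAlgSp_of_equiv hP (isEquivOver_fpPaste (fpSnd y u) u x))
      (isEquivOver_fpCongr (fpIso y u).symm (Iso.refl x))
  have h5 : RepByAlgSp (fp (fpFst y x) (fpFst y u)) :=
    repByAlgSp_of_equiv (repByAlgSp_of_equiv' h4 (isEquivOver_fpPaste (fpFst y u) y x)) isEquivOver_fpSwap
  obtain ⟨G, e, he⟩ := h5
  have hb : ∀ {Q : MorphismProperty (AlgSp.Sp S)}, RepByAlgSpWith Q u →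
      RepByAlgSpWith Q (BasedFunctor.comp e (fpFst (fpFst y x) (fpFst y u))) := fun h =>
    (repByAlgSpWith_precomp_equiv he).2 (repByAlgSpWith_fpFst _ (repByAlgSpWith_fpFst y h))
  exact repByAlgSp_of_setoid_cover hH thin G (BasedFunctor.comp e (fpFst (fpFst y x) (fpFst y u))) (hb h1) (hb h2) (hb h3)

/-- A stack with a smooth surjective chart from an algebraic space is algebraic. -/
theorem isAlgStack_of_chart (hX : Stk.IsStack (QuotSh.J Scheme.fppfPrecoverage S) 𝒳) (W : AlgSp.Space S)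
    (u : ofSp W.obj ⥤ᵇ 𝒳) (h1 : Sm u) (h2 : Sj u) : IsAlgStack Scheme.fppfPrecoverage 𝒳 := by
  refine ⟨hX, repByAlgSp1_diag_of_cover hX (Stk.isFibGrpd_ofPsh _) (repByAlgSp_ofSp W) u (rep_flat_of_sm h1)
    (rep_lfp_of_sm h1) h2, ?_⟩
  obtain ⟨U, a, ha, ha'⟩ := (isDM_ofSp W).1.atlas
  exact ⟨U, BasedFunctor.comp a u, sm_comp (isFibGrpd_overCat U) (Stk.isFibGrpd_ofPsh _) ha h1,
    repByAlgSpWith_surj_comp (isFibGrpd_overCat U) (Stk.isFibGrpd_ofPsh _) ha' h2⟩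

end Groth.Agent.AlgSt88
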