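import Groth.Agent.AlgSt88.DiagRep
import Groth.Agent.Fib44.Post

/-! Invariance of algebraic stacks under equivalence. -/

set_option autoImplicit false
set_option backward.isDefEq.respectTransparency false
set_option backward.isDefEq.respectTransparency.types false
universe u

open CategoryTheory CategoryTheory.Limits AlgebraicGeometry Opposite AlgSt FibCat

namespace Groth.Agent.AlgSt88

variable {S : Scheme.{u}} {𝒳 𝒴 : AlgSt.Cat S} {K : Precoverage Scheme.{u}} {P : MorphismProperty (AlgSp.Sp S)}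

theorem repByAlgSp1_of_iso {f f' : 𝒳 ⥤ᵇ 𝒴} (α : f ≅ f') (h : RepByAlgSp1 f) : RepByAlgSp1 f' :=
  repByAlgSpWith_top_iff.1 (repByAlgSpWith_of_iso α (repByAlgSpWith_top_iff.2 h))

theorem hasAtlas_of_equiv {e : 𝒳 ⥤ᵇ 𝒴} (he : IsEquivOver e) (h : HasAtlas P 𝒳) : HasAtlas P 𝒴 := by
  obtain ⟨U, x, h1, h2⟩ := h
  exact ⟨U, BasedFunctor.comp x e, (repByAlgSpWith_postcomp_equiv he).2 h1,
    (repByAlgSpWith_postcomp_equiv he).2 h2⟩

theorem isAlgStack_of_equiv {e : 𝒳 ⥤ᵇ 𝒴} (he : IsEquivOver e) (h : IsAlgStack K 𝒳) : IsAlgStack K 𝒴 := by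
  have hY := (Fib44.isStack_iff_of_isEquivOver he (QuotSh.J K S)).1 h.isStack
  refine ⟨hY, (diag_iff hY.1).2 fun U y V z => ?_, hasAtlas_of_equiv he h.atlas⟩
  obtain ⟨c, -, -, ⟨β⟩⟩ := isEquivOver_inverse he
  have hy : RepByAlgSpWith (⊤ : MorphismProperty (AlgSp.Sp S)) (BasedFunctor.comp (BasedFunctor.comp y c) e) :=
    (repByAlgSpWith_postcomp_equiv he).2 (repByAlgSpWith_top_iff.2 ((diag_iff h.isStack.1).1 h.diag U (BasedFunctor.comp y c)))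
  exact repByAlgSpWith_top_iff.1 (repByAlgSpWith_of_iso (f' := y) (bLeft y β) hy) V z

theorem isAlgStack_iff {e : 𝒳 ⥤ᵇ 𝒴} (he : IsEquivOver e) : IsAlgStack K 𝒳 ↔ IsAlgStack K 𝒴 :=
  ⟨isAlgStack_of_equiv he, fun h => by
    obtain ⟨c, hc, -, -⟩ := isEquivOver_inverse he
    exact isAlgStack_of_equiv hc h⟩

theorem isDM_iff {e : 𝒳 ⥤ᵇ 𝒴} (he : IsEquivOver e) : IsDM K 𝒳 ↔ IsDM K 𝒴 :=
  ⟨fun h => ⟨isAlgStack_of_equiv he h.1, hasAtlas_of_equiv he h.2⟩, fun h => by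
    obtain ⟨c, hc, -, -⟩ := isEquivOver_inverse he
    exact ⟨isAlgStack_of_equiv hc h.1, hasAtlas_of_equiv hc h.2⟩⟩

end Groth.Agent.AlgSt88
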