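import Groth.Agent.AlgSt88.QuotStack
import Groth.Agent.AlgSt88.QuotAffine
import Groth.Agent.AlgSt88.Bootstrap
import Groth.Agent.AlgSt88.Invar
import Groth.Agent.SpPts86.SmoothSection
import Mathlib.AlgebraicGeometry.Sites.Etale

/-! The quotient stack of a smooth affine group. -/

set_option autoImplicit false
set_option linter.style.haveILetI false
set_option backward.isDefEq.respectTransparency false
set_option backward.isDefEq.respectTransparency.types false
universe u

open CategoryTheory CategoryTheory.Limits MonoidalCategory CartesianMonoidalCategory AlgebraicGeometry AlgSt FibCat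

namespace Groth.Agent.AlgSt88

variable {S : Scheme.{u}} {G X : Over S} [GrpObj G] (a : AlgGrp.Action G X)

theorem repByAlgSp1_diag_quotSt [Flat G.hom] [LocallyOfFinitePresentation G.hom] [IsAffineHom G.hom] :
    RepByAlgSp1 (diag (toSelf (QuotSt Scheme.fppfPrecoverage G a))) := by
  have he := isEquivOver_ofOverCat X
  exact repByAlgSp1_diag_of_cover (isStack_quotSt Scheme.fppfPrecoverage_le_fpqcPrecoverage ‹_› a)
    (Stk.isFibGrpd_ofPsh _) (repByAlgSp_ofSp ⟨_, AlgSp.IsAlgSpace.yon_obj X⟩)
    (quotMap Scheme.fppfPrecoverage G a)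
    ((repByAlgSpWith_precomp_equiv he).1 (repByAlgSpWith_locP_quotMap a @Flat (flat_π ‹_›)
      fun f hf => (SpFP87.locP_yon_map_iff f).2 hf))
    ((repByAlgSpWith_precomp_equiv he).1 (repByAlgSpWith_locP_quotMap a @LocallyOfFinitePresentation (lfp_π ‹_›)
      fun f hf => (SpFP87.locP_yon_map_iff f).2 hf))
    ((repByAlgSpWith_precomp_equiv he).1 (repByAlgSpWith_surj_quotMap a))

theorem isAlgStack_quotSt_of_smooth [Smooth G.hom] [IsAffineHom G.hom] :
    IsAlgStack Scheme.fppfPrecoverage (QuotSt Scheme.fppfPrecoverage G a) :=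
  ⟨isStack_quotSt Scheme.fppfPrecoverage_le_fpqcPrecoverage ‹_› a, repByAlgSp1_diag_quotSt a,
    X, BasedFunctor.comp (ofOverCat X) (quotMap Scheme.fppfPrecoverage G a),
    repByAlgSpWith_locP_quotMap a @Smooth (smooth_π ‹_›) (fun f hf => (SpFP87.locP_yon_map_iff f).2 hf),
    repByAlgSpWith_surj_quotMap a⟩

theorem etale_le_fppf : Scheme.etalePrecoverage.{u} ≤ Scheme.fppfPrecoverage :=
  Scheme.precoverage_mono fun _ _ f hf => by
    haveI : Etale f := hf
    exact ⟨inferInstance, inferInstance⟩

theorem etale_loc_of_smooth {Y T : Scheme.{u}} (p : Y ⟶ T) [Smooth p] (hp : Surjective p) :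
    NonAbH1.IsLocallyTrivialFor Scheme.etalePrecoverage (Over.mk p) := by
  have hx : ∀ x : T, ∃ (S' : Scheme.{u}) (g : S' ⟶ T) (s' : S'), Etale g ∧ g s' = x ∧
      ∃ t : S' ⟶ Y, t ≫ p = g := by
    intro x
    obtain ⟨y, rfl⟩ := hp.surj x
    exact SpPts86.exists_etale_section p y
  choose S' g s' hg hgs t ht using hx
  refine ⟨Presieve.ofArrows S' g, ?_, ?_⟩
  · exact (Scheme.ofArrows_mem_precoverage_iff _).mpr ⟨fun x => ⟨x, s' x, hgs x⟩, hg⟩
  · rintro W f ⟨x⟩
    exact ⟨t x, ht x⟩

theorem isEquivOver_quotWeaken_etale [Smooth G.hom] :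
    IsEquivOver (quotWeaken etale_le_fppf a) := by
  apply IsEquivData.isEquivOver
  refine ⟨fun {A B} f g h => ?_, fun {A B} k => ?_, fun z => ?_⟩
  · exact QuotObj.hom_ext (congrArg (fun t => t.base) h) (congrArg (fun t => t.top) h)
  · exact ⟨⟨k.base, k.top, k.eqv, k.cart, k.wφ⟩, rfl⟩
  · have : Smooth z.π.left := smooth_π ‹_› z
    let w : (QuotSt Scheme.etalePrecoverage G a).obj :=
      { base := z.base, P := z.P, act := z.act, π := z.π, cart := z.cart
        loc := etale_loc_of_smooth z.π.left (surjective_π z)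
        φ := z.φ, eqv := z.eqv }
    exact ⟨w, Iso.refl z, IsHomLift.id rfl⟩

instance etalePrecoverage_hasIsos : Scheme.etalePrecoverage.{u}.HasIsos :=
  inferInstanceAs (Scheme.precoverage @Etale).HasIsos

instance etalePrecoverage_isStableUnderComposition : Scheme.etalePrecoverage.{u}.IsStableUnderComposition :=
  inferInstanceAs (Scheme.precoverage @Etale).IsStableUnderComposition

instance etalePrecoverage_isStableUnderBaseChange : Scheme.etalePrecoverage.{u}.IsStableUnderBaseChange :=
  inferInstanceAs (Scheme.precoverage @Etale).IsStableUnderBaseChange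

theorem quotMap_weaken :
    BasedFunctor.comp (BasedFunctor.comp (ofOverCat X) (quotMap Scheme.etalePrecoverage G a))
        (quotWeaken etale_le_fppf a) =
      BasedFunctor.comp (ofOverCat X) (quotMap Scheme.fppfPrecoverage G a) := rfl

theorem repByAlgSpWith_etale_quotMap [Smooth G.hom] {P : MorphismProperty (AlgSp.Sp S)}
    (h : RepByAlgSpWith P (BasedFunctor.comp (ofOverCat X) (quotMap Scheme.fppfPrecoverage G a))) :
    RepByAlgSpWith P (BasedFunctor.comp (ofOverCat X) (quotMap Scheme.etalePrecoverage G a)) :=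
  (repByAlgSpWith_postcomp_equiv (isEquivOver_quotWeaken_etale a)).1 (quotMap_weaken a ▸ h)

theorem isAlgStack_quotSt_etale [Smooth G.hom] [IsAffineHom G.hom] :
    IsAlgStack Scheme.etalePrecoverage (QuotSt Scheme.etalePrecoverage G a) := by
  have he := isEquivOver_quotWeaken_etale (a := a)
  obtain ⟨c, hc, -, -⟩ := isEquivOver_inverse he
  have h := isAlgStack_quotSt_of_smooth a
  have hs : Stk.IsStack (QuotSh.J Scheme.etalePrecoverage S) (QuotSt Scheme.etalePrecoverage G a) :=
    isStack_quotSt (etale_le_fppf.trans Scheme.fppfPrecoverage_le_fpqcPrecoverage) ‹_› a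
  have hs' := (Fib44.isStack_iff_of_isEquivOver he (QuotSh.J Scheme.etalePrecoverage S)).1 hs
  exact isAlgStack_of_equiv hc ⟨hs', h.diag, h.atlas⟩

end Groth.Agent.AlgSt88
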