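import Groth.Agent.AlgSt88.PshRep
import Groth.Agent.AlgSt88.RepPost
import Groth.Agent.SpFP87.Basic

/-! Morphisms between categories representable by algebraic spaces. -/

set_option autoImplicit false
set_option backward.isDefEq.respectTransparency false
set_option backward.isDefEq.respectTransparency.types false
universe w v u

open CategoryTheory CategoryTheory.Limits AlgebraicGeometry AlgSt FibCat

namespace Groth.Agent.AlgSt88

variable {S : Scheme.{u}}

theorem repBySp_of_algSpaces {F G : AlgSp.Sp S} (a : F ⟶ G) (hF : AlgSp.IsAlgSpace F) (hG : AlgSp.IsAlgSpace G) :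
    AlgSp.RepBySp a.hom := by
  rw [AlgSp.repBySp_hom_iff]
  intro U ξ F' fst snd sq
  exact SpFP87.isAlgSpace_of_isPullback sq hF (AlgSp.IsAlgSpace.yon_obj U) hG.diag

theorem repByAlgSp1_of_repByAlgSp {𝒳 : BasedCategory.{v, w} (Over S)} {𝒴 : BasedCategory.{v, w} (Over S)}
    (hX : RepByAlgSp 𝒳) (hY : RepByAlgSp 𝒴) (f : 𝒳 ⥤ᵇ 𝒴) : RepByAlgSp1 f := by
  obtain ⟨F, eX, hX⟩ := hX
  obtain ⟨G, eY, hY⟩ := hY
  obtain ⟨eY', hY', -, ⟨β⟩⟩ := isEquivOver_inverse hY
  obtain ⟨α⟩ := nonempty_iso_ofPshMap (P := F.obj.obj) (Q := G.obj.obj)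
    (BasedFunctor.comp eX (BasedFunctor.comp f eY'))
  let a : F.obj ⟶ G.obj :=
    ObjectProperty.homMk (pshHom (P := F.obj.obj) (Q := G.obj.obj) (BasedFunctor.comp eX (BasedFunctor.comp f eY')))
  have h1 := repByAlgSpWith_top_iff.2 ((repByAlgSp1_ofPshMap_iff a.hom).1 (repBySp_of_algSpaces a F.property G.property))
  have h2 := repByAlgSpWith_of_iso α.symm h1
  rw [repByAlgSpWith_precomp_equiv hX] at h2
  have h3 := (repByAlgSpWith_postcomp_equiv hY).2 h2
  exact repByAlgSpWith_top_iff.1 (repByAlgSpWith_of_iso (bLeft f β) h3)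

end Groth.Agent.AlgSt88
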