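import Groth.Agent.AlgSt88.Self
import Groth.Agent.AlgSt88.FpSpace
import Groth.Agent.AlgSt88.RepSpace

/-! The diagonal and maps from schemes. -/

set_option autoImplicit false
set_option backward.isDefEq.respectTransparency false
set_option backward.isDefEq.respectTransparency.types false
universe u

open CategoryTheory CategoryTheory.Limits AlgebraicGeometry Opposite AlgSt FibCat

namespace Groth.Agent.AlgSt88

variable {S : Scheme.{u}}

theorem repByAlgSp_overCat (U : Over S) : RepByAlgSp (overCat U) :=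
  repByAlgSp_of_equiv (repByAlgSp_ofSp ⟨(AlgSp.yon S).obj U, AlgSp.IsAlgSpace.yon_obj U⟩) (isEquivOver_toOverCat U)

theorem isEquivOver_toSelf_terminal : IsEquivOver (toSelf (overCat (Over.mk (𝟙 S) : Over S))) := by
  refine IsEquivData.isEquivOver ⟨?_, ?_, ?_⟩
  · intro x y f g h
    exact Over.OverMorphism.ext h
  · intro x y g
    exact ⟨Over.homMk g (Over.mkIdTerminal.hom_ext _ _), rfl⟩
  · intro T
    exact ⟨Over.mk (Over.mkIdTerminal.from T), Iso.refl _, IsHomLift.id rfl⟩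

theorem repByAlgSp_selfOver : RepByAlgSp (selfOver (Over S)) :=
  repByAlgSp_of_equiv (repByAlgSp_overCat _) isEquivOver_toSelf_terminal

theorem isFibGrpd_selfOver : IsFibGrpd (selfOver (Over S)).p where
  exists_lift := fun {x} {V} f => ⟨V, f, IsHomLift.map (𝟭 (Over S)) f⟩
  isStronglyCartesian := fun {y x} φ =>
    { universal_property' := fun {a'} g φ' hφ' => by
        have e := @IsHomLift.eq_of_isHomLift _ _ _ _ (𝟭 (Over S)) _ _ (g ≫ φ) φ' hφ'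
        refine ⟨g, ⟨IsHomLift.map (𝟭 (Over S)) g, e⟩, ?_⟩
        rintro χ ⟨hχ, -⟩
        exact (@IsHomLift.eq_of_isHomLift _ _ _ _ (𝟭 (Over S)) _ _ g χ hχ).symm }

theorem repByAlgSp_prod {𝒳 𝒴 : AlgSt.Cat S} (hYf : IsFibGrpd 𝒴.p) (hX : RepByAlgSp 𝒳) (hY : RepByAlgSp 𝒴) :
    RepByAlgSp (fp (toSelf 𝒳) (toSelf 𝒴)) :=
  repByAlgSp_fp hYf isFibGrpd_selfOver (toSelf 𝒳) (repByAlgSp1_of_repByAlgSp hY repByAlgSp_selfOver _) hX

variable {𝒳 : AlgSt.Cat S}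

theorem repByAlgSp1_from_space (hX : IsFibGrpd 𝒳.p)
    (h : ∀ (U : Over S) (x : overCat U ⥤ᵇ 𝒳), RepByAlgSp1 x) {𝒰 : AlgSt.Cat S} (hU : RepByAlgSp 𝒰)
    (x : 𝒰 ⥤ᵇ 𝒳) : RepByAlgSp1 x := fun V y =>
  repByAlgSp_of_equiv (repByAlgSp_fp (isFibGrpd_overCat V) hX x (h V y) hU) isEquivOver_fpSwap

theorem repByAlgSp1_of_diag (hX : IsFibGrpd 𝒳.p) (hΔ : RepByAlgSp1 (diag (toSelf 𝒳))) {𝒲 𝒲' : AlgSt.Cat S}
    (hW' : IsFibGrpd 𝒲'.p) (h : RepByAlgSp 𝒲) (h' : RepByAlgSp 𝒲') (a : 𝒲 ⥤ᵇ 𝒳) (b : 𝒲' ⥤ᵇ 𝒳) :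
    RepByAlgSp (fp a b) :=
  repByAlgSp_of_equiv' (repByAlgSp_fp hX (isFibGrpd_fp hX hX isFibGrpd_selfOver (toSelf 𝒳) (toSelf 𝒳))
    (prodMap a b) hΔ (repByAlgSp_prod hW' h h')) (isEquivOver_fpToDiag a b)

theorem diag_iff (hX : IsFibGrpd 𝒳.p) :
    RepByAlgSp1 (diag (toSelf 𝒳)) ↔ ∀ (U : Over S) (x : overCat U ⥤ᵇ 𝒳), RepByAlgSp1 x := by
  refine ⟨fun h U x V y => repByAlgSp1_of_diag hX h (isFibGrpd_overCat U) (repByAlgSp_overCat V) (repByAlgSp_overCat U) y x,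
    fun h U z => ?_⟩
  let a := BasedFunctor.comp z (fpFst (toSelf 𝒳) (toSelf 𝒳))
  let b := BasedFunctor.comp z (fpSnd (toSelf 𝒳) (toSelf 𝒳))
  let δ : overCat U ⥤ᵇ fp (toSelf (overCat U)) (toSelf (overCat U)) :=
    fpLift (BasedFunctor.id _) (BasedFunctor.id _) (selfIso _ _)
  let α : BasedFunctor.comp δ (prodMap a b) ≅ z := fpNatIso
    (Φ := BasedFunctor.comp δ (prodMap a b)) (Ψ := z) (Iso.refl _) (Iso.refl _) (fun x => by
      refine self_hom_ext (𝟙 ((fp (toSelf 𝒳) (toSelf 𝒳)).p.obj (z.obj x))) ?_ ?_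
      · change (selfOver _).p.IsHomLift _ ((toSelf 𝒳).map (𝟙 _) ≫ _)
        rw [(toSelf 𝒳).map_id, Category.id_comp]
        exact (z.obj x).property
      · change (selfOver _).p.IsHomLift _ (_ ≫ (toSelf 𝒳).map (𝟙 _))
        rw [(toSelf 𝒳).map_id, Category.comp_id]
        exact ((BasedFunctor.comp δ (prodMap a b)).obj x).property)
  have hab : RepByAlgSp (fp (prodMap a b) (diag (toSelf 𝒳))) :=
    repByAlgSp_of_equiv (repByAlgSp_of_equiv (h U b U a) (isEquivOver_fpToDiag a b)) (isEquivOver_id _)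
  have hπ : RepByAlgSp1 (fpFst (prodMap a b) (diag (toSelf 𝒳))) :=
    repByAlgSp1_of_repByAlgSp hab (repByAlgSp_prod (isFibGrpd_overCat U) (repByAlgSp_overCat U) (repByAlgSp_overCat U)) _
  exact repByAlgSp_of_equiv (repByAlgSp_of_equiv (hπ U δ) (isEquivOver_fpPaste δ (prodMap a b) (diag (toSelf 𝒳))))
    (isEquivOver_fpCongr α (Iso.refl _))

end Groth.Agent.AlgSt88
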