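import Groth.Agent.AlgSt88.SmoothLocus
import Groth.Agent.AlgSt88.DiagRep
import Groth.Agent.AlgSt88.SepLocP
import Groth.Agent.AlgSt88.LocPSt

/-!
Functoriality of the smooth locus of a morphism of algebraic stacks.
-/

set_option autoImplicit false
set_option linter.style.haveILetI false
set_option backward.isDefEq.respectTransparency false
set_option backward.isDefEq.respectTransparency.types false
universe u

open CategoryTheory CategoryTheory.Limits AlgebraicGeometry Opposite AlgSt FibCat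

namespace Groth.Agent.AlgSt88

variable {S : Scheme.{u}} {𝒳 𝒴 𝒵 : AlgSt.Cat S} {P : MorphismProperty (AlgSp.Sp S)}

/-- A property of a morphism is read after a smooth surjective chart of the source. -/
theorem locQ_of_sm_surj (hP : AlgSp.IsSmoothLocalST P) (h𝒳 : IsAlgStack Scheme.fppfPrecoverage 𝒳)
    (h𝒴 : IsAlgStack Scheme.fppfPrecoverage 𝒴) {f : 𝒳 ⥤ᵇ 𝒴} {U : Over S} (x : ofSch U ⥤ᵇ 𝒳) (hx : Sm x)
    (hx' : Sj x) (h : LocQ P (BasedFunctor.comp x f)) : LocQ P f := by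
  have hX := h𝒳.isStack.1
  have hU : IsFibGrpd (ofSch U).p := Stk.isFibGrpd_ofPsh _
  obtain ⟨V, y, hy, hy'⟩ := exists_space_atlas h𝒴
  obtain ⟨U₂, l, hl, hl'⟩ := exists_lift_chart (isDM_ofSp (spY U)).1 h𝒴 (BasedFunctor.comp x f) (V := spY V) y
  have hC : IsFibGrpd (fp (BasedFunctor.comp x f) y).p :=
    isFibGrpd_fp hU (Stk.isFibGrpd_ofPsh _) h𝒴.isStack.1 _ _
  have h1 := (spQ_of_locQ h).prop hP hU h𝒴.isStack.1 (U := spY U₂) (V := spY V) y l hy hl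
  have h2 : Sm (BasedFunctor.comp l (fpFst (BasedFunctor.comp x f) y)) :=
    sm_comp (Stk.isFibGrpd_ofPsh _) hC hl (repByAlgSpWith_fpFst _ hy)
  have h3 : Sj (BasedFunctor.comp l (fpFst (BasedFunctor.comp x f) y)) :=
    repByAlgSpWith_surj_comp (Stk.isFibGrpd_ofPsh _) hC hl' (repByAlgSpWith_fpFst _ hy')
  obtain ⟨γ⟩ := exists_hom_iso (BasedFunctor.comp l (fpSnd (BasedFunctor.comp x f) y))
  refine (locQ_iff_spQ hP h𝒳 h𝒴).2 ⟨spY U₂, spY V,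
    BasedFunctor.comp (BasedFunctor.comp l (fpFst (BasedFunctor.comp x f) y)) x, y, _,
    bLeft l (fpIso (BasedFunctor.comp x f) y) ≪≫ bRight γ y,
    sm_comp (Stk.isFibGrpd_ofPsh _) hU h2 hx, repByAlgSpWith_surj_comp (Stk.isFibGrpd_ofPsh _) hU h3 hx', hy, h1⟩

theorem locQ_comp (hP : AlgSp.IsSmoothLocalST P) (hPc : StableComp P) (h𝒳 : IsAlgStack Scheme.fppfPrecoverage 𝒳)
    (h𝒴 : IsAlgStack Scheme.fppfPrecoverage 𝒴) (h𝒵 : IsAlgStack Scheme.fppfPrecoverage 𝒵)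
    {f : 𝒳 ⥤ᵇ 𝒴} {g : 𝒴 ⥤ᵇ 𝒵} (hf : LocQ P f) (hg : LocQ P g) : LocQ P (BasedFunctor.comp f g) :=
  (locQ_iff_spQ hP h𝒳 h𝒵).2 (spQ_comp hP hPc h𝒳 h𝒴 h𝒵 (spQ_of_locQ hf) (spQ_of_locQ hg))

theorem rep1_ofSch (h𝒳 : IsAlgStack Scheme.fppfPrecoverage 𝒳) {U : Over S} (x : ofSch U ⥤ᵇ 𝒳) : RepByAlgSp1 x :=
  repByAlgSp1_from_space h𝒳.isStack.1 ((diag_iff h𝒳.isStack.1).1 h𝒳.diag) (repByAlgSp_ofSp (spY U)) x

theorem locQ_iff_sm (h𝒳 : IsAlgStack Scheme.fppfPrecoverage 𝒳) {U : Over S} (x : ofSch U ⥤ᵇ 𝒳) :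
    LocQ (AlgSp.LocP @Smooth) x ↔ Sm x :=
  locQ_iff_repByAlgSpWith smoothLocal_smooth (stableBC_locP _) (fppf_local_of_fpqc (S10542.result S))
    (isDM_ofSp (spY U)).1 h𝒳 (rep1_ofSch h𝒳 x)

theorem openImm_smooth {F G : AlgSp.Sp S} {a : F ⟶ G} (hF : AlgSp.IsAlgSpace F) (hG : AlgSp.IsAlgSpace G)
    (ha : AlgSp.RepWith @IsOpenImmersion a) : AlgSp.LocP @Smooth a :=
  SpFP87.locP_of_repWith hF.diag hG
    (SpPts86.repWith_mono (fun _ _ g (hg : IsOpenImmersion g) => haveI := hg; (inferInstance : Smooth g)) ha)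

theorem exists_mk_map (hW : IsFibGrpd 𝒴.p) (hX : IsFibGrpd 𝒳.p) (F : 𝒴 ⥤ᵇ 𝒳) (a : 𝒴.obj) (p : FPt 𝒳)
    (g : p.obj ⟶ F.obj a) :
    ∃ (q : FPt 𝒴) (_ : q.obj ⟶ a), Points.map F (Points.mk q) = Points.mk p := by
  obtain ⟨q, hq, φ, hφ⟩ := fg_exists_lift hW (x := a)
    (eqToHom p.lies.symm ≫ 𝒳.p.map g ≫ eqToHom (F.w_obj a))
  obtain ⟨χ, -, -⟩ := fg_exists_fac hX g (F.map φ)
    (eqToHom (((F.w_obj q).trans hq).trans p.lies.symm)) (by rw [p_map_eq, hφ]; simp)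
  refine ⟨{ K := p.K, str := p.str, obj := q, lies := hq }, φ, ?_⟩
  exact Points.sound ⟨{ K := p.K, str := p.str, obj := F.obj q, lies := (F.w_obj q).trans hq }, 𝟙 _, χ, trivial⟩

theorem inPts_comap (hW : IsFibGrpd 𝒴.p) (hX : IsFibGrpd 𝒳.p) (F : 𝒴 ⥤ᵇ 𝒳) (W : Set (Points 𝒳)) :
    (fun a => InPts W (F.obj a)) = InPts (Points.map F ⁻¹' W) := by
  funext a
  refine propext ⟨fun h q k => h (q.map F) (F.map k), fun h p g => ?_⟩
  obtain ⟨q, k, e⟩ := exists_mk_map hW hX F a p g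
  rw [← e]
  exact h q k

/-- The inverse image of an open substack. -/
theorem isOpenSubstack_comap (h𝒴 : IsAlgStack Scheme.fppfPrecoverage 𝒴)
    (h𝒳 : IsAlgStack Scheme.fppfPrecoverage 𝒳) (F : 𝒴 ⥤ᵇ 𝒳) {Q : 𝒳.obj → Prop}
    (hQ : IsOpenSubstack 𝒳 Q Scheme.fppfPrecoverage) :
    IsOpenSubstack 𝒴 (fun a => Q (F.obj a)) Scheme.fppfPrecoverage := by
  rw [openSubstack_eq_inPts h𝒳 hQ, inPts_comap h𝒴.isStack.1 h𝒳.isStack.1 F]
  exact isOpenSubstack_inPts h𝒴 ((isOpen_range_substack h𝒳 hQ).preimage (continuous_map h𝒳 F))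

/-- Smooth morphisms of algebraic stacks are open. -/
theorem isOpenMap_of_locQ_smooth (h𝒴 : IsAlgStack Scheme.fppfPrecoverage 𝒴)
    (h𝒳 : IsAlgStack Scheme.fppfPrecoverage 𝒳) {F : 𝒴 ⥤ᵇ 𝒳} (hF : LocQ (AlgSp.LocP @Smooth) F) :
    IsOpenMap (Points.map F) := by
  intro A hA
  obtain ⟨U, x, hx, hx'⟩ := exists_space_atlas h𝒴
  have h1 : Sm (BasedFunctor.comp x F) := (locQ_iff_sm h𝒳 _).1
    (locQ_comp smoothLocal_smooth (stableComp_locP _) (isDM_ofSp (spY U)).1 h𝒴 h𝒳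
      ((locQ_iff_sm h𝒴 x).2 hx) hF)
  have h2 := isOpenMap_of_flat_lfp h𝒳.isStack.1 (U := spY U) (BasedFunctor.comp x F) (rep_flat_of_sm h1)
    (rep_lfp_of_sm h1) _ (hA.preimage (continuous_map h𝒴 x))
  have e : Points.map (BasedFunctor.comp x F) '' (Points.map x ⁻¹' A) = Points.map F '' A := by
    ext z
    constructor
    · rintro ⟨w, hw, rfl⟩
      exact ⟨_, hw, (points_map_comp x F w).symm⟩
    · rintro ⟨v, hv, rfl⟩
      obtain ⟨w, rfl⟩ := isSurjective_of_sj h𝒴.isStack.1 hx' v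
      exact ⟨w, hv, points_map_comp x F w⟩
  exact e ▸ h2

/-- Precomposition with a smooth morphism preserves the smooth locus. -/
theorem largest_smooth_precomp {𝒳' : AlgSt.Cat S} (h𝒳' : IsAlgStack Scheme.fppfPrecoverage 𝒳')
    (h𝒳 : IsAlgStack Scheme.fppfPrecoverage 𝒳)
    (h𝒴 : IsAlgStack Scheme.fppfPrecoverage 𝒴)
    (g : 𝒳' ⥤ᵇ 𝒳) (hg : LocQ (AlgSp.LocP @Smooth) g) (f : 𝒳 ⥤ᵇ 𝒴)
    (Q : 𝒳.obj → Prop) (hQ₁ : IsOpenSubstack 𝒳 Q Scheme.fppfPrecoverage)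
    (hQ₂ : LocQ (AlgSp.LocP @Smooth) (BasedFunctor.comp (subIncl 𝒳 Q) f))
    (hQ₃ : ∀ Q' : 𝒳.obj → Prop, IsOpenSubstack 𝒳 Q' Scheme.fppfPrecoverage →
      LocQ (AlgSp.LocP @Smooth) (BasedFunctor.comp (subIncl 𝒳 Q') f) → ∀ a, Q' a → Q a) :
    IsOpenSubstack 𝒳' (fun a ↦ Q (g.obj a)) Scheme.fppfPrecoverage ∧
      LocQ (AlgSp.LocP @Smooth)
        (BasedFunctor.comp (subIncl 𝒳' (fun a ↦ Q (g.obj a))) (BasedFunctor.comp g f)) ∧
      ∀ Q' : 𝒳'.obj → Prop, IsOpenSubstack 𝒳' Q' Scheme.fppfPrecoverage →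
        LocQ (AlgSp.LocP @Smooth) (BasedFunctor.comp (subIncl 𝒳' Q') (BasedFunctor.comp g f)) →
        ∀ a, Q' a → Q (g.obj a) := by
  have hX := h𝒳.isStack.1
  have hP := smoothLocal_smooth (S := S)
  have hPc := stableComp_locP (S := S) @Smooth
  have hc : ∀ {Q' : 𝒳'.obj → Prop} (_ : IsOpenSubstack 𝒳' Q' Scheme.fppfPrecoverage) {U : Over S}
      (x : ofSch U ⥤ᵇ fullSub 𝒳' Q'), Sm x →
      Sm (BasedFunctor.comp x (BasedFunctor.comp (subIncl 𝒳' Q') g)) := by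
    intro Q' hQ' U x hx
    have h1 : Sm (BasedFunctor.comp x (subIncl 𝒳' Q')) := sm_comp (Stk.isFibGrpd_ofPsh _) hQ'.2.1.isStack.1 hx
      (repByAlgSpWith_mono_spaces (fun _ _ hA hB _ ha => openImm_smooth hA hB ha) hQ'.2.2)
    exact (locQ_iff_sm h𝒳 _).1 (locQ_comp hP hPc (isDM_ofSp (spY U)).1 h𝒳' h𝒳 ((locQ_iff_sm h𝒳' _).2 h1) hg)
  have hQ' := isOpenSubstack_comap h𝒳' h𝒳 g hQ₁
  refine ⟨hQ', ?_, fun Q' hQ'' hf' a ha => ?_⟩
  · obtain ⟨U, x, hx, hx'⟩ := exists_space_atlas hQ'.2.1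
    refine locQ_of_sm_surj hP hQ'.2.1 h𝒴 x hx hx' ?_
    let L := liftSub (BasedFunctor.comp x (BasedFunctor.comp (subIncl 𝒳' (fun a ↦ Q (g.obj a))) g))
      (Q := Q) (fun z => (x.obj z).property)
    have hL : Sm L :=
      repByAlgSpWith_of_comp (stableBC_locP _) (respectsIso_locP _) cancels_smooth_openImm hQ₁.2.2 (hc hQ' x hx)
    exact locQ_comp hP hPc (isDM_ofSp (spY U)).1 hQ₁.2.1 h𝒴 ((locQ_iff_sm hQ₁.2.1 L).2 hL) hQ₂
  · obtain ⟨U, x, hx, hx'⟩ := exists_space_atlas hQ''.2.1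
    let A : Set (Points 𝒳) := Points.map g '' Set.range (Points.map (subIncl 𝒳' Q'))
    have hA := isOpenSubstack_inPts h𝒳
      (isOpenMap_of_locQ_smooth h𝒳' h𝒳 hg _ (isOpen_range_substack h𝒳' hQ''))
    let G := BasedFunctor.comp x (BasedFunctor.comp (subIncl 𝒳' Q') g)
    have hG : ∀ z, Points.map G z ∈ A := fun z => by
      show Points.map (BasedFunctor.comp x (BasedFunctor.comp (subIncl 𝒳' Q') g)) z ∈ A
      rw [points_map_comp, points_map_comp]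
      exact ⟨_, ⟨_, rfl⟩, rfl⟩
    let L := liftSub G (inPts_obj (Stk.isFibGrpd_ofPsh _) hX G hG)
    have hL : Sm L :=
      repByAlgSpWith_of_comp (stableBC_locP _) (respectsIso_locP _) cancels_smooth_openImm hA.2.2 (hc hQ'' x hx)
    have hL' : IsSurjective L := fun z => by
      obtain ⟨_, ⟨v, rfl⟩, hv⟩ : Points.map (subIncl 𝒳 (InPts A)) z ∈ A := (range_subIncl_inPts A).le ⟨z, rfl⟩
      obtain ⟨w, rfl⟩ := isSurjective_of_sj hQ''.2.1.isStack.1 hx' v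
      refine ⟨w, points_subIncl_injective A ?_⟩
      rw [← points_map_comp L (subIncl 𝒳 (InPts A))]
      show Points.map G w = _
      rw [← hv, ← points_map_comp, ← points_map_comp]
    refine hQ₃ _ hA (locQ_of_sm_surj hP hA.2.1 h𝒴 L hL
      (sj_of_isSurjective (Stk.isFibGrpd_ofPsh _) hA.2.1.isStack.1 (repByAlgSp1_of_with hL) hL') ?_) _ ?_
    · exact locQ_comp hP hPc (isDM_ofSp (spY U)).1 hQ''.2.1 h𝒴 ((locQ_iff_sm hQ''.2.1 x).2 hx) hf'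
    · exact inPts_obj hQ''.2.1.isStack.1 hX (BasedFunctor.comp (subIncl 𝒳' Q') g)
        (fun z => by rw [points_map_comp]; exact ⟨_, ⟨z, rfl⟩, rfl⟩) ⟨a, ha⟩

end Groth.Agent.AlgSt88
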