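import Groth.Agent.Gerb44.BGGerbe
import Groth.Agent.AlgSt88.RepCrit
import Groth.Agent.AlgSt88.QuotAlg
import Groth.Agent.AlgSt88.SmoothLocusFun

/-! The classifying stack of the stabilizer of a point maps to the stack by a monomorphism. -/

set_option autoImplicit false
set_option maxHeartbeats 1000000
set_option linter.style.haveILetI false
set_option linter.unusedVariables false
set_option backward.isDefEq.respectTransparency false
set_option backward.isDefEq.respectTransparency.types false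
universe u

open CategoryTheory CategoryTheory.Limits MonoidalCategory CartesianMonoidalCategory MonObj GrpObj
  AlgebraicGeometry Opposite AlgSt FibCat

namespace Groth.Agent.AlgSt88

variable {S : Scheme.{u}} {𝒳 𝒴 : AlgSt.Cat S}

/-- A representable fully faithful functor is a monomorphism. -/
theorem isMono_of_repByAlgSp1_of_fullyFaithful {f : 𝒳 ⥤ᵇ 𝒴} (hr : RepByAlgSp1 f) [f.toFunctor.Full]
    [f.toFunctor.Faithful] : AlgSt.IsMono f := by
  intro U y
  obtain ⟨F, e, he⟩ := hr U y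
  refine ⟨F, e, he, ?_⟩
  rw [spMapOfOver_eq]
  let Ψ : ofSp F.obj ⥤ᵇ ofSch U := BasedFunctor.comp (BasedFunctor.comp e (fpFst y f)) (ofOverCat U)
  have hd := isEquivData_of_isEquivOver he
  have hfull : ∀ {a b : (ofSp F.obj).obj} (g : Ψ.obj a ⟶ Ψ.obj b), ∃ j : a ⟶ b, Ψ.map j = g := by
    intro a b g
    obtain ⟨g₁, hg₁⟩ := (isEquivData_of_isEquivOver (isEquivOver_ofOverCat U)).full g
    let k : e.obj a ⟶ e.obj b := fpHom g₁
      (f.toFunctor.preimage ((e.obj a).obj.iso.inv ≫ y.map g₁ ≫ (e.obj b).obj.iso.hom))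
      (by
        change _ = _ ≫ f.toFunctor.map (f.toFunctor.preimage _)
        rw [f.toFunctor.map_preimage, Iso.hom_inv_id_assoc])
    obtain ⟨j, hj⟩ := hd.full k
    refine ⟨j, ?_⟩
    change (ofOverCat U).map ((fpFst y f).map (e.map j)) = g
    rw [hj]
    exact hg₁
  obtain ⟨α⟩ := exists_hom_iso (F := F.obj) (G := (AlgSp.yon S).obj U) Ψ
  let a : F.obj ⟶ (AlgSp.yon S).obj U := homOfBased (F := F.obj) (G := (AlgSp.yon S).obj U) Ψ
  refine ⟨fun {Z} g₁ g₂ hg => ?_⟩
  refine sp_hom_ext fun T z => ?_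
  have h0 : a.hom.app (op T) (g₁.hom.app (op T) z) = a.hom.app (op T) (g₂.hom.app (op T) z) :=
    congrArg (fun t : Z ⟶ (AlgSp.yon S).obj U => t.hom.app (op T) z) hg
  let o₁ : (ofSp F.obj).obj := ⟨T, g₁.hom.app (op T) z⟩
  let o₂ : (ofSp F.obj).obj := ⟨T, g₂.hom.app (op T) z⟩
  let i : (ofSpMap a).obj o₁ ⟶ (ofSpMap a).obj o₂ :=
    ⟨𝟙 T, (((AlgSp.yon S).obj U).obj.map_id_apply (op T) _).trans h0.symm⟩
  obtain ⟨j, hj⟩ := hfull (α.hom.toNatTrans.app o₁ ≫ i ≫ α.inv.toNatTrans.app o₂)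
  have hj1 : j.hom = 𝟙 T := by
    haveI h1 := BasedNatTrans.isHomLift α.hom (show (ofSp F.obj).p.obj o₁ = T from rfl)
    haveI h2 := BasedNatTrans.isHomLift α.inv (show (ofSp F.obj).p.obj o₂ = T from rfl)
    haveI h3 : (ofSch U).p.IsHomLift (𝟙 T) i :=
      IsHomLift.of_fac' _ _ _ rfl rfl ((Category.id_comp _).trans (Category.comp_id _)).symm
    haveI h4 : (ofSch U).p.IsHomLift (𝟙 T) (i ≫ α.inv.toNatTrans.app o₂) :=
      @IsHomLift.comp_of_lift_id _ _ _ _ (ofSch U).p T _ _ _ i (α.inv.toNatTrans.app o₂) h3 h2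
    have h5 : (ofSch U).p.IsHomLift (𝟙 T) (Ψ.map j) := hj ▸
      @IsHomLift.comp_of_lift_id _ _ _ _ (ofSch U).p T _ _ _ (α.hom.toNatTrans.app o₁) _ h1 h4
    haveI h6 := (Ψ.isHomLift_iff (𝟙 T) j).1 h5
    have h7 := IsHomLift.fac' (ofSp F.obj).p (𝟙 T) j
    simpa using h7
  have := j.map_sec
  rw [hj1] at this
  exact ((F.obj.obj.map_id_apply (op T) _).symm.trans this).symm


local notation "K" => Scheme.fppfPrecoverage

variable {G : Over S} [GrpObj G]

/-- The canonical map from the base, with values in trivial torsors. -/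
noncomputable def toTriv : ofSch (𝟙_ (Over S)) ⥤ᵇ Gerb44.trivCat G where
  toFunctor :=
    { obj := fun a => (show Over S from a.base)
      map := fun {a b} f => InducedCategory.homMk ((quotMap K G (trivAction G)).map
        (⟨f.hom, congrArg ULift.up (toUnit_unique _ _)⟩ :
          (ofOverCat (𝟙_ (Over S))).obj (Over.mk (toUnit a.base)) ⟶
            (ofOverCat (𝟙_ (Over S))).obj (Over.mk (toUnit b.base))))
      map_id := fun a => InducedCategory.hom_ext (((quotMap K G (trivAction G)).toFunctor.congr_map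
        (Stk.EltObj.hom_ext rfl)).trans ((quotMap K G (trivAction G)).map_id _))
      map_comp := fun {a b c} f g => InducedCategory.hom_ext (by
        change (quotMap K G (trivAction G)).map _ =
          (quotMap K G (trivAction G)).map _ ≫ (quotMap K G (trivAction G)).map _
        rw [← Functor.map_comp]
        exact (quotMap K G (trivAction G)).toFunctor.congr_map (Stk.EltObj.hom_ext rfl)) }
  w := rfl

/-- The object over the unit attached to a scheme, as an element. -/
noncomputable def unitEltIso (a : (ofSch (𝟙_ (Over S))).obj) :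
    (ofOverCat (𝟙_ (Over S))).obj (Over.mk (toUnit a.base)) ≅ a where
  hom := ⟨𝟙 a.base, congrArg ULift.up (toUnit_unique _ _)⟩
  inv := ⟨𝟙 a.base, congrArg ULift.up (toUnit_unique _ _)⟩
  hom_inv_id := Stk.EltObj.hom_ext (Category.id_comp _)
  inv_hom_id := Stk.EltObj.hom_ext (Category.id_comp _)

theorem nonempty_toTriv_incl :
    Nonempty (BasedFunctor.comp (toTriv (G := G)) (Gerb44.trivIncl G) ≅ quotMap K G (trivAction G)) :=
  ⟨BasedNatIso.mkNatIso (NatIso.ofComponents
    (fun a => (quotMap K G (trivAction G)).toFunctor.mapIso (unitEltIso a))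
    (fun {a b} f => by
      change (quotMap K G (trivAction G)).map _ ≫ (quotMap K G (trivAction G)).map _ =
        (quotMap K G (trivAction G)).map _ ≫ (quotMap K G (trivAction G)).map _
      rw [← Functor.map_comp, ← Functor.map_comp]
      exact (quotMap K G (trivAction G)).toFunctor.congr_map
        (Stk.EltObj.hom_ext ((Category.comp_id _).trans (Category.id_comp _).symm))))
    (fun a => IsHomLift.of_fac' (BG K G).p _ _ rfl rfl (by
      change (unitEltIso a).hom.hom = _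
      simp [unitEltIso]
      rfl))⟩

theorem nonempty_toTriv_section {x : FibCat.overCat (Over.mk (𝟙 S)) ⥤ᵇ 𝒳}
    (r : Gerb.AutRep x (Gerb.ptsGrp (Over.mk (𝟙 S)) G)) :
    Nonempty (BasedFunctor.comp (toTriv (G := G)) (Gerb44.trivSection r) ≅
      BasedFunctor.comp (toOverCat (Over.mk (𝟙 S))) x) := by
  let i : ∀ a : (ofSch (𝟙_ (Over S))).obj, Gerb44.overBase a.base ≅ (toOverCat (Over.mk (𝟙 S))).obj a :=
    fun a => Over.isoMk (Iso.refl _) (Over.OverMorphism.ext (by
      have h1 := Over.w a.sec.down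
      change a.sec.down.left ≫ 𝟙 _ = _ at h1
      rw [Category.comp_id] at h1
      change 𝟙 _ ≫ a.sec.down.left = _
      rw [Category.id_comp, h1]
      rfl))
  refine ⟨BasedNatIso.mkNatIso (NatIso.ofComponents (fun a => x.toFunctor.mapIso (i a)) (fun {a b} f => ?_))
    (fun a => ?_)⟩
  · change (Gerb44.autPt r a.base (Gerb44.trivElt _)⁻¹ ≫ x.map (Gerb44.overBaseMap _)) ≫ x.map (i b).hom =
      x.map (i a).hom ≫ x.map ((toOverCat (Over.mk (𝟙 S))).map f)
    have h : Gerb44.trivElt (T := a.base) (T' := b.base) ((toTriv (G := G)).map f).hom = 1 := by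
      change lift (1 : a.base ⟶ G) (𝟙 a.base) ≫ (G ◁ f.hom) ≫ fst G b.base = 1
      simp
    rw [h, inv_one, Gerb44.autPt_one, Category.id_comp, ← Functor.map_comp, ← Functor.map_comp]
    exact x.toFunctor.congr_map (Over.OverMorphism.ext ((Category.comp_id _).trans (Category.id_comp _).symm))
  · haveI h : (overCat (Over.mk (𝟙 S))).p.IsHomLift (𝟙 a.base) (i a).hom :=
      IsHomLift.of_fac' _ _ _ rfl rfl (by
        change 𝟙 _ = _
        simp
        rfl)
    exact @BasedFunctor.preserves_isHomLift _ _ _ _ x _ _ _ _ (𝟙 a.base) (i a).hom h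

/-- The monomorphism from the classifying stack. -/
theorem exists_isMono_BG (h𝒳 : IsAlgStack K 𝒳) (x : FibCat.overCat (Over.mk (𝟙 S)) ⥤ᵇ 𝒳)
    [IsAffineHom G.hom] [Flat G.hom] [LocallyOfFinitePresentation G.hom]
    (r : Gerb.AutRep x (Gerb.ptsGrp (Over.mk (𝟙 S)) G)) :
    ∃ j : BG K G ⥤ᵇ 𝒳, AlgSt.IsMono j ∧
      Nonempty (BasedFunctor.comp (quotMap K G (trivAction G)) j ≅
        BasedFunctor.comp (toOverCat (Over.mk (𝟙 S))) x) := by
  have hG : IsAffineHom G.hom := ‹_›
  obtain ⟨Φ, ⟨e⟩⟩ := Fib44.exists_extend (inc := Gerb44.trivIncl G) (F := Gerb44.trivSection r) h𝒳.isStack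
    (Gerb44.isFibGrpd_BG (G := G)) Gerb44.exists_lift_trivCat Gerb44.exists_triv_cover
  have hF : ∀ (A : (BG K G).obj) (c : A ⟶ Gerb44.trivT G (Over.mk (𝟙 S))),
      Function.Bijective (Gerb.autMap Φ A) := fun A c => by
    obtain ⟨k, hk, -⟩ := Gerb44.exists_trivHom (G := G)
      (show A.base ⟶ Over.mk (𝟙 S) from c.base) (1 : A.base ⟶ G)
    haveI hc : (BG K G).p.IsHomLift c.base c := IsHomLift.map (BG K G).p c
    haveI := Fib44.isSC_of_fibGrpd (BG K G).p (Gerb44.isFibGrpd_BG (G := G)) c.base c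
    haveI : (BG K G).p.IsHomLift c.base k := IsHomLift.of_fac' _ _ _ rfl rfl (by
      change Gerb44.trivBase k = _
      rw [hk]; simp)
    let l := Functor.IsCartesian.map (BG K G).p c.base c k
    haveI : (BG K G).p.IsHomLift (𝟙 A.base) l := Functor.IsCartesian.map_isHomLift (BG K G).p c.base c k
    haveI : IsIso l := Fib44.isIso_of_fibGrpd (BG K G).p (Gerb44.isFibGrpd_BG (G := G)) (𝟙 A.base) l
    exact Gerb44.autMap_bijective_of_hom (Gerb44.isFibGrpd_BG (G := G)) h𝒳.isStack.1 Φ l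
      (Gerb44.autMap_triv_bijective r e (Gerb44.isFibGrpd_BG (G := G)) A.base)
  have hB := Gerb44.isGerbe_BG (G := G) hG
  let q : ∀ A : (BG K G).obj, (BG K G).p.obj A ⟶ (BG K G).p.obj (Gerb44.trivT G (Over.mk (𝟙 S))) :=
    fun A => Over.homMk A.base.hom
  haveI := Fib44.faithful_of_autMap_injective Φ _ hB h𝒳.isStack q fun A c => (hF A c).1
  haveI := Fib44.full_of_autMap_bijective Φ _ hB h𝒳.isStack q hF
  have he := isEquivOver_ofOverCat (𝟙_ (Over S))
  let Q := quotMap K G (trivAction G)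
  have hQ1 : RepByAlgSpWith (AlgSp.LocP @Flat) Q :=
    (repByAlgSpWith_precomp_equiv he).1 (repByAlgSpWith_locP_quotMap _ @Flat (flat_π ‹_›)
      fun f hf => (SpFP87.locP_yon_map_iff f).2 hf)
  have hQ2 : RepByAlgSpWith (AlgSp.LocP @LocallyOfFinitePresentation) Q :=
    (repByAlgSpWith_precomp_equiv he).1 (repByAlgSpWith_locP_quotMap _ @LocallyOfFinitePresentation (lfp_π ‹_›)
      fun f hf => (SpFP87.locP_yon_map_iff f).2 hf)
  have hQ3 : RepByAlgSpWith AlgSp.IsSurjectiveMor Q :=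
    (repByAlgSpWith_precomp_equiv he).1 (repByAlgSpWith_surj_quotMap _)
  have hr : RepByAlgSp1 Φ := fun U y => by
    obtain ⟨F, ε, hε⟩ := rep1_ofSch h𝒳 (BasedFunctor.comp Q Φ) U y
    have hH : Stk.IsStack (QuotSh.J K S) (fp y Φ) :=
      Fib44.isStack_fp (isStack_overCat_fppf U) hB.1 (Fib44.isPrestack_of_isStack h𝒳.isStack)
    have hb : ∀ {P : MorphismProperty (AlgSp.Sp S)}, RepByAlgSpWith P Q →
        RepByAlgSpWith P (BasedFunctor.comp ε (fpMapSnd y Φ Q)) := fun h =>
      (repByAlgSpWith_precomp_equiv hε).2 (repByAlgSpWith_fpMapSnd y Φ h)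
    exact repByAlgSp_of_setoid_cover hH (fun {a b} g g' h => by
      have h1 : g.hom.fst = g'.hom.fst := Over.OverMorphism.ext h
      refine fpHom_ext h1 (Φ.toFunctor.map_injective ((cancel_epi a.obj.iso.hom).1 ?_))
      rw [← g.hom.w, ← g'.hom.w, h1]) F _ (hb hQ1) (hb hQ2) (hb hQ3)
  obtain ⟨i₁⟩ := nonempty_toTriv_incl (G := G)
  obtain ⟨i₂⟩ := nonempty_toTriv_section r
  exact ⟨Φ, isMono_of_repByAlgSp1_of_fullyFaithful hr,
    ⟨(bRight i₁ Φ).symm ≪≫ bLeft toTriv e ≪≫ i₂⟩⟩

end Groth.Agent.AlgSt88
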