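import Groth.Agent.AlgSt88.QuotTriv
import Groth.Agent.AlgSt88.EquivCrit
import Groth.Agent.AlgSt88.FpMap
import Groth.Agent.AlgSt88.SpHom

/-! The fibre of the canonical functor to a quotient category over an object is its torsor. -/

set_option autoImplicit false
set_option linter.style.haveILetI false
set_option backward.isDefEq.respectTransparency false
set_option backward.isDefEq.respectTransparency.types false
universe u

open CategoryTheory CategoryTheory.Limits MonoidalCategory CartesianMonoidalCategory MonObj GrpObj AlgebraicGeometry AlgSt FibCat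

namespace Groth.Agent.AlgSt88

variable {S : Scheme.{u}} {G X : Over S} [GrpObj G] {a : AlgGrp.Action G X}

theorem quotHom_ext_of_comp {A B C : QuotObj Scheme.fppfPrecoverage G a} {f g : B ⟶ C} (n : C ⟶ A)
    (hb : f.base = g.base) (h : f ≫ n = g ≫ n) : f = g :=
  QuotObj.hom_ext hb (n.cart.hom_ext (congrArg (fun t => t.top) h)
    (f.cart.w.trans ((congrArg (B.π ≫ ·) hb).trans g.cart.w.symm)))

theorem exists_quot_fac {A B C : QuotObj Scheme.fppfPrecoverage G a} (m : B ⟶ A) (n : C ⟶ A) (b : B.base ⟶ C.base)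
    (hb : b ≫ n.base = m.base) : ∃ i : B ⟶ C, i.base = b ∧ i ≫ n = m := by
  let top : B.P ⟶ C.P := n.cart.lift m.top (B.π ≫ b) (by rw [m.cart.w, Category.assoc, hb])
  have h1 : top ≫ n.top = m.top := n.cart.lift_fst _ _ _
  have h2 : top ≫ C.π = B.π ≫ b := n.cart.lift_snd _ _ _
  refine ⟨{ base := b, top := top, eqv := ?_, cart := ?_, wφ := ?_ }, rfl, QuotObj.hom_ext hb h1⟩
  · apply n.cart.hom_ext
    · rw [Category.assoc, Category.assoc, h1, m.eqv, n.eqv, ← MonoidalCategory.whiskerLeft_comp_assoc, h1]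
    · rw [Category.assoc, Category.assoc, C.cart.w, h2, whiskerLeft_snd_assoc, h2, ← Category.assoc, B.cart.w,
        Category.assoc]
  · have hm : IsPullback (top ≫ n.top) B.π A.π (b ≫ n.base) := by rw [h1, hb]; exact m.cart
    exact IsPullback.of_right hm h2 n.cart
  · rw [← n.wφ, reassoc_of% h1, m.wφ]

theorem exists_quot_iso_fac {A B C : QuotObj Scheme.fppfPrecoverage G a} (m : B ⟶ A) (n : C ⟶ A)
    (b : B.base ≅ C.base) (hb : b.hom ≫ n.base = m.base) :
    ∃ i : B ≅ C, i.hom.base = b.hom ∧ i.hom ≫ n = m := by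
  obtain ⟨i, hi, hi'⟩ := exists_quot_fac m n b.hom hb
  obtain ⟨j, hj, hj'⟩ := exists_quot_fac n m b.inv (by rw [← hb, Iso.inv_hom_id_assoc])
  refine ⟨⟨i, j, quotHom_ext_of_comp m ?_ ?_, quotHom_ext_of_comp n ?_ ?_⟩, hi, hi'⟩
  · show i.base ≫ j.base = 𝟙 _
    rw [hi, hj, Iso.hom_inv_id]
  · rw [Category.assoc, hj', hi', Category.id_comp]
  · show j.base ≫ i.base = 𝟙 _
    rw [hi, hj, Iso.inv_hom_id]
  · rw [Category.assoc, hi', hj', Category.id_comp]

theorem triv_hom_top {T : Over S} (x : T ⟶ X)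
    {A : QuotObj Scheme.fppfPrecoverage G a}
    (h : (quotMap Scheme.fppfPrecoverage G a).obj ⟨T, ⟨x⟩⟩ ⟶ A) :
    h.top = (G ◁ (lift (1 : T ⟶ G) (𝟙 T) ≫ h.top)) ≫ A.act.act := by
  have h1 : (leftMul G T).act ≫ h.top = (G ◁ h.top) ≫ A.act.act := h.eqv
  have h2 := congrArg (fun t => lift (fst G T) (lift (1 : G ⊗ T ⟶ G) (snd G T)) ≫ t) h1
  rw [← Category.assoc, leftMul_lift, _root_.mul_one, lift_fst_snd, lift_whiskerLeft_assoc,
    show lift (1 : G ⊗ T ⟶ G) (snd G T) = snd G T ≫ lift (1 : T ⟶ G) (𝟙 T) by simp [comp_lift],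
    Category.assoc] at h2
  refine ((Category.id_comp h.top).symm.trans h2).trans ?_
  exact congrArg (· ≫ A.act.act) (lift_fst_comp_snd_comp (𝟙 G) _ |>.trans (by simp))


/-- The morphism from a trivial torsor given by a point of a torsor. -/
noncomputable def pointHom (A : QuotObj Scheme.fppfPrecoverage G a) {T : Over S} (p : T ⟶ A.P) :
    (quotMap Scheme.fppfPrecoverage G a).obj ⟨T, ⟨p ≫ A.φ⟩⟩ ⟶ A where
  base := p ≫ A.π
  top := (G ◁ p) ≫ A.act.act
  eqv := by
    show (leftMul G T).act ≫ (G ◁ p) ≫ A.act.act = (G ◁ ((G ◁ p) ≫ A.act.act)) ≫ A.act.act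
    rw [← Category.assoc, show (leftMul G T).act ≫ (G ◁ p) =
        lift (fst G (G ⊗ T) * (snd G (G ⊗ T) ≫ fst G T)) ((snd G (G ⊗ T) ≫ snd G T) ≫ p) by
        ext <;> simp [leftMul], act_lift_mul,
      show G ◁ ((G ◁ p) ≫ A.act.act) = lift (fst G (G ⊗ T)) (snd G (G ⊗ T) ≫ (G ◁ p) ≫ A.act.act) by ext <;> simp,
      ← Category.assoc (snd G (G ⊗ T)) (G ◁ p),
      show snd G (G ⊗ T) ≫ (G ◁ p) = lift (snd G (G ⊗ T) ≫ fst G T) ((snd G (G ⊗ T) ≫ snd G T) ≫ p) by ext <;> simp]
  cart := (isPullback_whiskerLeft p).paste_horiz A.cart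
  wφ := by
    show ((G ◁ p) ≫ A.act.act) ≫ A.φ = (G ◁ (p ≫ A.φ)) ≫ a.act
    rw [Category.assoc, A.eqv, MonoidalCategory.whiskerLeft_comp_assoc]

theorem unit_pointHom_top (A : QuotObj Scheme.fppfPrecoverage G a) {T : Over S} (p : T ⟶ A.P) :
    lift (1 : T ⟶ G) (𝟙 T) ≫ (G ◁ p) ≫ A.act.act = p := by
  rw [lift_whiskerLeft_assoc, Category.id_comp, act_lift_one]

section Fibre

variable {U : Over S} (y : overCat U ⥤ᵇ QuotSt Scheme.fppfPrecoverage G a)

/-- The object classified by a functor from a slice. -/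
abbrev yA : QuotObj Scheme.fppfPrecoverage G a := y.obj (Over.mk (𝟙 U))

theorem yA_base : (yA y).base = U := y.w_obj (Over.mk (𝟙 U))

/-- The projection of the torsor to the base of the slice. -/
noncomputable def yπ : (yA y).P ⟶ U := (yA y).π ≫ eqToHom (yA_base y)

/-- The comparison with the universal object. -/
noncomputable def yHom (f : Over U) : y.obj f ⟶ yA y :=
  y.map (Over.homMk f.hom (Category.comp_id _) : f ⟶ Over.mk (𝟙 U))

theorem y_map_base {f g : Over U} (k : f ⟶ g) :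
    (y.map k).base = eqToHom (y.w_obj f) ≫ k.left ≫ eqToHom (y.w_obj g).symm :=
  Functor.congr_hom y.w k

theorem yHom_comp {f g : Over U} (k : f ⟶ g) : y.map k ≫ yHom y g = yHom y f := by
  rw [yHom, yHom, ← y.map_comp]
  exact congrArg (fun t => y.map t) (Over.OverMorphism.ext (Over.w k))

theorem exists_fibIso {T : Over S} (p : T ⟶ (yA y).P) :
    ∃ i : y.obj (Over.mk (p ≫ yπ y)) ≅ (quotMap Scheme.fppfPrecoverage G a).obj ⟨T, ⟨p ≫ (yA y).φ⟩⟩,
      i.hom.base = eqToHom (y.w_obj (Over.mk (p ≫ yπ y))) ∧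
        i.hom ≫ pointHom (yA y) p = yHom y (Over.mk (p ≫ yπ y)) := by
  refine exists_quot_iso_fac _ _ (eqToIso (y.w_obj (Over.mk (p ≫ yπ y)))) ?_
  show eqToHom (y.w_obj (Over.mk (p ≫ yπ y))) ≫ p ≫ (yA y).π = (y.map _).base
  rw [y_map_base]
  simp [yπ]

/-- The comparison of the two objects over a point of the torsor. -/
noncomputable def fibIso {T : Over S} (p : T ⟶ (yA y).P) :
    y.obj (Over.mk (p ≫ yπ y)) ≅ (quotMap Scheme.fppfPrecoverage G a).obj ⟨T, ⟨p ≫ (yA y).φ⟩⟩ :=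
  (exists_fibIso y p).choose

theorem fibIso_base {T : Over S} (p : T ⟶ (yA y).P) :
    (fibIso y p).hom.base = eqToHom (y.w_obj (Over.mk (p ≫ yπ y))) :=
  (exists_fibIso y p).choose_spec.1

theorem fibIso_comp {T : Over S} (p : T ⟶ (yA y).P) :
    (fibIso y p).hom ≫ pointHom (yA y) p = yHom y (Over.mk (p ≫ yπ y)) :=
  (exists_fibIso y p).choose_spec.2

theorem fibIso_natural {T T' : Over S} (f : T ⟶ T') {p : T ⟶ (yA y).P} {p' : T' ⟶ (yA y).P} (hp : f ≫ p' = p)
    (k : Over.mk (p ≫ yπ y) ⟶ Over.mk (p' ≫ yπ y)) (hk : k.left = f)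
    (l : (⟨T, ⟨p ≫ (yA y).φ⟩⟩ : (ofSch X).obj) ⟶ ⟨T', ⟨p' ≫ (yA y).φ⟩⟩) (hl : l.hom = f) :
    y.map k ≫ (fibIso y p').hom = (fibIso y p).hom ≫ (quotMap Scheme.fppfPrecoverage G a).map l := by
  refine quotHom_ext_of_comp (pointHom (yA y) p') ?_ ?_
  · show (y.map k).base ≫ (fibIso y p').hom.base = (fibIso y p).hom.base ≫ l.hom
    rw [fibIso_base, fibIso_base, y_map_base, hk, hl]
    simp
  · rw [Category.assoc, fibIso_comp, yHom_comp, Category.assoc]
    refine Eq.trans ?_ (congrArg ((fibIso y p).hom ≫ ·) (QuotObj.hom_ext ?_ ?_ :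
      pointHom (yA y) p = (quotMap Scheme.fppfPrecoverage G a).map l ≫ pointHom (yA y) p'))
    · exact (fibIso_comp y p).symm
    · show p ≫ (yA y).π = l.hom ≫ p' ≫ (yA y).π
      rw [hl, ← hp, Category.assoc]
    · show (G ◁ p) ≫ (yA y).act.act = (G ◁ l.hom) ≫ (G ◁ p') ≫ (yA y).act.act
      rw [hl, ← MonoidalCategory.whiskerLeft_comp_assoc, hp]

/-- The functor from the torsor to the fibre product. -/
noncomputable def fibFun : ofSch (yA y).P ⥤ᵇ fp y (quotMap Scheme.fppfPrecoverage G a) where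
  toFunctor :=
    { obj := fun w =>
        ⟨{ fst := Over.mk (w.sec.down ≫ yπ y)
           snd := ⟨w.base, ⟨w.sec.down ≫ (yA y).φ⟩⟩
           iso := fibIso y w.sec.down },
          IsHomLift.of_fac' _ _ _ (y.w_obj _) rfl ((fibIso_base y w.sec.down).trans (by simp))⟩
      map := fun {w w'} ψ =>
        have h : ψ.hom ≫ w'.sec.down = w.sec.down := congrArg ULift.down ψ.map_sec
        fpHom (Over.homMk ψ.hom ((Category.assoc _ _ _).symm.trans (congrArg (· ≫ yπ y) h)))
          ⟨ψ.hom, ULift.ext _ _ ((Category.assoc _ _ _).symm.trans (congrArg (· ≫ (yA y).φ) h))⟩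
          (fibIso_natural y ψ.hom h _ rfl _ rfl)
      map_id := fun w => fpHom_ext (Over.OverMorphism.ext rfl) (Stk.EltObj.hom_ext rfl)
      map_comp := fun f g => fpHom_ext (Over.OverMorphism.ext rfl) (Stk.EltObj.hom_ext rfl) }
  w := rfl

theorem isEquivOver_fibFun : IsEquivOver (fibFun y) := by
  apply IsEquivData.isEquivOver
  refine ⟨fun {w w'} f g h => ?_, fun {w w'} k => ?_, fun z => ?_⟩
  · exact Stk.EltObj.hom_ext (congrArg (fun t => t.hom.fst.left) h)
  · let f : w.base ⟶ w'.base := k.hom.fst.left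
    let l := k.hom.snd
    have hw : y.map k.hom.fst ≫ (fibIso y w'.sec.down).hom =
        (fibIso y w.sec.down).hom ≫ (quotMap Scheme.fppfPrecoverage G a).map l := k.hom.w
    have hl : l.hom = f := by
      have h := congrArg (fun t => t.base) hw
      change (y.map k.hom.fst).base ≫ (fibIso y w'.sec.down).hom.base =
        (fibIso y w.sec.down).hom.base ≫ l.hom at h
      rw [fibIso_base, fibIso_base, y_map_base] at h
      exact ((cancel_epi _).1 (h.symm.trans (by simp [f])))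
    have h1 : pointHom (yA y) w.sec.down =
        (quotMap Scheme.fppfPrecoverage G a).map l ≫ pointHom (yA y) w'.sec.down := by
      rw [← cancel_epi (fibIso y w.sec.down).hom, fibIso_comp, ← Category.assoc, ← hw, Category.assoc,
        fibIso_comp]
      exact (yHom_comp y k.hom.fst).symm
    have h2 : (G ◁ w.sec.down) ≫ (yA y).act.act = (G ◁ l.hom) ≫ (G ◁ w'.sec.down) ≫ (yA y).act.act :=
      congrArg (fun t => t.top) h1
    have hs : f ≫ w'.sec.down = w.sec.down := by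
      have h3 := congrArg (fun t => lift (1 : w.base ⟶ G) (𝟙 w.base) ≫ t) h2
      rw [hl, ← MonoidalCategory.whiskerLeft_comp_assoc, unit_pointHom_top, unit_pointHom_top] at h3
      exact h3.symm
    exact ⟨⟨f, ULift.ext _ _ hs⟩, fpHom_ext (Over.OverMorphism.ext rfl) (Stk.EltObj.hom_ext hl.symm)⟩
  · obtain ⟨⟨g, q, i⟩, hz⟩ := z
    obtain ⟨T, ⟨x⟩⟩ := q
    have hh : (QuotSt Scheme.fppfPrecoverage G a).p.IsHomLift (𝟙 g.left) i.hom := hz
    obtain rfl : g.left = T :=
      (IsHomLift.codomain_eq (QuotSt Scheme.fppfPrecoverage G a).p (𝟙 g.left) i.hom).symm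
    have hib : i.hom.base = eqToHom (y.w_obj g) := by
      have h := IsHomLift.fac' (QuotSt Scheme.fppfPrecoverage G a).p (𝟙 g.left) i.hom
      exact h.trans (by simp)
    have hinv : i.inv.base = eqToHom (y.w_obj g).symm := by
      have h : i.hom.base ≫ i.inv.base = 𝟙 _ := congrArg (fun t => t.base) i.hom_inv_id
      rw [hib] at h
      calc i.inv.base = eqToHom (y.w_obj g).symm ≫ eqToHom (y.w_obj g) ≫ i.inv.base := by simp
        _ = _ := (congrArg (eqToHom (y.w_obj g).symm ≫ ·) h).trans (Category.comp_id _)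
    let h : (quotMap Scheme.fppfPrecoverage G a).obj ⟨g.left, ⟨x⟩⟩ ⟶ yA y := i.inv ≫ yHom y g
    let p : g.left ⟶ (yA y).P := lift (1 : g.left ⟶ G) (𝟙 g.left) ≫ h.top
    have htop : h.top = (G ◁ p) ≫ (yA y).act.act := triv_hom_top x h
    have hx : p ≫ (yA y).φ = x := by
      have h1 : h.top ≫ (yA y).φ = (G ◁ x) ≫ a.act := h.wφ
      rw [Category.assoc, h1, lift_whiskerLeft_assoc, Category.id_comp, act_lift_one]
    have hπ : p ≫ (yA y).π = h.base := by
      have h1 : h.top ≫ (yA y).π = snd G g.left ≫ h.base := h.cart.w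
      rw [Category.assoc, h1, lift_snd_assoc, Category.id_comp]
    have hbase : h.base = g.hom ≫ eqToHom (yA_base y).symm := by
      show i.inv.base ≫ (y.map _).base = _
      rw [hinv, y_map_base]
      simp
    have hg : p ≫ yπ y = g.hom := by
      rw [yπ, ← Category.assoc, hπ, hbase, Category.assoc, eqToHom_trans, eqToHom_refl, Category.comp_id]
    let w : (ofSch (yA y).P).obj := ⟨g.left, ⟨p⟩⟩
    let e₁ : Over.mk (p ≫ yπ y) ≅ g := Over.isoMk (Iso.refl _) ((Category.id_comp _).trans hg.symm)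
    let e₂ : (⟨g.left, ⟨p ≫ (yA y).φ⟩⟩ : (ofSch X).obj) ≅ ⟨g.left, ⟨x⟩⟩ :=
      { hom := ⟨𝟙 _, ULift.ext _ _ ((Category.id_comp _).trans hx.symm)⟩
        inv := ⟨𝟙 _, ULift.ext _ _ ((Category.id_comp _).trans hx)⟩
        hom_inv_id := Stk.EltObj.hom_ext (Category.id_comp _)
        inv_hom_id := Stk.EltObj.hom_ext (Category.id_comp _) }
    refine ⟨w, fpObjIso e₁ e₂ ?_, fp_isHomLift _ (IsHomLift.of_fac' _ _ _ rfl rfl (by simp [e₁]; rfl))⟩
    show y.map e₁.hom ≫ i.hom = (fibIso y p).hom ≫ (quotMap Scheme.fppfPrecoverage G a).map e₂.hom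
    refine quotHom_ext_of_comp h ?_ ?_
    · show (y.map e₁.hom).base ≫ i.hom.base = (fibIso y p).hom.base ≫ 𝟙 _
      rw [y_map_base, fibIso_base, hib]
      simp [e₁]
      rfl
    · refine ((Category.assoc _ _ _).trans ((congrArg (y.map e₁.hom ≫ ·) (Iso.hom_inv_id_assoc i _)).trans
        (yHom_comp y e₁.hom))).trans (Eq.trans ?_ (Category.assoc _ _ _).symm)
      refine (fibIso_comp y p).symm.trans (congrArg ((fibIso y p).hom ≫ ·) (QuotObj.hom_ext ?_ ?_))
      · show p ≫ (yA y).π = 𝟙 g.left ≫ h.base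
        rw [Category.id_comp, hπ]
      · show (G ◁ p) ≫ (yA y).act.act = (G ◁ 𝟙 g.left) ≫ h.top
        rw [MonoidalCategory.whiskerLeft_id, htop]
        exact (Category.id_comp _).symm

theorem spMap_fibFun :
    spMapOfOver (BasedFunctor.comp (fibFun y) (fpFst y (quotMap Scheme.fppfPrecoverage G a))) =
      (AlgSp.yon S).map (yπ y) := by
  refine sp_hom_ext fun T p => ?_
  apply ULift.ext
  exact Category.id_comp _

end Fibre

end Groth.Agent.AlgSt88
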