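import Groth.Agent.AlgSt88.RepSp
import Groth.Agent.AlgSt88.LocPSt

/-! Properties local on the base or on the source, for representable morphisms of stacks. -/

set_option autoImplicit false
set_option backward.isDefEq.respectTransparency false
set_option backward.isDefEq.respectTransparency.types false
universe u

open CategoryTheory CategoryTheory.Limits AlgebraicGeometry Opposite AlgSt FibCat

namespace Groth.Agent.AlgSt88

variable {S : Scheme.{u}} {𝒳 𝒴 𝒵 : AlgSt.Cat S} {P : MorphismProperty (AlgSp.Sp S)}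

theorem spaceDescends_onSpaces (hP : AlgSp.IsLocalOnBase AlgSp.IsFppfCover P) : SpaceDescends (onSpaces P) :=
  fun F G a ha => ⟨F.property, G.property, prop_of_repBySpWith hP a ha⟩

/-- Testing on algebraic spaces is the same as testing on schemes. -/
theorem repByAlgSpWith_iff_repSp (hX : IsFibGrpd 𝒳.p) (hY : IsFibGrpd 𝒴.p) (hPb : StableBC P)
    (hP : AlgSp.IsLocalOnBase AlgSp.IsFppfCover P) {f : 𝒳 ⥤ᵇ 𝒴} :
    RepByAlgSpWith P f ↔ ∀ (G : AlgSp.Space S) (m : ofSp G.obj ⥤ᵇ 𝒴), RepSp P (fpFst m f) :=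
  ⟨fun h G m => repSp_onSpaces_iff.1 (repSp_of_repByAlgSpWith hX hY (onSpaces_respectsIso_of_bc hPb)
      (spaceDescends_onSpaces hP) (repByAlgSpWith_onSpaces_iff.2 h) G m),
    fun h U y => repOver_of_repSp y (h ⟨(AlgSp.yon S).obj U, AlgSp.IsAlgSpace.yon_obj U⟩ _)⟩

/-- Descent: it suffices to test on the members of single fppf coverings of the test spaces. -/
theorem repByAlgSpWith_of_covers (hX : IsFibGrpd 𝒳.p) (hY : IsFibGrpd 𝒴.p) (hPb : StableBC P)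
    (hP : AlgSp.IsLocalOnBase AlgSp.IsFppfCover P) {f : 𝒳 ⥤ᵇ 𝒴} (hf : RepByAlgSp1 f)
    (h : ∀ (U : Over S) (y : overCat U ⥤ᵇ 𝒴), ∃ (G : AlgSp.Space S) (b : G.obj ⟶ (AlgSp.yon S).obj U),
      AlgSp.IsFppfCover (fun _ : PUnit.{u+1} => G.obj) (fun _ => b) ∧
      RepSp P (fpFst (BasedFunctor.comp (ofSpMap b) (BasedFunctor.comp (toOverCat U) y)) f)) :
    RepByAlgSpWith P f := by
  intro U y
  obtain ⟨G', b, hb, hG'⟩ := h U y
  let G : AlgSp.Space S := ⟨(AlgSp.yon S).obj U, AlgSp.IsAlgSpace.yon_obj U⟩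
  let m : ofSp G.obj ⥤ᵇ 𝒴 := BasedFunctor.comp (toOverCat U) y
  obtain ⟨F, a, e, he, ⟨α⟩, -⟩ := exists_space_fp hX hY hf G m
  refine repOver_of_repSp y ⟨F, e, he, ?_⟩
  rw [homOfBased_congr α, homOfBased_ofSpMap]
  haveI := onSpaces_respectsIso_of_bc hPb
  have sq := IsPullback.of_hasPullback a b
  have sqP := sq.flip.map (sheafToPresheaf (QuotSh.J Scheme.fppfPrecoverage S) (Type (u + 1)))
  have hF' : AlgSp.IsAlgSpace (pullback a b) :=
    SpFP87.isAlgSpace_of_isPullback sq F.property G'.property G.property.diag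
  let Φ : ofSp (pullback a b) ⥤ᵇ fp (BasedFunctor.comp (ofSpMap b) m) f :=
    BasedFunctor.comp (pshFpLift sqP.w)
      (BasedFunctor.comp (fpCongr (F := ofSpMap b) (F' := ofSpMap b) (G := ofSpMap a)
          (G' := BasedFunctor.comp e (fpFst m f)) (Iso.refl _) α.symm)
        (BasedFunctor.comp (fpMapSnd (ofSpMap b) (fpFst m f) e) (fpPaste (ofSpMap b) m f)))
  have hΦ : IsEquivOver Φ := isEquivOver_comp (isEquivOver_pshFpLift sqP)
    (isEquivOver_comp (isEquivOver_fpCongr _ _) (isEquivOver_comp (isEquivOver_fpMapSnd _ _ _ he) (isEquivOver_fpPaste _ m f)))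
  have h1 := ((repSp_onSpaces_iff (G := G')).2 hG').any hΦ
  have h2 : BasedFunctor.comp Φ (fpFst (BasedFunctor.comp (ofSpMap b) m) f) = ofSpMap (pullback.snd a b) := rfl
  rw [h2, homOfBased_ofSpMap] at h1
  exact (of_single_cover hP b hb G.property G'.property F.property hF' sq).2 h1.2.2

theorem isFppfCover_of_repOver {U : Over S} {𝒞 : AlgSt.Cat S} {q : 𝒞 ⥤ᵇ overCat U}
    (h : RepOver (AlgSp.LocP @Flat ⊓ AlgSp.LocP @LocallyOfFinitePresentation ⊓ AlgSp.IsSurjectiveMor) q) :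
    ∃ (G : AlgSp.Space S) (e : ofSp G.obj ⥤ᵇ 𝒞) (b : G.obj ⟶ (AlgSp.yon S).obj U), IsEquivOver e ∧
      AlgSp.IsFppfCover (fun _ : PUnit.{u+1} => G.obj) (fun _ => b) ∧
      Nonempty (BasedFunctor.comp (ofSpMap b) (toOverCat U) ≅ BasedFunctor.comp e q) := by
  obtain ⟨G, e, he, ⟨⟨h1, h2⟩, h3⟩⟩ := h
  refine ⟨G, e, spMapOfOver (BasedFunctor.comp e q), he, isFppfCover_single _ h1 h2 h3, ?_⟩
  rw [spMapOfOver_eq]
  obtain ⟨α⟩ := exists_hom_iso (BasedFunctor.comp (BasedFunctor.comp e q) (ofOverCat U))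
  let β : BasedFunctor.comp (ofOverCat U) (toOverCat U) ≅ BasedFunctor.id (overCat U) :=
    BasedNatIso.mkNatIso
      (NatIso.ofComponents (fun a => Iso.refl _)
        (fun {a b} f => Over.OverMorphism.ext ((Category.comp_id _).trans (Category.id_comp _).symm)))
      (fun a => IsHomLift.id rfl)
  exact ⟨(bRight α (toOverCat U)).symm ≪≫ bLeft (BasedFunctor.comp e q) β⟩

theorem repByAlgSpWith_fppf_inf {f : 𝒳 ⥤ᵇ 𝒴} (h1 : RepByAlgSpWith (AlgSp.LocP @Flat) f)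
    (h2 : RepByAlgSpWith (AlgSp.LocP @LocallyOfFinitePresentation) f) (h3 : RepByAlgSpWith AlgSp.IsSurjectiveMor f) :
    RepByAlgSpWith (AlgSp.LocP @Flat ⊓ AlgSp.LocP @LocallyOfFinitePresentation ⊓ AlgSp.IsSurjectiveMor) f :=
  haveI := respectsIso_locP (S := S) @Flat
  haveI := respectsIso_locP (S := S) @LocallyOfFinitePresentation
  repByAlgSpWith_inf (repByAlgSpWith_inf h1 h2) h3

/-- A property may be checked after base change along an fppf surjective morphism. -/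
theorem repByAlgSpWith_of_fpFst (hX : IsFibGrpd 𝒳.p) (hY : IsFibGrpd 𝒴.p) (hZ : IsFibGrpd 𝒵.p) (hPb : StableBC P)
    (hP : AlgSp.IsLocalOnBase AlgSp.IsFppfCover P) {f : 𝒳 ⥤ᵇ 𝒴} (hf : RepByAlgSp1 f) (z : 𝒵 ⥤ᵇ 𝒴)
    (hz₁ : RepByAlgSpWith (AlgSp.LocP @Flat) z) (hz₂ : RepByAlgSpWith (AlgSp.LocP @LocallyOfFinitePresentation) z)
    (hz₃ : RepByAlgSpWith AlgSp.IsSurjectiveMor z) (h : RepByAlgSpWith P (fpFst z f)) : RepByAlgSpWith P f := by
  refine repByAlgSpWith_of_covers hX hY hPb hP hf fun U y => ?_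
  obtain ⟨G, e, b, he, hb, ⟨ι⟩⟩ := isFppfCover_of_repOver (repByAlgSpWith_fppf_inf hz₁ hz₂ hz₃ U y)
  refine ⟨G, b, hb, ?_⟩
  let n : ofSp G.obj ⥤ᵇ 𝒵 := BasedFunctor.comp e (fpSnd y z)
  have h1 := (repByAlgSpWith_iff_repSp (isFibGrpd_fp hZ hX hY z f) hZ hPb hP).1 h G n
  refine (h1.transport (q' := fpFst (BasedFunctor.comp n z) f) (isEquivOver_fpPaste n z f) (Iso.refl _)).congr
    ((bLeft e (fpIso y z)).symm ≪≫ (bRight ι y).symm)

/-- The form of the previous statement for an algebraic space covering the target. -/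
theorem repByAlgSpWith_of_repSp_cover (hX : IsFibGrpd 𝒳.p) (hY : IsFibGrpd 𝒴.p) (hPb : StableBC P)
    (hP : AlgSp.IsLocalOnBase AlgSp.IsFppfCover P) {f : 𝒳 ⥤ᵇ 𝒴} (hf : RepByAlgSp1 f)
    (W : AlgSp.Space S) (w : ofSp W.obj ⥤ᵇ 𝒴)
    (hw₁ : RepByAlgSpWith (AlgSp.LocP @Flat) w) (hw₂ : RepByAlgSpWith (AlgSp.LocP @LocallyOfFinitePresentation) w)
    (hw₃ : RepByAlgSpWith AlgSp.IsSurjectiveMor w) (h : RepSp P (fpFst w f)) : RepByAlgSpWith P f := by
  refine repByAlgSpWith_of_covers hX hY hPb hP hf fun U y => ?_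
  obtain ⟨G, e, b, he, hb, ⟨ι⟩⟩ := isFppfCover_of_repOver (repByAlgSpWith_fppf_inf hw₁ hw₂ hw₃ U y)
  refine ⟨G, b, hb, ?_⟩
  obtain ⟨γ⟩ := exists_hom_iso (BasedFunctor.comp e (fpSnd y w))
  haveI := onSpaces_respectsIso_of_bc hPb
  have h1 := repSp_onSpaces_iff.1 (repSp_baseChange (G' := G) (homOfBased (BasedFunctor.comp e (fpSnd y w)))
    (stableBC_onSpaces hPb) ((repSp_onSpaces_iff (G := W)).2 h))
  exact h1.congr ((bRight γ w).symm ≪≫ (bLeft e (fpIso y w)).symm ≪≫ (bRight ι y).symm)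

/-- Locality on the source. -/
theorem repByAlgSpWith_of_comp_cover (hX : IsFibGrpd 𝒳.p) (hY : IsFibGrpd 𝒴.p) (hPb : StableBC P)
    (hP : AlgSp.IsLocalOnBase AlgSp.IsFppfCover P) {R : MorphismProperty (AlgSp.Sp S)} (hRi : R.RespectsIso)
    (hRd : SpaceDescends R)
    (hloc : ∀ ⦃F G H : AlgSp.Sp S⦄, AlgSp.IsAlgSpace F → AlgSp.IsAlgSpace G → AlgSp.IsAlgSpace H →
      ∀ (a : F ⟶ G) (b : G ⟶ H), R a → P (a ≫ b) → P b)
    {x : 𝒳 ⥤ᵇ 𝒴} {y : 𝒴 ⥤ᵇ 𝒵} (hy : RepByAlgSp1 y) (hx : RepByAlgSpWith R x)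
    (h : RepByAlgSpWith P (BasedFunctor.comp x y)) : RepByAlgSpWith P y := by
  intro U w
  obtain ⟨G, e, he⟩ := hy U w
  let q : fp y w ⥤ᵇ 𝒴 := fpFst y w
  let e' : ofSp G.obj ⥤ᵇ fp y w := BasedFunctor.comp e (fpSwap w y)
  have he' : IsEquivOver e' := isEquivOver_comp he isEquivOver_fpSwap
  obtain ⟨F, a, ψ, hψ, ⟨α⟩, hQ⟩ := exists_space_fp hX hY (repByAlgSp1_of_with hx) G (BasedFunctor.comp e' q)
  let χ : fp (BasedFunctor.comp e' q) x ⥤ᵇ fp w (BasedFunctor.comp x y) :=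
    BasedFunctor.comp (fpMapFst q x e') (BasedFunctor.comp (fpSwap q x)
      (BasedFunctor.comp (fpPaste x y w) (fpSwap (BasedFunctor.comp x y) w)))
  have hχ : IsEquivOver χ :=
    isEquivOver_comp (isEquivOver_fpMapFst q x e' he') (isEquivOver_comp isEquivOver_fpSwap
      (isEquivOver_comp (isEquivOver_fpPaste x y w) isEquivOver_fpSwap))
  haveI := onSpaces_respectsIso_of_bc hPb
  have h1 := RepOver.any (P := onSpaces P) (repByAlgSpWith_onSpaces_iff.2 h U w) (isEquivOver_comp hψ hχ)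
  have hmap : spMapOfOver (BasedFunctor.comp (BasedFunctor.comp ψ χ) (fpFst w (BasedFunctor.comp x y))) =
      a ≫ spMapOfOver (BasedFunctor.comp e (fpFst w y)) := by
    have h := spMapOfOver_congr (bRight α (BasedFunctor.comp e (fpFst w y)))
    rw [spMapOfOver_comp (ofSpMap a) (BasedFunctor.comp e (fpFst w y)), homOfBased_ofSpMap] at h
    exact h
  rw [hmap] at h1
  exact ⟨G, e, he, hloc F.property G.property (AlgSp.IsAlgSpace.yon_obj U) a _ (hRd F G a (hQ R hRi hx)) h1.2.2⟩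

theorem local_of_isLocalOnSource {Q : MorphismProperty (AlgSp.Sp S)}
    (hP' : AlgSp.IsLocalOnSource (fun _ _ Y g => AlgSp.IsCover Q Y g) P) ⦃F G H : AlgSp.Sp S⦄
    (hF : AlgSp.IsAlgSpace F) (hG : AlgSp.IsAlgSpace G) (hH : AlgSp.IsAlgSpace H) (a : F ⟶ G) (b : G ⟶ H)
    (ha : (Q ⊓ AlgSp.IsSurjectiveMor) a) (hab : P (a ≫ b)) : P b :=
  (hP' (fun _ : PUnit.{u+1} => F) (fun _ => a) hG (fun _ => hF) ⟨fun _ => ha.1, fun x => ⟨PUnit.unit, ha.2 x⟩⟩ b hH).2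
    (fun _ => hab)

end Groth.Agent.AlgSt88
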