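import Groth.Agent.AlgSt88.DiagCalc
import Groth.Agent.AlgSt88.DiagRep2
import Groth.Agent.AlgSt88.LocalProps
import Groth.Agent.SpFP87.Covers

/-! Properties of diagonals may be checked after base change by a flat, locally finitely presented surjection. -/

set_option autoImplicit false
set_option backward.isDefEq.respectTransparency false
set_option backward.isDefEq.respectTransparency.types false
universe u

open CategoryTheory CategoryTheory.Limits AlgebraicGeometry Opposite AlgSt FibCat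

namespace Groth.Agent.AlgSt88

variable {S : Scheme.{u}} {𝒳 𝒴 𝒵 𝒲 : AlgSt.Cat S} {P : MorphismProperty (AlgSp.Sp S)}

theorem fppf_local_of_fpqc (h : AlgSp.IsLocalOnBase (AlgSp.IsFpqcCover (S := S)) P) :
    AlgSp.IsLocalOnBase AlgSp.IsFppfCover P := fun _ _ Yi g hY hYi hg _ f hX Xi p q hXi sq =>
  h Yi g hY hYi (SpFP87.isFpqcCover_of_isFppfCover Yi g hY hYi hg) f hX Xi p q hXi sq

variable (g : 𝒲 ⥤ᵇ 𝒴) (f : 𝒳 ⥤ᵇ 𝒴)

/-- The lift of `pr₁ ∘ f` along `g` gives a lift along `baseSq`. -/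
def toBaseSq : fp (BasedFunctor.comp (fpFst f f) f) g ⥤ᵇ fp (fpFst g f) (fpFst g f) :=
  fpLift
    (fpLift (fpSnd (BasedFunctor.comp (fpFst f f) f) g)
      (BasedFunctor.comp (fpFst (BasedFunctor.comp (fpFst f f) f) g) (fpFst f f))
      (fpIso (BasedFunctor.comp (fpFst f f) f) g).symm)
    (fpLift (fpSnd (BasedFunctor.comp (fpFst f f) f) g)
      (BasedFunctor.comp (fpFst (BasedFunctor.comp (fpFst f f) f) g) (fpSnd f f))
      ((fpIso (BasedFunctor.comp (fpFst f f) f) g).symm ≪≫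
        bLeft (fpFst (BasedFunctor.comp (fpFst f f) f) g) (fpIso f f)))
    (Iso.refl _)

def toBaseSqIso : BasedFunctor.comp (toBaseSq g f) (baseSq g f) ≅ fpFst (BasedFunctor.comp (fpFst f f) f) g :=
  fpNatIso (Φ := BasedFunctor.comp (toBaseSq g f) (baseSq g f))
    (Ψ := fpFst (BasedFunctor.comp (fpFst f f) f) g) (Iso.refl _) (Iso.refl _) (fun x => by
      change f.map (𝟙 x.obj.fst.obj.fst) ≫ x.obj.fst.obj.iso.hom =
        (x.obj.iso.hom ≫ g.map (𝟙 _) ≫ (x.obj.iso.inv ≫ x.obj.fst.obj.iso.hom)) ≫ f.map (𝟙 x.obj.fst.obj.snd)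
      rw [map_id' g, map_id' f, map_id' f]
      simp)

variable {g f}

/-- A property of the diagonal descends along a flat, locally finitely presented surjection. -/
theorem repByAlgSpWith_diag_descends (hX : IsFibGrpd 𝒳.p) (hY : IsFibGrpd 𝒴.p) (hW : IsFibGrpd 𝒲.p)
    (dX : RepByAlgSp1 (diag (toSelf 𝒳))) (dY : RepByAlgSp1 (diag (toSelf 𝒴)))
    (hPb : StableBC P) (hP : AlgSp.IsLocalOnBase AlgSp.IsFppfCover P)
    (h1 : RepByAlgSpWith (AlgSp.LocP @Flat) g) (h2 : RepByAlgSpWith (AlgSp.LocP @LocallyOfFinitePresentation) g)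
    (h3 : RepByAlgSpWith AlgSp.IsSurjectiveMor g) (h : RepByAlgSpWith P (diag (fpFst g f))) :
    RepByAlgSpWith P (diag f) := by
  let q : fp f f ⥤ᵇ 𝒴 := BasedFunctor.comp (fpFst f f) f
  have hB : RepByAlgSpWith P (fpFst (baseSq g f) (diag f)) :=
    (repByAlgSpWith_precomp_equiv (isEquivOver_diagBC g f)).1 (repByAlgSpWith_of_iso (Iso.refl _) h)
  have hK : RepByAlgSpWith P (fpFst (BasedFunctor.comp (toBaseSq g f) (baseSq g f)) (diag f)) := fun U y =>
    RepOver.transport (repByAlgSpWith_fpFst (toBaseSq g f) hB U y)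
      (isEquivOver_fpMapSnd y _ _ (isEquivOver_fpPaste (toBaseSq g f) (baseSq g f) (diag f))) (Iso.refl _)
  have hC : RepByAlgSpWith P (fpFst (fpFst q g) (diag f)) := fun U y =>
    RepOver.transport (hK U y) (isEquivOver_fpMapSnd y _ _
      (isEquivOver_fpCongr (toBaseSqIso g f) (Iso.refl (diag f)))) (Iso.refl _)
  exact repByAlgSpWith_of_fpFst hX (isFibGrpd_fp hX hX hY f f) (isFibGrpd_fp (isFibGrpd_fp hX hX hY f f) hW hY q g)
    hPb hP (repByAlgSp1_diag dX dY f) (fpFst q g) (repByAlgSpWith_fpFst q h1) (repByAlgSpWith_fpFst q h2)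
    (repByAlgSpWith_fpFst q h3) hC

end Groth.Agent.AlgSt88
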