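import Groth.Agent.AlgSt88.AtlasFp
import Groth.Agent.Fib44.Repr2
import Groth.Agent.SpFP87.Cover

/-! Cancellation for morphisms representable by algebraic spaces. -/

set_option autoImplicit false
set_option backward.isDefEq.respectTransparency false
set_option backward.isDefEq.respectTransparency.types false
universe u

open CategoryTheory CategoryTheory.Limits AlgebraicGeometry Opposite AlgSt FibCat

namespace Groth.Agent.AlgSt88

variable {S : Scheme.{u}} {𝒳 𝒴 𝒵 : AlgSt.Cat S} {P R : MorphismProperty (AlgSp.Sp S)}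

/-- Stability under base change, for squares of algebraic spaces. -/
def StableBC (P : MorphismProperty (AlgSp.Sp S)) : Prop :=
  ∀ ⦃X₁ Y₁ X₂ Y₂ : AlgSp.Sp S⦄, AlgSp.IsAlgSpace X₁ → AlgSp.IsAlgSpace Y₁ → AlgSp.IsAlgSpace X₂ →
      AlgSp.IsAlgSpace Y₂ → ∀ (a : X₁ ⟶ Y₁) (b : Y₂ ⟶ Y₁) (a' : X₂ ⟶ Y₂) (b' : X₂ ⟶ X₁),
      IsPullback b' a' a b → P a → P a'

/-- Composites of morphisms of algebraic spaces. -/
def StableComp (P : MorphismProperty (AlgSp.Sp S)) : Prop :=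
  ∀ ⦃X Y Z : AlgSp.Sp S⦄, AlgSp.IsAlgSpace X → AlgSp.IsAlgSpace Y → AlgSp.IsAlgSpace Z →
      ∀ (a : X ⟶ Y) (b : Y ⟶ Z), P a → P b → P (a ≫ b)

/-- `P` may be cancelled along morphisms with `R`. -/
def CancelsAlong (P R : MorphismProperty (AlgSp.Sp S)) : Prop :=
  ∀ ⦃X Y Z : AlgSp.Sp S⦄, AlgSp.IsAlgSpace X → AlgSp.IsAlgSpace Y → AlgSp.IsAlgSpace Z →
      ∀ (a : X ⟶ Y) (b : Y ⟶ Z), R b → P (a ≫ b) → P a

theorem repByAlgSpWith_ofSpMap (hPb : StableBC P) (hPi : P.RespectsIso) {F G : AlgSp.Space S} (a : F.obj ⟶ G.obj)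
    (ha : P a) : RepByAlgSpWith P (ofSpMap a) := by
  refine (repByAlgSpWith_ofPshMap_iff P a.hom).1 ((AlgSp.repBySpWith_hom_iff _ a).2 fun U ξ F' fst snd sq => ?_)
  have hU := AlgSp.IsAlgSpace.yon_obj (S := S) U
  have hF' : AlgSp.IsAlgSpace F' := SpFP87.isAlgSpace_of_isPullback sq F.property hU G.property.diag
  exact ⟨hF', hPb F.property G.property hF' hU a ξ snd fst sq ha⟩

/-- Cancellation: `h` has `P` if `h ⋙ c` has `P`, `c` has `R`, and `P` cancels along `R`. -/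
theorem repByAlgSpWith_of_comp (hPb : StableBC P) (hPi : P.RespectsIso) (hcan : CancelsAlong P R)
    {h : 𝒳 ⥤ᵇ 𝒴} {c : 𝒴 ⥤ᵇ 𝒵} (hc : RepByAlgSpWith R c) (hhc : RepByAlgSpWith P (BasedFunctor.comp h c)) :
    RepByAlgSpWith P h := by
  intro U y
  let G : overCat U ⥤ᵇ 𝒵 := BasedFunctor.comp y c
  obtain ⟨Gs, e, he, hb⟩ := hc U G
  obtain ⟨F, e₁, he₁, hab⟩ := hhc U G
  obtain ⟨e', he', -, ⟨β⟩⟩ := isEquivOver_inverse he
  let Φ : ofSp F.obj ⥤ᵇ ofSp Gs.obj := BasedFunctor.comp (BasedFunctor.comp e₁ (fpMapSnd G c h)) e'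
  obtain ⟨α⟩ := nonempty_iso_ofPshMap (Q := Gs.obj.obj) Φ
  let a : F.obj ⟶ Gs.obj := ObjectProperty.homMk (pshHom (Q := Gs.obj.obj) Φ)
  let ι : BasedFunctor.comp (ofSpMap a) e ≅ BasedFunctor.comp e₁ (fpMapSnd G c h) :=
    bRight α.symm e ≪≫ bLeft (BasedFunctor.comp e₁ (fpMapSnd G c h)) β
  have hmap : spMapOfOver (BasedFunctor.comp e₁ (fpFst G (BasedFunctor.comp h c))) =
      a ≫ spMapOfOver (BasedFunctor.comp e (fpFst G c)) := by
    have h' := spMapOfOver_congr (bRight ι (fpFst G c))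
    have e3 : BasedFunctor.comp (BasedFunctor.comp (ofSpMap a) e) (fpFst G c) =
        BasedFunctor.comp (ofSpMap a) (BasedFunctor.comp e (fpFst G c)) := rfl
    rw [e3, spMapOfOver_comp (ofSpMap a) (BasedFunctor.comp e (fpFst G c)), homOfBased_ofSpMap] at h'
    exact h'.symm
  have hPa : P a := hcan F.property Gs.property (AlgSp.IsAlgSpace.yon_obj U) a _ hb (hmap ▸ hab)
  have h0 : RepByAlgSpWith P (fpMapSnd G c h) :=
    (repByAlgSpWith_precomp_equiv he₁).1 (repByAlgSpWith_of_iso ι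
      ((repByAlgSpWith_postcomp_equiv he).2 (repByAlgSpWith_ofSpMap hPb hPi a hPa)))
  let π : fp c G ⥤ᵇ 𝒴 := fpFst c G
  have h1 : RepByAlgSpWith P (fpMapFst c G h) :=
    (repByAlgSpWith_postcomp_equiv (b := fpSwap c G) isEquivOver_fpSwap).1
      ((repByAlgSpWith_precomp_equiv (a := fpSwap G (BasedFunctor.comp h c)) isEquivOver_fpSwap).1
        (repByAlgSpWith_of_iso
          ((fpNatIso (Φ := BasedFunctor.comp (fpSwap G (BasedFunctor.comp h c))
              (BasedFunctor.comp (fpMapFst c G h) (fpSwap c G)))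
            (Ψ := fpMapSnd G c h) (Iso.refl _) (Iso.refl _) (fun x => (by
              change G.map (𝟙 x.obj.fst) ≫ x.obj.iso.hom = x.obj.iso.hom ≫ c.map (𝟙 (h.obj x.obj.snd))
              simp only [G.map_id, c.map_id, Category.id_comp]; exact (Category.comp_id _).symm))).symm) h0))
  have h2 : RepByAlgSpWith P (fpSnd h π) :=
    repByAlgSpWith_of_iso
      (fpNatIso (Φ := BasedFunctor.comp (fpPaste h c G) (fpMapFst c G h)) (Ψ := fpSnd h (fpFst c G))
        (fpIso h (fpFst c G)) (Iso.refl _) (fun x => (by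
          change c.map x.obj.iso.hom ≫ x.obj.snd.obj.iso.hom =
            (c.map x.obj.iso.hom ≫ x.obj.snd.obj.iso.hom) ≫ G.map (𝟙 _)
          rw [G.map_id, Category.comp_id])))
      ((repByAlgSpWith_precomp_equiv (isEquivOver_fpPaste h c G)).2 h1)
  have h3 : RepByAlgSpWith P (fpFst π h) :=
    repByAlgSpWith_of_iso (f := BasedFunctor.comp (fpSwap π h) (fpSnd h π)) (Iso.refl _)
      ((repByAlgSpWith_precomp_equiv isEquivOver_fpSwap).2 h2)
  let y' : overCat U ⥤ᵇ fp c G := fpLift y (BasedFunctor.id _) (Iso.refl _)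
  exact RepOver.transport (h3 U y') (isEquivOver_fpPaste y' π h) (Iso.refl _)

/-- Cancellation along a morphism with representable diagonal. -/
theorem repByAlgSp1_of_diag_comp (hY : IsFibGrpd 𝒴.p) (hZ : IsFibGrpd 𝒵.p)
    {f : 𝒳 ⥤ᵇ 𝒴} {g : 𝒴 ⥤ᵇ 𝒵} (hΔ : RepByAlgSp1 (diag g)) (hgf : RepByAlgSp1 (BasedFunctor.comp f g)) :
    RepByAlgSp1 f := fun U y =>
  repByAlgSp_of_equiv (repByAlgSp_fp hY (isFibGrpd_fp hY hY hZ g g) (Fib44.diagPair g y f) hΔ
    (hgf U (BasedFunctor.comp y g))) (Fib44.diagCmp_isEquivOver g y f)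

end Groth.Agent.AlgSt88
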