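import Groth.Agent.AlgSt88.SpQProps
import Groth.Agent.AlgSt88.PointsRel

/-! Points of an algebraic space and of the associated stack; surjectivity. -/

set_option autoImplicit false
set_option linter.style.haveILetI false
set_option linter.unusedVariables false
set_option backward.isDefEq.respectTransparency false
set_option backward.isDefEq.respectTransparency.types false
universe u

open CategoryTheory CategoryTheory.Limits AlgebraicGeometry Opposite AlgSt FibCat

namespace Groth.Agent.AlgSt88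

variable {S : Scheme.{u}} {F G : AlgSp.Sp S} {𝒳 𝒴 : AlgSt.Cat S}

/-- A field-valued point of a sheaf as one of the associated stack. -/
noncomputable def fptOfSp (p : AlgSp.FieldPt F) : FPt (ofSp F) :=
  { K := p.K, str := p.str, obj := ⟨Over.mk p.str, p.val⟩, lies := rfl }

/-- The converse. -/
noncomputable def spOfFpt (p : FPt (ofSp F)) : AlgSp.FieldPt F :=
  { K := p.K, str := p.str, val := F.obj.map (eqToHom p.lies.symm).op p.obj.sec }

theorem fptOfSp_rel {p q : AlgSp.FieldPt F} (h : AlgSp.FieldPt.Rel p q) : FPt.Rel (fptOfSp p) (fptOfSp q) := by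
  obtain ⟨Ω, _, w, a, b, h⟩ := h
  exact ⟨{ K := Ω, str := w, obj := ⟨Over.mk w, F.obj.map a.op p.val⟩, lies := rfl }, ⟨a, rfl⟩, ⟨b, h.symm⟩, trivial⟩

theorem spOfFpt_rel {p q : FPt (ofSp F)} (h : FPt.Rel p q) : AlgSp.FieldPt.Rel (spOfFpt p) (spOfFpt q) := by
  obtain ⟨r, a, b, -⟩ := h
  refine ⟨r.K, r.field, r.str, eqToHom r.lies.symm ≫ a.hom ≫ eqToHom p.lies,
    eqToHom r.lies.symm ≫ b.hom ≫ eqToHom q.lies, ?_⟩
  change F.obj.map _ (F.obj.map _ p.obj.sec) = F.obj.map _ (F.obj.map _ q.obj.sec)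
  simp only [← Functor.map_comp_apply, ← op_comp, Category.assoc, eqToHom_trans, eqToHom_refl, Category.comp_id]
  rw [op_comp, op_comp, Functor.map_comp_apply, Functor.map_comp_apply]
  exact congrArg _ (a.map_sec.trans b.map_sec.symm)

/-- Points of the associated stack from points of a sheaf. -/
noncomputable def stPt (F : AlgSp.Sp S) : AlgSp.Points F → Points (ofSp F) :=
  Quotient.lift (fun p => Points.mk (fptOfSp p)) fun _ _ h => Points.sound (fptOfSp_rel h)

/-- The converse. -/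
noncomputable def spPt (F : AlgSp.Sp S) : Points (ofSp F) → AlgSp.Points F :=
  Quot.lift (fun p => AlgSp.Points.mk (spOfFpt p)) fun _ _ h => AlgSp.Points.sound (spOfFpt_rel h)

theorem spPt_stPt (x : AlgSp.Points F) : spPt F (stPt F x) = x := by
  obtain ⟨p, rfl⟩ := AlgSp.Points.mk_surjective x
  refine AlgSp.Points.sound ⟨p.K, p.field, p.str, 𝟙 _, 𝟙 _, ?_⟩
  exact congrArg _ (show F.obj.map (𝟙 (op p.pt)) p.val = p.val from F.obj.map_id_apply _ p.val)

theorem stPt_spPt (x : Points (ofSp F)) : stPt F (spPt F x) = x := by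
  obtain ⟨p, rfl⟩ := Points.mk_surjective x
  exact Points.sound ⟨fptOfSp (spOfFpt p), 𝟙 _, ⟨eqToHom p.lies.symm, rfl⟩, trivial⟩

theorem stPt_bijective : Function.Bijective (stPt F) :=
  Function.bijective_iff_has_inverse.2 ⟨spPt F, spPt_stPt, stPt_spPt⟩

theorem stPt_natural (a : F ⟶ G) (x : AlgSp.Points F) :
    Points.map (ofSpMap a) (stPt F x) = stPt G (AlgSp.Points.map a x) := by
  obtain ⟨p, rfl⟩ := AlgSp.Points.mk_surjective x
  rfl

/-- Surjectivity of a functor between stacks of sheaves. -/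
theorem surjective_points_iff (Φ : ofSp F ⥤ᵇ ofSp G) :
    IsSurjective Φ ↔ AlgSp.IsSurjectiveMor (homOfBased Φ) := by
  obtain ⟨α⟩ := exists_hom_iso Φ
  have h : ∀ x, Points.map Φ (stPt F x) = stPt G (AlgSp.Points.map (homOfBased Φ) x) := fun x => by
    rw [points_map_congr α, stPt_natural]
  constructor
  · intro hs y
    obtain ⟨x, hx⟩ := hs (stPt G y)
    obtain ⟨x, rfl⟩ := stPt_bijective.2 x
    exact ⟨x, stPt_bijective.1 ((h x).symm.trans hx)⟩
  · intro hs y
    obtain ⟨y, rfl⟩ := stPt_bijective.2 y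
    obtain ⟨x, rfl⟩ := hs y
    exact ⟨stPt F x, h x⟩

theorem surjective_of_equiv {e : 𝒳 ⥤ᵇ 𝒴} (he : IsEquivOver e) : IsSurjective e := (points_map_bijective he).2

theorem surjective_comp {𝒵 : AlgSt.Cat S} {a : 𝒳 ⥤ᵇ 𝒴} {b : 𝒴 ⥤ᵇ 𝒵} (ha : IsSurjective a) (hb : IsSurjective b) :
    IsSurjective (BasedFunctor.comp a b) := fun z => by
  obtain ⟨y, rfl⟩ := hb z
  obtain ⟨x, rfl⟩ := ha y
  exact ⟨x, points_map_comp a b x⟩

theorem surjective_of_comp {𝒵 : AlgSt.Cat S} {a : 𝒳 ⥤ᵇ 𝒴} {b : 𝒴 ⥤ᵇ 𝒵}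
    (h : IsSurjective (BasedFunctor.comp a b)) : IsSurjective b := fun z => by
  obtain ⟨x, rfl⟩ := h z
  exact ⟨Points.map a x, (points_map_comp a b x).symm⟩

theorem surjective_spMapOfOver {U : Over S} {e : ofSp F ⥤ᵇ 𝒳} (he : IsEquivOver e) (q : 𝒳 ⥤ᵇ overCat U) :
    IsSurjective q ↔ AlgSp.IsSurjectiveMor (spMapOfOver (BasedFunctor.comp e q)) := by
  rw [spMapOfOver_eq, ← surjective_points_iff]
  refine ⟨fun h => surjective_comp (surjective_comp (surjective_of_equiv he) h)
    (surjective_of_equiv (isEquivOver_ofOverCat U)), fun h => ?_⟩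
  have h2 : IsSurjective (BasedFunctor.comp e q) := fun z => by
    obtain ⟨w, hw⟩ := h (Points.map (ofOverCat U) z)
    exact ⟨w, (points_map_bijective (isEquivOver_ofOverCat U)).1 ((points_map_comp _ _ w).symm.trans hw)⟩
  exact surjective_of_comp h2

/-- A representable surjection is surjective on points. -/
theorem isSurjective_of_sj (hY : IsFibGrpd 𝒴.p) {f : 𝒳 ⥤ᵇ 𝒴} (hf : Sj f) : IsSurjective f := by
  intro y
  obtain ⟨p, rfl⟩ := Points.mk_surjective y
  let c := classify hY p.obj p.lies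
  obtain ⟨F, e, he, hs⟩ := hf (Over.mk p.str) c
  obtain ⟨ε, -⟩ := classify_mk_id hY p.obj p.lies
  let o : FPt (overCat (Over.mk p.str)) := { K := p.K, str := p.str, obj := Over.mk (𝟙 _), lies := rfl }
  obtain ⟨w, hw⟩ := (surjective_spMapOfOver he (fpFst c f)).2 hs (Points.mk o)
  refine ⟨Points.map (fpSnd c f) w, ?_⟩
  rw [← points_map_comp, ← points_map_congr (fpIso c f), points_map_comp, hw]
  exact Points.sound ⟨o.map c, 𝟙 _, ε.hom, trivial⟩

/-- A representable morphism surjective on points is a representable surjection. -/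
theorem sj_of_isSurjective (hX : IsFibGrpd 𝒳.p) (hY : IsFibGrpd 𝒴.p) {f : 𝒳 ⥤ᵇ 𝒴} (hr : RepByAlgSp1 f)
    (hs : IsSurjective f) : Sj f := by
  intro U y
  obtain ⟨F, e, he⟩ := hr U y
  exact ⟨F, e, he, (surjective_spMapOfOver he _).1 (isSurjective_fpFst hY hX (isFibGrpd_overCat U) y hs)⟩

end Groth.Agent.AlgSt88
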