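import Groth.Agent.AlgSt88.SmoothLocalInst
import Groth.Agent.AlgSt88.PointsCmp
import Groth.Agent.FlatMor66.FlatDescentSource
import Groth.Agent.AlgSt88.Cancel

/-! Descent and cancellation for properties of morphisms of stacks. -/

set_option autoImplicit false
set_option maxHeartbeats 1000000
set_option linter.style.haveILetI false
set_option linter.unusedVariables false
set_option backward.isDefEq.respectTransparency false
set_option backward.isDefEq.respectTransparency.types false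
universe u

open CategoryTheory CategoryTheory.Limits AlgebraicGeometry Opposite AlgSt FibCat

namespace Groth.Agent.AlgSt88

variable {S : Scheme.{u}} {𝒳 𝒴 𝒵 : AlgSt.Cat S} {P : MorphismProperty (AlgSp.Sp S)}

/-- The space of a scheme. -/
abbrev spY (U : Over S) : AlgSp.Space S := ⟨(AlgSp.yon S).obj U, AlgSp.IsAlgSpace.yon_obj U⟩

/-- A lift of a chart along a surjective morphism is a surjective map of schemes. -/
theorem surj_of_lift_chart (hX : IsFibGrpd 𝒳.p) (hY : IsFibGrpd 𝒴.p) {f : 𝒳 ⥤ᵇ 𝒴} (hf : IsSurjective f)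
    {V : AlgSp.Space S} (y : ofSp V.obj ⥤ᵇ 𝒴) {U : AlgSp.Space S} (l : ofSp U.obj ⥤ᵇ fp f y) (hl : Sj l) :
    AlgSp.IsSurjectiveMor (homOfBased (BasedFunctor.comp l (fpSnd f y))) := by
  have hV := Stk.isFibGrpd_ofPsh V.obj.obj
  refine (surjective_points_iff _).1 (surjective_comp (isSurjective_of_sj (isFibGrpd_fp hX hV hY f y) hl) ?_)
  exact surjective_comp (a := fpSwap f y) (b := fpFst y f) (surjective_of_equiv isEquivOver_fpSwap)
    (isSurjective_fpFst hY hX hV y hf)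

theorem isFppfCover_hom {U V : AlgSp.Space S} {h : U.obj ⟶ V.obj} (h1 : AlgSp.LocP @Flat h)
    (h2 : AlgSp.LocP @LocallyOfFinitePresentation h) (h3 : AlgSp.IsSurjectiveMor h) :
    AlgSp.IsFppfCover (fun _ : PUnit.{u + 1} => U.obj) (fun _ => h) :=
  isFppfCover_single h h1 h2 h3

/-- Descent along a flat, locally finitely presented surjection. -/
theorem spQ_of_fpFst (hP : AlgSp.IsSmoothLocalST P) (hP₂ : AlgSp.IsLocalOnBase AlgSp.IsFppfCover P)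
    (h𝒳 : IsAlgStack Scheme.fppfPrecoverage 𝒳) (h𝒴 : IsAlgStack Scheme.fppfPrecoverage 𝒴)
    (h𝒵 : IsAlgStack Scheme.fppfPrecoverage 𝒵) {f : 𝒳 ⥤ᵇ 𝒴} (z : 𝒵 ⥤ᵇ 𝒴)
    (hz₁ : SpQ (AlgSp.LocP @Flat) z) (hz₂ : SpQ (AlgSp.LocP @LocallyOfFinitePresentation) z) (hz₃ : IsSurjective z)
    (h : SpQ P (fpFst z f)) : LocQ P f := by
  refine locQ_of_forall h𝒳 h𝒴 fun U V y l hy hy' hl hl' => ?_
  obtain ⟨W, lw, hlw, hlw'⟩ := exists_lift_chart h𝒵 h𝒴 z (V := spY V) y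
  let hw := homOfBased (BasedFunctor.comp lw (fpSnd z y))
  have hZ := h𝒵.isStack.1
  have hY := h𝒴.isStack.1
  have hX := h𝒳.isStack.1
  have h1 := hz₁.prop smoothLocal_flat hZ hY (U := spY W) (V := spY V) y lw hy hlw
  have h2 := hz₂.prop smoothLocal_lfp hZ hY (U := spY W) (V := spY V) y lw hy hlw
  have h3 := surj_of_lift_chart hZ hY hz₃ (V := spY V) y (U := spY W) lw hlw'
  have hC := isFibGrpd_fp hZ (Stk.isFibGrpd_ofPsh (spY V).obj.obj) hY z y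
  let w := BasedFunctor.comp lw (fpFst z y)
  obtain ⟨γ⟩ := exists_hom_iso (BasedFunctor.comp lw (fpSnd z y))
  obtain ⟨T, l₁, q, hQ₁, sq⟩ := exists_bc_chart (f := f) (U := spY U) (G := spY W) (V := spY V) hw y l
  obtain ⟨l₂, hQ₂, e₂⟩ := exists_chart_congr ((bRight γ y).symm ≪≫ (bLeft lw (fpIso z y)).symm) l₁
  obtain ⟨l₃, hQ₃, e₃⟩ := exists_chart_fpFst (f := f) z (U := T) (V := spY W) w l₂
  have h4 := h.prop hP (isFibGrpd_fp hZ hX hY z f) hZ (U := T) (V := spY W) w l₃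
    (sm_comp (Stk.isFibGrpd_ofPsh _) hC hlw (repByAlgSpWith_fpFst z hy)) (hQ₃ _ (hQ₂ _ (hQ₁ _ hl)))
  have h5 := (congrArg (fun t => P t) (e₃.trans e₂)).mp h4
  exact (hP₂ (fun _ : PUnit.{u + 1} => (spY W).obj) (fun _ => hw) (spY V).property (fun _ => (spY W).property)
    (isFppfCover_hom (U := spY W) (V := spY V) h1 h2 h3) (homOfBased (BasedFunctor.comp l (fpSnd f y)))
    (spY U).property (fun _ => T.obj) (fun _ => homOfBased (BasedFunctor.comp l₁ (fpSnd f _))) (fun _ => q)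
    (fun _ => T.property) fun _ => sq).2 fun _ => h5

/-- Flatness cancels along a flat surjection. -/
theorem flat_cancel {T : AlgSp.Space S} {U V : Over S} (q : T.obj ⟶ (AlgSp.yon S).obj U) (hq : AlgSp.LocP @Flat q)
    (hqs : AlgSp.IsSurjectiveMor q) (h : (AlgSp.yon S).obj U ⟶ (AlgSp.yon S).obj V)
    (hc : AlgSp.LocP @Flat (q ≫ h)) : AlgSp.LocP @Flat h := by
  obtain ⟨A, a, ha, has⟩ := T.property.atlas
  obtain ⟨r, hr⟩ := (AlgSp.yon S).map_surjective (a ≫ q)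
  obtain ⟨k, rfl⟩ := (AlgSp.yon S).map_surjective h
  have haf : AlgSp.LocP @Flat a := SpFP87.LocP.of_le
    (fun _ _ f hf => by haveI : Etale f := hf; exact (inferInstance : Flat f))
    (SpFP87.locP_of_repWith (P := @Etale) (AlgSp.IsAlgSpace.yon_obj A).diag T.property ha)
  have hA := AlgSp.IsAlgSpace.yon_obj (S := S) A
  have hr1 : Flat r.left := (SpFP87.locP_yon_map_iff (P := @Flat) r).1
    (hr ▸ SpFP87.locP_comp hA T.property (AlgSp.IsAlgSpace.yon_obj U) haf hq)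
  have hrs : Surjective r.left := ⟨fun t => by
    have : AlgSp.IsSurjectiveMor (a ≫ q) := fun x => by
      obtain ⟨x', rfl⟩ := hqs x
      obtain ⟨x'', rfl⟩ := SpPts86.isSurjectiveMor_of_repWith has x'
      exact ⟨x'', AlgSp.Points.map_comp _ _ _⟩
    rw [← hr] at this
    obtain ⟨y, hy⟩ := this (AlgSp.Points.schemeHomeo U t)
    obtain ⟨v, rfl⟩ := (AlgSp.Points.schemeHomeo A).surjective y
    rw [AlgSp.Points.map_yon_map_apply] at hy
    exact ⟨v, (AlgSp.Points.schemeHomeo U).injective hy⟩⟩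
  have hrk : Flat (r.left ≫ k.left) := by
    have h0 := SpFP87.locP_comp hA T.property (AlgSp.IsAlgSpace.yon_obj V) haf hc
    rw [← Category.assoc, ← hr, ← Functor.map_comp] at h0
    exact (SpFP87.locP_yon_map_iff (P := @Flat) (r ≫ k)).1 h0
  exact (SpFP87.locP_yon_map_iff (P := @Flat) k).2 (FlatMor66.flat_of_comp_surjective r.left k.left)

/-- Descent of flatness along a flat surjection. -/
theorem spQ_flat_of_fpFst
    (h𝒳 : IsAlgStack Scheme.fppfPrecoverage 𝒳) (h𝒴 : IsAlgStack Scheme.fppfPrecoverage 𝒴)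
    (h𝒵 : IsAlgStack Scheme.fppfPrecoverage 𝒵) {f : 𝒳 ⥤ᵇ 𝒴} (z : 𝒵 ⥤ᵇ 𝒴)
    (hz₁ : SpQ (AlgSp.LocP @Flat) z) (hz₃ : IsSurjective z)
    (h : SpQ (AlgSp.LocP @Flat) (fpFst z f)) : LocQ (AlgSp.LocP @Flat) f := by
  refine locQ_of_forall h𝒳 h𝒴 fun U V y l hy hy' hl hl' => ?_
  obtain ⟨W, lw, hlw, hlw'⟩ := exists_lift_chart h𝒵 h𝒴 z (V := spY V) y
  let hw := homOfBased (BasedFunctor.comp lw (fpSnd z y))
  have hZ := h𝒵.isStack.1
  have hY := h𝒴.isStack.1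
  have hX := h𝒳.isStack.1
  have h1 := hz₁.prop smoothLocal_flat hZ hY (U := spY W) (V := spY V) y lw hy hlw
  have h3 := surj_of_lift_chart hZ hY hz₃ (V := spY V) y (U := spY W) lw hlw'
  have hC := isFibGrpd_fp hZ (Stk.isFibGrpd_ofPsh (spY V).obj.obj) hY z y
  let w := BasedFunctor.comp lw (fpFst z y)
  obtain ⟨γ⟩ := exists_hom_iso (BasedFunctor.comp lw (fpSnd z y))
  obtain ⟨T, l₁, q, hQ₁, sq⟩ := exists_bc_chart (f := f) (U := spY U) (G := spY W) (V := spY V) hw y l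
  obtain ⟨l₂, hQ₂, e₂⟩ := exists_chart_congr ((bRight γ y).symm ≪≫ (bLeft lw (fpIso z y)).symm) l₁
  obtain ⟨l₃, hQ₃, e₃⟩ := exists_chart_fpFst (f := f) z (U := T) (V := spY W) w l₂
  have h4 := h.prop smoothLocal_flat (isFibGrpd_fp hZ hX hY z f) hZ (U := T) (V := spY W) w l₃
    (sm_comp (Stk.isFibGrpd_ofPsh _) hC hlw (repByAlgSpWith_fpFst z hy)) (hQ₃ _ (hQ₂ _ (hQ₁ _ hl)))
  have h5 := (congrArg (fun t => AlgSp.LocP @Flat t) (e₃.trans e₂)).mp h4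
  have hq : AlgSp.LocP @Flat q :=
    SpFP87.locP_baseChange sq.flip (spY W).property (spY V).property (spY U).property h1
  have hqs : AlgSp.IsSurjectiveMor q := SpFP87.isSurjectiveMor_baseChange sq.flip h3
  exact flat_cancel q hq hqs (homOfBased (BasedFunctor.comp l (fpSnd f y)))
    (sq.w ▸ SpFP87.locP_comp T.property (spY W).property (spY V).property h5 h1)

end Groth.Agent.AlgSt88

namespace Groth.Agent.AlgSt88

variable {S : Scheme.{u}} {𝒳 𝒴 𝒵 : AlgSt.Cat S}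

/-- Compatible charts of a composite. -/
theorem exists_comp_charts (h𝒳 : IsAlgStack Scheme.fppfPrecoverage 𝒳) (h𝒴 : IsAlgStack Scheme.fppfPrecoverage 𝒴)
    (h𝒵 : IsAlgStack Scheme.fppfPrecoverage 𝒵) (f : 𝒳 ⥤ᵇ 𝒴) (g : 𝒴 ⥤ᵇ 𝒵) {W : Over S} (z : ofSch W ⥤ᵇ 𝒵)
    (hz : Sm z) :
    ∃ (V U : Over S) (lg : ofSch V ⥤ᵇ fp g z) (y : ofSch V ⥤ᵇ 𝒴) (lf : ofSch U ⥤ᵇ fp f y)
      (L : ofSch U ⥤ᵇ fp (BasedFunctor.comp f g) z),
      Sm lg ∧ Sj lg ∧ Sm y ∧ Sm lf ∧ Sj lf ∧ Sm L ∧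
      homOfBased (BasedFunctor.comp L (fpSnd (BasedFunctor.comp f g) z)) =
        homOfBased (BasedFunctor.comp lf (fpSnd f y)) ≫ homOfBased (BasedFunctor.comp lg (fpSnd g z)) := by
  obtain ⟨V, lg, hlg, hlg'⟩ := exists_lift_chart h𝒴 h𝒵 g (V := spY W) z
  have hC := isFibGrpd_fp h𝒴.isStack.1 (Stk.isFibGrpd_ofPsh (spY W).obj.obj) h𝒵.isStack.1 g z
  have hy : Sm (BasedFunctor.comp lg (fpFst g z)) :=
    sm_comp (Stk.isFibGrpd_ofPsh _) hC hlg (repByAlgSpWith_fpFst g hz)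
  let y := BasedFunctor.comp lg (fpFst g z)
  obtain ⟨U, lf, hlf, hlf'⟩ := exists_lift_chart h𝒳 h𝒴 f (V := spY V) y
  let L : ofSch U ⥤ᵇ fp (BasedFunctor.comp f g) z := BasedFunctor.comp lf
    (BasedFunctor.comp (fpMapSnd f (fpFst g z) lg) (fpPaste f g z))
  refine ⟨V, U, lg, y, lf, L, hlg, hlg', hy, hlf, hlf', ?_, ?_⟩
  · exact sm_comp (Stk.isFibGrpd_ofPsh _)
      (isFibGrpd_fp h𝒳.isStack.1 (Stk.isFibGrpd_ofPsh _) h𝒴.isStack.1 f y) hlf
      ((repByAlgSpWith_postcomp_equiv (isEquivOver_fpPaste f g z)).2 (repByAlgSpWith_fpMapSnd f (fpFst g z) hlg))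
  · exact homOfBased_comp (BasedFunctor.comp lf (fpSnd f y)) (BasedFunctor.comp lg (fpSnd g z))

/-- Cancellation on the source for properties of scheme morphisms. -/
theorem locQ_of_comp {P Q R : MorphismProperty Scheme.{u}} [SpFP87.EtLoc P] [SpFP87.EtLoc Q] [SpFP87.EtLoc R]
    (hcan : ∀ {A B C : Scheme.{u}} (a : A ⟶ B) (b : B ⟶ C), P (a ≫ b) → Q b → R a)
    (hP : AlgSp.IsSmoothLocalST (S := S) (AlgSp.LocP P)) (hQ : AlgSp.IsSmoothLocalST (S := S) (AlgSp.LocP Q))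
    (hR : AlgSp.IsSmoothLocalST (S := S) (AlgSp.LocP R))
    (h𝒳 : IsAlgStack Scheme.fppfPrecoverage 𝒳) (h𝒴 : IsAlgStack Scheme.fppfPrecoverage 𝒴)
    (h𝒵 : IsAlgStack Scheme.fppfPrecoverage 𝒵) {f : 𝒳 ⥤ᵇ 𝒴} {g : 𝒴 ⥤ᵇ 𝒵}
    (hfg : LocQ (AlgSp.LocP P) (BasedFunctor.comp f g)) (hg : LocQ (AlgSp.LocP Q) g) :
    LocQ (AlgSp.LocP R) f := by
  refine (locQ_iff_spQ hR h𝒳 h𝒴).2 ?_
  obtain ⟨W, z, hz, hz'⟩ := exists_space_atlas h𝒵
  obtain ⟨V, lg, hlg, hlg'⟩ := exists_lift_chart h𝒴 h𝒵 g (V := spY W) z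
  have hC := isFibGrpd_fp h𝒴.isStack.1 (Stk.isFibGrpd_ofPsh (spY W).obj.obj) h𝒵.isStack.1 g z
  let y := BasedFunctor.comp lg (fpFst g z)
  have hy : Sm y := sm_comp (Stk.isFibGrpd_ofPsh _) hC hlg (repByAlgSpWith_fpFst g hz)
  obtain ⟨U, lf, hlf, hlf'⟩ := exists_lift_chart h𝒳 h𝒴 f (V := spY V) y
  let L : ofSch U ⥤ᵇ fp (BasedFunctor.comp f g) z := BasedFunctor.comp lf
    (BasedFunctor.comp (fpMapSnd f (fpFst g z) lg) (fpPaste f g z))
  have hL : Sm L := sm_comp (Stk.isFibGrpd_ofPsh _)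
      (isFibGrpd_fp h𝒳.isStack.1 (Stk.isFibGrpd_ofPsh _) h𝒴.isStack.1 f y) hlf
      ((repByAlgSpWith_postcomp_equiv (isEquivOver_fpPaste f g z)).2 (repByAlgSpWith_fpMapSnd f (fpFst g z) hlg))
  obtain ⟨a, ha⟩ := (AlgSp.yon S).map_surjective (homOfBased (BasedFunctor.comp lf (fpSnd f y)))
  obtain ⟨b, hb⟩ := (AlgSp.yon S).map_surjective (homOfBased (BasedFunctor.comp lg (fpSnd g z)))
  have hab : homOfBased (BasedFunctor.comp L (fpSnd (BasedFunctor.comp f g) z)) = (AlgSp.yon S).map (a ≫ b) := by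
    rw [Functor.map_comp, ha, hb]
    exact homOfBased_comp (BasedFunctor.comp lf (fpSnd f y)) (BasedFunctor.comp lg (fpSnd g z))
  have h1 := (spQ_of_locQ hfg).prop hP h𝒳.isStack.1 h𝒵.isStack.1 (U := spY U) (V := spY W) z L hz hL
  have h2 := (spQ_of_locQ hg).prop hQ h𝒴.isStack.1 h𝒵.isStack.1 (U := spY V) (V := spY W) z lg hz hlg
  refine spQ_mk (U := spY U) (V := spY V) (y := y) (l := lf) h𝒳.isStack.1 h𝒴.isStack.1 hy
    (repByAlgSpWith_surj_comp (Stk.isFibGrpd_ofPsh _) hC hlg' (repByAlgSpWith_fpFst g hz')) hlf hlf' ?_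
  exact (congrArg (fun t => AlgSp.LocP R t) ha).mp ((SpFP87.locP_yon_map_iff (P := R) a).2 (hcan a.left b.left
    ((SpFP87.locP_yon_map_iff (P := P) (a ≫ b)).1 ((congrArg (fun t => AlgSp.LocP P t) hab).mp h1))
    ((SpFP87.locP_yon_map_iff (P := Q) b).1 ((congrArg (fun t => AlgSp.LocP Q t) hb.symm).mp h2))))

/-- Cancellation on the source for properties cancelling unconditionally. -/
theorem locQ_of_comp' {P R : MorphismProperty Scheme.{u}} [SpFP87.EtLoc P] [SpFP87.EtLoc R]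
    (hcan : ∀ {A B C : Scheme.{u}} (a : A ⟶ B) (b : B ⟶ C), P (a ≫ b) → R a)
    (hP : AlgSp.IsSmoothLocalST (S := S) (AlgSp.LocP P))
    (hR : AlgSp.IsSmoothLocalST (S := S) (AlgSp.LocP R))
    (h𝒳 : IsAlgStack Scheme.fppfPrecoverage 𝒳) (h𝒴 : IsAlgStack Scheme.fppfPrecoverage 𝒴)
    (h𝒵 : IsAlgStack Scheme.fppfPrecoverage 𝒵) {f : 𝒳 ⥤ᵇ 𝒴} {g : 𝒴 ⥤ᵇ 𝒵}
    (hfg : LocQ (AlgSp.LocP P) (BasedFunctor.comp f g)) :
    LocQ (AlgSp.LocP R) f := by
  refine (locQ_iff_spQ hR h𝒳 h𝒴).2 ?_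
  obtain ⟨W, z, hz, hz'⟩ := exists_space_atlas h𝒵
  obtain ⟨V, lg, hlg, hlg'⟩ := exists_lift_chart h𝒴 h𝒵 g (V := spY W) z
  have hC := isFibGrpd_fp h𝒴.isStack.1 (Stk.isFibGrpd_ofPsh (spY W).obj.obj) h𝒵.isStack.1 g z
  let y := BasedFunctor.comp lg (fpFst g z)
  have hy : Sm y := sm_comp (Stk.isFibGrpd_ofPsh _) hC hlg (repByAlgSpWith_fpFst g hz)
  obtain ⟨U, lf, hlf, hlf'⟩ := exists_lift_chart h𝒳 h𝒴 f (V := spY V) y
  let L : ofSch U ⥤ᵇ fp (BasedFunctor.comp f g) z := BasedFunctor.comp lf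
    (BasedFunctor.comp (fpMapSnd f (fpFst g z) lg) (fpPaste f g z))
  have hL : Sm L := sm_comp (Stk.isFibGrpd_ofPsh _)
      (isFibGrpd_fp h𝒳.isStack.1 (Stk.isFibGrpd_ofPsh _) h𝒴.isStack.1 f y) hlf
      ((repByAlgSpWith_postcomp_equiv (isEquivOver_fpPaste f g z)).2 (repByAlgSpWith_fpMapSnd f (fpFst g z) hlg))
  obtain ⟨a, ha⟩ := (AlgSp.yon S).map_surjective (homOfBased (BasedFunctor.comp lf (fpSnd f y)))
  obtain ⟨b, hb⟩ := (AlgSp.yon S).map_surjective (homOfBased (BasedFunctor.comp lg (fpSnd g z)))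
  have hab : homOfBased (BasedFunctor.comp L (fpSnd (BasedFunctor.comp f g) z)) = (AlgSp.yon S).map (a ≫ b) := by
    rw [Functor.map_comp, ha, hb]
    exact homOfBased_comp (BasedFunctor.comp lf (fpSnd f y)) (BasedFunctor.comp lg (fpSnd g z))
  have h1 := (spQ_of_locQ hfg).prop hP h𝒳.isStack.1 h𝒵.isStack.1 (U := spY U) (V := spY W) z L hz hL
  refine spQ_mk (U := spY U) (V := spY V) (y := y) (l := lf) h𝒳.isStack.1 h𝒴.isStack.1 hy
    (repByAlgSpWith_surj_comp (Stk.isFibGrpd_ofPsh _) hC hlg' (repByAlgSpWith_fpFst g hz')) hlf hlf' ?_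
  exact (congrArg (fun t => AlgSp.LocP R t) ha).mp ((SpFP87.locP_yon_map_iff (P := R) a).2 (hcan a.left b.left
    ((SpFP87.locP_yon_map_iff (P := P) (a ≫ b)).1 ((congrArg (fun t => AlgSp.LocP P t) hab).mp h1))))

/-- Descent along the first morphism of a composite. -/
theorem locQ_of_precomp {P : MorphismProperty (AlgSp.Sp S)} (hP : AlgSp.IsSmoothLocalST P)
    (hcan : ∀ {U V W : Over S} (a : (AlgSp.yon S).obj U ⟶ (AlgSp.yon S).obj V)
      (b : (AlgSp.yon S).obj V ⟶ (AlgSp.yon S).obj W),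
      AlgSp.LocP @Flat a → AlgSp.LocP @LocallyOfFinitePresentation a → AlgSp.IsSurjectiveMor a → P (a ≫ b) → P b)
    (h𝒳 : IsAlgStack Scheme.fppfPrecoverage 𝒳) (h𝒴 : IsAlgStack Scheme.fppfPrecoverage 𝒴)
    (h𝒵 : IsAlgStack Scheme.fppfPrecoverage 𝒵) {f : 𝒳 ⥤ᵇ 𝒴} {g : 𝒴 ⥤ᵇ 𝒵}
    (hf₁ : LocQ (AlgSp.LocP @Flat) f) (hf₂ : LocQ (AlgSp.LocP @LocallyOfFinitePresentation) f) (hf₃ : IsSurjective f)
    (h : LocQ P (BasedFunctor.comp f g)) : LocQ P g := by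
  obtain ⟨W, z, hz, hz'⟩ := exists_space_atlas h𝒵
  obtain ⟨V, U, lg, y, lf, L, hlg, hlg', hy, hlf, hlf', hL, eL⟩ := exists_comp_charts h𝒳 h𝒴 h𝒵 f g z hz
  refine (locQ_iff_spQ hP h𝒴 h𝒵).2 (spQ_mk (U := spY V) (V := spY W) (y := z) (l := lg)
    h𝒴.isStack.1 h𝒵.isStack.1 hz hz' hlg hlg' ?_)
  exact hcan _ _ ((spQ_of_locQ hf₁).prop smoothLocal_flat h𝒳.isStack.1 h𝒴.isStack.1 (U := spY U) (V := spY V) y lf hy hlf)
    ((spQ_of_locQ hf₂).prop smoothLocal_lfp h𝒳.isStack.1 h𝒴.isStack.1 (U := spY U) (V := spY V) y lf hy hlf)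
    (surj_of_lift_chart h𝒳.isStack.1 h𝒴.isStack.1 hf₃ (V := spY V) y (U := spY U) lf hlf')
    ((congrArg (fun t => P t) eL).mp
      ((spQ_of_locQ h).prop hP h𝒳.isStack.1 h𝒵.isStack.1 (U := spY U) (V := spY W) z L hz hL))

/-- Flatness descends along the first morphism of a composite. -/
theorem locQ_flat_of_precomp (h𝒳 : IsAlgStack Scheme.fppfPrecoverage 𝒳) (h𝒴 : IsAlgStack Scheme.fppfPrecoverage 𝒴)
    (h𝒵 : IsAlgStack Scheme.fppfPrecoverage 𝒵) {f : 𝒳 ⥤ᵇ 𝒴} {g : 𝒴 ⥤ᵇ 𝒵}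
    (hf₁ : LocQ (AlgSp.LocP @Flat) f) (hf₃ : IsSurjective f)
    (h : LocQ (AlgSp.LocP @Flat) (BasedFunctor.comp f g)) : LocQ (AlgSp.LocP @Flat) g := by
  obtain ⟨W, z, hz, hz'⟩ := exists_space_atlas h𝒵
  obtain ⟨V, U, lg, y, lf, L, hlg, hlg', hy, hlf, hlf', hL, eL⟩ := exists_comp_charts h𝒳 h𝒴 h𝒵 f g z hz
  refine (locQ_iff_spQ smoothLocal_flat h𝒴 h𝒵).2 (spQ_mk (U := spY V) (V := spY W) (y := z) (l := lg)
    h𝒴.isStack.1 h𝒵.isStack.1 hz hz' hlg hlg' ?_)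
  exact flat_cancel (T := spY U) _
    ((spQ_of_locQ hf₁).prop smoothLocal_flat h𝒳.isStack.1 h𝒴.isStack.1 (U := spY U) (V := spY V) y lf hy hlf)
    (surj_of_lift_chart h𝒳.isStack.1 h𝒴.isStack.1 hf₃ (V := spY V) y (U := spY U) lf hlf') _
    ((congrArg (fun t => AlgSp.LocP @Flat t) eL).mp
      ((spQ_of_locQ h).prop smoothLocal_flat h𝒳.isStack.1 h𝒵.isStack.1 (U := spY U) (V := spY W) z L hz hL))

/-- A scheme cover of the target through which a flat, locally finitely presented surjection lifts. -/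
theorem repByAlgSpWith_descend {P : MorphismProperty (AlgSp.Sp S)} (hPb : StableBC P)
    (hP₂ : AlgSp.IsLocalOnBase AlgSp.IsFppfCover P)
    (h𝒳 : IsAlgStack Scheme.fppfPrecoverage 𝒳) (h𝒴 : IsAlgStack Scheme.fppfPrecoverage 𝒴)
    (h𝒵 : IsAlgStack Scheme.fppfPrecoverage 𝒵) {f : 𝒳 ⥤ᵇ 𝒴} (hf : RepByAlgSp1 f) (z : 𝒵 ⥤ᵇ 𝒴)
    (hz₁ : LocQ (AlgSp.LocP @Flat) z) (hz₂ : LocQ (AlgSp.LocP @LocallyOfFinitePresentation) z) (hz₃ : IsSurjective z)
    (h : RepByAlgSpWith P (fpFst z f)) : RepByAlgSpWith P f := by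
  have hZ := h𝒵.isStack.1
  have hY := h𝒴.isStack.1
  have hX := h𝒳.isStack.1
  obtain ⟨V, y, hy, hy'⟩ := exists_space_atlas h𝒴
  obtain ⟨W, lw, hlw, hlw'⟩ := exists_lift_chart h𝒵 h𝒴 z (V := spY V) y
  let hw := homOfBased (BasedFunctor.comp lw (fpSnd z y))
  have h1 := (spQ_of_locQ hz₁).prop smoothLocal_flat hZ hY (U := spY W) (V := spY V) y lw hy hlw
  have h2 := (spQ_of_locQ hz₂).prop smoothLocal_lfp hZ hY (U := spY W) (V := spY V) y lw hy hlw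
  have h3 := surj_of_lift_chart hZ hY hz₃ (V := spY V) y (U := spY W) lw hlw'
  have hV := Stk.isFibGrpd_ofPsh (spY V).obj.obj
  have hW := Stk.isFibGrpd_ofPsh (spY W).obj.obj
  have hsj : IsSurjective (BasedFunctor.comp (ofSpMap hw) y) := surjective_comp
    ((surjective_points_iff _).2 (by rw [homOfBased_ofSpMap]; exact h3)) (isSurjective_of_sj hY hy')
  have w1 : RepByAlgSpWith (AlgSp.LocP @Flat) (BasedFunctor.comp (ofSpMap hw) y) :=
    repByAlgSpWith_locP_comp @Flat hW hV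
      (repByAlgSpWith_ofSpMap (stableBC_locP _) (respectsIso_locP _) (F := spY W) (G := spY V) hw h1)
      (rep_flat_of_sm hy)
  have w2 : RepByAlgSpWith (AlgSp.LocP @LocallyOfFinitePresentation) (BasedFunctor.comp (ofSpMap hw) y) :=
    repByAlgSpWith_locP_comp @LocallyOfFinitePresentation hW hV
      (repByAlgSpWith_ofSpMap (stableBC_locP _) (respectsIso_locP _) (F := spY W) (G := spY V) hw h2)
      (rep_lfp_of_sm hy)
  have w3 := sj_of_isSurjective hW hY (repByAlgSp1_of_with w1) hsj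
  obtain ⟨γ⟩ := exists_hom_iso (BasedFunctor.comp lw (fpSnd z y))
  refine repByAlgSpWith_of_repSp_cover hX hY hPb hP₂ hf (spY W) (BasedFunctor.comp (ofSpMap hw) y) w1 w2 w3 ?_
  let w := BasedFunctor.comp lw (fpFst z y)
  have h4 := (repByAlgSpWith_iff_repSp (isFibGrpd_fp hZ hX hY z f) hZ hPb hP₂).1 h (spY W) w
  exact RepSp.congr (bLeft lw (fpIso z y) ≪≫ bRight γ y)
    (h4.transport (q' := fpFst (BasedFunctor.comp w z) f) (isEquivOver_fpPaste w z f) (Iso.refl _))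

end Groth.Agent.AlgSt88
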