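import Groth.Agent.AlgSt88.QuotAlg
import Groth.Agent.AlgSt88.QuotFib
import Groth.Agent.AlgSt88.SmoothLocusFun
import Groth.Agent.Gerb44.GerbeSection

/-! A torsor with smooth total space and base makes the classifying stack smooth. -/

set_option autoImplicit false
set_option maxHeartbeats 1000000
set_option linter.style.haveILetI false
set_option linter.unusedVariables false
set_option backward.isDefEq.respectTransparency false
set_option backward.isDefEq.respectTransparency.types false
universe u

open CategoryTheory CategoryTheory.Limits MonoidalCategory CartesianMonoidalCategory MonObj GrpObj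
  AlgebraicGeometry Opposite AlgSt FibCat

namespace Groth.Agent.AlgSt88

variable {S : Scheme.{u}} {𝒳 : AlgSt.Cat S}

local notation "K" => Scheme.fppfPrecoverage

/-- Functors to the category of schemes over the base are determined up to isomorphism. -/
theorem nonempty_iso_selfOver (F F' : 𝒳 ⥤ᵇ selfOver (Over S)) : Nonempty (F ≅ F') :=
  ⟨BasedNatIso.mkNatIso
    (NatIso.ofComponents (fun a => eqToIso ((F.w_obj a).trans (F'.w_obj a).symm)) (fun {a b} f => by
      have h1 : F.map f = _ := p_map_eq F f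
      have h2 : F'.map f = _ := p_map_eq F' f
      rw [h1, h2]
      simp))
    (fun a => IsHomLift.of_fac' _ _ _ (F.w_obj a) (F'.w_obj a) (by
      simp
      rfl))⟩

variable {G : Over S} [GrpObj G]

theorem locQ_smooth_toSelf_BG [IsAffineHom G.hom] [Flat G.hom] [LocallyOfFinitePresentation G.hom]
    (A : QuotObj K G (trivAction G)) (hP : Smooth A.P.hom) (hPs : Surjective A.P.hom) (hB : Smooth A.base.hom) :
    LocQ (AlgSp.LocP @Smooth) (toSelf (BG K G)) := by
  have hY : IsFibGrpd (BG K G).p := isFibGrpd_quotSt (trivAction G)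
  have hd := (diag_iff hY).1 (repByAlgSp1_diag_quotSt (trivAction G))
  let y : overCat A.base ⥤ᵇ BG K G := classify hY A rfl
  have hy : RepByAlgSp1 y := repByAlgSp1_from_space hY hd (repByAlgSp_overCat A.base) y
  obtain ⟨i, hi⟩ := classify_mk_id hY A rfl
  have hPP : (yA y).P.hom = i.hom.top.left ≫ A.P.hom := (Over.w i.hom.top).symm
  haveI : IsIso i.hom.top := ⟨i.inv.top, congrArg (fun t => t.top) i.hom_inv_id,
    congrArg (fun t => t.top) i.inv_hom_id⟩
  haveI : IsIso i.hom.top.left := inferInstanceAs (IsIso ((Over.forget S).map i.hom.top))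
  haveI hsm : Smooth (yA y).P.hom := by rw [hPP]; infer_instance
  haveI hsu : Surjective (yA y).P.hom := by
    rw [hPP]; exact inferInstanceAs (Surjective (i.hom.top.left ≫ A.P.hom))
  have he := isEquivOver_ofOverCat (𝟙_ (Over S))
  let q := quotMap K G (trivAction G)
  have hq1 : RepByAlgSpWith (AlgSp.LocP @Flat) q :=
    (repByAlgSpWith_precomp_equiv he).1 (repByAlgSpWith_locP_quotMap _ @Flat (flat_π ‹_›)
      fun f hf => (SpFP87.locP_yon_map_iff f).2 hf)
  have hq2 : RepByAlgSpWith (AlgSp.LocP @LocallyOfFinitePresentation) q :=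
    (repByAlgSpWith_precomp_equiv he).1 (repByAlgSpWith_locP_quotMap _ @LocallyOfFinitePresentation (lfp_π ‹_›)
      fun f hf => (SpFP87.locP_yon_map_iff f).2 hf)
  have hq3 : RepByAlgSpWith AlgSp.IsSurjectiveMor q :=
    (repByAlgSpWith_precomp_equiv he).1 (repByAlgSpWith_surj_quotMap _)
  let e : ofSch (yA y).P ⥤ᵇ fp q y := BasedFunctor.comp (fibFun y) (fpSwap y q)
  have hee : IsEquivOver e := isEquivOver_comp (isEquivOver_fibFun y) isEquivOver_fpSwap
  have key : ∃ k : (yA y).P ⟶ 𝟙_ (Over S),
      homOfBased (BasedFunctor.comp e (fpFst q y)) = (AlgSp.yon S).map k ∧ k = toUnit _ := by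
    obtain ⟨k, hk⟩ := (AlgSp.yon S).map_surjective (homOfBased (BasedFunctor.comp e (fpFst q y)))
    exact ⟨k, hk.symm, toUnit_unique _ _⟩
  obtain ⟨k, hk, rfl⟩ := key
  have hkl : (toUnit (yA y).P).left = (yA y).P.hom :=
    (Category.comp_id _).symm.trans (Over.w (toUnit (yA y).P))
  have hxs : RepByAlgSpWith (AlgSp.LocP @Smooth) y :=
    repByAlgSpWith_of_repSp_cover (isFibGrpd_overCat _) hY (stableBC_locP _)
      (fppf_local_of_fpqc (SpFP87.isLocalOnBase_fpqc_locP (P := @Smooth))) hy (spY (𝟙_ (Over S))) q hq1 hq2 hq3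
      ⟨spY (yA y).P, e, hee, by
        rw [hk]
        refine (SpFP87.locP_yon_map_iff (P := @Smooth) _).2 ?_
        rw [hkl]; exact hsm⟩
  have hxj : RepByAlgSpWith AlgSp.IsSurjectiveMor y :=
    repByAlgSpWith_of_repSp_cover (isFibGrpd_overCat _) hY Gerb44.stableBC_surj
      Gerb44.isLocalOnBase_surj hy (spY (𝟙_ (Over S))) q hq1 hq2 hq3
      ⟨spY (yA y).P, e, hee, by
        rw [hk]
        intro z
        obtain ⟨t, rfl⟩ := (AlgSp.Points.schemeHomeo (𝟙_ (Over S))).surjective z
        have : Surjective (toUnit (yA y).P).left := by rw [hkl]; exact hsu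
        obtain ⟨s, rfl⟩ := this.surj t
        exact ⟨AlgSp.Points.schemeHomeo _ s, AlgSp.Points.map_yon_map_apply _ s⟩⟩
  let O : Over S := Over.mk (𝟙 S)
  have hO : RepByAlgSpWith (AlgSp.LocP @Smooth) (toSelf (overCat O)) :=
    sm_equiv isEquivOver_toSelf_terminal
  let h : A.base ⟶ O := Over.homMk A.base.hom (Category.comp_id _)
  obtain ⟨ι₀⟩ := nonempty_iso_selfOver (BasedFunctor.comp y (toSelf (BG K G)))
    (BasedFunctor.comp (overMap h) (toSelf (overCat O)))
  exact ⟨A.base, O, y, toSelf (overCat O), h, ι₀, hxs, hxj, hO, (SpFP87.locP_yon_map_iff (P := @Smooth) h).2 hB⟩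

end Groth.Agent.AlgSt88
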