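import Groth.Agent.AlgSt88.SmoothLocusFun
import Groth.Agent.AlgSt88.LocalProps

/-!
The largest open substack on which a representable morphism of algebraic stacks has a property.
-/

set_option autoImplicit false
set_option maxHeartbeats 1000000
set_option linter.style.haveILetI false
set_option backward.isDefEq.respectTransparency false
set_option backward.isDefEq.respectTransparency.types false
universe u

open CategoryTheory CategoryTheory.Limits AlgebraicGeometry Opposite AlgSt FibCat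

namespace Groth.Agent.AlgSt88

variable {S : Scheme.{u}} {𝒳 𝒴 : AlgSt.Cat S}

theorem nonempty_ofSpMap_comp {F G H : AlgSp.Sp S} (a : F ⟶ G) (b : G ⟶ H) :
    Nonempty (ofSpMap (a ≫ b) ≅ BasedFunctor.comp (ofSpMap a) (ofSpMap b)) := by
  obtain ⟨δ⟩ := exists_hom_iso (BasedFunctor.comp (ofSpMap a) (ofSpMap b))
  rw [homOfBased_comp, homOfBased_ofSpMap, homOfBased_ofSpMap] at δ
  exact ⟨δ.symm⟩

theorem exists_space_fp_chart (hX : IsFibGrpd 𝒳.p) (hY : IsFibGrpd 𝒴.p) {f : 𝒳 ⥤ᵇ 𝒴} (hf : RepByAlgSp1 f)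
    (G : AlgSp.Space S) (m : ofSp G.obj ⥤ᵇ 𝒴) :
    ∃ (F : AlgSp.Space S) (a : F.obj ⟶ G.obj) (e : ofSp F.obj ⥤ᵇ fp m f), IsEquivOver e ∧
      Nonempty (BasedFunctor.comp e (fpFst m f) ≅ ofSpMap a) := by
  obtain ⟨F, a, e, he, hα, -⟩ := exists_space_fp hX hY hf G m
  exact ⟨F, a, e, he, hα⟩

/-- Base change of a chart of a 2-fibre product. -/
theorem exists_bc (f : 𝒳 ⥤ᵇ 𝒴) {V G F F' : AlgSp.Space S}
    (y : ofSp V.obj ⥤ᵇ 𝒴) (e : ofSp F.obj ⥤ᵇ fp y f) (he : IsEquivOver e)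
    (a : F.obj ⟶ V.obj) (α : BasedFunctor.comp e (fpFst y f) ≅ ofSpMap a)
    (Φ : ofSp G.obj ⥤ᵇ ofSp V.obj) (b : G.obj ⟶ V.obj) (γ : Φ ≅ ofSpMap b)
    (m : ofSp G.obj ⥤ᵇ 𝒴) (β : m ≅ BasedFunctor.comp Φ y)
    (e' : ofSp F'.obj ⥤ᵇ fp m f) (he' : IsEquivOver e') (a' : F'.obj ⟶ G.obj)
    (α' : BasedFunctor.comp e' (fpFst m f) ≅ ofSpMap a') :
    ∃ g : F'.obj ⟶ F.obj, IsPullback g a' a b ∧
      Nonempty (BasedFunctor.comp (ofSpMap g) e ≅
        BasedFunctor.comp (BasedFunctor.comp e' (fpCongr β (Iso.refl f))) (fpMapFst y f Φ)) := by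
  have sq := IsPullback.of_hasPullback a b
  have sqP := sq.flip.map (sheafToPresheaf (QuotSh.J Scheme.fppfPrecoverage S) (Type (u + 1)))
  let pre : ofSp (pullback a b) ⥤ᵇ fp Φ (fpFst y f) :=
    BasedFunctor.comp (pshFpLift sqP.w)
      (BasedFunctor.comp (fpCongr (F := ofSpMap b) (F' := Φ) (G := ofSpMap a)
          (G' := BasedFunctor.comp e (fpFst y f)) γ.symm α.symm)
        (fpMapSnd Φ (fpFst y f) e))
  let Ψ : ofSp (pullback a b) ⥤ᵇ fp (BasedFunctor.comp Φ y) f := BasedFunctor.comp pre (fpPaste Φ y f)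
  have hpre : IsEquivOver pre := isEquivOver_comp (isEquivOver_pshFpLift sqP)
    (isEquivOver_comp (isEquivOver_fpCongr _ _) (isEquivOver_fpMapSnd _ _ _ he))
  have hΨ : IsEquivOver Ψ := isEquivOver_comp hpre (isEquivOver_fpPaste Φ y f)
  obtain ⟨inv₀, hinv, -, ⟨η⟩⟩ := isEquivOver_inverse hΨ
  let E := BasedFunctor.comp e' (fpCongr β (Iso.refl f))
  have hE : IsEquivOver E := isEquivOver_comp he' (isEquivOver_fpCongr _ _)
  obtain ⟨δ⟩ := exists_hom_iso (BasedFunctor.comp E inv₀)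
  let h : F'.obj ⟶ pullback a b := homOfBased (BasedFunctor.comp E inv₀)
  haveI : IsIso h := isIso_homOfBased (isEquivOver_comp hE hinv)
  have ι : BasedFunctor.comp (ofSpMap h) Ψ ≅ E := bRight δ.symm Ψ ≪≫ bLeft E η
  have hsnd : h ≫ pullback.snd a b = a' := by
    have h1 : homOfBased (BasedFunctor.comp (BasedFunctor.comp (ofSpMap h) Ψ) (fpFst (BasedFunctor.comp Φ y) f)) =
        homOfBased (BasedFunctor.comp E (fpFst (BasedFunctor.comp Φ y) f)) :=
      homOfBased_congr (F := F'.obj) (G := G.obj) (bRight ι _)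
    have h2 : BasedFunctor.comp (BasedFunctor.comp (ofSpMap h) Ψ) (fpFst (BasedFunctor.comp Φ y) f) =
        BasedFunctor.comp (ofSpMap h) (ofSpMap (pullback.snd a b)) := rfl
    have h3 : BasedFunctor.comp E (fpFst (BasedFunctor.comp Φ y) f) = BasedFunctor.comp e' (fpFst m f) := rfl
    rw [h2, h3, homOfBased_comp, homOfBased_ofSpMap, homOfBased_ofSpMap, homOfBased_congr α', homOfBased_ofSpMap] at h1
    exact h1
  refine ⟨h ≫ pullback.fst a b,
    IsPullback.of_iso sq (asIso h).symm (Iso.refl _) (Iso.refl _) (Iso.refl _) ?_ ?_ (by simp) (by simp), ?_⟩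
  · simp
  · rw [← hsnd]; simp
  obtain ⟨c⟩ := nonempty_ofSpMap_comp h (pullback.fst a b)
  obtain ⟨σ⟩ := nonempty_fpPaste_mapFst_iso y f Φ
  exact ⟨bRight c e ≪≫ bLeft (ofSpMap h) (bLeft pre σ).symm ≪≫ bRight ι (fpMapFst y f Φ)⟩

section Pair

variable {𝒱 : AlgSt.Cat S}

/-- Two points of a base change with the same image in the source come from one point of the double base change. -/
theorem exists_pair_point (hX : IsFibGrpd 𝒳.p) (hC : IsFibGrpd 𝒱.p) (hY : IsFibGrpd 𝒴.p) (f : 𝒳 ⥤ᵇ 𝒴) (y : 𝒱 ⥤ᵇ 𝒴)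
    (w₁ w₂ : Points (fp y f)) (h : Points.map (fpSnd y f) w₁ = Points.map (fpSnd y f) w₂) :
    ∃ z : Points (fp (BasedFunctor.comp (fpFst y y) y) f),
      Points.map (fpMapFst y f (fpFst y y)) z = w₁ ∧
      Points.map (fpMapFst y f (fpSnd y y)) (Points.map (fpCongr (fpIso y y) (Iso.refl f)) z) = w₂ := by
  have hD : IsFibGrpd (fp y f).p := isFibGrpd_fp hC hX hY y f
  let π := fpSnd y f
  obtain ⟨u, hu₁, hu₂⟩ := exists_points_fp hX hD hD π π w₁ w₂ h
  let p₁ := fpFst π π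
  let p₂ := fpSnd π π
  let j : BasedFunctor.comp (BasedFunctor.comp p₁ (fpFst y f)) y ≅ BasedFunctor.comp (BasedFunctor.comp p₂ (fpFst y f)) y :=
    bLeft p₁ (fpIso y f) ≪≫ bRight (fpIso π π) f ≪≫ (bLeft p₂ (fpIso y f)).symm
  let L : fp π π ⥤ᵇ fp y y := fpLift (BasedFunctor.comp p₁ (fpFst y f)) (BasedFunctor.comp p₂ (fpFst y f)) j
  let Λ : fp π π ⥤ᵇ fp (BasedFunctor.comp (fpFst y y) y) f :=
    fpLift L (BasedFunctor.comp p₁ π) (bLeft p₁ (fpIso y f))
  have σ₁ : BasedFunctor.comp Λ (fpMapFst y f (fpFst y y)) ≅ p₁ :=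
    fpNatIso (Φ := BasedFunctor.comp Λ (fpMapFst y f (fpFst y y))) (Ψ := p₁) (Iso.refl _) (Iso.refl _) (fun x => by
      change y.map (𝟙 _) ≫ (p₁.obj x).obj.iso.hom = (p₁.obj x).obj.iso.hom ≫ f.map (𝟙 _)
      rw [map_id', map_id', Category.id_comp, Category.comp_id])
  have σ₂ : BasedFunctor.comp (BasedFunctor.comp Λ (fpCongr (fpIso y y) (Iso.refl f))) (fpMapFst y f (fpSnd y y)) ≅ p₂ :=
    fpNatIso (Φ := BasedFunctor.comp (BasedFunctor.comp Λ (fpCongr (fpIso y y) (Iso.refl f))) (fpMapFst y f (fpSnd y y)))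
      (Ψ := p₂) (Iso.refl _) (fpIso π π) (fun x => by
      let i₁ := (p₁.obj x).obj.iso
      let i₂ := (p₂.obj x).obj.iso
      change y.map (𝟙 _) ≫ i₂.hom = ((L.obj x).obj.iso.inv ≫ i₁.hom ≫ 𝟙 _) ≫ f.map x.obj.iso.hom
      rw [map_id', Category.id_comp, Category.comp_id]
      have hj : (L.obj x).obj.iso.inv = (i₂.hom ≫ f.map x.obj.iso.inv) ≫ i₁.inv := by
        rw [← cancel_epi (L.obj x).obj.iso.hom, Iso.hom_inv_id]
        change _ = (i₁.hom ≫ f.map x.obj.iso.hom ≫ i₂.inv) ≫ (i₂.hom ≫ f.map x.obj.iso.inv) ≫ i₁.inv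
        simp only [Category.assoc, Iso.inv_hom_id_assoc]
        rw [← f.toFunctor.map_comp_assoc, Iso.hom_inv_id, f.toFunctor.map_id]
        simp
        rfl
      rw [hj]
      simp only [Category.assoc, Iso.inv_hom_id_assoc]
      rw [← f.toFunctor.map_comp, Iso.inv_hom_id, f.toFunctor.map_id, Category.comp_id])
  refine ⟨Points.map Λ u, ?_, ?_⟩
  · rw [← points_map_comp, points_map_congr σ₁]
    exact hu₁
  · rw [← points_map_comp Λ, ← points_map_comp, points_map_congr σ₂]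
    exact hu₂

end Pair

end Groth.Agent.AlgSt88
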