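import Groth.Agent.AlgSt88.SpQProps
import Groth.Agent.AlgSt88.Fibred
import Groth.Agent.AlgSt88.FpMap
import Groth.Agent.AlgSt88.PLocus
import Groth.Agent.SpFP87.FpqcSheaf
import Groth.Agent.SpFP87.Covers
import Groth.Prelude.Def_StCoarse

/-! Categorical moduli spaces are local for affine flat base change. -/

set_option autoImplicit false
set_option maxHeartbeats 1000000
set_option linter.style.haveILetI false
set_option linter.unusedVariables false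
set_option backward.isDefEq.respectTransparency false
set_option backward.isDefEq.respectTransparency.types false
universe u

open CategoryTheory CategoryTheory.Limits AlgebraicGeometry Opposite AlgSt FibCat

namespace Groth.Agent.AlgSt88

variable {S : Scheme.{u}} {𝒳 𝒲 : AlgSt.Cat S} {M N : AlgSp.Sp S}

/-- Vertical isomorphisms of values in a category fibred in sets are natural. -/
theorem nonempty_iso_of_vertical {Φ Ψ : 𝒲 ⥤ᵇ ofSp N}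
    (e : ∀ w, ∃ k : Φ.obj w ≅ Ψ.obj w, (ofSp N).p.IsHomLift (𝟙 (𝒲.p.obj w)) k.hom) : Nonempty (Φ ≅ Ψ) := by
  choose k hk using e
  refine ⟨BasedNatIso.mkNatIso (NatIso.ofComponents k (fun {a b} f => Stk.EltObj.hom_ext ?_)) hk⟩
  have hka : (k a).hom.hom = eqToHom (Φ.w_obj a) ≫ 𝟙 _ ≫ eqToHom (Ψ.w_obj a).symm := by
    haveI := hk a
    exact IsHomLift.fac' (ofSp N).p (𝟙 (𝒲.p.obj a)) (k a).hom
  have hkb : (k b).hom.hom = eqToHom (Φ.w_obj b) ≫ 𝟙 _ ≫ eqToHom (Ψ.w_obj b).symm := by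
    haveI := hk b
    exact IsHomLift.fac' (ofSp N).p (𝟙 (𝒲.p.obj b)) (k b).hom
  have e1 : (Φ.map f).hom = eqToHom (Φ.w_obj a) ≫ 𝒲.p.map f ≫ eqToHom (Φ.w_obj b).symm := p_map_eq Φ f
  have e2 : (Ψ.map f).hom = eqToHom (Ψ.w_obj a) ≫ 𝒲.p.map f ≫ eqToHom (Ψ.w_obj b).symm := p_map_eq Ψ f
  show (Φ.map f).hom ≫ (k b).hom.hom = (k a).hom.hom ≫ (Ψ.map f).hom
  rw [e1, e2, hka, hkb]
  simp

/-- Affine etale charts covering an algebraic space. -/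
theorem exists_affine_family (hM : AlgSp.IsAlgSpace M) :
    ∃ (ι : Type u) (V : ι → Over S) (v : ∀ i, (AlgSp.yon S).obj (V i) ⟶ M),
      (∀ i, IsAffine (V i).left) ∧ (∀ i, AlgSp.LocP @Flat (v i)) ∧
        AlgSp.IsFpqcCover (fun i => (AlgSp.yon S).obj (V i)) v := by
  obtain ⟨U, π, hπ, hπs⟩ := hM.atlas
  let V : U.left.affineOpens → Over S := fun O => Over.mk (O.1.ι ≫ U.hom)
  let c : ∀ O, V O ⟶ U := fun O => Over.homMk O.1.ι rfl
  have hc : ∀ O, Etale (c O).left := fun O => inferInstanceAs (Etale O.1.ι)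
  have het : ∀ O, AlgSp.LocP @Etale ((AlgSp.yon S).map (c O) ≫ π) := fun O =>
    SpFP87.locP_comp (AlgSp.IsAlgSpace.yon_obj _) (AlgSp.IsAlgSpace.yon_obj U) hM
      ((SpFP87.locP_yon_map_iff (P := @Etale) (c O)).2 (hc O))
      (SpFP87.locP_of_repWith (AlgSp.IsAlgSpace.yon_obj U).diag hM hπ)
  have hfl : ∀ O, AlgSp.LocP @Flat ((AlgSp.yon S).map (c O) ≫ π) := fun O =>
    SpFP87.LocP.of_le (fun _ _ f (hf : Etale f) => (inferInstance : Flat f)) (het O)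
  refine ⟨U.left.affineOpens, V, fun O => (AlgSp.yon S).map (c O) ≫ π, fun O => O.2, hfl,
    SpFP87.isFpqcCover_of_isFppfCover _ _ hM (fun O => AlgSp.IsAlgSpace.yon_obj _)
      ⟨fun O => ⟨hfl O, SpFP87.LocP.of_le
        (fun _ _ f (hf : Etale f) => (inferInstance : LocallyOfFinitePresentation f)) (het O)⟩, fun x => ?_⟩⟩
  obtain ⟨y, rfl⟩ := SpPts86.isSurjectiveMor_of_repWith hπs x
  obtain ⟨t, rfl⟩ := (AlgSp.Points.schemeHomeo U).surjective y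
  obtain ⟨O, hO, htO, -⟩ := exists_isAffineOpen_mem_and_subset (U := (⊤ : U.left.Opens)) (x := t) trivial
  refine ⟨⟨O, hO⟩, AlgSp.Points.schemeHomeo (V ⟨O, hO⟩) ⟨t, htO⟩, ?_⟩
  rw [AlgSp.Points.map_comp]
  exact congrArg (AlgSp.Points.map π) (AlgSp.Points.map_yon_map_apply (c ⟨O, hO⟩) (⟨t, htO⟩ : O.toScheme))

/-- `h` is the map induced by `φ` on the base change along `v`. -/
def Induces (q : 𝒲 ⥤ᵇ ofSp M) (φ : 𝒲 ⥤ᵇ ofSp N) {V : AlgSp.Sp S} (v : V ⟶ M) (h : V ⟶ N) : Prop :=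
  Nonempty (BasedFunctor.comp (fpFst (ofSpMap v) q) (ofSpMap h) ≅ BasedFunctor.comp (fpSnd (ofSpMap v) q) φ)

theorem induces_comp {q : 𝒲 ⥤ᵇ ofSp M} {φ : 𝒲 ⥤ᵇ ofSp N} {V V' : AlgSp.Sp S} (r : V' ⟶ V) {v : V ⟶ M}
    {h : V ⟶ N} (H : Induces q φ v h) : Induces q φ (r ≫ v) (r ≫ h) := by
  obtain ⟨η⟩ := H
  obtain ⟨c₁⟩ := ofSpMap_comp_iso r v
  obtain ⟨c₂⟩ := ofSpMap_comp_iso r h
  let Φ : fp (ofSpMap (r ≫ v)) q ⥤ᵇ fp (ofSpMap v) q :=
    fpLift (BasedFunctor.comp (fpFst (ofSpMap (r ≫ v)) q) (ofSpMap r)) (fpSnd (ofSpMap (r ≫ v)) q)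
      (bLeft (fpFst (ofSpMap (r ≫ v)) q) c₁ ≪≫ fpIso _ q)
  exact ⟨bLeft (fpFst (ofSpMap (r ≫ v)) q) c₂.symm ≪≫ bLeft Φ η⟩

theorem induces_of_hom {q : 𝒲 ⥤ᵇ ofSp M} {φ : 𝒲 ⥤ᵇ ofSp N} {g : M ⟶ N}
    (H : Nonempty (BasedFunctor.comp q (ofSpMap g) ≅ φ)) {V : AlgSp.Sp S} (v : V ⟶ M) :
    Induces q φ v (v ≫ g) := by
  obtain ⟨η⟩ := H
  obtain ⟨c⟩ := ofSpMap_comp_iso v g
  exact ⟨bLeft (fpFst (ofSpMap v) q) c.symm ≪≫ bRight (fpIso (ofSpMap v) q) (ofSpMap g) ≪≫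
    bLeft (fpSnd (ofSpMap v) q) η⟩

theorem agreeWith_of_induces {q : 𝒲 ⥤ᵇ ofSp M} {φ : 𝒲 ⥤ᵇ ofSp N} {ι : Type u} {Ti : ι → AlgSp.Sp S}
    {v : ∀ i, Ti i ⟶ M} {b : ∀ i, Ti i ⟶ N} (H : ∀ i, Induces q φ (v i) (b i)) {T : Over S}
    (xT : ofSch T ⥤ᵇ 𝒲) :
    SpFP87.AgreeWith v b (homOfBased (BasedFunctor.comp xT q)) (homOfBased (BasedFunctor.comp xT φ)) := by
  intro W' k i l hl
  obtain ⟨η⟩ := H i
  obtain ⟨c₁⟩ := ofSpMap_comp_iso l (v i)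
  obtain ⟨γ⟩ := exists_hom_iso (BasedFunctor.comp xT q)
  obtain ⟨c₂⟩ := ofSpMap_comp_iso ((AlgSp.yon S).map k) (homOfBased (BasedFunctor.comp xT q))
  rw [← hl] at c₂
  let L : ofSch W' ⥤ᵇ fp (ofSpMap (v i)) q :=
    fpLift (ofSpMap l) (BasedFunctor.comp (ofSpMap ((AlgSp.yon S).map k)) xT)
      (c₁ ≪≫ c₂.symm ≪≫ bLeft (ofSpMap ((AlgSp.yon S).map k)) γ.symm)
  have h := homOfBased_congr (F := (AlgSp.yon S).obj W') (G := N)
    (Φ := BasedFunctor.comp (ofSpMap l) (ofSpMap (b i)))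
    (Ψ := BasedFunctor.comp (ofSpMap ((AlgSp.yon S).map k)) (BasedFunctor.comp xT φ)) (bLeft L η)
  rw [homOfBased_comp, homOfBased_comp, homOfBased_ofSpMap, homOfBased_ofSpMap, homOfBased_ofSpMap] at h
  exact h.symm

/-- Categorical moduli spaces are detected on flat affine base changes. -/
theorem isCatModuli_of_flat_affine (hW : IsFibGrpd 𝒲.p) (hM : AlgSp.IsAlgSpace M) (q : 𝒲 ⥤ᵇ ofSp M)
    (H : ∀ (V : Over S), IsAffine V.left → ∀ v : (AlgSp.yon S).obj V ⟶ M, AlgSp.LocP @Flat v →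
      IsCatModuli (fpFst (ofSpMap v) q)) : IsCatModuli q := by
  refine ⟨hM, fun N hN φ => ?_⟩
  obtain ⟨ι, V, v, hV, hv, hcov⟩ := exists_affine_family hM
  choose b hb hbu using fun i => (H (V i) (hV i) (v i) (hv i)).2 N hN (BasedFunctor.comp (fpSnd (ofSpMap (v i)) q) φ)
  have hbi : ∀ i j, pullback.fst (v i) (v j) ≫ b i = pullback.snd (v i) (v j) ≫ b j := by
    intro i j
    have hP : AlgSp.IsAlgSpace (pullback (v i) (v j)) :=
      SpFP87.isAlgSpace_of_isPullback (IsPullback.of_hasPullback (v i) (v j)) (AlgSp.IsAlgSpace.yon_obj _)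
        (AlgSp.IsAlgSpace.yon_obj _) hM.diag
    have hfl : AlgSp.LocP @Flat (pullback.fst (v i) (v j)) :=
      stableBC_locP @Flat (AlgSp.IsAlgSpace.yon_obj (V j)) hM hP (AlgSp.IsAlgSpace.yon_obj (V i)) (v j) (v i) _
        (pullback.snd (v i) (v j)) (IsPullback.of_hasPullback (v i) (v j)).flip (hv j)
    obtain ⟨κ, W, w, hW', hw, hwc⟩ := exists_affine_family hP
    refine SpFP87.hom_ext_of_fpqcCover hN hwc fun k => ?_
    have hfl' : AlgSp.LocP @Flat (w k ≫ pullback.fst (v i) (v j) ≫ v i) :=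
      SpFP87.locP_comp (AlgSp.IsAlgSpace.yon_obj _) hP hM (hw k)
        (SpFP87.locP_comp hP (AlgSp.IsAlgSpace.yon_obj _) hM hfl (hv i))
    have h1 : Induces q φ (w k ≫ pullback.fst (v i) (v j) ≫ v i) (w k ≫ pullback.fst (v i) (v j) ≫ b i) :=
      induces_comp _ (induces_comp _ (hb i))
    have h2 : Induces q φ (w k ≫ pullback.fst (v i) (v j) ≫ v i) (w k ≫ pullback.snd (v i) (v j) ≫ b j) := by
      rw [pullback.condition]
      exact induces_comp _ (induces_comp _ (hb j))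
    obtain ⟨_, -, hu⟩ := (H (W k) (hW' k) _ hfl').2 N hN (BasedFunctor.comp (fpSnd (ofSpMap _) q) φ)
    exact (hu _ h1).trans (hu _ h2).symm
  obtain ⟨g, hg⟩ := SpFP87.exists_desc_of_fpqcCover (g := v) (bi := b) hbi hN hcov
  have hg' : Nonempty (BasedFunctor.comp q (ofSpMap g) ≅ φ) := by
    refine nonempty_iso_of_vertical fun w => ?_
    let T := 𝒲.p.obj w
    let x := classify hW w rfl
    obtain ⟨e, he⟩ := classify_mk_id hW w rfl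
    let xT : ofSch T ⥤ᵇ 𝒲 := BasedFunctor.comp (toOverCat T) x
    have h1 : ∀ i, Induces q (BasedFunctor.comp q (ofSpMap g)) (v i) (b i) := fun i => by
      rw [← hg i]
      exact induces_of_hom ⟨Iso.refl _⟩ (v i)
    have heq := SpFP87.AgreeWith.unique hN hcov (agreeWith_of_induces h1 xT) (agreeWith_of_induces hb xT)
    obtain ⟨γ₁⟩ := exists_hom_iso (BasedFunctor.comp xT (BasedFunctor.comp q (ofSpMap g)))
    obtain ⟨γ₂⟩ := exists_hom_iso (BasedFunctor.comp xT φ)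
    rw [heq] at γ₁
    let δ := γ₁ ≪≫ γ₂.symm
    let o : (ofSch T).obj := ⟨T, ⟨𝟙 T⟩⟩
    let δo := ((BasedNatTrans.forgetful _ _).mapIso δ).app o
    haveI h₁ : (ofSp N).p.IsHomLift (𝟙 T) δo.hom := δ.hom.isHomLift' o
    haveI h₂ : (ofSp N).p.IsHomLift (𝟙 T) ((BasedFunctor.comp q (ofSpMap g)).map e.inv) := by
      haveI := he
      exact BasedFunctor.preserves_isHomLift (BasedFunctor.comp q (ofSpMap g)) (𝟙 T) e.inv
    haveI h₃ : (ofSp N).p.IsHomLift (𝟙 T) (φ.map e.hom) := by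
      haveI := he
      exact BasedFunctor.preserves_isHomLift φ (𝟙 T) e.hom
    refine ⟨(BasedFunctor.comp q (ofSpMap g)).toFunctor.mapIso e.symm ≪≫ δo ≪≫ φ.toFunctor.mapIso e, ?_⟩
    show (ofSp N).p.IsHomLift (𝟙 T) (((BasedFunctor.comp q (ofSpMap g)).map e.inv) ≫ δo.hom ≫ φ.map e.hom)
    infer_instance
  refine ⟨g, hg', fun g' hgg' => SpFP87.hom_ext_of_fpqcCover hN hcov fun i => ?_⟩
  exact (hbu i _ (induces_of_hom hgg' (v i))).trans (hbu i _ (induces_of_hom hg' (v i))).symm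

theorem isCatModuli_of_equiv {M : AlgSp.Sp S} {π : 𝒲 ⥤ᵇ ofSp M} {π' : 𝒳 ⥤ᵇ ofSp M} (h : IsCatModuli π')
    {Φ : 𝒲 ⥤ᵇ 𝒳} (hΦ : IsEquivOver Φ) (η : BasedFunctor.comp Φ π' ≅ π) : IsCatModuli π := by
  obtain ⟨G, -, ⟨a⟩, ⟨b⟩⟩ := isEquivOver_inverse hΦ
  refine ⟨h.1, fun N hN φ => ?_⟩
  obtain ⟨g, ⟨hg⟩, hu⟩ := h.2 N hN (BasedFunctor.comp G φ)
  refine ⟨g, ⟨bRight η.symm (ofSpMap g) ≪≫ bLeft Φ hg ≪≫ bRight a φ⟩, fun g' ⟨hg'⟩ => hu g' ⟨?_⟩⟩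
  exact bRight (bRight b.symm π' ≪≫ bLeft G η) (ofSpMap g') ≪≫ bLeft G hg'

theorem isUnifCatModuli_of_affine (hX : IsFibGrpd 𝒳.p) (hM : AlgSp.IsAlgSpace M) (f : 𝒳 ⥤ᵇ ofSp M)
    (hf : ∀ (V : Over S), IsAffine V.left → ∀ v : (AlgSp.yon S).obj V ⟶ M, AlgSp.LocP @Flat v →
      IsCatModuli (fpFst (ofSpMap v) f)) : IsUnifCatModuli f := by
  refine ⟨isCatModuli_of_flat_affine hX hM f hf, fun M' hM' g hg => ?_⟩
  refine isCatModuli_of_flat_affine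
    (isFibGrpd_fp (Stk.isFibGrpd_ofPsh _) hX (Stk.isFibGrpd_ofPsh _) (ofSpMap g) f) hM' _ fun V hV v hv => ?_
  obtain ⟨c⟩ := ofSpMap_comp_iso v g
  refine isCatModuli_of_equiv (hf V hV (v ≫ g) (SpFP87.locP_comp (AlgSp.IsAlgSpace.yon_obj V) hM' hM hv hg))
    (Φ := BasedFunctor.comp (fpPaste (ofSpMap v) (ofSpMap g) f) (fpCongr c (Iso.refl f)))
    (isEquivOver_comp (isEquivOver_fpPaste _ _ _) (isEquivOver_fpCongr _ _)) (Iso.refl _)

end Groth.Agent.AlgSt88
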