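import Groth.Agent.AlgSt88.PointsRel

/-! Universal injectivity and surjectivity of the diagonal. -/

set_option autoImplicit false
set_option maxHeartbeats 1000000
set_option linter.style.haveILetI false
set_option backward.isDefEq.respectTransparency false
set_option backward.isDefEq.respectTransparency.types false
universe u

open CategoryTheory CategoryTheory.Limits AlgebraicGeometry Opposite AlgSt FibCat

namespace Groth.Agent.AlgSt88

variable {S : Scheme.{u}} {𝒳 𝒴 𝒵 : AlgSt.Cat S}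

theorem fp_snd_map {F : 𝒳 ⥤ᵇ 𝒴} {G : 𝒵 ⥤ᵇ 𝒴} {a b : (fp F G).obj} (k : a ⟶ b) :
    𝒵.p.map k.hom.snd = eqToHom ((fpSnd F G).w_obj a) ≫ (fp F G).p.map k ≫ eqToHom ((fpSnd F G).w_obj b).symm :=
  p_map_eq (fpSnd F G) k

theorem fp_iso_map {F : 𝒳 ⥤ᵇ 𝒴} {G : 𝒵 ⥤ᵇ 𝒴} (a : (fp F G).obj) :
    𝒴.p.map a.obj.iso.hom = eqToHom ((F.w_obj a.obj.fst).trans ((G.w_obj a.obj.snd).trans
      ((fpSnd F G).w_obj a)).symm) := by
  haveI h : 𝒴.p.IsHomLift (𝟙 (𝒳.p.obj a.obj.fst)) a.obj.iso.hom := a.property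
  exact (IsHomLift.fac' 𝒴.p (𝟙 (𝒳.p.obj a.obj.fst)) a.obj.iso.hom).trans (by simp)

/-- A morphism with surjective diagonal is injective on points after every base change. -/
theorem isUnivInjective_of_surjective_diag (hX : IsFibGrpd 𝒳.p) (hY : IsFibGrpd 𝒴.p) (f : 𝒳 ⥤ᵇ 𝒴)
    (hΔ : IsSurjective (diag f)) : IsUnivInjective Scheme.fppfPrecoverage f := by
  intro 𝒵 h𝒵 g w w' e
  have hZ := h𝒵.isStack.1
  have hP := isFibGrpd_fp hZ hX hY g f
  have hFF := isFibGrpd_fp hX hX hY f f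
  obtain ⟨p, rfl⟩ := Points.mk_surjective w
  obtain ⟨q, rfl⟩ := Points.mk_surjective w'
  obtain ⟨r, a, b, -⟩ := rel_of_mk_eq hZ (p := p.map (fpFst g f)) (q := q.map (fpFst g f)) e
  obtain ⟨p', hp', φ, hφ⟩ := fg_exists_lift hP (x := p.obj)
    (fptBase (p := r) (q := p.map (fpFst g f)) a ≫ eqToHom p.lies.symm)
  obtain ⟨q', hq', ψ, hψ⟩ := fg_exists_lift hP (x := q.obj)
    (fptBase (p := r) (q := q.map (fpFst g f)) b ≫ eqToHom q.lies.symm)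
  have hp1 : 𝒵.p.obj p'.obj.fst = Over.mk r.str := hp'
  have hq1 : 𝒵.p.obj q'.obj.fst = Over.mk r.str := hq'
  have hp2 : 𝒳.p.obj p'.obj.snd = Over.mk r.str := ((fpSnd g f).w_obj p').trans hp'
  have hq2 : 𝒳.p.obj q'.obj.snd = Over.mk r.str := ((fpSnd g f).w_obj q').trans hq'
  obtain ⟨ιp, hιp, -⟩ := fg_exists_fac hZ a φ.hom.fst (eqToHom (hp1.trans r.lies.symm)) (by
    rw [show 𝒵.p.map φ.hom.fst = (fp g f).p.map φ from rfl, hφ, map_fptBase (p := r) (q := p.map (fpFst g f)) a]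
    simp [FPt.map])
  obtain ⟨ιq, hιq, -⟩ := fg_exists_fac hZ b ψ.hom.fst (eqToHom (hq1.trans r.lies.symm)) (by
    rw [show 𝒵.p.map ψ.hom.fst = (fp g f).p.map ψ from rfl, hψ, map_fptBase (p := r) (q := q.map (fpFst g f)) b]
    simp [FPt.map])
  haveI : IsIso (𝒵.p.map ιp) := by rw [hιp]; infer_instance
  haveI := fg_isIso_of_isIso_map hZ ιp
  haveI : IsIso (𝒵.p.map ιq) := by rw [hιq]; infer_instance
  haveI := fg_isIso_of_isIso_map hZ ιq
  let γ : p'.obj.fst ≅ q'.obj.fst := asIso ιp ≪≫ (asIso ιq).symm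
  have hγ : 𝒵.p.map γ.hom = eqToHom (hp1.trans hq1.symm) := by
    simp [γ, Functor.map_inv, hιp, hιq]
  let β : f.obj p'.obj.snd ≅ f.obj q'.obj.snd := p'.obj.iso.symm ≪≫ g.toFunctor.mapIso γ ≪≫ q'.obj.iso
  have hβ : 𝒴.p.IsHomLift (𝟙 (𝒳.p.obj p'.obj.snd)) β.hom := by
    refine IsHomLift.of_fac' 𝒴.p _ _ (f.w_obj _) ((f.w_obj _).trans (hq2.trans hp2.symm)) ?_
    simp only [β, Iso.trans_hom, Iso.symm_hom, Functor.mapIso_hom, Functor.map_comp]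
    rw [show 𝒴.p.map p'.obj.iso.inv = inv (𝒴.p.map p'.obj.iso.hom) by rw [← Functor.map_inv]; simp,
      show 𝒴.p.map (g.toFunctor.map γ.hom) = _ from p_map_eq g γ.hom, hγ]
    simp [fp_iso_map]
  let zz : (fp f f).obj := ⟨⟨p'.obj.snd, q'.obj.snd, β⟩, hβ⟩
  obtain ⟨a₀, ha₀⟩ := hΔ (Points.mk { K := r.K, str := r.str, obj := zz, lies := hp2 })
  obtain ⟨s, rfl⟩ := Points.mk_surjective a₀
  obtain ⟨t, m, n, -⟩ := rel_of_mk_eq hFF (p := s.map (diag f))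
    (q := { K := r.K, str := r.str, obj := zz, lies := hp2 }) ha₀
  have hb : ∀ (y : (fp f f).obj) (k : t.obj ⟶ y),
      𝒳.p.map k.hom.snd = eqToHom ((fpSnd f f).w_obj t.obj) ≫ 𝒳.p.map k.hom.fst ≫
        eqToHom ((fpSnd f f).w_obj y).symm := fun y k => fp_snd_map k
  obtain ⟨χ, hχ1, hχ2⟩ := fg_exists_fac hX m.hom.snd m.hom.fst (eqToHom ((fpSnd f f).w_obj t.obj).symm) (by
    rw [hb _ m]
    change _ ≫ _ ≫ _ ≫ eqToHom _ = _
    simp [FibCat.diag])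
  have hfχ : f.map χ = t.obj.obj.iso.hom := by
    refine fg_hom_ext hY (f.map m.hom.snd) ?_ ?_
    · rw [p_map_eq, hχ1, fp_iso_map]; simp
    · rw [← f.map_comp, hχ2]
      have hw : f.map m.hom.fst ≫ 𝟙 _ = t.obj.obj.iso.hom ≫ f.map m.hom.snd := m.hom.w
      rwa [Category.comp_id] at hw
  have hn : f.map n.hom.fst ≫ β.hom = t.obj.obj.iso.hom ≫ f.map n.hom.snd := n.hom.w
  have ht2 : 𝒳.p.obj t.obj.obj.fst = Over.mk t.str := t.lies
  obtain ⟨z', hz', φz, hφz⟩ := fg_exists_lift hZ (x := p'.obj.fst)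
    (V := 𝒳.p.obj t.obj.obj.fst) (𝒳.p.map n.hom.fst ≫ eqToHom (hp2.trans hp1.symm))
  obtain ⟨i, hi, hi'⟩ := fg_exists_fac hY (f.map n.hom.fst) (g.map φz ≫ p'.obj.iso.hom)
    (eqToHom ((g.w_obj z').trans (hz'.trans (f.w_obj _).symm))) (by
    rw [Functor.map_comp, p_map_eq, p_map_eq, hφz, fp_iso_map]
    simp [zz])
  haveI : IsIso (𝒴.p.map i) := by rw [hi]; infer_instance
  haveI := fg_isIso_of_isIso_map hY i
  let o : (fp g f).obj := ⟨⟨z', t.obj.obj.fst, asIso i⟩,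
    IsHomLift.of_fac' 𝒴.p _ _ (g.w_obj z') ((f.w_obj _).trans hz'.symm) (by simp [hi])⟩
  let o' : FPt (fp g f) := { K := t.K, str := t.str, obj := o, lies := hz'.trans ht2 }
  let k₁ : o ⟶ p' := fpHom φz n.hom.fst hi'.symm
  let k₂ : o ⟶ q' := fpHom (φz ≫ γ.hom) (χ ≫ n.hom.snd) (by
    change g.map (φz ≫ γ.hom) ≫ q'.obj.iso.hom = i ≫ f.map (χ ≫ n.hom.snd)
    rw [f.map_comp, hfχ, ← hn, ← Category.assoc i, hi', g.map_comp]
    simp [β])
  exact (Points.sound (p := o') (q := p) ⟨o', 𝟙 _, k₁ ≫ φ, trivial⟩).symm.trans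
    (Points.sound (p := o') (q := q) ⟨o', 𝟙 _, k₂ ≫ ψ, trivial⟩)

theorem surjective_diag_of_isUnivInjective (hX : IsAlgStack Scheme.fppfPrecoverage 𝒳) (f : 𝒳 ⥤ᵇ 𝒴)
    (h : IsUnivInjective Scheme.fppfPrecoverage f) : IsSurjective (diag f) := fun z =>
  ⟨Points.map (fpFst f f) z, h 𝒳 hX f (by rw [← points_map_comp]; exact points_map_id _)⟩

end Groth.Agent.AlgSt88
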