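import Groth.Agent.AlgSt88.PointsRel
import Groth.Agent.AlgSt88.SpHom
import Groth.Agent.AlgSt88.UnivInjDiag
import Groth.Prelude.Def_StCoarse
import Mathlib.FieldTheory.IsAlgClosed.AlgebraicClosure

/-! Bijectivity on geometric points implies universal injectivity. -/

set_option autoImplicit false
set_option maxHeartbeats 1000000
set_option linter.style.haveILetI false
set_option backward.isDefEq.respectTransparency false
set_option backward.isDefEq.respectTransparency.types false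
universe u

open CategoryTheory CategoryTheory.Limits AlgebraicGeometry Opposite AlgSt FibCat

noncomputable section

namespace Groth.Agent.AlgSt88

variable {S : Scheme.{u}} {𝒳 : AlgSt.Cat S} {M : AlgSp.Sp S}

/-- The projection of the fibre product is injective on points. -/
theorem injective_fpFst_sp {π : 𝒳 ⥤ᵇ ofSp M} (hX : IsFibGrpd 𝒳.p) (hπ : GeomPtBij π) {𝒵 : AlgSt.Cat S}
    (hZ : IsFibGrpd 𝒵.p) (g : 𝒵 ⥤ᵇ ofSp M) : Function.Injective (Points.map (fpFst g π)) := by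
  intro w w' h
  obtain ⟨p, rfl⟩ := Points.mk_surjective w
  obtain ⟨q, rfl⟩ := Points.mk_surjective w'
  obtain ⟨r, a, b, -⟩ := rel_of_mk_eq hZ (p := p.map (fpFst g π)) (q := q.map (fpFst g π)) h
  let Ω := AlgebraicClosure r.K
  let t : Spec (CommRingCat.of Ω) ⟶ S := Spec.map (CommRingCat.ofHom (algebraMap r.K Ω)) ≫ r.str
  let d : Over.mk t ⟶ Over.mk r.str := Over.homMk (Spec.map (CommRingCat.ofHom (algebraMap r.K Ω))) rfl
  obtain ⟨z, hz, φ, hφ⟩ := fg_exists_lift hZ (d ≫ eqToHom r.lies.symm)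
  have key : ∀ (v : FPt (fp g π)) (c : r.obj ⟶ v.obj.obj.fst),
      ∃ (ξ : 𝒳.p.Fiber (Over.mk t)) (ψ : ξ.1 ⟶ v.obj.obj.snd),
        (g.map (φ ≫ c) ≫ v.obj.obj.iso.hom).hom =
          eqToHom ((g.w_obj z).trans (hz.trans (ξ.2.symm.trans (π.w_obj ξ.1).symm))) ≫ (π.map ψ).hom := by
    intro v c
    have hv : (ofSp M).p.IsHomLift (𝟙 (𝒵.p.obj v.obj.obj.fst)) v.obj.obj.iso.hom := v.obj.property
    have hs : 𝒳.p.obj v.obj.obj.snd = 𝒵.p.obj v.obj.obj.fst :=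
      (π.w_obj _).symm.trans (IsHomLift.codomain_eq (ofSp M).p (𝟙 (𝒵.p.obj v.obj.obj.fst)) v.obj.obj.iso.hom)
    obtain ⟨ξ, hξ, ψ, hψ⟩ := fg_exists_lift hX (eqToHom hz.symm ≫ 𝒵.p.map (φ ≫ c) ≫ eqToHom hs.symm)
    refine ⟨⟨ξ, hξ⟩, ψ, ?_⟩
    have h1 : (g.map (φ ≫ c)).hom = _ := p_map_eq g (φ ≫ c)
    have h2 : (π.map ψ).hom = _ := p_map_eq π ψ
    have h3 := IsHomLift.fac' (ofSp M).p (𝟙 (𝒵.p.obj v.obj.obj.fst)) v.obj.obj.iso.hom
    change v.obj.obj.iso.hom.hom = _ at h3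
    show (g.map (φ ≫ c)).hom ≫ v.obj.obj.iso.hom.hom = _
    rw [h1, h2, h3, hψ]
    simp
  obtain ⟨ξ₁, ψ₁, e₁⟩ := key p a
  obtain ⟨ξ₂, ψ₂, e₂⟩ := key q b
  have hsec : ∀ {v : FPt (fp g π)} {c : r.obj ⟶ v.obj.obj.fst} {ξ : 𝒳.p.Fiber (Over.mk t)}
      {ψ : ξ.1 ⟶ v.obj.obj.snd}
      (_ : (g.map (φ ≫ c) ≫ v.obj.obj.iso.hom).hom =
          eqToHom ((g.w_obj z).trans (hz.trans (ξ.2.symm.trans (π.w_obj ξ.1).symm))) ≫ (π.map ψ).hom),
      M.obj.map (eqToHom ((g.w_obj z).trans (hz.trans (ξ.2.symm.trans (π.w_obj ξ.1).symm)))).op (π.obj ξ.1).sec =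
        (g.obj z).sec := by
    intro v c ξ ψ e
    have h1 := (g.map (φ ≫ c) ≫ v.obj.obj.iso.hom).map_sec
    rw [e, op_comp, Functor.map_comp_apply] at h1
    refine Eq.trans (congrArg _ (π.map ψ).map_sec.symm) h1
  have hs₁ := hsec e₁
  have hs₂ := hsec e₂
  have hfib : fibSec π ξ₂ = fibSec π ξ₁ := by
    have key : ∀ {T Bx By W : Over S} (hx : Bx = T) (hy : By = T) (hw : W = T) (x : M.obj.obj (op Bx))
        (y : M.obj.obj (op By)) (w : M.obj.obj (op W)),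
        M.obj.map (eqToHom (hw.trans hx.symm)).op x = w → M.obj.map (eqToHom (hw.trans hy.symm)).op y = w →
        M.obj.map (eqToHom hx.symm).op x = M.obj.map (eqToHom hy.symm).op y := by
      intro T Bx By W hx hy hw x y w h h'
      subst hw hx hy
      exact h.trans h'.symm
    exact key ((π.w_obj ξ₂.1).trans ξ₂.2) ((π.w_obj ξ₁.1).trans ξ₁.2) ((g.w_obj z).trans hz)
      (π.obj ξ₂.1).sec (π.obj ξ₁.1).sec (g.obj z).sec hs₂ hs₁
  obtain ⟨e⟩ := (hπ Ω t).2 ξ₁ ξ₂ hfib.symm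
  let i : g.obj z ⟶ π.obj ξ₁.1 := ⟨_, hs₁⟩
  have hi : i.hom = eqToHom ((g.w_obj z).trans (hz.trans (ξ₁.2.symm.trans (π.w_obj ξ₁.1).symm))) := rfl
  haveI : IsIso ((ofSp M).p.map i) := by
    change IsIso i.hom
    rw [hi]; infer_instance
  haveI := fg_isIso_of_isIso_map (Stk.isFibGrpd_ofPsh M.obj) i
  let w₀ : FPt (fp g π) :=
    { K := Ω, str := t,
      obj := ⟨⟨z, ξ₁.1, asIso i⟩, IsHomLift.of_fac' (ofSp M).p _ _ (g.w_obj z)
        ((π.w_obj ξ₁.1).trans (ξ₁.2.trans hz.symm)) (by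
          change i.hom = _
          rw [hi]; simp)⟩,
      lies := hz }
  have he : 𝒳.p.map e.hom.1 = eqToHom (ξ₁.2.trans ξ₂.2.symm) := by
    haveI := e.hom.2
    simpa using IsHomLift.fac' 𝒳.p (𝟙 (Over.mk t)) e.hom.1
  let m₁ : w₀.obj ⟶ p.obj := ObjectProperty.homMk
    { fst := φ ≫ a, snd := ψ₁, w := Stk.EltObj.hom_ext (by
        show (g.map (φ ≫ a) ≫ p.obj.obj.iso.hom).hom = (asIso i).hom.hom ≫ (π.map ψ₁).hom
        rw [e₁, asIso_hom, hi]) }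
  let m₂ : w₀.obj ⟶ q.obj := ObjectProperty.homMk
    { fst := φ ≫ b, snd := e.hom.1 ≫ ψ₂, w := Stk.EltObj.hom_ext (by
        show (g.map (φ ≫ b) ≫ q.obj.obj.iso.hom).hom = (asIso i).hom.hom ≫ (π.map (e.hom.1 ≫ ψ₂)).hom
        have h4 : (π.map e.hom.1).hom = _ := p_map_eq π e.hom.1
        rw [e₂, asIso_hom, hi, Functor.map_comp]
        change _ = _ ≫ (π.map e.hom.1).hom ≫ (π.map ψ₂).hom
        rw [h4, he]
        simp) }
  exact Points.sound ⟨w₀, m₁, m₂, trivial⟩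

theorem isUnivInjective_of_geomPtBij (hX : IsFibGrpd 𝒳.p) {π : 𝒳 ⥤ᵇ ofSp M} (hπ : GeomPtBij π) :
    IsUnivInjective Scheme.fppfPrecoverage π := fun 𝒵 h𝒵 g => injective_fpFst_sp hX hπ h𝒵.isStack.1 g

end Groth.Agent.AlgSt88
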