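import Groth.Agent.AlgSt88.DiagSp
import Groth.Agent.AlgSt88.CompP
import Groth.Agent.AlgSt88.SepLocP
import Groth.Agent.AlgSt88.SpaceDM
import Groth.Agent.SpPts86.Graph

/-! Properties of the diagonal of a representable morphism. -/

set_option autoImplicit false
set_option backward.isDefEq.respectTransparency false
set_option backward.isDefEq.respectTransparency.types false
universe u

open CategoryTheory CategoryTheory.Limits AlgebraicGeometry Opposite AlgSt FibCat

namespace Groth.Agent.AlgSt88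

variable {S : Scheme.{u}} {𝒳 𝒴 : AlgSt.Cat S}

instance diagLike_stable : (SpPts86.diagLike.{u}).IsStableUnderBaseChange := by
  unfold SpPts86.diagLike; infer_instance

theorem diagLike_le_unr :
    SpPts86.diagLike.{u} ≤ (@LocallyOfFiniteType ⊓ @FormallyUnramified : MorphismProperty Scheme.{u}) := by
  intro X Y f h
  haveI : Mono f := h.1
  exact ⟨h.2, inferInstance⟩

theorem diagLike_of_rep (hX : IsFibGrpd 𝒳.p) (hY : IsFibGrpd 𝒴.p) {f : 𝒳 ⥤ᵇ 𝒴} (hf : RepByAlgSp1 f) :
    RepByAlgSpWith (AlgSp.RepWith SpPts86.diagLike) (diag f) :=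
  repByAlgSpWith_diag_of_repByAlgSp1 hX hY
    (fun F _ a => repBySpWith_repWith_of _ (SpPts86.repWith_diagLike_diagonal F.property a)) hf

theorem isSeparatedMor_of_mono {F G : AlgSp.Sp S} (a : F ⟶ G) [Mono a] : AlgSp.IsSeparatedMor a :=
  MorphismProperty.of_isIso (AlgSp.RepWith @IsClosedImmersion) (pullback.diagonal a)

theorem isRepresentable1_of_repWith {Q : MorphismProperty Scheme.{u}} {f : 𝒳 ⥤ᵇ 𝒴}
    (h : RepByAlgSpWith (AlgSp.RepWith Q) f) : IsRepresentable1 f := by
  intro U y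
  obtain ⟨F, e, he, hb⟩ := h U y
  obtain ⟨W, i, fst, sq⟩ := hb.1 (𝟙 _)
  haveI : IsIso fst := sq.isIso_fst_of_isIso
  have h' : IsEquivOver (BasedFunctor.comp (ofOverCat W) (BasedFunctor.comp (ofSpMap fst) e)) :=
    isEquivOver_comp (isEquivOver_ofOverCat W) (isEquivOver_comp (isEquivOver_ofSpMap fst) he)
  obtain ⟨g, hg, -, -⟩ := isEquivOver_inverse h'
  exact ⟨W, g, hg⟩

end Groth.Agent.AlgSt88
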