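import Groth.Agent.AlgSt88.DiagEt

/-! The diagonal of a morphism representable by algebraic spaces. -/

set_option autoImplicit false
set_option backward.isDefEq.respectTransparency false
set_option backward.isDefEq.respectTransparency.types false
universe w u

open CategoryTheory CategoryTheory.Limits AlgebraicGeometry Opposite AlgSt FibCat

namespace Groth.Agent.AlgSt88

variable {S : Scheme.{u}} {𝒳 𝒴 𝒵 : AlgSt.Cat S} {P : MorphismProperty (AlgSp.Sp S)}

/-- The isomorphism of an `ofPshMap` composite with the `ofPshMap` of a composite. -/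
def ofPshMapCompIso {A B D : AlgSp.PSp S} (a : A ⟶ B) (b : B ⟶ D) (c : A ⟶ D) (h : a ≫ b = c) :
    BasedFunctor.comp (Stk.ofPshMap a) (Stk.ofPshMap b) ≅ Stk.ofPshMap c :=
  BasedNatIso.mkNatIso
    (NatIso.ofComponents (fun x => eltIso (congrArg (fun t : A ⟶ D => t.app (op x.base) x.sec) h))
      (fun f => Stk.EltObj.hom_ext ((Category.comp_id _).trans (Category.id_comp _).symm)))
    (fun x => IsHomLift.of_fac' (Stk.ofPsh D).p (𝟙 x.base) _ rfl rfl
      ((Category.id_comp _).trans (Category.comp_id _)).symm)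

/-- `ofPshMap` of an identity. -/
def ofPshMapIdIso (A : AlgSp.PSp S) : Stk.ofPshMap (𝟙 A) ≅ BasedFunctor.id (Stk.ofPsh A) :=
  BasedNatIso.mkNatIso
    (NatIso.ofComponents (fun x => eltIso (P := A) rfl)
      (fun f => Stk.EltObj.hom_ext ((Category.comp_id _).trans (Category.id_comp _).symm)))
    (fun x => IsHomLift.of_fac' (Stk.ofPsh A).p (𝟙 x.base) _ rfl rfl
      ((Category.id_comp _).trans (Category.comp_id _)).symm)

/-- The diagonal of a map of sheaves. -/
theorem repByAlgSpWith_diag_ofSpMap [P.RespectsIso] {F G : AlgSp.Sp S} (a : F ⟶ G)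
    (h : AlgSp.RepBySpWith P (pullback.diagonal a).hom) : RepByAlgSpWith P (diag (ofSpMap a)) := by
  have sq := (IsPullback.of_hasPullback a a).map
    (sheafToPresheaf (QuotSh.J Scheme.fppfPrecoverage S) (Type (u + 1)))
  refine repByAlgSpWith_of_iso ?_ ((repByAlgSpWith_postcomp_equiv (isEquivOver_pshFpLift sq)).2
    ((repByAlgSpWith_ofPshMap_iff P (pullback.diagonal a).hom).1 h))
  exact fpNatIso (Φ := BasedFunctor.comp (Stk.ofPshMap (pullback.diagonal a).hom) (pshFpLift sq.w))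
    (Ψ := diag (ofSpMap a))
    (ofPshMapCompIso _ _ (𝟙 F.obj) (congrArg (fun t : F ⟶ F => t.hom) (pullback.diagonal_fst a)) ≪≫ ofPshMapIdIso F.obj)
    (ofPshMapCompIso _ _ (𝟙 F.obj) (congrArg (fun t : F ⟶ F => t.hom) (pullback.diagonal_snd a)) ≪≫ ofPshMapIdIso F.obj)
    (fun x => Stk.EltObj.hom_ext rfl)

theorem repByAlgSpWith_diag_precomp_equiv {f : 𝒳 ⥤ᵇ 𝒴} {e : 𝒵 ⥤ᵇ 𝒳} (he : IsEquivOver e) :
    RepByAlgSpWith P (diag (BasedFunctor.comp e f)) ↔ RepByAlgSpWith P (diag f) := by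
  let m : fp (BasedFunctor.comp e f) (BasedFunctor.comp e f) ⥤ᵇ fp f f :=
    BasedFunctor.comp (fpMapSnd (BasedFunctor.comp e f) f e) (fpMapFst f f e)
  have hm : IsEquivOver m := isEquivOver_comp (isEquivOver_fpMapSnd _ _ _ he) (isEquivOver_fpMapFst _ _ _ he)
  let α : BasedFunctor.comp (diag (BasedFunctor.comp e f)) m ≅ BasedFunctor.comp e (diag f) :=
    fpNatIso (Φ := BasedFunctor.comp (diag (BasedFunctor.comp e f)) m) (Ψ := BasedFunctor.comp e (diag f))
      (Iso.refl _) (Iso.refl _) (fun x => by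
        change f.map (𝟙 (e.obj x)) ≫ 𝟙 _ = 𝟙 _ ≫ f.map (𝟙 (e.obj x))
        rw [Category.comp_id]; exact (Category.id_comp _).symm)
  rw [← repByAlgSpWith_postcomp_equiv hm, ← repByAlgSpWith_precomp_equiv (f := diag f) he]
  exact ⟨repByAlgSpWith_of_iso α, repByAlgSpWith_of_iso α.symm⟩

theorem repByAlgSpWith_diag_postcomp_equiv {f : 𝒳 ⥤ᵇ 𝒴} {b : 𝒴 ⥤ᵇ 𝒵} (hb : IsEquivOver b)
    (h : RepByAlgSpWith P (diag f)) : RepByAlgSpWith P (diag (BasedFunctor.comp f b)) :=
  repByAlgSpWith_of_iso (diagCompIso f b) ((repByAlgSpWith_postcomp_equiv (isEquivOver_fpPost f f b hb)).2 h)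

/-- The diagonal of a representable morphism has whatever the diagonals of maps of spaces to schemes have. -/
theorem repByAlgSpWith_diag_of_repByAlgSp1 [P.RespectsIso] (hX : IsFibGrpd 𝒳.p) (hY : IsFibGrpd 𝒴.p)
    (hP : ∀ (F : AlgSp.Space S) (U : Over S) (a : F.obj ⟶ (AlgSp.yon S).obj U),
      AlgSp.RepBySpWith P (pullback.diagonal a).hom)
    {f : 𝒳 ⥤ᵇ 𝒴} (hf : RepByAlgSp1 f) : RepByAlgSpWith P (diag f) := by
  refine repByAlgSpWith_diag_of_forall f fun T y => ?_
  obtain ⟨F, e, he⟩ := hf T y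
  obtain ⟨α⟩ := nonempty_iso_ofPshMap (Q := ((AlgSp.yon S).obj T).obj)
    (BasedFunctor.comp (BasedFunctor.comp e (fpFst y f)) (ofOverCat T))
  let a : F.obj ⟶ (AlgSp.yon S).obj T := ObjectProperty.homMk (pshHom (Q := ((AlgSp.yon S).obj T).obj)
    (BasedFunctor.comp (BasedFunctor.comp e (fpFst y f)) (ofOverCat T)))
  let β : BasedFunctor.comp (ofOverCat T) (toOverCat T) ≅ BasedFunctor.id (overCat T) :=
    BasedNatIso.mkNatIso
      (NatIso.ofComponents (fun a => Iso.refl _)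
        (fun {a b} f => Over.OverMorphism.ext ((Category.comp_id _).trans (Category.id_comp _).symm)))
      (fun a => IsHomLift.id rfl)
  exact (repByAlgSpWith_diag_precomp_equiv he).1
    (repByAlgSpWith_diag_of_iso ((bRight α (toOverCat T)).symm ≪≫ bLeft (BasedFunctor.comp e (fpFst y f)) β)
      (repByAlgSpWith_diag_postcomp_equiv (isEquivOver_toOverCat T)
        (repByAlgSpWith_diag_ofSpMap a (hP F T a))))

end Groth.Agent.AlgSt88
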