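import Groth.Agent.AlgSt88.DiagEt
import Groth.Agent.AlgSt88.DiagSp

/-! Testing representable morphisms on algebraic spaces. -/

set_option autoImplicit false
set_option backward.isDefEq.respectTransparency false
set_option backward.isDefEq.respectTransparency.types false
universe u

open CategoryTheory CategoryTheory.Limits AlgebraicGeometry Opposite AlgSt FibCat

namespace Groth.Agent.AlgSt88

variable {S : Scheme.{u}} {𝒳 𝒴 𝒵 : AlgSt.Cat S} {P : MorphismProperty (AlgSp.Sp S)}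

theorem exists_hom_iso {F G : AlgSp.Sp S} (Φ : ofSp F ⥤ᵇ ofSp G) : Nonempty (Φ ≅ ofSpMap (homOfBased Φ)) := by
  obtain ⟨α⟩ := nonempty_iso_ofPshMap (Q := G.obj) Φ
  have h : homOfBased Φ = ObjectProperty.homMk (pshHom (Q := G.obj) Φ) := by
    rw [← homOfBased_ofSpMap (ObjectProperty.homMk (pshHom (Q := G.obj) Φ) : F ⟶ G)]
    exact homOfBased_congr α
  rw [h]
  exact ⟨α⟩

/-- `q : 𝒞 ⟶ ofSp G` is, up to equivalence, a morphism of algebraic spaces with `P`. -/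
def RepSp (P : MorphismProperty (AlgSp.Sp S)) {G : AlgSp.Sp S} {𝒞 : AlgSt.Cat S} (q : 𝒞 ⥤ᵇ ofSp G) : Prop :=
  ∃ (F : AlgSp.Space S) (e : ofSp F.obj ⥤ᵇ 𝒞), IsEquivOver e ∧ P (homOfBased (BasedFunctor.comp e q))

theorem RepSp.any [P.RespectsIso] {G : AlgSp.Sp S} {𝒞 : AlgSt.Cat S} {q : 𝒞 ⥤ᵇ ofSp G} (h : RepSp P q)
    {F : AlgSp.Sp S} {e : ofSp F ⥤ᵇ 𝒞} (he : IsEquivOver e) : P (homOfBased (BasedFunctor.comp e q)) := by
  obtain ⟨F', e', he', hP⟩ := h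
  obtain ⟨g, hg, ⟨a⟩, ⟨b⟩⟩ := isEquivOver_inverse he'
  haveI := isIso_homOfBased (isEquivOver_comp he hg)
  have : homOfBased (BasedFunctor.comp e q) =
      homOfBased (BasedFunctor.comp e g) ≫ homOfBased (BasedFunctor.comp e' q) := by
    rw [← homOfBased_comp]
    exact homOfBased_congr (bLeft e (bRight b.symm q))
  rw [this]
  exact (MorphismProperty.cancel_left_of_respectsIso P _ _).2 hP

theorem RepSp.transport {G : AlgSp.Sp S} {𝒞 𝒟 : AlgSt.Cat S} {q : 𝒞 ⥤ᵇ ofSp G} {q' : 𝒟 ⥤ᵇ ofSp G} (h : RepSp P q)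
    {Φ : 𝒞 ⥤ᵇ 𝒟} (hΦ : IsEquivOver Φ) (α : BasedFunctor.comp Φ q' ≅ q) : RepSp P q' := by
  obtain ⟨F, e, he, hP⟩ := h
  refine ⟨F, BasedFunctor.comp e Φ, isEquivOver_comp he hΦ, ?_⟩
  rw [← homOfBased_congr (bLeft e α)] at hP
  exact hP

theorem RepSp.mono {Q : MorphismProperty (AlgSp.Sp S)} (hPQ : P ≤ Q) {G : AlgSp.Sp S} {𝒞 : AlgSt.Cat S}
    {q : 𝒞 ⥤ᵇ ofSp G} (h : RepSp P q) : RepSp Q q := by
  obtain ⟨F, e, he, hP⟩ := h
  exact ⟨F, e, he, hPQ _ hP⟩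

theorem repSp_onSpaces_iff {G : AlgSp.Space S} {𝒞 : AlgSt.Cat S} {q : 𝒞 ⥤ᵇ ofSp G.obj} :
    RepSp (onSpaces P) q ↔ RepSp P q :=
  ⟨RepSp.mono onSpaces_le, fun ⟨F, e, he, hP⟩ => ⟨F, e, he, F.property, G.property, hP⟩⟩

/-- A representable morphism with `P` has `P` on base changes to algebraic spaces. -/
theorem repSp_of_repByAlgSpWith (hX : IsFibGrpd 𝒳.p) (hY : IsFibGrpd 𝒴.p) (hPi : P.RespectsIso)
    (hPd : SpaceDescends P) {f : 𝒳 ⥤ᵇ 𝒴} (h : RepByAlgSpWith P f) (G : AlgSp.Space S) (m : ofSp G.obj ⥤ᵇ 𝒴) :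
    RepSp P (fpFst m f) := by
  obtain ⟨F, a, e, he, ⟨α⟩, hQ⟩ := exists_space_fp hX hY (repByAlgSp1_of_with h) G m
  refine ⟨F, e, he, ?_⟩
  rw [homOfBased_congr α, homOfBased_ofSpMap]
  exact hPd F G a (hQ P hPi h)

/-- Conversely. -/
theorem repOver_of_repSp {f : 𝒳 ⥤ᵇ 𝒴} {U : Over S} (y : overCat U ⥤ᵇ 𝒴)
    (h : RepSp P (fpFst (BasedFunctor.comp (toOverCat U) y) f)) : RepOver P (fpFst y f) := by
  obtain ⟨F, e, he, hP⟩ := h
  refine ⟨F, BasedFunctor.comp e (fpMapFst y f (toOverCat U)),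
    isEquivOver_comp he (isEquivOver_fpMapFst y f _ (isEquivOver_toOverCat U)), ?_⟩
  have hid : BasedFunctor.comp (toOverCat U) (ofOverCat U) ≅ BasedFunctor.id (ofSch U) :=
    BasedNatIso.mkNatIso
      (NatIso.ofComponents (fun a => Iso.refl _)
        (fun {a b} f => Stk.EltObj.hom_ext ((Category.comp_id _).trans (Category.id_comp _).symm)))
      (fun a => IsHomLift.id rfl)
  rw [spMapOfOver_eq]
  rw [← homOfBased_congr (F := F.obj) (G := (AlgSp.yon S).obj U)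
    (Φ := BasedFunctor.comp (BasedFunctor.comp (BasedFunctor.comp e (fpMapFst y f (toOverCat U))) (fpFst y f)) (ofOverCat U))
    (Ψ := BasedFunctor.comp e (fpFst (BasedFunctor.comp (toOverCat U) y) f))
    (bLeft (BasedFunctor.comp e (fpFst (BasedFunctor.comp (toOverCat U) y) f)) hid)] at hP
  exact hP

/-- Base change of `RepSp` along a map of spaces. -/
theorem repSp_baseChange [P.RespectsIso] {f : 𝒳 ⥤ᵇ 𝒴} {G G' : AlgSp.Space S} {m : ofSp G.obj ⥤ᵇ 𝒴}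
    (b : G'.obj ⟶ G.obj) (hPb : StableBC P) (h : RepSp P (fpFst m f)) :
    RepSp P (fpFst (BasedFunctor.comp (ofSpMap b) m) f) := by
  obtain ⟨F, e, he, hP⟩ := h
  obtain ⟨α⟩ := exists_hom_iso (BasedFunctor.comp e (fpFst m f))
  let a : F.obj ⟶ G.obj := homOfBased (BasedFunctor.comp e (fpFst m f))
  have sq := IsPullback.of_hasPullback a b
  have sqP := sq.flip.map (sheafToPresheaf (QuotSh.J Scheme.fppfPrecoverage S) (Type (u + 1)))
  have hF' : AlgSp.IsAlgSpace (pullback a b) :=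
    SpFP87.isAlgSpace_of_isPullback sq F.property G'.property G.property.diag
  let Φ : ofSp (pullback a b) ⥤ᵇ fp (BasedFunctor.comp (ofSpMap b) m) f :=
    BasedFunctor.comp (pshFpLift sqP.w)
      (BasedFunctor.comp (fpCongr (F := ofSpMap b) (F' := ofSpMap b) (G := ofSpMap a)
          (G' := BasedFunctor.comp e (fpFst m f)) (Iso.refl _) α.symm)
        (BasedFunctor.comp (fpMapSnd (ofSpMap b) (fpFst m f) e) (fpPaste (ofSpMap b) m f)))
  refine ⟨⟨pullback a b, hF'⟩, Φ, isEquivOver_comp (isEquivOver_pshFpLift sqP)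
    (isEquivOver_comp (isEquivOver_fpCongr _ _) (isEquivOver_comp (isEquivOver_fpMapSnd _ _ _ he) (isEquivOver_fpPaste _ m f))), ?_⟩
  have : BasedFunctor.comp Φ (fpFst (BasedFunctor.comp (ofSpMap b) m) f) = ofSpMap (pullback.snd a b) := rfl
  rw [this, homOfBased_ofSpMap]
  exact hPb F.property G.property hF' G'.property a b _ _ sq hP

theorem RepSp.congr {f : 𝒳 ⥤ᵇ 𝒴} {G : AlgSp.Sp S} {m m' : ofSp G ⥤ᵇ 𝒴} (β : m ≅ m')
    (h : RepSp P (fpFst m f)) : RepSp P (fpFst m' f) :=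
  h.transport (isEquivOver_fpCongr β (Iso.refl f)) (Iso.refl _)

end Groth.Agent.AlgSt88
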