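import Groth.Agent.AlgSt88.SepQs
import Groth.Agent.AlgSt88.RepSp
import Groth.Agent.AlgSt88.DiagRep2
import Groth.Agent.AlgSt88.DiagLFT2
import Groth.Agent.AlgSt88.DiagRepProps
import Groth.Agent.AlgSt88.SpaceDM
import Groth.Agent.SpPts86.ProperCrit
import Groth.Agent.SpPts86.UnivTop
import Groth.Agent.S10277

/-! Separation of morphisms representable by algebraic spaces. -/

set_option autoImplicit false
set_option linter.style.haveILetI false
set_option linter.unusedVariables false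
set_option backward.isDefEq.respectTransparency false
set_option backward.isDefEq.respectTransparency.types false
universe u

open CategoryTheory CategoryTheory.Limits AlgebraicGeometry Opposite AlgSt FibCat

namespace Groth.Agent.AlgSt88

variable {S : Scheme.{u}} {𝒳 𝒴 : AlgSt.Cat S} {P Q : MorphismProperty (AlgSp.Sp S)}

theorem repByAlgSpWith_diag_of_rep [P.RespectsIso] (hX : IsFibGrpd 𝒳.p) (hY : IsFibGrpd 𝒴.p)
    (hP : ∀ (F : AlgSp.Space S) (U : Over S) (a : F.obj ⟶ (AlgSp.yon S).obj U), Q a →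
      AlgSp.RepBySpWith P (pullback.diagonal a).hom)
    {f : 𝒳 ⥤ᵇ 𝒴} (hf : RepByAlgSpWith Q f) : RepByAlgSpWith P (diag f) := by
  refine repByAlgSpWith_diag_of_forall f fun T y => ?_
  obtain ⟨F, e, he, ha⟩ := hf T y
  let β : BasedFunctor.comp (ofOverCat T) (toOverCat T) ≅ BasedFunctor.id (overCat T) :=
    BasedNatIso.mkNatIso
      (NatIso.ofComponents (fun a => Iso.refl _)
        (fun {a b} f => Over.OverMorphism.ext ((Category.comp_id _).trans (Category.id_comp _).symm)))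
      (fun a => IsHomLift.id rfl)
  obtain ⟨α⟩ := exists_hom_iso (BasedFunctor.comp (BasedFunctor.comp e (fpFst y f)) (ofOverCat T))
  let a : F.obj ⟶ (AlgSp.yon S).obj T := homOfBased (BasedFunctor.comp (BasedFunctor.comp e (fpFst y f)) (ofOverCat T))
  have ha' : Q a := by rw [spMapOfOver_eq] at ha; exact ha
  exact (repByAlgSpWith_diag_precomp_equiv he).1
    (repByAlgSpWith_diag_of_iso ((bRight α (toOverCat T)).symm ≪≫ bLeft (BasedFunctor.comp e (fpFst y f)) β)
      (repByAlgSpWith_diag_postcomp_equiv (isEquivOver_toOverCat T)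
        (repByAlgSpWith_diag_ofSpMap a (hP F T a ha'))))

theorem repByAlgSpWith_of_diag (hPi : P.RespectsIso) (hPd : SpaceDescends P)
    (hP : ∀ (F : AlgSp.Space S) (U : Over S) (a : F.obj ⟶ (AlgSp.yon S).obj U), P (pullback.diagonal a) → Q a)
    {f : 𝒳 ⥤ᵇ 𝒴} (hf : RepByAlgSp1 f) (h : RepByAlgSpWith P (diag f)) : RepByAlgSpWith Q f := by
  intro U y
  haveI := hPi
  obtain ⟨F, e, he⟩ := hf U y
  refine ⟨F, e, he, ?_⟩
  rw [spMapOfOver_eq]
  let q := BasedFunctor.comp (BasedFunctor.comp e (fpFst y f)) (ofOverCat U)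
  obtain ⟨α⟩ := exists_hom_iso q
  let a : F.obj ⟶ (AlgSp.yon S).obj U := homOfBased q
  have h1 : RepByAlgSpWith P (diag q) := repByAlgSpWith_diag_postcomp_equiv (isEquivOver_ofOverCat U)
    ((repByAlgSpWith_diag_precomp_equiv he).2 (repByAlgSpWith_diag_fpFst y f h))
  have h2 : RepByAlgSpWith P (diag (ofSpMap a)) := repByAlgSpWith_diag_of_iso α h1
  have sq := (IsPullback.of_hasPullback a a).map
    (sheafToPresheaf (QuotSh.J Scheme.fppfPrecoverage S) (Type (u + 1)))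
  let β : BasedFunctor.comp (Stk.ofPshMap (pullback.diagonal a).hom) (pshFpLift sq.w) ≅ diag (ofSpMap a) :=
    fpNatIso (Φ := BasedFunctor.comp (Stk.ofPshMap (pullback.diagonal a).hom) (pshFpLift sq.w))
      (Ψ := diag (ofSpMap a))
      (ofPshMapCompIso _ _ (𝟙 F.obj.obj) (congrArg (fun t : F.obj ⟶ F.obj => t.hom) (pullback.diagonal_fst a)) ≪≫ ofPshMapIdIso F.obj.obj)
      (ofPshMapCompIso _ _ (𝟙 F.obj.obj) (congrArg (fun t : F.obj ⟶ F.obj => t.hom) (pullback.diagonal_snd a)) ≪≫ ofPshMapIdIso F.obj.obj)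
      (fun x => Stk.EltObj.hom_ext rfl)
  have hW : AlgSp.IsAlgSpace (pullback a a) :=
    SpFP87.isAlgSpace_of_isPullback (IsPullback.of_hasPullback a a) F.property F.property (AlgSp.IsAlgSpace.yon_obj U).diag
  exact hP F U a (hPd F ⟨_, hW⟩ _ ((repByAlgSpWith_ofPshMap_iff P (pullback.diagonal a).hom).2
    ((repByAlgSpWith_postcomp_equiv (isEquivOver_pshFpLift sq)).1 (repByAlgSpWith_of_iso β.symm h2))))

theorem spaceDescends_univClosed : SpaceDescends (S := S) AlgSp.IsUnivClosedMor := by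
  intro F G a ha
  refine SpPts86.isUnivClosedMor_of_affine fun T _ g Q fst snd sq => ?_
  exact ((AlgSp.repBySpWith_hom_iff _ a).1 ha g fst snd sq).2 (AlgSp.IsAlgSpace.yon_obj T) (𝟙 _) (𝟙 Q) snd
    (IsPullback.of_horiz_isIso ⟨by simp⟩)

theorem spaceDescends_qc : SpaceDescends (S := S) AlgSp.IsQuasiCompactMor := by
  intro F G a ha
  refine SpPts86.isQuasiCompactMor_of_affine F.property G.property fun T hT g Q fst snd sq => ?_
  haveI := hT
  haveI := SpPts86.compactSpace_points_yon T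
  exact SpPts86.compactSpace_of_isQuasiCompactMor ((AlgSp.repBySpWith_hom_iff _ a).1 ha g fst snd sq).2
    (AlgSp.IsAlgSpace.yon_obj T) (IsPullback.of_horiz_isIso ⟨by simp⟩ : IsPullback (𝟙 Q) snd snd (𝟙 _))

theorem respectsIso_univClosed : (AlgSp.IsUnivClosedMor (S := S)).RespectsIso :=
  respectsIso_of_bc fun X Y Z W a g fst snd _ _ sq hf => SpPts86.univSp_baseChange' hf sq

theorem respectsIso_qc : (AlgSp.IsQuasiCompactMor (S := S)).RespectsIso :=
  respectsIso_of_bc fun X Y Z W a g fst snd _ _ sq hf => SpPts86.isQuasiCompactMor_baseChange hf sq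

theorem sep_of_univClosed_diag {f : 𝒳 ⥤ᵇ 𝒴} (hf : RepByAlgSp1 f)
    (h : RepByAlgSpWith AlgSp.IsUnivClosedMor (diag f)) : RepByAlgSpWith AlgSp.IsSeparatedMor f :=
  repByAlgSpWith_of_diag respectsIso_univClosed spaceDescends_univClosed
    (fun F U a ha => SpPts86.isSeparatedMor_of_diag_univClosed F.property (AlgSp.IsAlgSpace.yon_obj U) ha) hf h

theorem closedImm_diag_of_sep (hX : IsFibGrpd 𝒳.p) (hY : IsFibGrpd 𝒴.p) {f : 𝒳 ⥤ᵇ 𝒴}
    (h : RepByAlgSpWith AlgSp.IsSeparatedMor f) : IsClosedImm (diag f) :=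
  haveI : (AlgSp.RepWith (S := S) @IsClosedImmersion).RespectsIso :=
    (AlgSp.repWith_isStableUnderBaseChange (@IsClosedImmersion : MorphismProperty Scheme.{u})).respectsIso
  repByAlgSpWith_diag_of_rep hX hY (fun F U a ha => repBySpWith_repWith_of _ ha) h

theorem qs_of_qc_diag {f : 𝒳 ⥤ᵇ 𝒴} (hf : RepByAlgSp1 f)
    (h : RepByAlgSpWith AlgSp.IsQuasiCompactMor (diag f)) : RepByAlgSpWith AlgSp.IsQuasiSeparatedMor f :=
  repByAlgSpWith_of_diag respectsIso_qc spaceDescends_qc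
    (fun F U a ha => SpPts86.repWith_quasiCompact_of_isQuasiCompactMor (f := pullback.diagonal a)
      (SpPts86.repWith_diagLike_diagonal F.property a).rep ha) hf h

theorem qc_diag_of_qs (hX : IsFibGrpd 𝒳.p) (hY : IsFibGrpd 𝒴.p) {f : 𝒳 ⥤ᵇ 𝒴}
    (h : RepByAlgSpWith AlgSp.IsQuasiSeparatedMor f) : RepByAlgSpWith AlgSp.IsQuasiCompactMor (diag f) := by
  haveI := respectsIso_qc (S := S)
  refine repByAlgSpWith_diag_of_rep hX hY (fun F U a ha => ?_) h
  refine (AlgSp.repBySpWith_hom_iff _ _).2 fun T ξ Q fst snd sq => ?_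
  obtain ⟨V, s, fst', sq'⟩ := ha.1 ξ
  exact ⟨(AlgSp.IsAlgSpace.yon_obj V).of_iso (sq'.isoIsPullback _ _ sq),
    SpPts86.isQuasiCompactMor_baseChange (SpPts86.isQuasiCompactMor_of_repWith
      (SpFP87.isAlgSpace_of_isPullback (IsPullback.of_hasPullback a a) F.property F.property
        (AlgSp.IsAlgSpace.yon_obj U).diag) ha) sq⟩

theorem isSeparatedMor_of_closedImm_diag {f : 𝒳 ⥤ᵇ 𝒴} (h : IsClosedImm (diag f)) : AlgSt.IsSeparatedMor f :=
  repByAlgSpWith_mono_spaces (fun X Y hA hB a ha => S10277.result (X := ⟨X, hA⟩) (Y := ⟨Y, hB⟩)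
    (ObjectProperty.homMk a) ha) h

theorem univClosed_diag_of_isSeparatedMor {f : 𝒳 ⥤ᵇ 𝒴} (h : AlgSt.IsSeparatedMor f) :
    RepByAlgSpWith AlgSp.IsUnivClosedMor (diag f) := repByAlgSpWith_mono (fun _ _ _ ha => ha.2.2) h

theorem qs_diag (hX : IsFibGrpd 𝒳.p) (hY : IsFibGrpd 𝒴.p) {f : 𝒳 ⥤ᵇ 𝒴} (hf : RepByAlgSp1 f) :
    RepByAlgSpWith AlgSp.IsQuasiSeparatedMor (diag f) :=
  repByAlgSpWith_mono (fun _ _ a h => by
    haveI := SpPts86.mono_of_repWith_le SpPts86.diagLike_le_mono h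
    exact SpPts86.repWith_mono (fun _ _ k (hk : IsClosedImmersion k) => (inferInstance : QuasiCompact k))
      (isSeparatedMor_of_mono a)) (diagLike_of_rep hX hY hf)

end Groth.Agent.AlgSt88
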