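import Groth.Agent.AlgSt88.ModuliReduced
import Groth.Agent.AlgSt88.GeomPtInj
import Groth.Agent.AlgSt88.SepRep
import Groth.Agent.SpFP87.FpqcSheaf
import Groth.Agent.SpPts86.ProperCrit

/-! A separated bijection on geometric points with a section out of a reduced stack is a coarse moduli space. -/

set_option autoImplicit false
set_option maxHeartbeats 1000000
set_option linter.style.haveILetI false
set_option linter.unusedVariables false
set_option backward.isDefEq.respectTransparency false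
set_option backward.isDefEq.respectTransparency.types false
universe u

open CategoryTheory CategoryTheory.Limits AlgebraicGeometry Opposite AlgSt FibCat

namespace Groth.Agent.AlgSt88

variable {S : Scheme.{u}} {𝒳 : AlgSt.Cat S} {M N : AlgSp.Sp S}

/-- Two maps from a reduced scheme to a space agree if they agree after a universally closed surjection. -/
theorem eq_of_univClosed_surj {U : Over S} [IsReduced U.left] (hN : AlgSp.IsAlgSpace N)
    (g₁ g₂ : (AlgSp.yon S).obj U ⟶ N) {F : AlgSp.Sp S} (p : F ⟶ (AlgSp.yon S).obj U)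
    (hp : AlgSp.IsUnivClosedMor p) (hps : AlgSp.IsSurjectiveMor p) (e : p ≫ g₁ = p ≫ g₂) : g₁ = g₂ := by
  have hd : AlgSp.RepWith SpPts86.diagLike (Limits.diag N) :=
    SpPts86.repWith_inf (SpPts86.repWith_mono_diag hN) (SpPts86.repWith_lft_diag hN)
  obtain ⟨V, s, fst, sq⟩ := hd.1 (prod.lift g₁ g₂)
  have hs := hd.property _ fst s sq
  haveI : Mono s.left := hs.1
  haveI : LocallyOfFiniteType s.left := hs.2
  have e' : p ≫ prod.lift g₁ g₂ = (p ≫ g₁) ≫ Limits.diag N := by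
    apply prod.hom_ext <;> simp [e]
  let c : F ⟶ (AlgSp.yon S).obj V := sq.lift (p ≫ g₁) p e'.symm
  have hc : c ≫ (AlgSp.yon S).map s = p := sq.lift_snd _ _ _
  have hinj : Function.Injective (AlgSp.Points.map ((AlgSp.yon S).map s)) := fun a b h => by
    obtain ⟨a, rfl⟩ := (AlgSp.Points.schemeHomeo V).surjective a
    obtain ⟨b, rfl⟩ := (AlgSp.Points.schemeHomeo V).surjective b
    rw [AlgSp.Points.map_yon_map_apply, AlgSp.Points.map_yon_map_apply] at h
    exact congrArg _ (s.left.injective ((AlgSp.Points.schemeHomeo U).injective h))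
  have hcs : AlgSp.IsSurjectiveMor c := fun v => by
    obtain ⟨f, hf⟩ := hps (AlgSp.Points.map ((AlgSp.yon S).map s) v)
    exact ⟨f, hinj (by rw [← hf, ← AlgSp.Points.map_comp, hc])⟩
  have huc : AlgSp.IsUnivClosedMor ((AlgSp.yon S).map s) :=
    SpPts86.isUnivClosedMor_of_surjective_comp (hc ▸ hp) hcs
  haveI : UniversallyClosed s.left :=
    (AlgSp.repWith_yon_map_iff (@UniversallyClosed : MorphismProperty Scheme.{u}) s).1
      ((S9922.result (X := ⟨_, AlgSp.IsAlgSpace.yon_obj V⟩) (Y := ⟨_, AlgSp.IsAlgSpace.yon_obj U⟩)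
        ⟨(AlgSp.yon S).map s⟩ (AlgSp.representable_of_yon _)).2 huc)
  haveI := SpPts86.isClosedImmersion_of_mono_univClosed s.left
  have hrange : Set.range (𝟙 U.left : U.left ⟶ U.left) ⊆ Set.range s.left := by
    rintro u -
    obtain ⟨f, hf⟩ := hps (AlgSp.Points.schemeHomeo U u)
    obtain ⟨v, hv⟩ := (AlgSp.Points.schemeHomeo V).surjective (AlgSp.Points.map c f)
    refine ⟨v, (AlgSp.Points.schemeHomeo U).injective ?_⟩
    rw [← AlgSp.Points.map_yon_map_apply, hv, ← AlgSp.Points.map_comp, hc, hf]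
  obtain ⟨k, hk⟩ := SpFP87.exists_lift_of_reduced (𝟙 U.left) s.left hrange
  let k' : U ⟶ V := Over.homMk k (by rw [← Over.w s, ← Category.assoc, hk, Category.id_comp])
  have hk' : k' ≫ s = 𝟙 U := Over.OverMorphism.ext hk
  have h1 : ((AlgSp.yon S).map k' ≫ fst) ≫ Limits.diag N = prod.lift g₁ g₂ := by
    rw [Category.assoc, sq.w, ← Category.assoc, ← Functor.map_comp, hk', CategoryTheory.Functor.map_id,
      Category.id_comp]
  have h2 := congrArg (fun t => t ≫ prod.fst) h1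
  have h3 := congrArg (fun t => t ≫ prod.snd) h1
  simp only [Category.assoc, prod.lift_fst, prod.lift_snd, Category.comp_id] at h2 h3
  exact h2.symm.trans h3

/-- Functors to a sheaf of sets are determined by the maps on an atlas. -/
theorem nonempty_iso_of_atlas (h𝒳 : IsAlgStack Scheme.fppfPrecoverage 𝒳) (hN : AlgSp.IsAlgSpace N)
    (φ₁ φ₂ : 𝒳 ⥤ᵇ ofSp N) {U₀ : Over S} (x : ofSch U₀ ⥤ᵇ 𝒳) (hx : Sm x) (hx' : Sj x)
    (h : homOfBased (BasedFunctor.comp x φ₁) = homOfBased (BasedFunctor.comp x φ₂)) : Nonempty (φ₁ ≅ φ₂) := by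
  have hX := h𝒳.isStack.1
  have hsec : ∀ a, objSec φ₁ a = objSec φ₂ a := fun a => by
    let T := 𝒳.p.obj a
    let y : ofSch T ⥤ᵇ 𝒳 := BasedFunctor.comp (toOverCat T) (classify hX a rfl)
    obtain ⟨F, p, e, he, ⟨γ⟩, hQ⟩ := exists_space_fp (Stk.isFibGrpd_ofPsh _) hX (repByAlgSp1_of_with hx) (spY T) y
    have hp : AlgSp.LocP @Smooth p := spaceDescends_locP _ F (spY T) p (hQ _ (respectsIso_locP _) hx)
    have hps : AlgSp.IsSurjectiveMor p := spaceDescends_surj F (spY T) p (hQ _ respectsIso_surj hx')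
    let c : F.obj ⟶ (AlgSp.yon S).obj U₀ := homOfBased (BasedFunctor.comp e (fpSnd y x))
    have hc : ∀ φ : 𝒳 ⥤ᵇ ofSp N, p ≫ homOfBased (BasedFunctor.comp y φ) = c ≫ homOfBased (BasedFunctor.comp x φ) :=
      fun φ => by
        rw [← homOfBased_comp, ← homOfBased_ofSpMap p, ← homOfBased_congr γ, ← homOfBased_comp]
        exact homOfBased_congr (bLeft e (bRight (fpIso y x) φ))
    have hcov : AlgSp.IsFpqcCover (fun _ : PUnit.{u + 1} => F.obj) (fun _ => p) :=
      SpFP87.isFpqcCover_of_isFppfCover _ _ (AlgSp.IsAlgSpace.yon_obj T) (fun _ => F.property)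
        (isFppfCover_single p (flat_of_smooth' hp) (lfp_of_smooth' hp) hps)
    have ht : homOfBased (BasedFunctor.comp y φ₁) = homOfBased (BasedFunctor.comp y φ₂) :=
      SpFP87.hom_ext_of_fpqcCover hN hcov fun _ => by rw [hc, hc, h]
    let o : (ofSch T).obj := ⟨T, ULift.up (𝟙 T)⟩
    obtain ⟨w, hw⟩ := classify_mk_id hX a rfl
    have hb : 𝒳.p.obj (y.obj o) = T := y.w_obj o
    haveI : 𝒳.p.IsHomLift (𝟙 T) w.hom := hw
    have hwp : 𝒳.p.map w.hom = eqToHom hb ≫ 𝟙 T := by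
      have := IsHomLift.fac' 𝒳.p (𝟙 T) w.hom
      rw [this]; simp
    have h1 : ∀ φ : 𝒳 ⥤ᵇ ofSp N, objSec φ a = (homOfBased (BasedFunctor.comp y φ)).hom.app (op T) o.sec := fun φ => by
      have h2 : N.obj.map (𝒳.p.map w.hom).op (objSec φ a) = objSec φ (y.obj o) := objSec_natural φ w.hom
      have key : ∀ {T' T'' : Over S} (h : T' = T'') (z : N.obj.obj (op T'')),
          N.obj.map (eqToHom h.symm).op (N.obj.map (eqToHom h ≫ 𝟙 T'').op z) = z := by
        intro T' T'' h z; subst h; simp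
      have h3 : (homOfBased (BasedFunctor.comp y φ)).hom.app (op T) o.sec =
          N.obj.map (eqToHom hb.symm).op (objSec φ (y.obj o)) := by
        rw [homOfBased_app]
        simp [objSec, secOf, ← Functor.map_comp_apply, ← op_comp]
        rfl
      rw [h3, ← h2, hwp]
      exact (key hb _).symm
    rw [h1, h1, ht]
  refine nonempty_iso_of_vertical fun a => ?_
  have e1 : (φ₁.obj a).base = 𝒳.p.obj a := φ₁.w_obj a
  have e2 : (φ₂.obj a).base = 𝒳.p.obj a := φ₂.w_obj a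
  have key : ∀ {B₁ B₂ T : Over S} (h₁ : B₁ = T) (h₂ : B₂ = T) (s₁ : N.obj.obj (op B₁)) (s₂ : N.obj.obj (op B₂)),
      N.obj.map (eqToHom h₁.symm).op s₁ = N.obj.map (eqToHom h₂.symm).op s₂ →
      ∃ k : (⟨B₁, s₁⟩ : (ofSp N).obj) ≅ ⟨B₂, s₂⟩, (ofSp N).p.IsHomLift (𝟙 T) k.hom := by
    intro B₁ B₂ T h₁ h₂ s₁ s₂ hs
    subst h₁ h₂
    have hs' : s₁ = s₂ := by simpa using hs
    subst hs'
    exact ⟨Iso.refl _, IsHomLift.id rfl⟩
  exact key e1 e2 (φ₁.obj a).sec (φ₂.obj a).sec (hsec a)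

/-- The coarse moduli criterion. -/
theorem isCoarseModuli_of_section (h𝒳 : IsAlgStack Scheme.fppfPrecoverage 𝒳)
    (hred : SmoothLocally (fun X => IsReduced X) 𝒳) (hM : AlgSp.IsAlgSpace M) (f : 𝒳 ⥤ᵇ ofSp M)
    (hf₁ : AlgSt.IsSeparatedMor f) (hf₅ : GeomPtBij f) (s : ofSp M ⥤ᵇ 𝒳)
    (es : BasedFunctor.comp s f ≅ BasedFunctor.id (ofSp M)) : IsCoarseModuli f := by
  refine ⟨⟨hM, fun N hN φ => ?_⟩, hf₅⟩
  refine ⟨homOfBased (BasedFunctor.comp s φ), ?_, fun g ⟨hg⟩ => ?_⟩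
  swap
  · rw [← homOfBased_congr (bLeft s hg)]
    show g = homOfBased (BasedFunctor.comp (BasedFunctor.comp s f) (ofSpMap g))
    rw [homOfBased_congr (bRight es (ofSpMap g))]
    exact (homOfBased_ofSpMap g).symm
  have hX := h𝒳.isStack.1
  obtain ⟨U₀, x₀, hx, hx'⟩ := h𝒳.atlas
  haveI : IsReduced U₀.left := hred U₀ x₀ hx
  let x : ofSch U₀ ⥤ᵇ 𝒳 := BasedFunctor.comp (toOverCat U₀) x₀
  have hxs : Sm x := (repByAlgSpWith_precomp_equiv (isEquivOver_toOverCat U₀)).2 hx
  have hxj : Sj x := (repByAlgSpWith_precomp_equiv (isEquivOver_toOverCat U₀)).2 hx'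
  obtain ⟨γ⟩ := exists_hom_iso (BasedFunctor.comp s φ)
  suffices h : homOfBased (BasedFunctor.comp x (BasedFunctor.comp f (BasedFunctor.comp s φ))) =
      homOfBased (BasedFunctor.comp x φ) by
    obtain ⟨η⟩ := nonempty_iso_of_atlas h𝒳 hN (BasedFunctor.comp f (BasedFunctor.comp s φ)) φ x hxs hxj h
    exact ⟨(bLeft f γ).symm ≪≫ η⟩
  let y : ofSch U₀ ⥤ᵇ fp f f :=
    fpLift x (BasedFunctor.comp (BasedFunctor.comp x f) s) (bLeft (BasedFunctor.comp x f) es.symm)
  have hff := isFibGrpd_fp hX hX (Stk.isFibGrpd_ofPsh M.obj) f f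
  have hr := repByAlgSp1_of_with hf₁
  have hΔs : Sj (diag f) := sj_of_isSurjective hX hff hr
    (surjective_diag_of_isUnivInjective h𝒳 f (isUnivInjective_of_geomPtBij hX hf₅))
  obtain ⟨F, p, ε, hε, ⟨δ⟩, hQ⟩ := exists_space_fp hX hff hr (spY U₀) y
  have hp : AlgSp.IsUnivClosedMor p :=
    spaceDescends_univClosed F (spY U₀) p (hQ _ respectsIso_univClosed (univClosed_diag_of_isSeparatedMor hf₁))
  have hps : AlgSp.IsSurjectiveMor p := spaceDescends_surj F (spY U₀) p (hQ _ respectsIso_surj hΔs)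
  refine (eq_of_univClosed_surj hN _ _ p hp hps ?_)
  rw [← homOfBased_ofSpMap p, ← homOfBased_congr δ, ← homOfBased_comp, ← homOfBased_comp]
  exact homOfBased_congr (bLeft ε (bRight (bRight (fpIso y (diag f)) (fpSnd f f)) φ ≪≫
    (bRight (bRight (fpIso y (diag f)) (fpFst f f)) φ).symm))

end Groth.Agent.AlgSt88
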