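import Groth.Agent.AlgSt88.DenseLiftSt
import Groth.Agent.AlgSt88.LocalProps
import Groth.Agent.AlgSt88.DiagDescent
import Groth.Agent.S15348
import Groth.Agent.S10538

/-! The valuative and dense lifting criterion for immersions of algebraic stacks. -/

set_option autoImplicit false
set_option maxHeartbeats 1000000
set_option linter.style.haveILetI false
set_option linter.unusedVariables false
set_option backward.isDefEq.respectTransparency false
set_option backward.isDefEq.respectTransparency.types false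
universe u

open CategoryTheory CategoryTheory.Limits AlgebraicGeometry Opposite AlgSt FibCat

namespace Groth.Agent.AlgSt88

variable {S : Scheme.{u}} {𝒳 𝒴 : AlgSt.Cat S}

theorem repByAlgSpWith_immersion_of_lifts (h𝒳 : IsAlgStack Scheme.fppfPrecoverage 𝒳)
    (h𝒴 : IsAlgStack Scheme.fppfPrecoverage 𝒴) (hn : SmoothLocally (fun X => IsLocallyNoetherian X) 𝒳)
    (f : 𝒴 ⥤ᵇ 𝒳) (hrep : RepByAlgSp1 f)
    (hlfp : RepByAlgSpWith (AlgSp.LocP @LocallyOfFinitePresentation) f) (ha : AlgSt.IsMono f)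
    (hb : ∀ (A : Type u) [CommRing A] [IsDomain A] [IsDiscreteValuationRing A] (K : Type u) [Field K] [Algebra A K]
      [IsFractionRing A K] (sA : Spec (CommRingCat.of A) ⟶ S) (a : overCat (Over.mk sA) ⥤ᵇ 𝒳),
      (∃ yK : overCat (Over.mk (Spec.map (CommRingCat.ofHom (algebraMap A K)) ≫ sA)) ⥤ᵇ 𝒴,
          Nonempty (BasedFunctor.comp yK f ≅ BasedFunctor.comp (overMap (Over.homMk (Spec.map (CommRingCat.ofHom (algebraMap A K))) rfl : Over.mk ((Spec.map (CommRingCat.ofHom (algebraMap A K))) ≫ sA) ⟶ Over.mk sA)) a)) →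
      (∃ yk : overCat (Over.mk (Spec.map (CommRingCat.ofHom (IsLocalRing.residue A)) ≫ sA)) ⥤ᵇ 𝒴,
          Nonempty (BasedFunctor.comp yk f ≅ BasedFunctor.comp (overMap (Over.homMk (Spec.map (CommRingCat.ofHom (IsLocalRing.residue A))) rfl : Over.mk ((Spec.map (CommRingCat.ofHom (IsLocalRing.residue A))) ≫ sA) ⟶ Over.mk sA)) a)) →
      ∃ y : overCat (Over.mk sA) ⥤ᵇ 𝒴, Nonempty (BasedFunctor.comp y f ≅ a))
    (hc : ∀ (A : Type u) [CommRing A] [IsDomain A] (sA : Spec (CommRingCat.of A) ⟶ S)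
      (a : overCat (Over.mk sA) ⥤ᵇ 𝒳) (D : Set ↥(Spec (CommRingCat.of A))), Dense D →
      (∀ p ∈ D, ∃ yp : overCat (Over.mk ((Spec (CommRingCat.of A)).fromSpecResidueField p ≫ sA)) ⥤ᵇ 𝒴,
          Nonempty (BasedFunctor.comp yp f ≅ BasedFunctor.comp (overMap (Over.homMk ((Spec (CommRingCat.of A)).fromSpecResidueField p) rfl : Over.mk (((Spec (CommRingCat.of A)).fromSpecResidueField p) ≫ sA) ⟶ Over.mk sA)) a)) →
      ∃ U : (Spec (CommRingCat.of A)).Opens, (U : Set ↥(Spec (CommRingCat.of A))).Nonempty ∧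
        ∃ yU : overCat (Over.mk (U.ι ≫ sA)) ⥤ᵇ 𝒴,
          Nonempty (BasedFunctor.comp yU f ≅ BasedFunctor.comp (overMap (Over.homMk (U.ι) rfl : Over.mk ((U.ι) ≫ sA) ⟶ Over.mk sA)) a)) :
    RepByAlgSpWith (AlgSp.RepWith (@IsImmersion ⊓ @QuasiCompact)) f := by
  obtain ⟨U₀, y, hsm, hsj⟩ := h𝒳.atlas
  haveI : IsLocallyNoetherian U₀.left := hn U₀ y hsm
  obtain ⟨W, g, Φ, hΦ, hm, hp, ⟨φ⟩⟩ := exists_scheme_fibre hlfp ha y
  have hlift : ∀ {T : Over S} (k : T ⟶ U₀), (∃ l : T ⟶ W, l ≫ g = k) ↔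
      ∃ z : overCat T ⥤ᵇ 𝒴, Nonempty (BasedFunctor.comp z f ≅ BasedFunctor.comp (overMap k) y) := by
    intro T k
    constructor
    · rintro ⟨l, rfl⟩
      refine ⟨BasedFunctor.comp (BasedFunctor.comp (overMap l) Φ) (fpSnd y f), ?_⟩
      obtain ⟨j⟩ := overMapCompIso l g
      exact ⟨bLeft (BasedFunctor.comp (overMap l) Φ) (fpIso y f).symm ≪≫ bRight (bLeft (overMap l) φ) y ≪≫ bRight j y⟩
    · rintro ⟨z, ⟨ε⟩⟩
      obtain ⟨Ψ, -, -, ⟨β⟩⟩ := isEquivOver_inverse hΦ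
      obtain ⟨l, ⟨ι⟩⟩ := exists_overMap_iso (BasedFunctor.comp (fpLift (overMap k) z ε.symm) Ψ)
      refine ⟨l, eq_of_overMap_iso ?_⟩
      obtain ⟨j⟩ := overMapCompIso l g
      exact ⟨j.symm ≪≫ bRight ι.symm (overMap g) ≪≫
        bLeft (BasedFunctor.comp (fpLift (overMap k) z ε.symm) Ψ) φ.symm ≪≫
        bRight (bLeft (fpLift (overMap k) z ε.symm) β) (fpFst y f)⟩
  haveI := hm
  haveI := hp
  have hres : ∀ {T' : Scheme.{u}} {A : CommRingCat.{u}} (i : T' ⟶ Spec A) (ι : Spec A ⟶ U₀.left),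
      (∃ l : T' ⟶ W.left, l ≫ g.left = i ≫ ι) → ∃ z : overCat (Over.mk (i ≫ ι ≫ U₀.hom)) ⥤ᵇ 𝒴,
        Nonempty (BasedFunctor.comp z f ≅ BasedFunctor.comp (overMap (Over.homMk i rfl :
          Over.mk (i ≫ ι ≫ U₀.hom) ⟶ Over.mk (ι ≫ U₀.hom)))
          (BasedFunctor.comp (overMap (Over.homMk ι rfl : Over.mk (ι ≫ U₀.hom) ⟶ U₀)) y)) := by
    intro T' A i ι ⟨l, el⟩
    let k : Over.mk (ι ≫ U₀.hom) ⟶ U₀ := Over.homMk ι rfl
    let r : Over.mk (i ≫ ι ≫ U₀.hom) ⟶ Over.mk (ι ≫ U₀.hom) := Over.homMk i rfl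
    obtain ⟨z, ⟨ε⟩⟩ := (hlift (r ≫ k)).1 ⟨Over.homMk l (by
      show l ≫ W.hom = _
      rw [← Over.w g, ← Category.assoc, el, Category.assoc]; rfl), Over.OverMorphism.ext el⟩
    obtain ⟨j⟩ := overMapCompIso r k
    exact ⟨z, ⟨ε ≪≫ bRight j.symm y⟩⟩
  have hc' : ∀ (A : Type u) [CommRing A] [IsDomain A] (s : Spec (CommRingCat.of A) ⟶ U₀.left)
      (D : Set ↥(Spec (CommRingCat.of A))), Dense D →
      (∀ p ∈ D, ∃ l : Spec ((Spec (CommRingCat.of A)).residueField p) ⟶ W.left,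
          l ≫ g.left = (Spec (CommRingCat.of A)).fromSpecResidueField p ≫ s) →
        ∃ U : (Spec (CommRingCat.of A)).Opens, (U : Set ↥(Spec (CommRingCat.of A))).Nonempty ∧
          ∃ l : (U : Scheme.{u}) ⟶ W.left, l ≫ g.left = U.ι ≫ s := by
    intro A _ _ ι D hD hl
    let k : Over.mk (ι ≫ U₀.hom) ⟶ U₀ := Over.homMk ι rfl
    obtain ⟨U, hU, z, ⟨ε⟩⟩ := hc A (ι ≫ U₀.hom) (BasedFunctor.comp (overMap k) y) D hD
      fun p hpD => hres _ ι (hl p hpD)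
    let r : Over.mk (U.ι ≫ ι ≫ U₀.hom) ⟶ Over.mk (ι ≫ U₀.hom) := Over.homMk U.ι rfl
    obtain ⟨j⟩ := overMapCompIso r k
    obtain ⟨l, el⟩ := (hlift (r ≫ k)).2 ⟨z, ⟨ε ≪≫ bRight j y⟩⟩
    exact ⟨U, hU, l.left, congrArg CommaMorphism.left el⟩
  have hq : QuasiCompact g.left := DenseLiftQC.quasiCompact_of_dense_lift g.left hc'
  have hi : IsImmersion g.left := by
    refine S15348.result g.left (fun V hV hk => ?_) hc'
    haveI := hV
    let k : Over.mk (V.i₂ ≫ U₀.hom) ⟶ U₀ := Over.homMk V.i₂ rfl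
    obtain ⟨z, ⟨ε⟩⟩ := hb V.R V.K (V.i₂ ≫ U₀.hom) (BasedFunctor.comp (overMap k) y)
      (hres _ V.i₂ ⟨V.i₁, V.commSq.w⟩) (hres _ V.i₂ hk)
    obtain ⟨l, el⟩ := (hlift k).2 ⟨z, ⟨ε⟩⟩
    have el' : l.left ≫ g.left = V.i₂ := congrArg CommaMorphism.left el
    refine ⟨⟨⟨l.left, ?_, el'⟩⟩⟩
    rw [← cancel_mono g.left, Category.assoc, el', ← V.commSq.w]
  haveI : (AlgSp.RepWith (S := S) (@IsImmersion ⊓ @QuasiCompact)).RespectsIso :=
    haveI := AlgSp.repWith_isStableUnderBaseChange (S := S) (@IsImmersion ⊓ @QuasiCompact)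
    inferInstance
  have hgm : AlgSp.RepWith (@IsImmersion ⊓ @QuasiCompact) ((AlgSp.yon S).map g) :=
    (AlgSp.repWith_yon_map_iff (@IsImmersion ⊓ @QuasiCompact) g).2 ⟨hi, hq⟩
  have hB : StableBC (S := S) (AlgSp.RepWith (@IsImmersion ⊓ @QuasiCompact)) := fun _ _ _ _ _ _ _ _ _ _ _ _ sq h => (AlgSp.repWith_isStableUnderBaseChange _).of_isPullback sq h
  have hr : RepByAlgSpWith (AlgSp.RepWith (@IsImmersion ⊓ @QuasiCompact)) (fpFst y f) := by
    refine (repByAlgSpWith_precomp_equiv hΦ).1 (repByAlgSpWith_of_iso φ.symm ?_)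
    refine (repByAlgSpWith_precomp_equiv (isEquivOver_toOverCat W)).1 ?_
    obtain ⟨γ⟩ : Nonempty (BasedFunctor.comp (ofSpMap ((AlgSp.yon S).map g)) (toOverCat U₀) ≅
        BasedFunctor.comp (toOverCat W) (overMap g)) := by
      refine ⟨BasedNatIso.mkNatIso (NatIso.ofComponents (fun o => Over.isoMk (Iso.refl _) (by
        show 𝟙 _ ≫ o.sec.down ≫ g = o.sec.down ≫ g; simp)) (fun {o o'} m => by
        apply Over.OverMorphism.ext
        exact (Category.comp_id _).trans (Category.id_comp _).symm)) (fun o => IsHomLift.id rfl)⟩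
    exact repByAlgSpWith_of_iso γ ((repByAlgSpWith_postcomp_equiv (isEquivOver_toOverCat U₀)).2
      (repByAlgSpWith_ofSpMap (F := spY W) (G := spY U₀) hB inferInstance _ hgm))
  exact repByAlgSpWith_of_fpFst h𝒴.isStack.1 h𝒳.isStack.1 (isFibGrpd_overCat U₀) hB
    (fppf_local_of_fpqc (S10538.result S)) hrep y (rep_flat_of_sm hsm) (rep_lfp_of_sm hsm) hsj hr

end Groth.Agent.AlgSt88
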