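import Mathlib.AlgebraicGeometry.Morphisms.FlatMono
import Mathlib.AlgebraicGeometry.Noetherian
import Mathlib.AlgebraicGeometry.ResidueField
import Mathlib.AlgebraicGeometry.Morphisms.QuasiCompact


/-! A monomorphism locally of finite presentation to a locally noetherian scheme is quasi-compact as soon as
dense sets of pointwise lifts give lifts on nonempty open subschemes. -/

set_option autoImplicit false
set_option linter.style.haveILetI false
set_option backward.isDefEq.respectTransparency false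
set_option backward.isDefEq.respectTransparency.types false
universe u

open CategoryTheory CategoryTheory.Limits AlgebraicGeometry TopologicalSpace

namespace Groth.Agent.AlgSt88.DenseLiftQC

theorem compactSpace_of_forall_closed {W X : Type*} [TopologicalSpace W] [TopologicalSpace X] [NoetherianSpace X]
    (f : W → X)
    (h : ∀ Z : Set X, IsClosed Z → IsIrreducible Z →
      ∃ V : Set X, IsOpen V ∧ (Z ∩ V).Nonempty ∧ IsCompact (f ⁻¹' (Z ∩ V))) :
    CompactSpace W := by
  suffices H : ∀ Z : Closeds X, IsCompact (f ⁻¹' (Z : Set X)) by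
    exact ⟨by simpa using H ⊤⟩
  intro Z
  induction Z using WellFoundedLT.induction with
  | _ Z IH =>
    rcases (Z : Set X).eq_empty_or_nonempty with hZ | hZ
    · simp [hZ]
    by_cases hirr : IsPreirreducible (Z : Set X)
    · obtain ⟨V, hV, ⟨z, hzZ, hzV⟩, hc⟩ := h Z Z.isClosed ⟨hZ, hirr⟩
      have hlt : (⟨(Z : Set X) \ V, Z.isClosed.sdiff hV⟩ : Closeds X) < Z := by
        refine SetLike.coe_ssubset_coe.1 ⟨Set.sdiff_subset, fun hs => (hs hzZ).2 hzV⟩
      have : f ⁻¹' (Z : Set X) = f ⁻¹' ((Z : Set X) ∩ V) ∪ f ⁻¹' ((Z : Set X) \ V) := by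
        rw [← Set.preimage_union, Set.inter_union_sdiff]
      rw [this]
      exact hc.union (IH _ hlt)
    · rw [isPreirreducible_iff_isClosed_union_isClosed] at hirr
      push Not at hirr
      obtain ⟨z₁, z₂, h₁, h₂, hsub, hn₁, hn₂⟩ := hirr
      have hlt₁ : (⟨(Z : Set X) ∩ z₁, Z.isClosed.inter h₁⟩ : Closeds X) < Z :=
        SetLike.coe_ssubset_coe.1 ⟨Set.inter_subset_left, fun hs => hn₁ fun x hx => (hs hx).2⟩
      have hlt₂ : (⟨(Z : Set X) ∩ z₂, Z.isClosed.inter h₂⟩ : Closeds X) < Z :=
        SetLike.coe_ssubset_coe.1 ⟨Set.inter_subset_left, fun hs => hn₂ fun x hx => (hs hx).2⟩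
      have : f ⁻¹' (Z : Set X) = f ⁻¹' ((Z : Set X) ∩ z₁) ∪ f ⁻¹' ((Z : Set X) ∩ z₂) := by
        rw [← Set.preimage_union, ← Set.inter_union_distrib_left, Set.inter_eq_left.2 hsub]
      rw [this]
      exact (IH _ hlt₁).union (IH _ hlt₂)

/-- Over a field, a nonempty scheme mapping monomorphically and locally of finite presentation has a section. -/
theorem exists_section_over_field {K : Type u} [Field K] {P : Scheme.{u}} [Nonempty P]
    (p : P ⟶ Spec (CommRingCat.of K)) [Mono p] [LocallyOfFinitePresentation p] :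
    ∃ s : Spec (CommRingCat.of K) ⟶ P, s ≫ p = 𝟙 _ := by
  haveI : Flat p := inferInstance
  haveI := IsOpenImmersion.of_flat_of_mono p
  haveI : Surjective p := ⟨fun x => ⟨Classical.arbitrary P, Subsingleton.elim _ _⟩⟩
  haveI : Epi p.base := (TopCat.epi_iff_surjective _).2 p.surjective
  haveI : IsIso p := IsOpenImmersion.isIso p
  exact ⟨inv p, IsIso.inv_hom_id p⟩

/-- The lifting criterion, for the affine base. -/
theorem compactSpace_of_dense_lift {R : CommRingCat.{u}} [IsNoetherianRing R] {W : Scheme.{u}}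
    (g : W ⟶ Spec R) [Mono g] [LocallyOfFinitePresentation g]
    (hc : ∀ (A : Type u) [CommRing A] [IsDomain A] (ι : Spec (CommRingCat.of A) ⟶ Spec R)
      (D : Set ↥(Spec (CommRingCat.of A))), Dense D →
      (∀ p ∈ D, ∃ l, l ≫ g = (Spec (CommRingCat.of A)).fromSpecResidueField p ≫ ι) →
      ∃ U : (Spec (CommRingCat.of A)).Opens, (U : Set ↥(Spec (CommRingCat.of A))).Nonempty ∧
        ∃ l : (U : Scheme.{u}) ⟶ W, l ≫ g = U.ι ≫ ι) :
    CompactSpace W := by
  refine compactSpace_of_forall_closed g fun Z hZ hirr => ?_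
  let I : Ideal R := PrimeSpectrum.vanishingIdeal Z
  haveI : I.IsPrime := (PrimeSpectrum.isIrreducible_iff_vanishingIdeal_isPrime (s := Z)).1 hirr
  let ι : Spec (CommRingCat.of (R ⧸ I)) ⟶ Spec R := Spec.map (CommRingCat.ofHom (Ideal.Quotient.mk I))
  have hι : Topology.IsClosedEmbedding ι :=
    PrimeSpectrum.isClosedEmbedding_comap_of_surjective _ (Ideal.Quotient.mk I) Ideal.Quotient.mk_surjective
  have hrange : Set.range ι = Z := by
    refine (_root_.range_comap_of_surjective _ (Ideal.Quotient.mk I) Ideal.Quotient.mk_surjective).trans ?_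
    rw [Ideal.mk_ker]
    exact (PrimeSpectrum.zeroLocus_vanishingIdeal_eq_closure Z).trans hZ.closure_eq
  let D : Set ↥(Spec (CommRingCat.of (R ⧸ I))) := {a | ι a ∈ Set.range g}
  by_cases hD : Dense D
  · obtain ⟨U, hU, l, hl⟩ := hc (R ⧸ I) ι D hD fun p hp => by
      let k := (Spec (CommRingCat.of (R ⧸ I))).fromSpecResidueField p ≫ ι
      obtain ⟨w, hw⟩ := hp
      have hk : k (IsLocalRing.closedPoint _) = g w := by
        rw [Scheme.Hom.comp_apply, Scheme.fromSpecResidueField_apply, hw]
      obtain ⟨z, -, -⟩ := Scheme.Pullback.exists_preimage_pullback (f := k) (g := g) _ _ hk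
      haveI : Nonempty ↥(pullback k g) := ⟨z⟩
      obtain ⟨s, hs⟩ := exists_section_over_field (K := (Spec (CommRingCat.of (R ⧸ I))).residueField p) (pullback.fst k g)
      exact ⟨s ≫ pullback.snd k g, (Category.assoc _ _ _).trans ((congrArg (s ≫ ·) pullback.condition.symm).trans
        ((Category.assoc _ _ _).symm.trans ((congrArg (· ≫ k) hs).trans (Category.id_comp k))))⟩
    obtain ⟨V, hV, hV'⟩ := hι.isInducing.isOpen_iff.1 U.isOpen
    have hZV : Z ∩ V = ι '' (U : Set ↥(Spec (CommRingCat.of (R ⧸ I)))) := by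
      rw [← hV', Set.image_preimage_eq_range_inter, hrange]
    refine ⟨V, hV, by rw [hZV]; exact hU.image ι, ?_⟩
    have : g ⁻¹' (Z ∩ V) = Set.range l := by
      rw [hZV]
      ext w
      constructor
      · rintro ⟨a, ha, e⟩
        refine ⟨⟨a, ha⟩, g.injective ?_⟩
        rw [← Scheme.Hom.comp_apply, hl]
        exact e
      · rintro ⟨x, rfl⟩
        exact ⟨U.ι x, x.2, by rw [← Scheme.Hom.comp_apply, ← hl, Scheme.Hom.comp_apply]⟩
    rw [this]
    haveI : CompactSpace ↥(U : Scheme.{u}) := isCompact_iff_compactSpace.mp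
      ((PrimeSpectrum.instNoetherianSpace (R := R ⧸ I)).isCompact _)
    exact isCompact_range l.continuous
  · rw [dense_iff_inter_open] at hD
    push Not at hD
    obtain ⟨U, hU, hUn, hUD⟩ := hD
    obtain ⟨V, hV, hV'⟩ := hι.isInducing.isOpen_iff.1 hU
    refine ⟨V, hV, ?_, ?_⟩
    · obtain ⟨a, ha⟩ := hUn
      refine ⟨ι a, hrange ▸ ⟨a, rfl⟩, ?_⟩
      rw [← hV'] at ha
      exact ha
    · convert isCompact_empty
      rw [Set.eq_empty_iff_forall_notMem]
      rintro w ⟨hwZ, hwV⟩
      rw [← hrange] at hwZ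
      obtain ⟨a, ha⟩ := hwZ
      have : a ∈ U ∩ D := ⟨hV' ▸ (show ι a ∈ V by rw [ha]; exact hwV), ⟨w, ha.symm⟩⟩
      rw [hUD] at this
      exact this

theorem quasiCompact_of_dense_lift {W X : Scheme.{u}} [IsLocallyNoetherian X] (g : W ⟶ X) [Mono g]
    [LocallyOfFinitePresentation g]
    (hc : ∀ (A : Type u) [CommRing A] [IsDomain A] (ι : Spec (CommRingCat.of A) ⟶ X)
      (D : Set ↥(Spec (CommRingCat.of A))), Dense D →
      (∀ p ∈ D, ∃ l, l ≫ g = (Spec (CommRingCat.of A)).fromSpecResidueField p ≫ ι) →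
      ∃ U : (Spec (CommRingCat.of A)).Opens, (U : Set ↥(Spec (CommRingCat.of A))).Nonempty ∧
        ∃ l : (U : Scheme.{u}) ⟶ W, l ≫ g = U.ι ≫ ι) :
    QuasiCompact g := by
  refine IsZariskiLocalAtTarget.of_openCover X.affineOpenCover.openCover fun i => ?_
  let R := X.affineOpenCover.X i
  let j : Spec R ⟶ X := X.affineOpenCover.f i
  show QuasiCompact (pullback.snd g j)
  haveI : IsOpenImmersion j := X.affineOpenCover.map_prop i
  haveI : IsLocallyNoetherian (Spec R) := isLocallyNoetherian_of_isOpenImmersion j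
  haveI : IsNoetherianRing R := isLocallyNoetherian_Spec.1 inferInstance
  haveI : CompactSpace ↥(pullback g j) := compactSpace_of_dense_lift (pullback.snd g j)
    fun A _ _ ι D hD hl => by
      obtain ⟨U, hU, l, hl'⟩ := hc A (ι ≫ j) D hD fun p hp => by
        obtain ⟨l, e⟩ := hl p hp
        exact ⟨l ≫ pullback.fst g j, by
          rw [Category.assoc, pullback.condition, ← Category.assoc, e, Category.assoc]⟩
      exact ⟨U, hU, pullback.lift l (U.ι ≫ ι) (by rw [hl', Category.assoc]), pullback.lift_snd _ _ _⟩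
  exact (HasAffineProperty.iff_of_isAffine (P := @QuasiCompact)).2 ‹_›

end Groth.Agent.AlgSt88.DenseLiftQC
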