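import Groth.Agent.AlgSt88.QC
import Groth.Agent.AlgSt88.SpQDescend
import Groth.Agent.AlgSt88.Graph
import Groth.Agent.SpPts86.QCMor

/-! Quasi-compact morphisms of algebraic stacks. -/

set_option autoImplicit false
set_option maxHeartbeats 1000000
set_option linter.style.haveILetI false
set_option linter.unusedVariables false
set_option backward.isDefEq.respectTransparency false
set_option backward.isDefEq.respectTransparency.types false
universe u

open CategoryTheory CategoryTheory.Limits AlgebraicGeometry Opposite AlgSt FibCat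

namespace Groth.Agent.AlgSt88

variable {S : Scheme.{u}} {𝒳 𝒴 𝒵 𝒲 : AlgSt.Cat S}

theorem isSurjective_fpMapFst (hX : IsFibGrpd 𝒳.p) (hY : IsFibGrpd 𝒴.p) (hZ : IsFibGrpd 𝒵.p)
    (hW : IsFibGrpd 𝒲.p) (f : 𝒳 ⥤ᵇ 𝒵) (g : 𝒴 ⥤ᵇ 𝒵) {u : 𝒲 ⥤ᵇ 𝒳} (hu : IsSurjective u) :
    IsSurjective (fpMapFst f g u) := by
  intro w
  obtain ⟨v, rfl⟩ := surjective_comp (a := fpSwap u (fpFst f g)) (b := fpFst (fpFst f g) u)
    (surjective_of_equiv isEquivOver_fpSwap)
    (isSurjective_fpFst hX hW (isFibGrpd_fp hX hY hZ f g) (fpFst f g) hu) w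
  refine ⟨Points.map (fpPaste u f g) v, ?_⟩
  rw [← points_map_comp]
  exact points_map_congr (fpNatIso (Φ := BasedFunctor.comp (fpPaste u f g) (fpMapFst f g u)) (Ψ := fpSnd u (fpFst f g))
    (fpIso u (fpFst f g)) (Iso.refl _) (fun x => (by
      change f.map x.obj.iso.hom ≫ x.obj.snd.obj.iso.hom =
        (f.map x.obj.iso.hom ≫ x.obj.snd.obj.iso.hom) ≫ g.map (𝟙 _)
      rw [g.map_id, Category.comp_id]))) v

theorem isAlgStack_overCat (T : Over S) : IsAlgStack Scheme.fppfPrecoverage (overCat T) :=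
  (isDM_of_repByAlgSp (repByAlgSp_overCat T)).1

theorem isQuasiCompact_overCat (T : Over S) [IsAffine T.left] : IsQuasiCompact (overCat T) :=
  ⟨T, BasedFunctor.id _, ‹_›, sm_equiv (isEquivOver_id _), sj_equiv (isEquivOver_id _)⟩

/-- Quasi-compactness is tested on affine schemes. -/
theorem isQuasiCompactMor_of_affine (h𝒳 : IsAlgStack Scheme.fppfPrecoverage 𝒳)
    (h𝒴 : IsAlgStack Scheme.fppfPrecoverage 𝒴) {f : 𝒳 ⥤ᵇ 𝒴}
    (h : ∀ (T : Over S), IsAffine T.left → ∀ t : overCat T ⥤ᵇ 𝒴, CompactSpace (Points (fp t f))) :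
    IsQuasiCompactMor Scheme.fppfPrecoverage f := by
  intro 𝒱 h𝒱 hq g
  obtain ⟨T, x, hT, h1, h2⟩ := hq
  haveI := h T hT (BasedFunctor.comp x g)
  have hfp := isAlgStack_fp h𝒴.isStack h𝒴.diag h𝒱 h𝒳 g f
  refine (isQuasiCompact_iff hfp).2 ⟨?_⟩
  rw [← (isSurjective_fpMapFst h𝒱.isStack.1 h𝒳.isStack.1 h𝒴.isStack.1 (isFibGrpd_overCat T) g f
    (isSurjective_of_sj h𝒱.isStack.1 h2)).range_eq]
  exact isCompact_range (continuous_map hfp _)

theorem compactSpace_of_isQuasiCompactMor (h𝒳 : IsAlgStack Scheme.fppfPrecoverage 𝒳)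
    (h𝒴 : IsAlgStack Scheme.fppfPrecoverage 𝒴) {f : 𝒳 ⥤ᵇ 𝒴} (hf : IsQuasiCompactMor Scheme.fppfPrecoverage f)
    (h𝒲 : IsAlgStack Scheme.fppfPrecoverage 𝒲) (hq : IsQuasiCompact 𝒲) (g : 𝒲 ⥤ᵇ 𝒴) :
    CompactSpace (Points (fp g f)) :=
  compactSpace_points_of_isQuasiCompact (isAlgStack_fp h𝒴.isStack h𝒴.diag h𝒲 h𝒳 g f) (hf 𝒲 h𝒲 hq g)

theorem compactSpace_of_surjective (h𝒳 : IsAlgStack Scheme.fppfPrecoverage 𝒳) (f : 𝒲 ⥤ᵇ 𝒳) (hf : IsSurjective f)
    [CompactSpace (Points 𝒲)] : CompactSpace (Points 𝒳) :=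
  ⟨by rw [← hf.range_eq]; exact isCompact_range (continuous_map h𝒳 f)⟩

theorem isQuasiCompactMor_of_iso {f f' : 𝒳 ⥤ᵇ 𝒴} (α : f ≅ f') (h : IsQuasiCompactMor Scheme.fppfPrecoverage f) :
    IsQuasiCompactMor Scheme.fppfPrecoverage f' := fun 𝒱 hV hq g =>
  isQuasiCompact_of_equiv (isEquivOver_fpCongr (Iso.refl g) α) (h 𝒱 hV hq g)

/-- Quasi-compactness descends along a surjection from the source. -/
theorem isQuasiCompactMor_of_surjective (h𝒳 : IsAlgStack Scheme.fppfPrecoverage 𝒳)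
    (h𝒴 : IsAlgStack Scheme.fppfPrecoverage 𝒴) (h𝒵 : IsAlgStack Scheme.fppfPrecoverage 𝒵)
    {f : 𝒳 ⥤ᵇ 𝒴} {q : 𝒴 ⥤ᵇ 𝒵} (hf : IsSurjective f)
    (h : IsQuasiCompactMor Scheme.fppfPrecoverage (BasedFunctor.comp f q)) :
    IsQuasiCompactMor Scheme.fppfPrecoverage q := fun 𝒱 h𝒱 hq g => by
  have hV := isAlgStack_fp h𝒵.isStack h𝒵.diag h𝒱 h𝒴 g q
  obtain ⟨e, he, -, -⟩ := isEquivOver_inverse (isEquivOver_fpCompMap g f q)
  exact isQuasiCompact_of_surjective hV (isAlgStack_fp h𝒵.isStack h𝒵.diag h𝒱 h𝒳 g (BasedFunctor.comp f q))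
    (BasedFunctor.comp (BasedFunctor.comp e (fpFst (BasedFunctor.comp (fpSwap g q) (fpFst q g)) f))
      (BasedFunctor.id _))
    (surjective_comp (surjective_comp (surjective_of_equiv he)
      (isSurjective_fpFst h𝒴.isStack.1 h𝒳.isStack.1 hV.isStack.1 _ hf)) (surjective_of_equiv (isEquivOver_id _)))
    (h 𝒱 h𝒱 hq g)

/-- A representable base change, with the representing space of a pullback of spaces. -/
theorem exists_pullback_equiv_space {f : 𝒳 ⥤ᵇ 𝒴} {F V G : AlgSp.Space S} {y : ofSp V.obj ⥤ᵇ 𝒴} {a : F.obj ⟶ V.obj}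
    {e : ofSp F.obj ⥤ᵇ fp y f} (he : IsEquivOver e) (α : BasedFunctor.comp e (fpFst y f) ≅ ofSpMap a)
    {b : G.obj ⟶ V.obj} {Q : AlgSp.Sp S} {fst : Q ⟶ F.obj} {snd : Q ⟶ G.obj} (sq : IsPullback fst snd a b) :
    ∃ Φ : ofSp Q ⥤ᵇ fp (BasedFunctor.comp (ofSpMap b) y) f, IsEquivOver Φ ∧
      Nonempty (BasedFunctor.comp Φ (fpFst _ f) ≅ ofSpMap snd) := by
  have sqP := sq.flip.map (sheafToPresheaf (QuotSh.J Scheme.fppfPrecoverage S) (Type (u + 1)))
  let c := fpCongr (F := ofSpMap b) (F' := ofSpMap b) (G := ofSpMap a)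
      (G' := BasedFunctor.comp e (fpFst y f)) (Iso.refl _) α.symm
  exact ⟨BasedFunctor.comp (BasedFunctor.comp (pshFpLift sqP.w) c)
      (BasedFunctor.comp (fpMapSnd (ofSpMap b) (fpFst y f) e) (fpPaste (ofSpMap b) y f)),
    isEquivOver_comp (isEquivOver_comp (isEquivOver_pshFpLift sqP) (isEquivOver_fpCongr _ _))
      (isEquivOver_comp (isEquivOver_fpMapSnd _ _ _ he) (isEquivOver_fpPaste _ _ _)), ⟨Iso.refl _⟩⟩

theorem compactSpace_of_equiv {e : 𝒳 ⥤ᵇ 𝒴} (he : IsEquivOver e) (h𝒴 : IsAlgStack Scheme.fppfPrecoverage 𝒴)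
    [CompactSpace (Points 𝒳)] : CompactSpace (Points 𝒴) :=
  compactSpace_of_surjective h𝒴 e (surjective_of_equiv he)

/-- For representable morphisms the two notions agree. -/
theorem repByAlgSpWith_quasiCompact_iff (h𝒳 : IsAlgStack Scheme.fppfPrecoverage 𝒳)
    (h𝒴 : IsAlgStack Scheme.fppfPrecoverage 𝒴) {f : 𝒳 ⥤ᵇ 𝒴} (hf : RepByAlgSp1 f) :
    RepByAlgSpWith AlgSp.IsQuasiCompactMor f ↔ IsQuasiCompactMor Scheme.fppfPrecoverage f := by
  constructor
  · intro h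
    refine isQuasiCompactMor_of_affine h𝒳 h𝒴 fun T hT t => ?_
    haveI := hT
    obtain ⟨F, e, he, hq⟩ := h T t
    haveI : CompactSpace (AlgSp.Points ((AlgSp.yon S).obj T)) := (AlgSp.Points.schemeHomeo T).compactSpace
    haveI := SpPts86.compactSpace_of_isQuasiCompactMor hq (AlgSp.IsAlgSpace.yon_obj T)
      (IsPullback.of_horiz_isIso ⟨by simp⟩ : IsPullback (𝟙 F.obj) (spMapOfOver (BasedFunctor.comp e (fpFst t f)))
        (spMapOfOver (BasedFunctor.comp e (fpFst t f))) (𝟙 _))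
    haveI : CompactSpace (Points (ofSp F.obj)) :=
      (compactSpace_points_ofSp F).2 ((SpPts86.isQuasiCompactSp_iff_compactSpace F.property).2 inferInstance)
    exact compactSpace_of_equiv he (isAlgStack_fp h𝒴.isStack h𝒴.diag (isAlgStack_overCat T) h𝒳 t f)
  · intro h U y
    let y' : ofSch U ⥤ᵇ 𝒴 := BasedFunctor.comp (toOverCat U) y
    obtain ⟨F, a, e, he, ⟨α⟩, -⟩ :=
      exists_space_fp h𝒳.isStack.1 h𝒴.isStack.1 hf ⟨_, AlgSp.IsAlgSpace.yon_obj U⟩ y'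
    refine repOver_of_repSp y ⟨F, e, he, ?_⟩
    rw [homOfBased_congr α, homOfBased_ofSpMap]
    refine SpPts86.isQuasiCompactMor_of_affine F.property (AlgSp.IsAlgSpace.yon_obj U) fun T hT g Q fst snd sq => ?_
    haveI := hT
    have hQ : AlgSp.IsAlgSpace Q := SpFP87.isAlgSpace_of_isPullback sq F.property (AlgSp.IsAlgSpace.yon_obj T)
      (AlgSp.IsAlgSpace.yon_obj U).diag
    obtain ⟨Φ, hΦ, -⟩ := exists_pullback_equiv_space (F := F) (V := spY U) (G := spY T) he α sq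
    obtain ⟨Ψ, hΨ, -, -⟩ := isEquivOver_inverse hΦ
    let 𝒯 := ofSch (S := S) T
    have hTs : IsAlgStack Scheme.fppfPrecoverage (ofSch T) := (isDM_ofSp (spY T)).1
    have hTq : IsQuasiCompact (ofSch T) :=
      isQuasiCompact_of_equiv (isEquivOver_ofOverCat T) (isQuasiCompact_overCat T)
    haveI := compactSpace_of_isQuasiCompactMor h𝒳 h𝒴 h hTs hTq (BasedFunctor.comp (ofSpMap g) y')
    haveI := compactSpace_of_equiv hΨ (isDM_ofSp ⟨Q, hQ⟩).1
    exact (SpPts86.isQuasiCompactSp_iff_compactSpace hQ).1 ((compactSpace_points_ofSp ⟨Q, hQ⟩).1 inferInstance)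

/-- A quasi-compact morphism after an fppf cover of the target is quasi-compact. -/
theorem isQuasiCompactMor_of_fpFst (h𝒳 : IsAlgStack Scheme.fppfPrecoverage 𝒳)
    (h𝒴 : IsAlgStack Scheme.fppfPrecoverage 𝒴) (h𝒵 : IsAlgStack Scheme.fppfPrecoverage 𝒵) {f : 𝒳 ⥤ᵇ 𝒴}
    (z : 𝒵 ⥤ᵇ 𝒴) (hz₁ : LocQ (AlgSp.LocP @Flat) z) (hz₂ : LocQ (AlgSp.LocP @LocallyOfFinitePresentation) z)
    (hz₃ : IsSurjective z) (h : IsQuasiCompactMor Scheme.fppfPrecoverage (fpFst z f)) :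
    IsQuasiCompactMor Scheme.fppfPrecoverage f := by
  refine isQuasiCompactMor_of_affine h𝒳 h𝒴 fun T hT t => ?_
  haveI := hT
  have hY := h𝒴.isStack.1
  have hTs := isAlgStack_overCat (S := S) T
  obtain ⟨z', hz'⟩ : ∃ z' : fp t z ⥤ᵇ overCat T, z' = fpFst t z := ⟨_, rfl⟩
  have hfp := isAlgStack_fp h𝒴.isStack h𝒴.diag hTs h𝒵 t z
  obtain ⟨G, u, hu, hu'⟩ := hfp.atlas
  obtain ⟨k, ⟨ι⟩⟩ := exists_overMap_iso (BasedFunctor.comp u (fpFst t z))
  have hflat : Flat k.left ∧ LocallyOfFinitePresentation k.left := by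
    have hC := isFibGrpd_fp (isFibGrpd_overCat T) h𝒵.isStack.1 hY t z
    let t' : ofSch T ⥤ᵇ 𝒴 := BasedFunctor.comp (toOverCat T) t
    have hb₁ := spQ_fpFst smoothLocal_flat (stableBC_locP _) h𝒵 h𝒴 hTs t (spQ_of_locQ hz₁)
    have hb₂ := spQ_fpFst smoothLocal_lfp (stableBC_locP _) h𝒵 h𝒴 hTs t (spQ_of_locQ hz₂)
    obtain ⟨ψ, hψ, -, ⟨β⟩⟩ := isEquivOver_inverse (isEquivOver_fpFst (fpFst t z) (isEquivOver_toOverCat T))
    let l : ofSch G ⥤ᵇ fp (fpFst t z) (toOverCat T) :=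
      BasedFunctor.comp (BasedFunctor.comp (toOverCat G) u) ψ
    have hl : Sm l := (repByAlgSpWith_postcomp_equiv hψ).2
      ((repByAlgSpWith_precomp_equiv (isEquivOver_toOverCat G)).2 hu)
    have e : homOfBased (BasedFunctor.comp l (fpSnd (fpFst t z) (toOverCat T))) = (AlgSp.yon S).map k := by
      rw [← toOver_overMap_hom k _ ι, spMapOfOver_eq]
      refine homOfBased_congr (F := (AlgSp.yon S).obj G) (G := (AlgSp.yon S).obj T) ?_
      have hid : BasedFunctor.comp (toOverCat T) (ofOverCat T) ≅ BasedFunctor.id (ofSch T) :=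
        BasedNatIso.mkNatIso (NatIso.ofComponents (fun a => Iso.refl _)
          (fun {a b} f => Stk.EltObj.hom_ext ((Category.comp_id _).trans (Category.id_comp _).symm)))
          (fun a => IsHomLift.id rfl)
      exact (bLeft (BasedFunctor.comp l (fpSnd (fpFst t z) (toOverCat T))) hid).symm ≪≫
        bRight (bLeft l (fpIso (fpFst t z) (toOverCat T))).symm (ofOverCat T) ≪≫
        bRight (bLeft (BasedFunctor.comp (toOverCat G) u) (bRight β (fpFst t z))) (ofOverCat T)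
    have hsm : Sm (toOverCat (S := S) T) := sm_equiv (isEquivOver_toOverCat T)
    exact ⟨(SpFP87.locP_yon_map_iff (P := @Flat) k).1 ((congrArg (fun s => AlgSp.LocP @Flat s) e).mp
        (hb₁.prop smoothLocal_flat hC (isFibGrpd_overCat T) (U := spY G) (V := spY T) (toOverCat T) l hsm hl)),
      (SpFP87.locP_yon_map_iff (P := @LocallyOfFinitePresentation) k).1
        ((congrArg (fun s => AlgSp.LocP @LocallyOfFinitePresentation s) e).mp
        (hb₂.prop smoothLocal_lfp hC (isFibGrpd_overCat T) (U := spY G) (V := spY T) (toOverCat T) l hsm hl))⟩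
  haveI := hflat.1
  haveI := hflat.2
  haveI : Surjective k.left := ⟨fun τ => by
    obtain ⟨w, hw⟩ := surjective_comp (surjective_comp (surjective_of_equiv (isEquivOver_toOverCat G))
      (isSurjective_of_sj hfp.isStack.1 hu'))
      (isSurjective_fpFst hY h𝒵.isStack.1 (isFibGrpd_overCat T) t hz₃)
      (Points.map (toOverCat T) (stPt _ (AlgSp.Points.ofScheme T τ)))
    obtain ⟨w', rfl⟩ := stPt_bijective.2 w
    obtain ⟨g, rfl⟩ := (AlgSp.Points.schemeHomeo G).surjective w'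
    refine ⟨g, (AlgSp.Points.schemeHomeo T).injective (stPt_bijective.1
      ((points_map_bijective (isEquivOver_toOverCat T)).1 (Eq.trans ?_ hw)))⟩
    obtain ⟨j⟩ := toOver_overMap k
    rw [← AlgSp.Points.map_yon_map_apply k g, ← stPt_natural, ← points_map_comp]
    exact points_map_congr (j.symm ≪≫ (bLeft (toOverCat G) ι).symm) _⟩
  have hopen : IsOpenMap k.left := Scheme.Hom.isOpenMap k.left
  obtain ⟨s, hs⟩ := isCompact_univ.elim_finite_subcover (fun A : G.left.affineOpens => k.left '' (A.1 : Set G.left))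
    (fun A => hopen _ A.1.isOpen) (fun τ _ => by
      obtain ⟨g, rfl⟩ := k.left.surjective τ
      obtain ⟨A, hA, hgA, -⟩ := exists_isAffineOpen_mem_and_subset (X := G.left) (U := ⊤) (x := g) trivial
      exact Set.mem_iUnion.2 ⟨⟨A, hA⟩, g, hgA, rfl⟩)
  haveI : Finite (↥s) := Finite.of_fintype _
  let X' : ↥s → Scheme.{u} := fun A => (A.1.1 : G.left.Opens)
  haveI : ∀ A, IsAffine (X' A) := fun A => A.1.2
  let c : (∐ X') ⟶ G.left := Sigma.desc fun A => A.1.1.ι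
  let G' : Over S := Over.mk (c ≫ G.hom)
  haveI : IsAffine G'.left := inferInstanceAs (IsAffine (∐ X'))
  let c' : G' ⟶ G := Over.homMk c rfl
  let w : overCat G' ⥤ᵇ fp t z := BasedFunctor.comp (overMap c') u
  let wT := BasedFunctor.comp w (fpFst t z)
  let wZ := BasedFunctor.comp w (fpSnd t z)
  have hsurj : IsSurjective wT := by
    intro ξ
    obtain ⟨ξ', rfl⟩ := (points_map_bijective (isEquivOver_toOverCat T)).2 ξ
    obtain ⟨ξ'', rfl⟩ := stPt_bijective.2 ξ'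
    obtain ⟨τ, rfl⟩ := (AlgSp.Points.schemeHomeo T).surjective ξ''
    obtain ⟨A, hA⟩ := Set.mem_iUnion.1 (hs (Set.mem_univ τ))
    obtain ⟨hAs, g, hg, rfl⟩ := Set.mem_iUnion.1 hA
    let v : ↥G'.left := Sigma.ι X' ⟨A, hAs⟩ ⟨g, hg⟩
    refine ⟨Points.map (toOverCat G') (stPt _ (AlgSp.Points.ofScheme G' v)), ?_⟩
    rw [← points_map_comp]
    refine (ofChart_eq wT v).symm.trans ?_
    refine (ofChart_overMap c' (BasedFunctor.comp u (fpFst t z)) v).trans ?_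
    have hv : c'.left v = g := by
      change c (Sigma.ι X' ⟨A, hAs⟩ ⟨g, hg⟩) = g
      rw [← Scheme.Hom.comp_apply, Sigma.ι_desc]
      rfl
    rw [hv, ofChart_eq]
    obtain ⟨j⟩ := toOver_overMap k
    rw [← AlgSp.Points.map_yon_map_apply k g, ← stPt_natural, ← points_map_comp]
    exact points_map_congr (bLeft (toOverCat G) ι ≪≫ j) _
  haveI := compactSpace_of_isQuasiCompactMor (isAlgStack_fp h𝒴.isStack h𝒴.diag h𝒵 h𝒳 z f) h𝒵 h
    (isAlgStack_overCat G') (isQuasiCompact_overCat G') wZ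
  let Φ : fp wZ (fpFst z f) ⥤ᵇ fp (BasedFunctor.comp wT t) f :=
    BasedFunctor.comp (fpPaste wZ z f) (fpCongr (bLeft w (fpIso t z)).symm (Iso.refl f))
  haveI := compactSpace_of_equiv (e := Φ) (isEquivOver_comp (isEquivOver_fpPaste _ _ _) (isEquivOver_fpCongr _ _))
    (isAlgStack_fp h𝒴.isStack h𝒴.diag (isAlgStack_overCat G') h𝒳 _ f)
  exact compactSpace_of_surjective (isAlgStack_fp h𝒴.isStack h𝒴.diag hTs h𝒳 t f) (fpMapFst t f wT)
    (isSurjective_fpMapFst (isFibGrpd_overCat T) h𝒳.isStack.1 hY (isFibGrpd_overCat G') t f hsurj)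

end Groth.Agent.AlgSt88

namespace Groth.Agent.AlgSt88

variable {S : Scheme.{u}} {𝒳 𝒴 𝒵 : AlgSt.Cat S}

theorem isQuasiCompactMor_yon_id (U : Over S) : AlgSp.IsQuasiCompactMor (𝟙 ((AlgSp.yon S).obj U)) :=
  SpPts86.isQuasiCompactMor_of_repWith (AlgSp.IsAlgSpace.yon_obj U) (MorphismProperty.id_mem _ _)

theorem isQuasiCompactMor_equiv (h𝒳 : IsAlgStack Scheme.fppfPrecoverage 𝒳) (h𝒴 : IsAlgStack Scheme.fppfPrecoverage 𝒴)
    {e : 𝒳 ⥤ᵇ 𝒴} (he : IsEquivOver e) : IsQuasiCompactMor Scheme.fppfPrecoverage e :=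
  have h := repByAlgSpWith_of_isEquivOver (P := AlgSp.IsQuasiCompactMor) he isQuasiCompactMor_yon_id
  (repByAlgSpWith_quasiCompact_iff h𝒳 h𝒴 (repByAlgSp1_of_with h)).1 h

/-- Cancellation for quasi-compact morphisms. -/
theorem isQuasiCompactMor_of_comp (h𝒳 : IsAlgStack Scheme.fppfPrecoverage 𝒳)
    (h𝒴 : IsAlgStack Scheme.fppfPrecoverage 𝒴) (h𝒵 : IsAlgStack Scheme.fppfPrecoverage 𝒵)
    {f : 𝒳 ⥤ᵇ 𝒴} {g : 𝒴 ⥤ᵇ 𝒵} (hfg : IsQuasiCompactMor Scheme.fppfPrecoverage (BasedFunctor.comp f g))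
    (hg : RepByAlgSpWith AlgSp.IsQuasiCompactMor (diag g)) : IsQuasiCompactMor Scheme.fppfPrecoverage f := by
  let p := BasedFunctor.comp f g
  have hW := isAlgStack_fp h𝒵.isStack h𝒵.diag h𝒳 h𝒴 p g
  have hW' := isAlgStack_fp h𝒵.isStack h𝒵.diag h𝒴 h𝒳 g p
  let Γ : 𝒳 ⥤ᵇ fp p g := fpLift (BasedFunctor.id 𝒳) f (Iso.refl _)
  have hΓ := repByAlgSpWith_graph (p := p) (q := g) f (Iso.refl _) hg
  have h1 : IsQuasiCompactMor Scheme.fppfPrecoverage Γ :=
    (repByAlgSpWith_quasiCompact_iff h𝒳 hW (repByAlgSp1_of_with hΓ)).1 hΓ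
  have h2 : IsQuasiCompactMor Scheme.fppfPrecoverage (BasedFunctor.comp (fpSwap p g) (fpFst g p)) :=
    isQuasiCompactMor_comp hW' h𝒴 (isQuasiCompactMor_equiv hW hW' isEquivOver_fpSwap) (isQuasiCompactMor_fpFst g hfg)
  exact isQuasiCompactMor_comp hW h𝒴 h1 h2

end Groth.Agent.AlgSt88
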