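import Groth.Agent.AlgSt88.DenseLiftQC
import Groth.Agent.AlgSt88.QCMorSt
import Groth.Agent.AlgSt88.SpQProps
import Groth.Agent.AlgSt88.RepPost
import Groth.Agent.AlgSt88.Cancel
import Groth.Agent.SpPts86.Boot

/-! The dense lifting criterion for monomorphisms of algebraic stacks. -/

set_option autoImplicit false
set_option maxHeartbeats 1000000
set_option linter.style.haveILetI false
set_option linter.unusedVariables false
set_option backward.isDefEq.respectTransparency false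
set_option backward.isDefEq.respectTransparency.types false
universe u

open CategoryTheory CategoryTheory.Limits AlgebraicGeometry Opposite AlgSt FibCat

namespace Groth.Agent.AlgSt88

variable {S : Scheme.{u}} {𝒳 𝒴 : AlgSt.Cat S}

theorem stableBC_quasiCompact : StableBC (S := S) AlgSp.IsQuasiCompactMor :=
  fun _ _ _ _ hX₁ hY₁ hX₂ hY₂ a b a' b' sq ha => SpPts86.isQuasiCompactMor_baseChange ha sq

theorem respectsIso_quasiCompact : (AlgSp.IsQuasiCompactMor (S := S)).RespectsIso :=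
  MorphismProperty.RespectsIso.mk _
    (fun e f hf => SpPts86.isQuasiCompactMor_baseChange hf
      (IsPullback.of_horiz_isIso ⟨by simp⟩ : IsPullback e.hom (e.hom ≫ f) f (𝟙 _)))
    (fun e f hf => SpPts86.isQuasiCompactMor_baseChange hf
      (IsPullback.of_horiz_isIso ⟨by simp⟩ : IsPullback (𝟙 _) (f ≫ e.hom) f e.inv))

theorem overMapCompIso {A B C : Over S} (a : A ⟶ B) (b : B ⟶ C) :
    Nonempty (BasedFunctor.comp (overMap a) (overMap b) ≅ overMap (a ≫ b)) :=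
  nonempty_iso_of_app_id (isFibGrpd_overCat C)
    (Over.isoMk (Iso.refl _) (by
      show 𝟙 A ≫ 𝟙 A ≫ a ≫ b = (𝟙 A ≫ a) ≫ b
      simp))
    (IsHomLift.of_fac' _ _ _ rfl rfl (by simp [FibCat.overCat]; rfl))

theorem eq_of_overMap_iso {U V : Over S} {k k' : U ⟶ V} (h : Nonempty (overMap k ≅ overMap k')) : k = k' := by
  obtain ⟨ι⟩ := h
  refine (AlgSp.yon S).map_injective ?_
  exact (toOver_overMap_hom k (overMap k) (Iso.refl _)).symm.trans (toOver_overMap_hom k' (overMap k) ι)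

/-- The base change of `f` along a chart, represented by a scheme, with its description of lifts. -/
theorem exists_scheme_fibre {f : 𝒴 ⥤ᵇ 𝒳} (hlfp : RepByAlgSpWith (AlgSp.LocP @LocallyOfFinitePresentation) f)
    (ha : AlgSt.IsMono f) {U₀ : Over S} (y : overCat U₀ ⥤ᵇ 𝒳) :
    ∃ (W : Over S) (g : W ⟶ U₀) (Φ : overCat W ⥤ᵇ fp y f), IsEquivOver Φ ∧ Mono g.left ∧
      LocallyOfFinitePresentation g.left ∧ Nonempty (BasedFunctor.comp Φ (fpFst y f) ≅ overMap g) := by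
  haveI := respectsIso_locP (S := S) @LocallyOfFinitePresentation
  obtain ⟨F, e, he, h1, h2⟩ := repByAlgSpWith_inf hlfp ha U₀ y
  let a := spMapOfOver (BasedFunctor.comp e (fpFst y f))
  haveI : Mono a := h2
  have h1' : AlgSp.LocP @LocallyOfFiniteType a := fun _ _ p q r h₁ h₂ h₃ => by
    haveI := h1 p q r h₁ h₂ h₃
    infer_instance
  obtain ⟨W, ⟨i⟩⟩ := SpPts86.exists_iso_of_mono F.property a h1'
  obtain ⟨g, hg⟩ := (AlgSp.yon S).map_surjective (i.hom ≫ a)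
  haveI : Mono ((AlgSp.yon S).map g) := hg ▸ mono_comp i.hom a
  haveI : Mono g := (AlgSp.yon S).mono_of_mono_map ‹Mono ((AlgSp.yon S).map g)›
  haveI : Mono g.left := inferInstanceAs (Mono ((Over.forget S).map g))
  have hlfp' : LocallyOfFinitePresentation g.left := (SpFP87.locP_yon_map_iff g).1
    (hg ▸ ((MorphismProperty.cancel_left_of_respectsIso
      (AlgSp.LocP (S := S) @LocallyOfFinitePresentation) i.hom a).2 h1))
  obtain ⟨u, hu, -, ⟨β⟩⟩ := isEquivOver_inverse (isEquivOver_toOverCat (S := S) W)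
  let Φ : overCat W ⥤ᵇ fp y f := BasedFunctor.comp u (BasedFunctor.comp (ofSpMap i.hom) e)
  have hΦ : IsEquivOver Φ := isEquivOver_comp hu (isEquivOver_comp (isEquivOver_ofSpMap i.hom) he)
  refine ⟨W, g, Φ, hΦ, ‹_›, hlfp', ?_⟩
  obtain ⟨k, ⟨κ⟩⟩ := exists_overMap_iso (BasedFunctor.comp Φ (fpFst y f))
  suffices hk : k = g by exact hk ▸ ⟨κ⟩
  refine (AlgSp.yon S).map_injective ?_
  rw [hg, ← toOver_overMap_hom k _ κ, show a = _ from spMapOfOver_eq _, ← homOfBased_ofSpMap i.hom,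
    ← homOfBased_comp]
  simp only [spMapOfOver_eq]
  obtain ⟨j⟩ : Nonempty (BasedFunctor.comp (toOverCat W) u ≅ BasedFunctor.id (ofSch W)) := by
    obtain ⟨u', -, ⟨γ⟩, -⟩ := isEquivOver_inverse (isEquivOver_toOverCat (S := S) W)
    refine ⟨?_⟩
    exact (bLeft (BasedFunctor.comp (toOverCat W) u) γ).symm ≪≫ bRight (bLeft (toOverCat W) β) u' ≪≫ γ
  exact homOfBased_congr (bRight j
    (BasedFunctor.comp (ofSpMap i.hom) (BasedFunctor.comp (BasedFunctor.comp e (fpFst y f)) (ofOverCat U₀))))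

theorem isQuasiCompactMor_of_dense_lift (h𝒳 : IsAlgStack Scheme.fppfPrecoverage 𝒳)
    (h𝒴 : IsAlgStack Scheme.fppfPrecoverage 𝒴) {f : 𝒴 ⥤ᵇ 𝒳} {U₀ : Over S} [IsLocallyNoetherian U₀.left]
    (y : overCat U₀ ⥤ᵇ 𝒳) (hlfp : RepByAlgSpWith (AlgSp.LocP @LocallyOfFinitePresentation) f) (ha : AlgSt.IsMono f)
    (hc : ∀ (A : Type u) [CommRing A] [IsDomain A] (sA : Spec (CommRingCat.of A) ⟶ S)
      (a : overCat (Over.mk sA) ⥤ᵇ 𝒳) (D : Set ↥(Spec (CommRingCat.of A))), Dense D →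
      (∀ p ∈ D, ∃ yp : overCat (Over.mk ((Spec (CommRingCat.of A)).fromSpecResidueField p ≫ sA)) ⥤ᵇ 𝒴,
          Nonempty (BasedFunctor.comp yp f ≅ BasedFunctor.comp (overMap (Over.homMk ((Spec (CommRingCat.of A)).fromSpecResidueField p) rfl : Over.mk (((Spec (CommRingCat.of A)).fromSpecResidueField p) ≫ sA) ⟶ Over.mk sA)) a)) →
      ∃ U : (Spec (CommRingCat.of A)).Opens, (U : Set ↥(Spec (CommRingCat.of A))).Nonempty ∧
        ∃ yU : overCat (Over.mk (U.ι ≫ sA)) ⥤ᵇ 𝒴,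
          Nonempty (BasedFunctor.comp yU f ≅ BasedFunctor.comp (overMap (Over.homMk (U.ι) rfl : Over.mk ((U.ι) ≫ sA) ⟶ Over.mk sA)) a)) :
    IsQuasiCompactMor Scheme.fppfPrecoverage (fpFst y f) := by
  obtain ⟨W, g, Φ, hΦ, hm, hp, ⟨φ⟩⟩ := exists_scheme_fibre hlfp ha y
  have hlift : ∀ {T : Over S} (k : T ⟶ U₀), (∃ l : T ⟶ W, l ≫ g = k) ↔
      ∃ z : overCat T ⥤ᵇ 𝒴, Nonempty (BasedFunctor.comp z f ≅ BasedFunctor.comp (overMap k) y) := by
    intro T k
    constructor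
    · rintro ⟨l, rfl⟩
      refine ⟨BasedFunctor.comp (BasedFunctor.comp (overMap l) Φ) (fpSnd y f), ?_⟩
      obtain ⟨j⟩ := overMapCompIso l g
      exact ⟨bLeft (BasedFunctor.comp (overMap l) Φ) (fpIso y f).symm ≪≫ bRight (bLeft (overMap l) φ) y ≪≫ bRight j y⟩
    · rintro ⟨z, ⟨ε⟩⟩
      obtain ⟨Ψ, -, -, ⟨β⟩⟩ := isEquivOver_inverse hΦ
      obtain ⟨l, ⟨ι⟩⟩ := exists_overMap_iso (BasedFunctor.comp (fpLift (overMap k) z ε.symm) Ψ)
      refine ⟨l, eq_of_overMap_iso ?_⟩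
      obtain ⟨j⟩ := overMapCompIso l g
      exact ⟨j.symm ≪≫ bRight ι.symm (overMap g) ≪≫
        bLeft (BasedFunctor.comp (fpLift (overMap k) z ε.symm) Ψ) φ.symm ≪≫
        bRight (bLeft (fpLift (overMap k) z ε.symm) β) (fpFst y f)⟩
  haveI := hm
  haveI := hp
  have hq : QuasiCompact g.left := by
    refine DenseLiftQC.quasiCompact_of_dense_lift g.left fun A _ _ ι D hD hl => ?_
    let k : Over.mk (ι ≫ U₀.hom) ⟶ U₀ := Over.homMk ι rfl
    obtain ⟨U, hU, z, ⟨ε⟩⟩ := hc A (ι ≫ U₀.hom) (BasedFunctor.comp (overMap k) y) D hD fun p hpD => by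
      obtain ⟨l, el⟩ := hl p hpD
      let r : Over.mk ((Spec (CommRingCat.of A)).fromSpecResidueField p ≫ ι ≫ U₀.hom) ⟶ Over.mk (ι ≫ U₀.hom) :=
        Over.homMk ((Spec (CommRingCat.of A)).fromSpecResidueField p) rfl
      obtain ⟨z, ⟨ε⟩⟩ := (hlift (r ≫ k)).1 ⟨Over.homMk l (by
        show l ≫ W.hom = _
        rw [← Over.w g, ← Category.assoc, el, Category.assoc]; rfl), Over.OverMorphism.ext el⟩
      obtain ⟨j⟩ := overMapCompIso r k
      exact ⟨z, ⟨ε ≪≫ bRight j.symm y⟩⟩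
    let r : Over.mk (U.ι ≫ ι ≫ U₀.hom) ⟶ Over.mk (ι ≫ U₀.hom) := Over.homMk U.ι rfl
    obtain ⟨j⟩ := overMapCompIso r k
    obtain ⟨l, el⟩ := (hlift (r ≫ k)).2 ⟨z, ⟨ε ≪≫ bRight j y⟩⟩
    exact ⟨U, hU, l.left, congrArg CommaMorphism.left el⟩
  have hqm : AlgSp.IsQuasiCompactMor ((AlgSp.yon S).map g) :=
    SpPts86.isQuasiCompactMor_of_repWith (AlgSp.IsAlgSpace.yon_obj U₀) ((AlgSp.repWith_yon_map_iff @QuasiCompact g).2 hq)
  have hr : RepByAlgSpWith AlgSp.IsQuasiCompactMor (fpFst y f) := by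
    refine (repByAlgSpWith_precomp_equiv hΦ).1 (repByAlgSpWith_of_iso φ.symm ?_)
    refine (repByAlgSpWith_precomp_equiv (isEquivOver_toOverCat W)).1 ?_
    obtain ⟨γ⟩ : Nonempty (BasedFunctor.comp (ofSpMap ((AlgSp.yon S).map g)) (toOverCat U₀) ≅
        BasedFunctor.comp (toOverCat W) (overMap g)) := by
      refine ⟨BasedNatIso.mkNatIso (NatIso.ofComponents (fun o => Over.isoMk (Iso.refl _) (by
        show 𝟙 _ ≫ o.sec.down ≫ g = o.sec.down ≫ g; simp)) (fun {o o'} m => by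
        apply Over.OverMorphism.ext
        exact (Category.comp_id _).trans (Category.id_comp _).symm)) (fun o => IsHomLift.id rfl)⟩
    exact repByAlgSpWith_of_iso γ ((repByAlgSpWith_postcomp_equiv (isEquivOver_toOverCat U₀)).2
      (repByAlgSpWith_ofSpMap (F := spY W) (G := spY U₀) stableBC_quasiCompact respectsIso_quasiCompact _ hqm))
  exact (repByAlgSpWith_quasiCompact_iff
    (isAlgStack_fp h𝒳.isStack h𝒳.diag (isAlgStack_overCat U₀) h𝒴 y f) (isAlgStack_overCat U₀)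
    (repByAlgSp1_of_with hr)).1 hr

end Groth.Agent.AlgSt88
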