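import Groth.Agent.AlgSt88.Inertia
import Mathlib.AlgebraicGeometry.Morphisms.QuasiFinite
import Mathlib.AlgebraicGeometry.Morphisms.FormallyUnramified
import Mathlib.AlgebraicGeometry.Morphisms.UniversallyOpen

/-! Properties of the diagonal read on the inertia. -/

set_option autoImplicit false
set_option maxHeartbeats 1000000
set_option linter.style.haveILetI false
set_option linter.unusedVariables false
set_option backward.isDefEq.respectTransparency false
set_option backward.isDefEq.respectTransparency.types false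
universe u

open CategoryTheory CategoryTheory.Limits AlgebraicGeometry Opposite AlgSt FibCat

namespace Groth.Agent.AlgSt88

variable {S : Scheme.{u}} {𝒳 𝒴 : AlgSt.Cat S}

theorem formallyUnramified_of_self {A V : Scheme.{u}} (k : A ⟶ V) [LocallyOfFiniteType k]
    (h : FormallyUnramified (pullback.snd k k)) : FormallyUnramified k := by
  haveI := h
  haveI : IsOpenImmersion (pullback.diagonal k) := by
    have h1 : IsOpenImmersion (pullback.diagonal k ≫ pullback.snd k k) := by
      rw [pullback.diagonal_snd]; infer_instance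
    haveI := (MorphismProperty.hasOfPostcompProperty_iff_le_diagonal
      (P := (@IsOpenImmersion : MorphismProperty Scheme.{u})) (Q := (@IsOpenImmersion : MorphismProperty Scheme.{u}).diagonal)).2 le_rfl
    exact MorphismProperty.of_postcomp (@IsOpenImmersion : MorphismProperty Scheme.{u})
      (W' := (@IsOpenImmersion : MorphismProperty Scheme.{u}).diagonal)
      (pullback.diagonal k) (pullback.snd k k) (inferInstanceAs (IsOpenImmersion (pullback.diagonal (pullback.snd k k)))) h1
  infer_instance

theorem locallyQuasiFinite_of_self {A V : Scheme.{u}} (k : A ⟶ V) [LocallyOfFiniteType k]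
    (h : LocallyQuasiFinite (pullback.snd k k)) : LocallyQuasiFinite k := by
  haveI := h
  refine LocallyQuasiFinite.of_fiberToSpecResidueField k fun v => ?_
  haveI : LocallyOfFiniteType (k.fiberToSpecResidueField v) :=
    inferInstanceAs (LocallyOfFiniteType (pullback.snd _ _))
  refine locallyQuasiFinite_iff_isDiscrete_preimage_singleton.2 fun z => ?_
  rcases isEmpty_or_nonempty ↥(k.fiber v) with hE | ⟨⟨a⟩⟩
  · exact isDiscrete_iff_discreteTopology.2 inferInstance
  let g := (k.fiber v).fromSpecResidueField a ≫ k.fiberToSpecResidueField v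
  let ι := (k.fiber v).fromSpecResidueField a ≫ k.fiberι v
  have hg : ι ≫ k = g ≫ V.fromSpecResidueField v := by
    simp only [ι, g, Category.assoc]
    exact congrArg ((k.fiber v).fromSpecResidueField a ≫ ·) pullback.condition
  let D := pullback (k.fiberToSpecResidueField v) g
  have sqD := (IsPullback.of_hasPullback (k.fiberToSpecResidueField v) g).paste_horiz
    (IsPullback.of_hasPullback k (V.fromSpecResidueField v) :
      IsPullback (k.fiberι v) (k.fiberToSpecResidueField v) k (V.fromSpecResidueField v))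
  rw [← hg] at sqD
  let fD := pullback.fst (k.fiberToSpecResidueField v) g ≫ k.fiberι v
  have hw : fD ≫ k = (pullback.snd (k.fiberToSpecResidueField v) g ≫ ι) ≫ k := by
    rw [Category.assoc _ ι k]; exact sqD.w
  haveI : LocallyQuasiFinite (pullback.snd (k.fiberToSpecResidueField v) g) := by
    refine MorphismProperty.of_isPullback (IsPullback.of_right (h₁₁ := pullback.lift fD _ hw) (h₁₂ := pullback.fst k k)
      ?_ (pullback.lift_snd _ _ _) (IsPullback.of_hasPullback k k)) h
    rw [pullback.lift_fst]
    exact sqD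
  have hD : DiscreteTopology ↥D := by
    have := (pullback.snd (k.fiberToSpecResidueField v) g).isDiscrete_preimage_singleton (IsLocalRing.closedPoint _)
    rw [show (pullback.snd (k.fiberToSpecResidueField v) g) ⁻¹' {IsLocalRing.closedPoint _} = Set.univ from
      Set.eq_univ_of_forall fun _ => Subsingleton.elim _ _] at this
    exact isDiscrete_univ_iff.1 this
  haveI : Surjective g := ⟨fun _ => ⟨IsLocalRing.closedPoint _, Subsingleton.elim _ _⟩⟩
  have hπ : IsOpenMap (pullback.fst (k.fiberToSpecResidueField v) g) :=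
    (pullback.fst (k.fiberToSpecResidueField v) g).isOpenMap
  haveI : DiscreteTopology ↥(k.fiber v) := discreteTopology_iff_forall_isOpen.2 fun s => by
    rw [← Set.image_preimage_eq s (pullback.fst (k.fiberToSpecResidueField v) g).surjective]
    exact hπ _ (isOpen_discrete _)
  exact IsDiscrete.univ.mono (Set.subset_univ _)

theorem repByAlgSpWith_fpFst_diag (hX : IsFibGrpd 𝒳.p) (f : 𝒳 ⥤ᵇ 𝒴) {P : MorphismProperty (AlgSp.Sp S)}
    (h : RepByAlgSpWith P (inertiaToBase f)) : RepByAlgSpWith P (fpFst (FibCat.diag f) (FibCat.diag f)) :=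
  (repByAlgSpWith_precomp_equiv (isEquivOver_inertiaToFp hX f)).1
    (repByAlgSpWith_of_iso (f' := BasedFunctor.comp (inertiaToFp f) (fpFst (FibCat.diag f) (FibCat.diag f))) (Iso.refl _) h)

/-- A property of a representable morphism read on its self-product. -/
theorem repByAlgSpWith_of_self {P : MorphismProperty Scheme.{u}} [SpFP87.EtLoc P]
    (hle : P ≤ @LocallyOfFiniteType)
    (hself : ∀ {A V : Scheme.{u}} (k : A ⟶ V) [LocallyOfFiniteType k], P (pullback.snd k k) → P k)
    (hX : IsFibGrpd 𝒳.p) (hY : IsFibGrpd 𝒴.p) {f : 𝒳 ⥤ᵇ 𝒴}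
    (hl : RepByAlgSpWith (AlgSp.LocP @LocallyOfFiniteType) f)
    (h : RepByAlgSpWith (AlgSp.LocP P) (fpFst f f)) : RepByAlgSpWith (AlgSp.LocP P) f := by
  intro V z
  let GV : AlgSp.Space S := ⟨(AlgSp.yon S).obj V, AlgSp.IsAlgSpace.yon_obj V⟩
  let m : ofSp GV.obj ⥤ᵇ 𝒴 := BasedFunctor.comp (toOverCat V) z
  obtain ⟨I, a, e, he, ⟨α⟩, hQ⟩ := exists_space_fp hX hY (repByAlgSp1_of_with hl) GV m
  haveI := respectsIso_locP (S := S) P
  haveI := respectsIso_locP (S := S) @LocallyOfFiniteType
  have hal : AlgSp.LocP @LocallyOfFiniteType a :=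
    spaceDescends_locP _ I GV a (hQ _ (respectsIso_locP _) hl)
  obtain ⟨A, c, k, hc, hcs, w⟩ := SpFP87.exists_compatible_chart a I.property GV.property.diag
    (AlgSp.repWith_id @Etale V) (AlgSp.repWith_id @Surjective V)
  rw [Category.comp_id] at w
  haveI : LocallyOfFiniteType k.left := hal c (𝟙 _) k hc (AlgSp.repWith_id @Etale V) (by rw [Category.comp_id]; exact w)
  -- the base change of `f` to the chart is a base change of its self-product
  let r : overCat A ⥤ᵇ fp m f := BasedFunctor.comp (ofOverCat A) (BasedFunctor.comp (ofSpMap c) e)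
  let x : overCat A ⥤ᵇ 𝒳 := BasedFunctor.comp r (fpSnd m f)
  let ξ := (AlgSp.yon S).map k
  let w' : overCat A ⥤ᵇ ofSp GV.obj := BasedFunctor.comp (ofOverCat A) (ofSpMap ξ)
  let η : BasedFunctor.comp (ofSpMap c) (ofSpMap a) ≅ ofSpMap ξ :=
    ofPshMapCompIso _ _ ξ.hom (congrArg (fun t : (AlgSp.yon S).obj A ⟶ (AlgSp.yon S).obj V => t.hom) w)
  let ζ : BasedFunctor.comp x f ≅ BasedFunctor.comp w' m :=
    (bLeft r (fpIso m f)).symm ≪≫
      bRight (bLeft (ofOverCat A) (bLeft (ofSpMap c) α ≪≫ η)) m
  have h1 : RepOver (AlgSp.LocP P) (fpFst w' (fpFst m f)) :=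
    RepOver.transport' (RepOver.transport (q' := fpFst (BasedFunctor.comp x f) f) (h A x)
        (isEquivOver_fpPaste x f f) (Iso.refl _))
      (isEquivOver_comp (isEquivOver_fpPaste w' m f)
        (isEquivOver_fpCongr (F := BasedFunctor.comp w' m) (F' := BasedFunctor.comp x f)
          ζ.symm (Iso.refl f))) (Iso.refl _)
  have h2 : RepOver (AlgSp.LocP P) (fpFst w' (ofSpMap a)) :=
    RepOver.transport' h1 (isEquivOver_comp (isEquivOver_fpCongr (F := w') (F' := w') (G := ofSpMap a) (Iso.refl _) α.symm)
      (isEquivOver_fpMapSnd w' (fpFst m f) e he)) (Iso.refl _)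
  have sq := IsPullback.of_hasPullback a ξ
  have sq' := sq.map (sheafToPresheaf (QuotSh.J Scheme.fppfPrecoverage S) (Type (u + 1)))
  obtain ⟨e', he', ⟨β⟩⟩ := exists_pullback_equiv a.hom (Iso.refl _) sq'
  have hI'' : AlgSp.LocP P (pullback.snd a ξ) := by
    have := RepOver.any (P := AlgSp.LocP P) (F := pullback a ξ) h2 he'
    rw [spMapOfOver_eq] at this
    rw [homOfBased_congr (F := pullback a ξ) (G := (AlgSp.yon S).obj A)
      (Φ := BasedFunctor.comp (BasedFunctor.comp e' (fpFst w' (ofSpMap a))) (ofOverCat A))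
      (Ψ := ofSpMap (pullback.snd a ξ)) β, homOfBased_ofSpMap] at this
    exact this
  obtain ⟨B, q, r', sqB⟩ := SpFP87.exists_isPullback_yon GV.property.diag ξ ξ
  let c'' : (AlgSp.yon S).obj B ⟶ pullback a ξ := sq.lift ((AlgSp.yon S).map q ≫ c) ((AlgSp.yon S).map r')
    (by rw [Category.assoc, w, sqB.w])
  have sqc : IsPullback c'' ((AlgSp.yon S).map q) (pullback.fst a ξ) c := by
    refine (IsPullback.of_bot (h₁₁ := (AlgSp.yon S).map q) (v₁₁ := c'') (v₁₂ := c) (h₂₁ := pullback.fst a ξ) ?_
      (sq.lift_fst _ _ _).symm sq).flip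
    rw [sq.lift_snd, w]
    exact sqB
  have hc'' : AlgSp.RepWith @Etale c'' := MorphismProperty.of_isPullback sqc.flip hc
  have hr : P r'.left := hI'' c'' (𝟙 _) r' hc'' (AlgSp.repWith_id @Etale A) (by rw [Category.comp_id, sq.lift_snd])
  have hk : P k.left := hself k.left
    ((MorphismProperty.cancel_left_of_respectsIso P (SpFP87.isPullback_left sqB).isoPullback.hom _).1
      (by rw [IsPullback.isoPullback_hom_snd]; exact hr))
  have hPa : AlgSp.LocP P a :=
    SpFP87.locP_of_chart (h := k) I.property.diag GV.property.diag hc hcs (AlgSp.repWith_id @Etale V)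
      (by rwa [Category.comp_id]) hk
  refine ⟨I, BasedFunctor.comp e (fpMapFst z f (toOverCat V)),
    isEquivOver_comp he (isEquivOver_fpMapFst z f _ (isEquivOver_toOverCat V)), ?_⟩
  have hmap : spMapOfOver (BasedFunctor.comp (BasedFunctor.comp e (fpMapFst z f (toOverCat V))) (fpFst z f)) =
      a ≫ spMapOfOver (toOverCat V) := by
    have h' := spMapOfOver_congr (bRight α (toOverCat V))
    rw [spMapOfOver_comp (ofSpMap a) (toOverCat V), homOfBased_ofSpMap] at h'
    exact h'
  rw [hmap, spMapOfOver_toOverCat V]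
  erw [Category.comp_id]
  exact hPa

end Groth.Agent.AlgSt88
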