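import Groth.Agent.AlgSt88.DiagLFT
import Groth.Agent.AlgSt88.DiagLFT2
import Groth.Agent.AlgSt88.ProdP

/-! The diagonal read on a flat cover. -/

set_option autoImplicit false
set_option backward.isDefEq.respectTransparency false
set_option backward.isDefEq.respectTransparency.types false
universe u

open CategoryTheory CategoryTheory.Limits AlgebraicGeometry Opposite AlgSt FibCat

namespace Groth.Agent.AlgSt88

variable {S : Scheme.{u}} {𝒳 𝒴 : AlgSt.Cat S} {K : Precoverage Scheme.{u}}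


theorem diag_toSelf_of_cover {Q : MorphismProperty Scheme.{u}} [SpFP87.EtLoc Q] [Q.DescendsAlong SpFP87.fppfSurj]
    (hQ : ∀ {A B C : Scheme.{u}} (f : A ⟶ B) (g : B ⟶ C), Q (f ≫ g) → Q f)
    (h : IsAlgStack K 𝒳) {U : Over S} {u : overCat U ⥤ᵇ 𝒳}
    (hu : RepByAlgSpWith (AlgSp.LocP (@Flat ⊓ @LocallyOfFinitePresentation)) u)
    (hus : RepByAlgSpWith AlgSp.IsSurjectiveMor u) (huQ : RepByAlgSpWith (AlgSp.LocP Q) u) :
    RepByAlgSpWith (AlgSp.LocP Q) (diag (toSelf 𝒳)) := by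
  have hX := h.isStack.1
  have hUf := isFibGrpd_overCat (C := Over S) U
  have hXX := isFibGrpd_fp hX hX isFibGrpd_selfOver (toSelf 𝒳) (toSelf 𝒳)
  let h' := prodMap u u
  have hh : RepByAlgSpWith (AlgSp.LocP (@Flat ⊓ @LocallyOfFinitePresentation)) h' :=
    repByAlgSpWith_prodFun hUf hUf hX hX (respectsIso_locP _) (spaceDescends_locP _) (stableComp_locP _) hu hu _
  have hhs : RepByAlgSpWith AlgSp.IsSurjectiveMor h' :=
    repByAlgSpWith_prodFun hUf hUf hX hX respectsIso_surj spaceDescends_surj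
      (fun _ _ _ _ _ _ a b ha hb y => by
        obtain ⟨y', rfl⟩ := hb y
        obtain ⟨x, rfl⟩ := ha y'
        exact ⟨x, AlgSp.Points.map_comp a b x⟩) hus hus _
  have hR : RepByAlgSpWith (AlgSp.LocP Q) (fpFst h' (diag (toSelf 𝒳))) := by
    refine (repByAlgSpWith_precomp_equiv (isEquivOver_fpToDiag u u)).1 (repByAlgSpWith_of_comp (h := fpToProd u u)
      (c := fpFst (toSelf (overCat U)) (toSelf (overCat U))) (stableBC_locP _) (respectsIso_locP _)
      (cancels_locP hQ)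
      (repByAlgSpWith_top_iff.2 (repByAlgSp1_of_repByAlgSp (repByAlgSp_prod hUf (repByAlgSp_overCat U)
        (repByAlgSp_overCat U)) (repByAlgSp_overCat U) _)) ?_)
    exact repByAlgSpWith_of_iso (f := fpFst u u) (Iso.refl _) (repByAlgSpWith_fpFst u huQ)
  intro V z
  haveI := respectsIso_locP (S := S) (@Flat ⊓ @LocallyOfFinitePresentation : MorphismProperty Scheme.{u})
  obtain ⟨G, e, he, hb⟩ := (repByAlgSpWith_inf hh hhs) V z
  obtain ⟨W, c, hc, hcs⟩ := G.property.atlas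
  let Φ : ofSp ((AlgSp.yon S).obj W) ⥤ᵇ overCat V :=
    BasedFunctor.comp (ofSpMap c) (BasedFunctor.comp e (fpFst z h'))
  obtain ⟨p, hp⟩ := (AlgSp.yon S).map_surjective (spMapOfOver Φ)
  have hp' : (AlgSp.yon S).map p = c ≫ spMapOfOver (BasedFunctor.comp e (fpFst z h')) := by
    rw [hp, spMapOfOver_comp (ofSpMap c) (BasedFunctor.comp e (fpFst z h')), homOfBased_ofSpMap]
  have hsm : (@Flat ⊓ @LocallyOfFinitePresentation : MorphismProperty Scheme.{u}) p.left := hb.1 c (𝟙 _) p hc (AlgSp.repWith_id @Etale V)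
    (by rw [Category.comp_id, hp'])
  have hsu : Surjective p.left := ⟨fun v => by
    obtain ⟨x, hx⟩ := hb.2 (AlgSp.Points.ofScheme V v)
    obtain ⟨y, rfl⟩ := SpPts86.isSurjectiveMor_of_repWith hcs x
    rw [← AlgSp.Points.map_comp, ← hp'] at hx
    obtain ⟨t, rfl⟩ := (AlgSp.Points.schemeHomeo W).surjective y
    rw [AlgSp.Points.map_yon_map_apply] at hx
    exact ⟨t, (AlgSp.Points.schemeHomeo V).injective hx⟩⟩
  let w : overCat W ⥤ᵇ fp z h' := BasedFunctor.comp (ofOverCat W) (BasedFunctor.comp (ofSpMap c) e)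
  obtain ⟨ι⟩ := overMap_iso p
  obtain ⟨α⟩ := nonempty_iso_ofPshMap (Q := ((AlgSp.yon S).obj V).obj) (BasedFunctor.comp Φ (ofOverCat V))
  have hα : (ObjectProperty.homMk (pshHom (Q := ((AlgSp.yon S).obj V).obj) (BasedFunctor.comp Φ (ofOverCat V))) :
      (AlgSp.yon S).obj W ⟶ (AlgSp.yon S).obj V) = (AlgSp.yon S).map p := by
    rw [hp, spMapOfOver_eq]
    refine (homOfBased_ofSpMap _).symm.trans (homOfBased_congr (F := (AlgSp.yon S).obj W)
      (G := (AlgSp.yon S).obj V) α.symm)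
  have α' : BasedFunctor.comp Φ (ofOverCat V) ≅ ofSpMap ((AlgSp.yon S).map p) := hα ▸ α
  let β : BasedFunctor.comp (ofOverCat V) (toOverCat V) ≅ BasedFunctor.id (overCat V) :=
    BasedNatIso.mkNatIso
      (NatIso.ofComponents (fun a => Iso.refl _)
        (fun {a b} f => Over.OverMorphism.ext ((Category.comp_id _).trans (Category.id_comp _).symm)))
      (fun a => IsHomLift.id rfl)
  let γ : BasedFunctor.comp w (fpFst z h') ≅ overMap p :=
    bLeft (ofOverCat W) ((bLeft Φ β).symm ≪≫ bRight α' (toOverCat V)) ≪≫ ι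
  let δ : BasedFunctor.comp (BasedFunctor.comp w (fpSnd z h')) h' ≅ BasedFunctor.comp (overMap p) z :=
    (bLeft w (fpIso z h')).symm ≪≫ bRight γ z
  refine repOver_of_cover hX hXX h.diag p
    ((SpFP87.fppfSurj_iff _).2 ⟨hsu, hsm.1, hsm.2⟩) z ?_
  exact RepOver.transport (hR W (BasedFunctor.comp w (fpSnd z h')))
    (isEquivOver_comp (isEquivOver_fpPaste (BasedFunctor.comp w (fpSnd z h')) h' (diag (toSelf 𝒳)))
      (isEquivOver_fpCongr δ (Iso.refl _))) (Iso.refl _)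

theorem diagOver_of_space_cover {Q : MorphismProperty Scheme.{u}} [SpFP87.EtLoc Q] [Q.DescendsAlong SpFP87.fppfSurj]
    (hQ : ∀ {A B C : Scheme.{u}} (f : A ⟶ B) (g : B ⟶ C), Q (f ≫ g) → Q f) (hEt : @Etale ≤ Q)
    (h : IsAlgStack K 𝒳) {W : AlgSp.Space S} {w : ofSp W.obj ⥤ᵇ 𝒳}
    (hw₁ : RepByAlgSpWith (AlgSp.LocP @Flat) w) (hw₂ : RepByAlgSpWith (AlgSp.LocP @LocallyOfFinitePresentation) w)
    (hw₃ : RepByAlgSpWith AlgSp.IsSurjectiveMor w) (hw₄ : RepByAlgSpWith (AlgSp.LocP Q) w) :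
    RepByAlgSpWith (AlgSp.LocP Q) (diag (toSelf 𝒳)) := by
  have hX := h.isStack.1
  have hW := Stk.isFibGrpd_ofPsh W.obj.obj
  obtain ⟨U, x, hx, hxs⟩ := (isDM_ofSp W).2
  haveI := respectsIso_locP (S := S) (@Flat : MorphismProperty Scheme.{u})
  have hU := isFibGrpd_overCat (C := Over S) U
  have hx' : ∀ {P : MorphismProperty Scheme.{u}}, @Etale ≤ P → RepByAlgSpWith (AlgSp.LocP P) x :=
    fun hP => repByAlgSpWith_mono (fun _ _ _ hf => SpFP87.LocP.of_le hP (SpPts86.locP_etale_of_isEtaleMor hf)) hx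
  refine diag_toSelf_of_cover hQ h (U := U) (u := BasedFunctor.comp x w) ?_ ?_
    (repByAlgSpWith_locP_comp Q hU hW (hx' hEt) hw₄)
  · refine repByAlgSpWith_mono ?_ (repByAlgSpWith_inf
      (repByAlgSpWith_locP_comp @Flat hU hW (hx' (fun _ _ f (_ : Etale f) => inferInstance)) hw₁)
      (repByAlgSpWith_locP_comp @LocallyOfFinitePresentation hU hW (hx' (fun _ _ f (_ : Etale f) => inferInstance)) hw₂))
    exact fun _ _ _ hf U V a b k ha hb e => ⟨hf.1 a b k ha hb e, hf.2 a b k ha hb e⟩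
  · exact repByAlgSpWith_comp_of hU hW respectsIso_surj spaceDescends_surj
      (fun _ _ _ _ _ _ a b ha hb y => by
        obtain ⟨y', rfl⟩ := hb y
        obtain ⟨x, rfl⟩ := ha y'
        exact ⟨x, AlgSp.Points.map_comp a b x⟩) hxs hw₃

end Groth.Agent.AlgSt88
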