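import Groth.Agent.AlgSt88.AutTrivial
import Groth.Agent.AlgSt88.DiagCover
import Groth.Agent.AlgSt88.RepCrit
import Groth.Agent.SpPts86.Props
import Groth.Agent.SpPts86.Unram
import Mathlib.FieldTheory.IsAlgClosed.AlgebraicClosure

/-! Deligne–Mumford stacks: unramified diagonals and kernels at geometric points. -/

set_option autoImplicit false
set_option linter.style.haveILetI false
set_option backward.isDefEq.respectTransparency false
set_option backward.isDefEq.respectTransparency.types false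
universe u

open CategoryTheory CategoryTheory.Limits AlgebraicGeometry Opposite AlgSt FibCat

namespace Groth.Agent.AlgSt88

variable {S : Scheme.{u}} {𝒳 𝒴 : AlgSt.Cat S} {K : Precoverage Scheme.{u}}

theorem isDMOver_of_isDM (h : IsDM K 𝒳) : IsDMOver 𝒳 := by
  haveI := Groth.Agent.SpPts86.lft_descends.{u}
  haveI := Groth.Agent.SpPts86.formallyUnramified_descends.{u}
  obtain ⟨hA, U, u, hu, hus⟩ := h
  exact diag_toSelf_of_cover (Q := @LocallyOfFiniteType ⊓ @FormallyUnramified)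
    (fun f g h => ⟨@locallyOfFiniteType_of_comp _ _ _ f g h.1, haveI := h.2; FormallyUnramified.of_comp f g⟩) hA
    (repByAlgSpWith_mono (fun _ _ _ hf => SpFP87.LocP.of_le
      (fun _ _ f (_ : Etale f) => ⟨inferInstance, inferInstance⟩) (SpPts86.locP_etale_of_isEtaleMor hf)) hu) hus
    (repByAlgSpWith_mono (fun _ _ _ hf => SpFP87.LocP.of_le
      (fun _ _ f (_ : Etale f) => ⟨inferInstance, inferInstance⟩) (SpPts86.locP_etale_of_isEtaleMor hf)) hu)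

theorem isDMMor_of_isDMOver (hX : IsDMOver 𝒳) (hY : RepByAlgSp1 (diag (toSelf 𝒴))) (g : 𝒳 ⥤ᵇ 𝒴) : IsDMMor g :=
  haveI := Groth.Agent.SpPts86.lft_descends.{u}
  haveI := Groth.Agent.SpPts86.formallyUnramified_descends.{u}
  repByAlgSpWith_diag_of_comp (stableBC_locP _) (respectsIso_locP _)
    (cancels_locP (fun f g h => ⟨@locallyOfFiniteType_of_comp _ _ _ f g h.1,
      haveI := h.2; FormallyUnramified.of_comp f g⟩))
    (repByAlgSpWith_top_iff.2 hY)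
    (repByAlgSpWith_diag_of_iso (selfIso (toSelf 𝒳) (BasedFunctor.comp g (toSelf 𝒴))) hX)

/-- Injectivity on geometric points suffices for universal injectivity. -/
theorem univInjective_of_algClosedInj {X Y : AlgSp.Sp S} {f : X ⟶ Y}
    (h : ∀ (K : Type u) [Field K] [IsAlgClosed K] (str : Spec (CommRingCat.of K) ⟶ S),
      Function.Injective (fun a : (AlgSp.yon S).obj (Over.mk str) ⟶ X => a ≫ f)) :
    AlgSp.IsUnivInjectiveMor f := by
  intro Z Z' _ g fst snd sq x y e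
  induction x using AlgSp.Points.ind with
  | h p => induction y using AlgSp.Points.ind with
    | h q =>
      rw [AlgSp.Points.map_mk, AlgSp.Points.map_mk, AlgSp.Points.mk_eq_mk_iff] at e
      obtain ⟨Ω, _, w, a, b, hab⟩ := e
      let Ω' := AlgebraicClosure Ω
      let w' : Spec (CommRingCat.of Ω') ⟶ S := Spec.map (CommRingCat.ofHom (algebraMap Ω Ω')) ≫ w
      let r : Over.mk w' ⟶ Over.mk w := Over.homMk (Spec.map (CommRingCat.ofHom (algebraMap Ω Ω'))) rfl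
      let A : (AlgSp.yon S).obj (Over.mk w') ⟶ Z' :=
        (AlgSp.J S).uliftYonedaEquiv.symm (Z'.obj.map (r ≫ a).op p.val)
      let B : (AlgSp.yon S).obj (Over.mk w') ⟶ Z' :=
        (AlgSp.J S).uliftYonedaEquiv.symm (Z'.obj.map (r ≫ b).op q.val)
      have hs : A ≫ snd = B ≫ snd := by
        apply (AlgSp.J S).uliftYonedaEquiv.injective
        rw [GrothendieckTopology.uliftYonedaEquiv_comp, GrothendieckTopology.uliftYonedaEquiv_comp]
        erw [Equiv.apply_symm_apply, Equiv.apply_symm_apply]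
        have h2 := congrArg (fun z => Z.obj.map r.op z) hab
        simp only [← Functor.map_comp_apply, ← op_comp] at h2
        exact (NatTrans.naturality_apply snd.hom (r ≫ a).op p.val).trans
          (h2.trans (NatTrans.naturality_apply snd.hom (r ≫ b).op q.val).symm)
      have hf : A ≫ fst = B ≫ fst := h Ω' w' (by
        change (A ≫ fst) ≫ f = (B ≫ fst) ≫ f
        rw [Category.assoc, Category.assoc, sq.w, ← Category.assoc, hs, Category.assoc])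
      exact AlgSp.Points.sound ⟨Ω', inferInstance, w', r ≫ a, r ≫ b,
        (AlgSp.J S).uliftYonedaEquiv.symm.injective (sq.hom_ext hf hs)⟩

theorem p_map_eq_id (g : 𝒳 ⥤ᵇ 𝒴) {x : 𝒳.obj} (a : x ⟶ x) (h : g.map a = 𝟙 _) : 𝒳.p.map a = 𝟙 _ := by
  have h' := congrArg (fun t => 𝒴.p.map t) h
  rw [p_map_eq, 𝒴.p.map_id] at h'
  simpa [eqToHom_comp_iff, comp_eqToHom_iff] using h'

/-- The test functor for kernels. -/
abbrev kerTest (g : 𝒳 ⥤ᵇ 𝒴) {T : Over S} (xb : overCat T ⥤ᵇ 𝒳) : overCat T ⥤ᵇ fp g g :=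
  BasedFunctor.comp xb (diag g)

theorem exists_fp_hom_ker (g : 𝒳 ⥤ᵇ 𝒴) {T : Over S} (xb : overCat T ⥤ᵇ 𝒳)
    (o o' : (fp (kerTest g xb) (diag g)).obj) (φ : o.obj.fst ⟶ o'.obj.fst)
    (htriv : ∀ a : xb.obj o.obj.fst ⟶ xb.obj o.obj.fst, g.map a = 𝟙 _ → a = 𝟙 _)
    (htriv' : ∀ a : xb.obj o'.obj.fst ⟶ xb.obj o'.obj.fst, g.map a = 𝟙 _ → a = 𝟙 _) :
    ∃ k : o ⟶ o', k.hom.fst = φ := by
  let αI := (fpFst g g).toFunctor.mapIso o.obj.iso
  let βI := (fpSnd g g).toFunctor.mapIso o.obj.iso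
  let αI' := (fpFst g g).toFunctor.mapIso o'.obj.iso
  let βI' := (fpSnd g g).toFunctor.mapIso o'.obj.iso
  have h₁ : βI.hom ≫ αI.inv = 𝟙 _ := htriv _ (by
    have hw : g.map αI.hom ≫ 𝟙 _ = 𝟙 _ ≫ g.map βI.hom := o.obj.iso.hom.hom.w
    rw [Category.comp_id, Category.id_comp] at hw
    rw [g.map_comp, ← hw, ← g.map_comp, Iso.hom_inv_id, map_id' g]; rfl)
  have h₂ : βI'.hom ≫ αI'.inv = 𝟙 _ := htriv' _ (by
    have hw : g.map αI'.hom ≫ 𝟙 _ = 𝟙 _ ≫ g.map βI'.hom := o'.obj.iso.hom.hom.w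
    rw [Category.comp_id, Category.id_comp] at hw
    rw [g.map_comp, ← hw, ← g.map_comp, Iso.hom_inv_id, map_id' g]; rfl)
  refine ⟨fpHom φ (αI.inv ≫ xb.map φ ≫ αI'.hom) (fpHom_ext ?_ ?_), rfl⟩
  · show xb.map φ ≫ αI'.hom = αI.hom ≫ αI.inv ≫ xb.map φ ≫ αI'.hom
    rw [Iso.hom_inv_id_assoc]
  · show xb.map φ ≫ βI'.hom = βI.hom ≫ αI.inv ≫ xb.map φ ≫ αI'.hom
    rw [reassoc_of% h₁, (Iso.comp_inv_eq _).1 h₂, Category.id_comp]

theorem trivKer_of_geomPt (hX : IsFibGrpd 𝒳.p) {g : 𝒳 ⥤ᵇ 𝒴} (hd : IsDMMor g)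
    (hinj : ∀ (k : Type u) [Field k] [IsAlgClosed k] (s : Spec (CommRingCat.of k) ⟶ S)
        (ξ : 𝒳.obj) (_ : 𝒳.p.obj ξ = Over.mk s) (a : ξ ⟶ ξ),
        𝒳.p.IsHomLift (𝟙 (𝒳.p.obj ξ)) a → g.map a = 𝟙 (g.obj ξ) → a = 𝟙 ξ) :
    TrivKer g := by
  intro x a _ hga
  haveI := Fib44.isFibered_of_isFibGrpd 𝒳.p (h := hX)
  obtain ⟨xb, e₀, he₀, -⟩ := Fib44.exists_ofObj (𝒳 := 𝒳) (x := x) rfl
  let T := 𝒳.p.obj x
  obtain ⟨G, e, he, hP⟩ := hd T (kerTest g xb)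
  let F := fp (kerTest g xb) (diag g)
  let Φ := BasedFunctor.comp e (fpFst (kerTest g xb) (diag g))
  have hE := isEquivData_of_isEquivOver he
  have hsub : AlgSp.IsUnivInjectiveMor (spMapOfOver Φ) := univInjective_of_algClosedInj fun K _ _ str u v huv => by
    obtain ⟨m, hm⟩ := (AlgSp.yon S).map_surjective (u ≫ spMapOfOver Φ)
    let W : Over S := Over.mk str
    obtain ⟨s, rfl⟩ := (AlgSp.J S).uliftYonedaEquiv.symm.surjective u
    obtain ⟨s', rfl⟩ := (AlgSp.J S).uliftYonedaEquiv.symm.surjective v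
    have hu := (uliftYonedaEquiv_symm_comp Φ s m).1 hm.symm
    have hv := (uliftYonedaEquiv_symm_comp Φ s' m).1 (huv.symm.trans hm.symm)
    have hb : ∀ s : G.obj.obj.obj (op W), (e.obj ⟨W, s⟩).obj.fst.left = W := fun s => Φ.w_obj ⟨W, s⟩
    have htr : ∀ (o : (F).obj) (_ : o.obj.fst.left = W),
        ∀ c : xb.obj o.obj.fst ⟶ xb.obj o.obj.fst, g.map c = 𝟙 _ → c = 𝟙 _ := fun o ho c hc =>
      hinj K str (xb.obj o.obj.fst) ((xb.w_obj _).trans ho) c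
        (IsHomLift.of_fac' _ _ _ rfl rfl (by simp [p_map_eq_id g c hc])) hc
    let φ : (e.obj ⟨W, s⟩).obj.fst ⟶ (e.obj ⟨W, s'⟩).obj.fst :=
      Over.homMk (eqToHom ((hb s).trans (hb s').symm)) (by
        calc eqToHom ((hb s).trans (hb s').symm) ≫ (e.obj ⟨W, s'⟩).obj.fst.hom
            = eqToHom (hb s) ≫ secHom Φ ⟨W, s'⟩ := by simp [secHom, Φ]; rfl
          _ = eqToHom (hb s) ≫ secHom Φ ⟨W, s⟩ := by rw [hu, hv]
          _ = (e.obj ⟨W, s⟩).obj.fst.hom := by simp [secHom, Φ]; rfl)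
    obtain ⟨k, hk⟩ := exists_fp_hom_ker g xb (e.obj ⟨W, s⟩) (e.obj ⟨W, s'⟩) φ (htr _ (hb s)) (htr _ (hb s'))
    obtain ⟨ψ, hψ⟩ := hE.full k
    have h1 : ψ.hom = 𝟙 W := by
      have h2 : (e.map ψ).hom.fst.left = eqToHom (hb s) ≫ ψ.hom ≫ eqToHom (hb s').symm :=
        Functor.congr_hom Φ.w ψ
      rw [hψ, hk] at h2
      change eqToHom ((hb s).trans (hb s').symm) = _ at h2
      have h3 := congrArg (fun z => eqToHom (hb s).symm ≫ z ≫ eqToHom (hb s')) h2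
      simpa using h3.symm
    have h4 := ψ.map_sec
    rw [h1] at h4
    exact congrArg _ (((congrArg (fun z => z s') (G.obj.obj.map_id (op W))).symm.trans h4).symm)
  have hm : Mono (spMapOfOver Φ) := SpFP87.mono_of_unramified_univInjective G.property
    (AlgSp.IsAlgSpace.yon_obj T) hP hsub
  let f₀ : (overCat T).obj := Over.mk (𝟙 T)
  let xx := xb.obj f₀
  let c : xx ⟶ xx := e₀.hom ≫ a ≫ e₀.inv
  have hg : g.map c = 𝟙 _ := by
    show g.map (e₀.hom ≫ a ≫ e₀.inv) = _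
    rw [g.map_comp, g.map_comp, hga, Category.id_comp, ← g.map_comp, Iso.hom_inv_id, map_id' g]
  have hc : 𝒳.p.map c = 𝟙 _ := p_map_eq_id g c hg
  have hciso : IsIso c := by
    haveI : IsIso (𝒳.p.map c) := by rw [hc]; infer_instance
    exact fg_isIso_of_isIso_map hX c
  let d := diag g
  let i₂ : (kerTest g xb).obj f₀ ≅ d.obj xx :=
    fpObjIso (Iso.refl _) (asIso c) (by
      show g.map (𝟙 _) ≫ 𝟙 _ = 𝟙 _ ≫ g.map c
      rw [hg, Category.comp_id, Category.id_comp, map_id' g])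
  let o₁ : (F).obj := ⟨⟨f₀, xx, Iso.refl _⟩, IsHomLift.id ((kerTest g xb).w_obj f₀)⟩
  let o₂ : (F).obj := ⟨⟨f₀, xx, i₂⟩, by
    refine fp_isHomLift (g := 𝟙 ((overCat T).p.obj f₀)) _ ?_
    exact IsHomLift.id (xb.w_obj f₀)⟩
  obtain ⟨w₁, j₁, hj₁⟩ := hE.essSurj o₁
  obtain ⟨w₂, j₂, hj₂⟩ := hE.essSurj o₂
  have hv : ∀ (o : (F).obj) (ho : o.obj.fst = f₀) (w : (ofSp G.obj).obj) (j : e.obj w ≅ o),
      F.p.IsHomLift (𝟙 (F.p.obj o)) j.hom → ∃ (hT : w.base = T), secHom Φ w = eqToHom hT := by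
    intro o ho w j hj
    have hbase : (e.obj w).obj.fst.left = w.base := Φ.w_obj w
    have h2 : F.p.obj (e.obj w) = F.p.obj o := IsHomLift.domain_eq F.p (𝟙 (F.p.obj o)) j.hom
    have h3 : o.obj.fst.left = T := congrArg (fun z : Over T => z.left) ho
    refine ⟨hbase.symm.trans (h2.trans h3), ?_⟩
    have h4 : j.hom.hom.fst.left = eqToHom h2 ≫ 𝟙 _ ≫ eqToHom rfl := IsHomLift.fac' F.p (𝟙 (F.p.obj o)) j.hom
    have h5 : j.hom.hom.fst.left ≫ o.obj.fst.hom = (e.obj w).obj.fst.hom := Over.w j.hom.hom.fst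
    rw [h4] at h5
    show eqToHom hbase.symm ≫ (e.obj w).obj.fst.hom = _
    rw [← h5]
    obtain ⟨⟨of, ow, oi⟩, _⟩ := o
    subst ho
    simp; rfl
  obtain ⟨hb₁, hs₁⟩ := hv o₁ rfl w₁ j₁ hj₁
  obtain ⟨hb₂, hs₂⟩ := hv o₂ rfl w₂ j₂ hj₂
  obtain ⟨b₁, s₁⟩ := w₁
  obtain ⟨b₂, s₂⟩ := w₂
  change b₁ = T at hb₁
  change b₂ = T at hb₂
  subst hb₁ hb₂
  have hs : s₁ = s₂ := (AlgSp.J S).uliftYonedaEquiv.symm.injective ((cancel_mono (spMapOfOver Φ)).1
    (((uliftYonedaEquiv_symm_comp Φ s₁ (𝟙 T)).2 hs₁).trans ((uliftYonedaEquiv_symm_comp Φ s₂ (𝟙 T)).2 hs₂).symm))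
  subst hs
  let k : o₁ ⟶ o₂ := j₁.inv ≫ j₂.hom
  have hkl : F.p.IsHomLift (𝟙 T) k := by
    haveI : F.p.IsHomLift (𝟙 T) j₁.hom := hj₁
    haveI : F.p.IsHomLift (𝟙 T) j₁.inv := IsHomLift.lift_id_inv _ _ j₁
    haveI : F.p.IsHomLift (𝟙 T) j₂.hom := hj₂
    exact IsHomLift.comp_of_lift_id (p := F.p) T j₁.inv j₂.hom
  have hk : k.hom.fst = 𝟙 f₀ := Over.OverMorphism.ext ((IsHomLift.fac' F.p (𝟙 T) k).trans (by simp; rfl))
  have hw₁ : xb.map k.hom.fst ≫ 𝟙 xx = 𝟙 xx ≫ k.hom.snd := congrArg (fun t => t.hom.fst) k.hom.w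
  have hw₂ : xb.map k.hom.fst ≫ c = 𝟙 xx ≫ k.hom.snd := congrArg (fun t => t.hom.snd) k.hom.w
  rw [hk, xb.map_id] at hw₁ hw₂
  have hc1 : c = 𝟙 xx := (Category.id_comp c).symm.trans ((hw₂.trans hw₁.symm).trans (Category.id_comp _))
  have : a = e₀.inv ≫ c ≫ e₀.hom := by simp [c]
  rw [this, hc1, Category.id_comp, Iso.inv_hom_id]


end Groth.Agent.AlgSt88
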