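import Groth.Agent.AlgSt88.Rep
import Groth.Agent.AlgSt88.Fibred

/-! Setoid consequences of representability. -/

set_option autoImplicit false
set_option backward.isDefEq.respectTransparency false
set_option backward.isDefEq.respectTransparency.types false
universe w₂ v₂ w v u

open CategoryTheory CategoryTheory.Limits AlgebraicGeometry AlgSt FibCat

namespace Groth.Agent.AlgSt88

variable {S : Scheme.{u}} {𝒳 : BasedCategory.{v, w} (Over S)} {𝒴 : BasedCategory.{v₂, w₂} (Over S)}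

/-- Parallel morphisms with equal images in the base agree. -/
theorem hom_ext_of_repByAlgSp (h : RepByAlgSp 𝒳) {x y : 𝒳.obj} {f g : x ⟶ y}
    (hp : 𝒳.p.map f = 𝒳.p.map g) : f = g := by
  obtain ⟨F, e, he⟩ := h
  obtain ⟨G, hG, -, -⟩ := isEquivOver_inverse he
  refine (isEquivData_of_isEquivOver hG).faithful f g (Stk.EltObj.hom_ext ?_)
  change (ofSp F.obj).p.map (G.map f) = (ofSp F.obj).p.map (G.map g)
  rw [p_map_eq, p_map_eq, hp]

theorem isFibSetoid_of_repByAlgSp (hX : IsFibGrpd 𝒳.p) (h : RepByAlgSp 𝒳) : IsFibSetoid 𝒳.p := by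
  refine ⟨hX, fun U a b => ⟨fun f g => Subtype.ext (hom_ext_of_repByAlgSp h ?_)⟩⟩
  obtain ⟨f, hf⟩ := f
  obtain ⟨g, hg⟩ := g
  exact (IsHomLift.fac' 𝒳.p (𝟙 U) f).trans (IsHomLift.fac' 𝒳.p (𝟙 U) g).symm

theorem faithful_of_repByAlgSp1 (hX : IsFibGrpd 𝒳.p) (hY : IsFibGrpd 𝒴.p) {f : 𝒳 ⥤ᵇ 𝒴} (hf : RepByAlgSp1 f) :
    f.toFunctor.Faithful := by
  have key : ∀ (x : 𝒳.obj) (χ : x ⟶ x), 𝒳.p.map χ = 𝟙 _ → f.map χ = 𝟙 _ → χ = 𝟙 x := by
    intro x χ hp hχ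
    obtain ⟨e, he⟩ := classify_mk_id hY (f.obj x) (f.w_obj x)
    let y := classify hY (f.obj x) (f.w_obj x)
    let o : (fp y f).obj := ⟨⟨Over.mk (𝟙 (𝒳.p.obj x)), x, e⟩, he⟩
    let a : o ⟶ o := fpHom (𝟙 _) χ (by rw [y.map_id, hχ, Category.id_comp, Category.comp_id])
    have := hom_ext_of_repByAlgSp (hf (𝒳.p.obj x) y) (f := a) (g := 𝟙 o) rfl
    exact congrArg (fun t => t.hom.snd) this
  refine ⟨fun {x x'} φ φ' h => ?_⟩
  have hp : 𝒳.p.map φ = 𝒳.p.map φ' := by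
    have h' : 𝒴.p.map (f.map φ) = 𝒴.p.map (f.map φ') := congrArg (fun t => 𝒴.p.map t) h
    rw [p_map_eq f φ, p_map_eq f φ', cancel_epi, cancel_mono] at h'
    exact h'
  obtain ⟨χ, hχ1, hχ2⟩ := fg_exists_fac hX φ' φ (𝟙 _) ((Category.id_comp _).trans hp.symm)
  have hfχ : f.map χ = 𝟙 _ := by
    refine fg_hom_ext hY (f.map φ') ?_ ?_
    · rw [p_map_eq, hχ1]; simp
    · rw [← f.map_comp, hχ2, Category.id_comp]; exact h
  rw [← hχ2, key x χ hχ1 hfχ, Category.id_comp]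

end Groth.Agent.AlgSt88
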