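import Groth.Agent.AlgSt88.PointsCmp
import Groth.Agent.SpFP87.OpenMor
import Groth.Agent.SpPts86.Basic

/-! The topology on the points of an algebraic stack. -/

set_option autoImplicit false
set_option maxHeartbeats 1000000
set_option linter.style.haveILetI false
set_option linter.unusedVariables false
set_option backward.isDefEq.respectTransparency false
set_option backward.isDefEq.respectTransparency.types false
universe u

open CategoryTheory CategoryTheory.Limits AlgebraicGeometry Opposite AlgSt FibCat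

namespace Groth.Agent.AlgSt88

variable {S : Scheme.{u}} {𝒳 𝒴 : AlgSt.Cat S}

theorem ofChart_eq {T : Over S} (x : overCat T ⥤ᵇ 𝒳) (t : ↥T.left) :
    Points.ofChart x t = Points.map (BasedFunctor.comp (toOverCat T) x)
      (stPt ((AlgSp.yon S).obj T) (AlgSp.Points.ofScheme T t)) := rfl

/-- A 2-fibre product of two algebraic spaces over a stack, on points. -/
theorem exists_space_pair (hX : IsFibGrpd 𝒳.p) {T U : AlgSp.Space S} (x : ofSp T.obj ⥤ᵇ 𝒳) (u : ofSp U.obj ⥤ᵇ 𝒳)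
    (hu : RepByAlgSp1 u) :
    ∃ (F : AlgSp.Space S) (p : F.obj ⟶ T.obj) (q : F.obj ⟶ U.obj),
      (∀ φ : AlgSp.Points F.obj, Points.map x (stPt _ (AlgSp.Points.map p φ)) =
        Points.map u (stPt _ (AlgSp.Points.map q φ))) ∧
      (∀ (τ : AlgSp.Points T.obj) (υ : AlgSp.Points U.obj), Points.map x (stPt _ τ) = Points.map u (stPt _ υ) →
        ∃ φ, AlgSp.Points.map p φ = τ ∧ AlgSp.Points.map q φ = υ) ∧
      ∀ (Q : MorphismProperty (AlgSp.Sp S)), Q.RespectsIso → SpaceDescends Q → RepByAlgSpWith Q u → Q p := by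
  have hT := Stk.isFibGrpd_ofPsh T.obj.obj
  have hU := Stk.isFibGrpd_ofPsh U.obj.obj
  obtain ⟨F, p, e, he, ⟨αp⟩, hQ⟩ := exists_space_fp hU hX hu T x
  obtain ⟨αq⟩ := exists_hom_iso (BasedFunctor.comp e (fpSnd x u))
  let q := homOfBased (BasedFunctor.comp e (fpSnd x u))
  refine ⟨F, p, q, fun φ => ?_, fun τ υ h => ?_, fun Q hQi hQd hQu => hQd F T p (hQ Q hQi hQu)⟩
  · rw [← stPt_natural p, ← stPt_natural q, ← points_map_congr αp, ← points_map_congr αq, ← points_map_comp,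
      ← points_map_comp]
    exact points_map_congr (bLeft e (fpIso x u)) _
  · obtain ⟨w, hw₁, hw₂⟩ := exists_points_fp hX hU hT u x (stPt _ τ) (stPt _ υ) h
    obtain ⟨w', rfl⟩ := (points_map_bijective he).2 w
    obtain ⟨φ, rfl⟩ := stPt_bijective.2 w'
    refine ⟨φ, stPt_bijective.1 ?_, stPt_bijective.1 ?_⟩
    · rw [← stPt_natural p, ← points_map_congr αp, points_map_comp]
      exact hw₁
    · rw [← stPt_natural q, ← points_map_congr αq, points_map_comp]
      exact hw₂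

theorem isOpenMap_of_smooth {F G : AlgSp.Space S} {a : F.obj ⟶ G.obj} (h : AlgSp.LocP @Smooth a) :
    IsOpenMap (AlgSp.Points.map a) :=
  SpFP87.isOpenMap_of_locP_flat_lfp F.property G.property (flat_of_smooth' h) (lfp_of_smooth' h)

/-- Every chart of an algebraic stack is continuous. -/
theorem continuous_ofChart (h𝒳 : IsAlgStack Scheme.fppfPrecoverage 𝒳) {T : Over S} (x : overCat T ⥤ᵇ 𝒳) :
    Continuous (Points.ofChart x) := by
  rw [continuous_def]
  intro W hW
  obtain ⟨V, v, hv, hv'⟩ := h𝒳.atlas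
  have hX := h𝒳.isStack.1
  let v' : ofSch V ⥤ᵇ 𝒳 := BasedFunctor.comp (toOverCat V) v
  let x' : ofSch T ⥤ᵇ 𝒳 := BasedFunctor.comp (toOverCat T) x
  have hv₁ : Sm v' := (repByAlgSpWith_precomp_equiv (isEquivOver_toOverCat V)).2 hv
  have hv₂ : Sj v' := (repByAlgSpWith_precomp_equiv (isEquivOver_toOverCat V)).2 hv'
  obtain ⟨F, p, q, hpq, -, hQ⟩ := exists_space_pair hX (T := ⟨_, AlgSp.IsAlgSpace.yon_obj T⟩)
    (U := ⟨_, AlgSp.IsAlgSpace.yon_obj V⟩) x' v' (repByAlgSp1_of_with hv₁)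
  have hp := hQ _ (respectsIso_locP _) (spaceDescends_locP _) hv₁
  have hps := hQ _ respectsIso_surj spaceDescends_surj hv₂
  let AT : Set (AlgSp.Points ((AlgSp.yon S).obj T)) := {τ | Points.map x' (stPt _ τ) ∈ W}
  let AV : Set (AlgSp.Points ((AlgSp.yon S).obj V)) := {υ | Points.map v' (stPt _ υ) ∈ W}
  have hAV : IsOpen AV := (AlgSp.Points.schemeHomeo V).isOpen_preimage.1 (hW V v hv)
  have e : AT = AlgSp.Points.map p '' (AlgSp.Points.map q ⁻¹' AV) := by
    ext τ
    constructor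
    · intro hτ
      obtain ⟨φ, rfl⟩ := hps τ
      refine ⟨φ, ?_, rfl⟩
      show Points.map v' (stPt _ _) ∈ W
      rw [← hpq φ]
      exact hτ
    · rintro ⟨φ, hφ, rfl⟩
      show Points.map x' (stPt _ _) ∈ W
      rw [hpq φ]
      exact hφ
  have hAT : IsOpen AT := e ▸ isOpenMap_of_smooth (F := F) (G := ⟨_, AlgSp.IsAlgSpace.yon_obj T⟩) hp _
    (hAV.preimage (AlgSp.Points.continuous_map q))
  exact (AlgSp.Points.schemeHomeo T).isOpen_preimage.2 hAT

theorem continuous_map (h𝒴 : IsAlgStack Scheme.fppfPrecoverage 𝒴) (f : 𝒳 ⥤ᵇ 𝒴) : Continuous (Points.map f) := by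
  rw [continuous_def]
  exact fun W hW U x hx => (continuous_ofChart h𝒴 (BasedFunctor.comp x f)).isOpen_preimage W hW

/-- The points of an algebraic space and of its stack are homeomorphic. -/
theorem isHomeomorph_stPt (F : AlgSp.Space S) : IsHomeomorph (stPt F.obj) := by
  refine ⟨?_, ?_, stPt_bijective⟩
  · rw [continuous_def]
    intro W hW
    refine AlgSp.Points.isOpen_iff.2 fun T g => ?_
    have hid : BasedFunctor.comp (toOverCat T) (ofOverCat T) ≅ BasedFunctor.id (ofSch T) :=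
      BasedNatIso.mkNatIso (NatIso.ofComponents (fun a => Iso.refl _)
        (fun {a b} f => Stk.EltObj.hom_ext ((Category.comp_id _).trans (Category.id_comp _).symm)))
        (fun a => IsHomLift.id rfl)
    have e : Points.ofChart (BasedFunctor.comp (ofOverCat T) (ofSpMap g)) = stPt F.obj ∘ AlgSp.Points.ofPt g := by
      funext t
      rw [ofChart_eq]
      refine (points_map_congr (bRight hid (ofSpMap g)) _).trans ?_
      rw [Function.comp_apply, AlgSp.Points.ofPt_eq_map_ofScheme g t, ← stPt_natural]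
      rfl
    have := (continuous_ofChart (isDM_ofSp F).1 (BasedFunctor.comp (ofOverCat T) (ofSpMap g))).isOpen_preimage W hW
    rw [e] at this
    exact this
  · intro A hA T x hx
    obtain ⟨γ⟩ := exists_hom_iso (BasedFunctor.comp (toOverCat T) x)
    let g := homOfBased (BasedFunctor.comp (toOverCat T) x)
    have e : Points.ofChart x = stPt F.obj ∘ AlgSp.Points.ofPt g := by
      funext t
      rw [ofChart_eq, points_map_congr γ, stPt_natural, Function.comp_apply, AlgSp.Points.ofPt_eq_map_ofScheme g t]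
    rw [e, Set.preimage_comp, Set.preimage_image_eq _ stPt_bijective.1]
    exact AlgSp.Points.isOpen_iff.1 hA T g

/-- Flat and locally finitely presented maps from algebraic spaces are open. -/
theorem isOpenMap_of_flat_lfp (hX : IsFibGrpd 𝒳.p) {U : AlgSp.Space S} (u : ofSp U.obj ⥤ᵇ 𝒳)
    (hu₁ : RepByAlgSpWith (AlgSp.LocP @Flat) u) (hu₂ : RepByAlgSpWith (AlgSp.LocP @LocallyOfFinitePresentation) u) :
    IsOpenMap (Points.map u) := by
  intro A hA T x hx
  let x' : ofSch T ⥤ᵇ 𝒳 := BasedFunctor.comp (toOverCat T) x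
  obtain ⟨F, p, q, hpq, hlift, hQ⟩ := exists_space_pair hX (T := ⟨_, AlgSp.IsAlgSpace.yon_obj T⟩) x' u
    (repByAlgSp1_of_with hu₁)
  have hp : IsOpenMap (AlgSp.Points.map p) := SpFP87.isOpenMap_of_locP_flat_lfp F.property
    (AlgSp.IsAlgSpace.yon_obj T) (hQ _ (respectsIso_locP _) (spaceDescends_locP _) hu₁)
    (hQ _ (respectsIso_locP _) (spaceDescends_locP _) hu₂)
  have hA' : IsOpen (stPt U.obj ⁻¹' A) := hA.preimage (isHomeomorph_stPt U).continuous
  have e : Points.ofChart x ⁻¹' (Points.map u '' A) = AlgSp.Points.ofScheme T ⁻¹'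
      (AlgSp.Points.map p '' (AlgSp.Points.map q ⁻¹' (stPt U.obj ⁻¹' A))) := by
    ext t
    constructor
    · rintro ⟨a, ha, h⟩
      obtain ⟨υ, rfl⟩ := stPt_bijective.2 a
      obtain ⟨φ, h1, h2⟩ := hlift (AlgSp.Points.ofScheme T t) υ h.symm
      exact ⟨φ, by show stPt _ _ ∈ A; rw [h2]; exact ha, h1⟩
    · rintro ⟨φ, hφ, h⟩
      refine ⟨_, hφ, ?_⟩
      rw [← hpq φ, h]
      rfl
  rw [e]
  exact (hp _ (hA'.preimage (AlgSp.Points.continuous_map q))).preimage (AlgSp.Points.schemeHomeo T).continuous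

/-- The image of a smooth scheme chart is open, and the chart is an open map. -/
theorem isOpenMap_ofChart (hX : IsFibGrpd 𝒳.p) {T : Over S} (x : overCat T ⥤ᵇ 𝒳)
    (h1 : RepByAlgSpWith (AlgSp.LocP @Flat) x) (h2 : RepByAlgSpWith (AlgSp.LocP @LocallyOfFinitePresentation) x) :
    IsOpenMap (Points.ofChart x) :=
  ((isOpenMap_of_flat_lfp hX (U := ⟨_, AlgSp.IsAlgSpace.yon_obj T⟩) (BasedFunctor.comp (toOverCat T) x)
      ((repByAlgSpWith_precomp_equiv (isEquivOver_toOverCat T)).2 h1)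
      ((repByAlgSpWith_precomp_equiv (isEquivOver_toOverCat T)).2 h2)).comp
    ((isHomeomorph_stPt ⟨_, AlgSp.IsAlgSpace.yon_obj T⟩).isOpenMap)).comp (AlgSp.Points.schemeHomeo T).isOpenMap

/-- Openness is tested on one flat, locally finitely presented surjection. -/
theorem isOpen_iff_of_flat_lfp_surj (h𝒳 : IsAlgStack Scheme.fppfPrecoverage 𝒳) {U : AlgSp.Space S}
    (u : ofSp U.obj ⥤ᵇ 𝒳) (hu₁ : RepByAlgSpWith (AlgSp.LocP @Flat) u)
    (hu₂ : RepByAlgSpWith (AlgSp.LocP @LocallyOfFinitePresentation) u) (hu₃ : IsSurjective u) (W : Set (Points 𝒳)) :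
    IsOpen W ↔ IsOpen (Points.map u ⁻¹' W) :=
  ⟨fun h => h.preimage (continuous_map h𝒳 u), fun h => by
    have := isOpenMap_of_flat_lfp h𝒳.isStack.1 u hu₁ hu₂ _ h
    rwa [Set.image_preimage_eq _ hu₃] at this⟩

theorem surjective_ofChart (hX : IsFibGrpd 𝒳.p) {T : Over S} (x : overCat T ⥤ᵇ 𝒳) (hx : Sj x) :
    Function.Surjective (Points.ofChart x) := fun y => by
  obtain ⟨w, rfl⟩ := isSurjective_of_sj hX
    ((repByAlgSpWith_precomp_equiv (isEquivOver_toOverCat T)).2 hx) y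
  obtain ⟨τ, rfl⟩ := stPt_bijective.2 w
  obtain ⟨t, rfl⟩ := (AlgSp.Points.schemeHomeo T).surjective τ
  exact ⟨t, rfl⟩

theorem exists_isOpen_isCompact_nhd (h𝒳 : IsAlgStack Scheme.fppfPrecoverage 𝒳) (x : Points 𝒳) (W : Set (Points 𝒳))
    (hW : IsOpen W) (hx : x ∈ W) : ∃ V : Set (Points 𝒳), IsOpen V ∧ IsCompact V ∧ x ∈ V ∧ V ⊆ W := by
  obtain ⟨U, u, hu, hu'⟩ := h𝒳.atlas
  have hX := h𝒳.isStack.1
  obtain ⟨t, rfl⟩ := surjective_ofChart hX u hu' x
  obtain ⟨A, hA, htA, hAW⟩ := exists_isAffineOpen_mem_and_subset (X := U.left)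
    (U := ⟨Points.ofChart u ⁻¹' W, hW U u hu⟩) (x := t) hx
  refine ⟨Points.ofChart u '' (A : Set U.left), ?_, hA.isCompact.image (continuous_ofChart h𝒳 u), ⟨t, htA, rfl⟩, ?_⟩
  · exact isOpenMap_ofChart hX u (rep_flat_of_sm hu) (rep_lfp_of_sm hu) _ A.isOpen
  · rintro _ ⟨s, hs, rfl⟩
    exact hAW hs

end Groth.Agent.AlgSt88
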