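import Groth.Agent.AlgSt88.StackRep
import Groth.Agent.AlgSt88.Top
import Groth.Agent.SpFP87.Basic

/-! Open substacks and open sets of points. -/

set_option autoImplicit false
set_option maxHeartbeats 1000000
set_option linter.style.haveILetI false
set_option backward.isDefEq.respectTransparency false
set_option backward.isDefEq.respectTransparency.types false
universe u

open CategoryTheory CategoryTheory.Limits AlgebraicGeometry Opposite AlgSt FibCat

namespace Groth.Agent.AlgSt88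

variable {S : Scheme.{u}} {𝒳 : AlgSt.Cat S}

theorem map_yon_ofScheme {T T' : Over S} (φ : T ⟶ T') (t : ↥T.left) :
    AlgSp.Points.map ((AlgSp.yon S).map φ) (AlgSp.Points.ofScheme T t) = AlgSp.Points.ofScheme T' (φ.left t) := by
  rw [← AlgSp.Points.ofPt_eq_map_ofScheme, SpPts86.ofPt_yon_map]

theorem fullSub_isHomLift_iff {Q : 𝒳.obj → Prop} {x y : (fullSub 𝒳 Q).obj} {R T : Over S} (g : R ⟶ T) (φ : x ⟶ y) :
    (fullSub 𝒳 Q).p.IsHomLift g φ ↔ 𝒳.p.IsHomLift g φ.hom := by
  constructor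
  · intro h
    exact IsHomLift.of_fac' 𝒳.p g φ.hom (IsHomLift.domain_eq (fullSub 𝒳 Q).p g φ)
      (IsHomLift.codomain_eq (fullSub 𝒳 Q).p g φ) (IsHomLift.fac' (fullSub 𝒳 Q).p g φ)
  · intro h
    exact IsHomLift.of_fac' (fullSub 𝒳 Q).p g φ (IsHomLift.domain_eq 𝒳.p g φ.hom)
      (IsHomLift.codomain_eq 𝒳.p g φ.hom) (IsHomLift.fac' 𝒳.p g φ.hom)

theorem isFibGrpd_fullSub (hX : IsFibGrpd 𝒳.p) {Q : 𝒳.obj → Prop} (hQ : ∀ {x y : 𝒳.obj}, (y ⟶ x) → Q x → Q y) :
    IsFibGrpd (fullSub 𝒳 Q).p where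
  exists_lift := fun {x} {V} f => by
    obtain ⟨y, φ, hφ⟩ := hX.exists_lift f
    let y' : (fullSub 𝒳 Q).obj := ⟨y, hQ φ x.property⟩
    let φ' : y' ⟶ x := ObjectProperty.homMk φ
    exact ⟨y', φ', (fullSub_isHomLift_iff f φ').2 hφ⟩
  isStronglyCartesian := fun {y x} φ =>
    { universal_property' := fun {a'} g φ' hφ' => by
        haveI := hX.isStronglyCartesian φ.hom
        haveI : 𝒳.p.IsHomLift (g ≫ 𝒳.p.map φ.hom) φ'.hom := (fullSub_isHomLift_iff _ φ').1 hφ'
        obtain ⟨χ, ⟨h1, h2⟩, huniq⟩ := Functor.IsStronglyCartesian.universal_property' (p := 𝒳.p)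
          (f := 𝒳.p.map φ.hom) (φ := φ.hom) g φ'.hom
        refine ⟨ObjectProperty.homMk χ, ⟨(fullSub_isHomLift_iff _ (ObjectProperty.homMk χ)).2 h1,
          ObjectProperty.hom_ext _ h2⟩, ?_⟩
        rintro ψ ⟨h3, h4⟩
        exact ObjectProperty.hom_ext _ (huniq ψ.hom ⟨(fullSub_isHomLift_iff _ ψ).1 h3,
          congrArg (fun t => t.hom) h4⟩) }

/-- A field-valued point mapping to a value of a chart is the image of a point of the chart. -/
theorem mk_eq_ofChart (hX : IsFibGrpd 𝒳.p) {U : Over S} (x : overCat U ⥤ᵇ 𝒳) (a : Over U) (p : FPt 𝒳)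
    (g : p.obj ⟶ x.obj a) :
    Points.mk p = Points.ofChart x
      (((eqToHom p.lies.symm ≫ 𝒳.p.map g ≫ eqToHom (x.w_obj a)) ≫ a.hom).left
        (IsLocalRing.closedPoint p.K)) := by
  let v : Over.mk p.str ⟶ a.left := eqToHom p.lies.symm ≫ 𝒳.p.map g ≫ eqToHom (x.w_obj a)
  let b : Over U := Over.mk (v ≫ a.hom)
  let ψ : b ⟶ a := Over.homMk v rfl
  have hb : 𝒳.p.obj p.obj = 𝒳.p.obj (x.obj b) := p.lies.trans (x.w_obj b).symm
  obtain ⟨χ, -, -⟩ := fg_exists_fac hX (x.map ψ) g (eqToHom hb) (by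
    rw [p_map_eq]
    change eqToHom hb ≫ eqToHom (x.w_obj b) ≫ v ≫ eqToHom (x.w_obj a).symm = _
    simp [v])
  let m : Spec (CommRingCat.of p.K) ⟶ U.left := (v ≫ a.hom).left
  have key := Scheme.descResidueField_stalkClosedPointTo_fromSpecResidueField p.K U.left m
  let t := m (IsLocalRing.closedPoint p.K)
  let r : Over.mk p.str ⟶ Over.mk (U.left.fromSpecResidueField t ≫ U.hom) :=
    Over.homMk (Spec.map (U.left.descResidueField (K := p.K) (Scheme.stalkClosedPointTo m)))
      (((Category.assoc _ _ _).symm.trans (congrArg (· ≫ U.hom) key)).trans (Over.w (v ≫ a.hom)))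
  let μ : b ⟶ Over.mk (Over.homMk (U.left.fromSpecResidueField t) rfl :
      Over.mk (U.left.fromSpecResidueField t ≫ U.hom) ⟶ U) :=
    Over.homMk r (Over.OverMorphism.ext key)
  exact Points.sound ⟨p, 𝟙 _, χ ≫ x.map μ, trivial⟩

/-- The objects all of whose points lie in a set of points. -/
def InPts (W : Set (Points 𝒳)) (y : 𝒳.obj) : Prop := ∀ p : FPt 𝒳, (p.obj ⟶ y) → Points.mk p ∈ W

theorem inPts_of_hom {W : Set (Points 𝒳)} {x y : 𝒳.obj} (g : y ⟶ x) (h : InPts W x) : InPts W y :=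
  fun p k => h p (k ≫ g)

theorem inPts_iso (W : Set (Points 𝒳)) : ObjectProperty.IsClosedUnderIsomorphisms (InPts W) :=
  ⟨fun e h => inPts_of_hom e.inv h⟩

theorem range_subIncl_inPts (W : Set (Points 𝒳)) :
    Set.range (Points.map (subIncl 𝒳 (InPts W))) = W := by
  ext z
  constructor
  · rintro ⟨w, rfl⟩
    obtain ⟨q, rfl⟩ := Points.mk_surjective w
    exact q.obj.property (q.map (subIncl 𝒳 (InPts W))) (𝟙 _)
  · intro hz
    obtain ⟨p, rfl⟩ := Points.mk_surjective z
    have hp : InPts W p.obj := fun p' g => by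
      rw [Points.sound (p := p') (q := p) ⟨p', 𝟙 _, g, trivial⟩]
      exact hz
    exact ⟨Points.mk { K := p.K, str := p.str, obj := ⟨p.obj, hp⟩, lies := p.lies }, rfl⟩

theorem rep_inPts_of_continuous (hX : IsFibGrpd 𝒳.p)
    (hc : ∀ {U : Over S} (x : overCat U ⥤ᵇ 𝒳), Continuous (Points.ofChart x)) {W : Set (Points 𝒳)} (hW : IsOpen W) :
    IsOpenImm (subIncl 𝒳 (InPts W)) := by
  intro U x
  let V : U.left.Opens := ⟨Points.ofChart x ⁻¹' W, hW.preimage (hc x)⟩
  let V' : Over S := Over.mk (V.ι ≫ U.hom)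
  let j : V' ⟶ U := Over.homMk V.ι rfl
  haveI : Mono j := (Over.forget S).mono_of_mono_map (inferInstanceAs (Mono V.ι))
  have hb : ∀ b : Over V', InPts W (x.obj ((overMap j).obj b)) := fun b p g => by
    rw [mk_eq_ofChart hX x ((overMap j).obj b) p g]
    exact ((eqToHom p.lies.symm ≫ 𝒳.p.map g ≫ eqToHom (x.w_obj ((overMap j).obj b))) ≫ b.hom).left
      (IsLocalRing.closedPoint p.K) |>.property
  let Ψ : overCat V' ⥤ᵇ fullSub 𝒳 (InPts W) :=
    { toFunctor :=
        { obj := fun b => ⟨x.obj ((overMap j).obj b), hb b⟩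
          map := fun k => ObjectProperty.homMk (x.map ((overMap j).map k))
          map_id := fun b => ObjectProperty.hom_ext _ ((congrArg x.map ((overMap j).map_id b)).trans (x.map_id _))
          map_comp := fun k k' => ObjectProperty.hom_ext _
            ((congrArg x.map ((overMap j).map_comp k k')).trans (x.map_comp _ _)) }
      w := (BasedFunctor.comp (overMap j) x).w }
  let Φ : overCat V' ⥤ᵇ fp x (subIncl 𝒳 (InPts W)) := fpLift (overMap j) Ψ (Iso.refl _)
  have hΦ : IsEquivOver Φ := by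
    refine IsEquivData.isEquivOver ⟨?_, ?_, ?_⟩
    · intro b b' k k' h
      have h' : (overMap j).map k = (overMap j).map k' := congrArg (fun t => t.hom.fst) h
      exact Over.OverMorphism.ext (show k.left = k'.left from congrArg (fun t => t.left) h')
    · intro b b' k
      have hk : k.hom.fst.left ≫ b'.hom = b.hom := by
        rw [← cancel_mono j, Category.assoc]
        exact Over.w k.hom.fst
      refine ⟨Over.homMk k.hom.fst.left hk, fpHom_ext (Over.OverMorphism.ext rfl) (ObjectProperty.hom_ext _ ?_)⟩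
      have hw : x.map k.hom.fst ≫ 𝟙 _ = 𝟙 _ ≫ k.hom.snd.hom := k.hom.w
      rw [Category.comp_id, Category.id_comp] at hw
      refine Eq.trans ?_ hw
      exact congrArg x.map (Over.OverMorphism.ext rfl)
    · intro z
      let a : Over U := z.obj.fst
      have ha : InPts W (x.obj a) := inPts_of_hom z.obj.iso.hom z.obj.snd.property
      have hr : Set.range a.hom.left ⊆ Set.range V.ι := by
        rintro _ ⟨t, rfl⟩
        rw [Scheme.Opens.range_ι]
        let m : Over.mk (a.left.left.fromSpecResidueField t ≫ a.left.hom) ⟶ a.left :=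
          Over.homMk (a.left.left.fromSpecResidueField t) rfl
        let b : Over U := Over.mk (m ≫ a.hom)
        let p : FPt 𝒳 := { K := ↥(a.left.left.residueField t)
                           str := a.left.left.fromSpecResidueField t ≫ a.left.hom
                           obj := x.obj b
                           lies := x.w_obj b }
        let g : p.obj ⟶ x.obj a := x.map (Over.homMk m rfl : b ⟶ a)
        have h1 := ha p g
        rw [mk_eq_ofChart hX x a p g] at h1
        have e : eqToHom p.lies.symm ≫ 𝒳.p.map g ≫ eqToHom (x.w_obj a) = m := by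
          simp only [g, p_map_eq]
          change eqToHom _ ≫ (eqToHom _ ≫ m ≫ eqToHom _) ≫ eqToHom _ = m
          simp
        rw [e] at h1
        have e2 : (m ≫ a.hom).left (IsLocalRing.closedPoint p.K) = a.hom.left t :=
          congrArg a.hom.left (Scheme.fromSpecResidueField_apply _ _)
        rw [e2] at h1
        exact h1
      let l : a.left.left ⟶ V.toScheme := IsOpenImmersion.lift V.ι a.hom.left hr
      have hl : l ≫ V.ι = a.hom.left := IsOpenImmersion.lift_fac _ _ hr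
      let l' : a.left ⟶ V' := Over.homMk l (by
        change l ≫ V.ι ≫ U.hom = a.left.hom
        rw [← Category.assoc, hl]
        exact Over.w a.hom)
      let e₁ : (overMap j).obj (Over.mk l') ≅ a := Over.isoMk (Iso.refl _) ((Category.id_comp _).trans
        (Over.OverMorphism.ext hl).symm)
      let e₂ : (Ψ.obj (Over.mk l')) ≅ z.obj.snd :=
        (ObjectProperty.fullyFaithfulι _).preimageIso (x.toFunctor.mapIso e₁ ≪≫ z.obj.iso)
      have he₂ : e₂.hom.hom = x.map e₁.hom ≫ z.obj.iso.hom :=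
        (ObjectProperty.fullyFaithfulι (InPts W)).map_preimage (X := Ψ.obj (Over.mk l')) (Y := z.obj.snd)
          (x.map e₁.hom ≫ z.obj.iso.hom)
      refine ⟨Over.mk l', fpObjIso e₁ e₂ ?_, fp_isHomLift _ ?_⟩
      · change x.map e₁.hom ≫ z.obj.iso.hom = 𝟙 _ ≫ e₂.hom.hom
        rw [he₂]
        exact (Category.id_comp _).symm
      · exact IsHomLift.of_fac' (overCat U).p _ _ rfl rfl
          (show 𝟙 a.left = 𝟙 _ ≫ 𝟙 _ ≫ 𝟙 _ by simp)
  refine ⟨⟨_, AlgSp.IsAlgSpace.yon_obj V'⟩, BasedFunctor.comp (toOverCat V') Φ,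
    isEquivOver_comp (isEquivOver_toOverCat V') hΦ, ?_⟩
  obtain ⟨ι⟩ := toOver_overMap j
  have h : spMapOfOver (BasedFunctor.comp (BasedFunctor.comp (toOverCat V') Φ) (fpFst x (subIncl 𝒳 (InPts W)))) =
      spMapOfOver (BasedFunctor.comp (ofSpMap ((AlgSp.yon S).map j)) (toOverCat U)) := spMapOfOver_congr ι
  rw [h, spMapOfOver_comp, spMapOfOver_toOverCat, homOfBased_ofSpMap, Category.comp_id]
  exact (AlgSp.repWith_yon_map_iff _ _).2 (inferInstanceAs (IsOpenImmersion V.ι))

theorem rep_inPts (h𝒳 : IsAlgStack Scheme.fppfPrecoverage 𝒳) {W : Set (Points 𝒳)} (hW : IsOpen W) :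
    IsOpenImm (subIncl 𝒳 (InPts W)) :=
  rep_inPts_of_continuous h𝒳.isStack.1 (fun x => continuous_ofChart h𝒳 x) hW

theorem isOpenSubstack_inPts (h𝒳 : IsAlgStack Scheme.fppfPrecoverage 𝒳) {W : Set (Points 𝒳)} (hW : IsOpen W) :
    IsOpenSubstack 𝒳 (InPts W) Scheme.fppfPrecoverage :=
  ⟨inPts_iso W, isAlgStack_of_repByAlgSp1 (isFibGrpd_fullSub h𝒳.isStack.1 fun g h => inPts_of_hom g h) h𝒳
    (repByAlgSp1_of_with (rep_inPts h𝒳 hW)), rep_inPts h𝒳 hW⟩

/-- An open substack consists of the objects all of whose points lie in it. -/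
theorem openSubstack_eq_inPts (h𝒳 : IsAlgStack Scheme.fppfPrecoverage 𝒳) {Q : 𝒳.obj → Prop}
    (hQ : IsOpenSubstack 𝒳 Q Scheme.fppfPrecoverage) :
    Q = InPts (Set.range (Points.map (subIncl 𝒳 Q))) := by
  obtain ⟨hiso, hA, himm⟩ := hQ
  haveI := hiso
  have hX := h𝒳.isStack.1
  funext y
  refine propext ⟨fun hy p g => ?_, fun hy => ?_⟩
  · obtain ⟨q, hq, φ, hφ⟩ := fg_exists_lift hA.isStack.1 (x := (⟨y, hy⟩ : (fullSub 𝒳 Q).obj))
      (eqToHom p.lies.symm ≫ 𝒳.p.map g)
    refine ⟨Points.mk { K := p.K, str := p.str, obj := q, lies := hq }, ?_⟩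
    obtain ⟨χ, h1, -⟩ := fg_exists_fac hX g φ.hom (eqToHom (hq.trans p.lies.symm)) (by
      change _ = (fullSub 𝒳 Q).p.map φ
      rw [hφ]
      simp)
    exact Points.sound ⟨{ K := p.K, str := p.str, obj := q.obj, lies := hq }, 𝟙 _, χ, trivial⟩
  · let T := 𝒳.p.obj y
    let c := classify hX y rfl
    obtain ⟨ε, -⟩ := classify_mk_id hX y rfl
    obtain ⟨F, e, he, ha⟩ := himm T c
    have hs : IsSurjective (fpFst c (subIncl 𝒳 Q)) := by
      intro z
      obtain ⟨p, rfl⟩ := Points.mk_surjective z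
      let k : (p.obj : Over T) ⟶ Over.mk (𝟙 T) := Over.homMk p.obj.hom (Category.comp_id _)
      obtain ⟨w, hw⟩ := hy (p.map c) (c.map k ≫ ε.hom)
      obtain ⟨v, hv, -⟩ := exists_points_fp hX hA.isStack.1 (isFibGrpd_overCat T) (subIncl 𝒳 Q) c
        (Points.mk p) w hw.symm
      exact ⟨v, hv⟩
    have hs' := (surjective_spMapOfOver he _).1 hs
    let a : F.obj ⟶ (AlgSp.yon S).obj T := spMapOfOver (BasedFunctor.comp e (fpFst c (subIncl 𝒳 Q)))
    obtain ⟨W₀, i, fst, sq⟩ := ha.1 (𝟙 ((AlgSp.yon S).obj T))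
    haveI hi : IsOpenImmersion i.left := ha.2 _ _ _ sq
    haveI : IsIso fst := sq.isIso_fst_of_isIso
    have hfac : fst ≫ a = (AlgSp.yon S).map i := sq.w.trans (Category.comp_id _)
    have hsurj : Function.Surjective i.left := by
      intro t
      obtain ⟨φ, hφ⟩ := hs' (AlgSp.Points.ofScheme T t)
      obtain ⟨φ', rfl⟩ : ∃ φ', AlgSp.Points.map fst φ' = φ := ⟨AlgSp.Points.map (inv fst) φ, by
        rw [← AlgSp.Points.map_comp, IsIso.inv_hom_id, AlgSp.Points.map_id]⟩
      rw [← AlgSp.Points.map_comp, hfac] at hφ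
      obtain ⟨u, rfl⟩ := (AlgSp.Points.schemeHomeo W₀).surjective φ'
      refine ⟨u, (AlgSp.Points.schemeHomeo T).injective ?_⟩
      exact (map_yon_ofScheme i u).symm.trans hφ
    haveI : Epi i.left.base := (TopCat.epi_iff_surjective _).2 hsurj
    haveI : IsIso i.left := IsOpenImmersion.isIso _
    haveI : IsIso ((Over.forget S).map i) := inferInstanceAs (IsIso i.left)
    haveI : IsIso i := isIso_of_reflects_iso i (Over.forget S)
    haveI : IsIso a := by
      rw [show a = inv fst ≫ (AlgSp.yon S).map i by rw [← hfac, IsIso.inv_hom_id_assoc]]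
      infer_instance
    obtain ⟨γ⟩ := exists_hom_iso (BasedFunctor.comp (BasedFunctor.comp e (fpFst c (subIncl 𝒳 Q))) (ofOverCat T))
    have hh : IsEquivOver (BasedFunctor.comp (BasedFunctor.comp e (fpFst c (subIncl 𝒳 Q))) (ofOverCat T)) := by
      refine isEquivOver_of_iso γ.symm ?_
      rw [← spMapOfOver_eq]
      exact isEquivOver_ofSpMap a
    have hd := isEquivData_of_isEquivOver hh
    obtain ⟨o, ho, -⟩ := hd.essSurj ((ofOverCat T).obj (Over.mk (𝟙 T)))
    obtain ⟨k, hk⟩ := (isEquivData_of_isEquivOver (isEquivOver_ofOverCat T)).full ho.hom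
    obtain ⟨k', hk'⟩ := (isEquivData_of_isEquivOver (isEquivOver_ofOverCat T)).full ho.inv
    let z := e.obj o
    let kk : z.obj.fst ≅ Over.mk (𝟙 T) :=
      { hom := k
        inv := k'
        hom_inv_id := (isEquivData_of_isEquivOver (isEquivOver_ofOverCat T)).faithful _ _ (by
          rw [(ofOverCat T).map_comp, (ofOverCat T).map_id, hk, hk']; exact ho.hom_inv_id)
        inv_hom_id := (isEquivData_of_isEquivOver (isEquivOver_ofOverCat T)).faithful _ _ (by
          rw [(ofOverCat T).map_comp, (ofOverCat T).map_id, hk, hk']; exact ho.inv_hom_id) }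
    exact ObjectProperty.prop_of_iso Q
      (z.obj.iso.symm ≪≫ c.toFunctor.mapIso kk ≪≫ ε) z.obj.snd.property

theorem substack_le_iff (h𝒳 : IsAlgStack Scheme.fppfPrecoverage 𝒳) {Q Q' : 𝒳.obj → Prop}
    (hQ : IsOpenSubstack 𝒳 Q Scheme.fppfPrecoverage) (hQ' : IsOpenSubstack 𝒳 Q' Scheme.fppfPrecoverage) :
    (∀ y, Q y → Q' y) ↔ Set.range (Points.map (subIncl 𝒳 Q)) ⊆ Set.range (Points.map (subIncl 𝒳 Q')) := by
  constructor
  · rintro h _ ⟨w, rfl⟩
    obtain ⟨q, rfl⟩ := Points.mk_surjective w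
    exact ⟨Points.mk { K := q.K, str := q.str, obj := ⟨q.obj.obj, h _ q.obj.property⟩, lies := q.lies }, rfl⟩
  · intro h y hy
    rw [openSubstack_eq_inPts h𝒳 hQ] at hy
    rw [openSubstack_eq_inPts h𝒳 hQ']
    exact fun p g => h (hy p g)

theorem isOpen_range_substack (h𝒳 : IsAlgStack Scheme.fppfPrecoverage 𝒳) {Q : 𝒳.obj → Prop}
    (hQ : IsOpenSubstack 𝒳 Q Scheme.fppfPrecoverage) : IsOpen (Set.range (Points.map (subIncl 𝒳 Q))) := by
  intro U x hx
  have hX := h𝒳.isStack.1
  obtain ⟨F, e, he, ha⟩ := hQ.2.2 U x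
  let a : F.obj ⟶ (AlgSp.yon S).obj U := spMapOfOver (BasedFunctor.comp e (fpFst x (subIncl 𝒳 Q)))
  obtain ⟨W₀, i, fst, sq⟩ := ha.1 (𝟙 ((AlgSp.yon S).obj U))
  haveI hi : IsOpenImmersion i.left := ha.2 _ _ _ sq
  haveI : IsIso fst := sq.isIso_fst_of_isIso
  have hfac : fst ≫ a = (AlgSp.yon S).map i := sq.w.trans (Category.comp_id _)
  obtain ⟨γ⟩ := exists_hom_iso (BasedFunctor.comp (BasedFunctor.comp e (fpFst x (subIncl 𝒳 Q))) (ofOverCat U))
  have hz : ∀ φ, Points.map (BasedFunctor.comp e (fpFst x (subIncl 𝒳 Q))) (stPt F.obj φ) =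
      Points.map (toOverCat U) (stPt _ (AlgSp.Points.map a φ)) := fun φ => by
    refine (points_map_bijective (isEquivOver_ofOverCat U)).1 ?_
    rw [← points_map_comp, points_map_congr γ, ← points_map_comp]
    rw [← spMapOfOver_eq]
    refine (stPt_natural a φ).trans ?_
    obtain ⟨p, hp⟩ := AlgSp.Points.mk_surjective (AlgSp.Points.map a φ)
    rw [← hp]
    exact (Points.sound ⟨((fptOfSp p).map (BasedFunctor.comp (toOverCat U) (ofOverCat U))), 𝟙 _,
      ⟨𝟙 _, ((AlgSp.yon S).obj U).obj.map_id_apply _ _⟩, trivial⟩).symm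
  have e2 : Points.ofChart x ⁻¹' Set.range (Points.map (subIncl 𝒳 Q)) = Set.range i.left := by
    ext t
    constructor
    · rintro ⟨q, hq⟩
      rw [ofChart_eq, points_map_comp] at hq
      obtain ⟨v, hv, -⟩ := exists_points_fp hX hQ.2.1.isStack.1 (isFibGrpd_overCat U) (subIncl 𝒳 Q) x _ q hq.symm
      obtain ⟨w, rfl⟩ := (points_map_bijective he).2 v
      obtain ⟨φ, rfl⟩ := stPt_bijective.2 w
      rw [← points_map_comp, hz] at hv
      have h1 := stPt_bijective.1 ((points_map_bijective (isEquivOver_toOverCat U)).1 hv)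
      obtain ⟨φ', rfl⟩ : ∃ φ', AlgSp.Points.map fst φ' = φ := ⟨AlgSp.Points.map (inv fst) φ, by
        rw [← AlgSp.Points.map_comp, IsIso.inv_hom_id, AlgSp.Points.map_id]⟩
      rw [← AlgSp.Points.map_comp, hfac] at h1
      obtain ⟨u, rfl⟩ := (AlgSp.Points.schemeHomeo W₀).surjective φ'
      exact ⟨u, (AlgSp.Points.schemeHomeo U).injective ((map_yon_ofScheme i u).symm.trans h1)⟩
    · rintro ⟨u, rfl⟩
      let φ := AlgSp.Points.map fst (AlgSp.Points.ofScheme W₀ u)
      refine ⟨Points.map (fpSnd x (subIncl 𝒳 Q)) (Points.map e (stPt _ φ)), ?_⟩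
      rw [ofChart_eq, ← map_yon_ofScheme i u, ← hfac, AlgSp.Points.map_comp, points_map_comp,
        ← hz, ← points_map_comp, ← points_map_comp, ← points_map_comp]
      exact (points_map_congr (bLeft e (fpIso x (subIncl 𝒳 Q))) _).symm
  rw [e2]
  exact i.left.isOpenEmbedding.isOpen_range

end Groth.Agent.AlgSt88
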