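import Groth.Agent.AlgSt88.QCMorSt
import Groth.Agent.SpPts86.UnivTop

/-! Universal topological properties of representable morphisms of stacks. -/

set_option autoImplicit false
set_option maxHeartbeats 1000000
set_option linter.style.haveILetI false
set_option linter.unusedVariables false
set_option backward.isDefEq.respectTransparency false
set_option backward.isDefEq.respectTransparency.types false
universe u

open CategoryTheory CategoryTheory.Limits AlgebraicGeometry Opposite AlgSt FibCat Topology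

namespace Groth.Agent.AlgSt88

variable {S : Scheme.{u}} {𝒳 𝒴 𝒵 : AlgSt.Cat S}

theorem isHomeomorph_of_equiv (h𝒳 : IsAlgStack Scheme.fppfPrecoverage 𝒳) (h𝒴 : IsAlgStack Scheme.fppfPrecoverage 𝒴)
    {e : 𝒳 ⥤ᵇ 𝒴} (he : IsEquivOver e) : IsHomeomorph (Points.map e) := by
  obtain ⟨G, -, ⟨a⟩, ⟨b⟩⟩ := isEquivOver_inverse he
  refine ⟨continuous_map h𝒴 e, fun A hA => ?_, points_map_bijective he⟩
  have : Points.map e '' A = Points.map G ⁻¹' A := by
    ext y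
    constructor
    · rintro ⟨x, hx, rfl⟩
      show Points.map G (Points.map e x) ∈ A
      rw [← points_map_comp, points_map_congr a, points_map_id]
      exact hx
    · intro hy
      exact ⟨Points.map G y, hy, by rw [← points_map_comp, points_map_congr b, points_map_id]⟩
  rw [this]
  exact hA.preimage (continuous_map h𝒳 G)

variable {P : MorphismProperty (AlgSp.Sp S)}

/-- The data used to read a base change on a smooth atlas. -/
theorem exists_atlas_square (h𝒳 : IsAlgStack Scheme.fppfPrecoverage 𝒳) (h𝒴 : IsAlgStack Scheme.fppfPrecoverage 𝒴)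
    (h𝒵 : IsAlgStack Scheme.fppfPrecoverage 𝒵) {f : 𝒳 ⥤ᵇ 𝒴} (h : RepByAlgSpWith P f) (g : 𝒵 ⥤ᵇ 𝒴) :
    ∃ (F G : AlgSp.Space S) (a : F.obj ⟶ G.obj) (π : AlgSp.Points F.obj → Points (fp g f))
      (ν : AlgSp.Points G.obj → Points 𝒵), P a ∧ Continuous π ∧ Continuous ν ∧ IsOpenMap ν ∧ Function.Surjective ν ∧
      (∀ φ, Points.map (fpFst g f) (π φ) = ν (AlgSp.Points.map a φ)) ∧
      ∀ w τ, ν τ = Points.map (fpFst g f) w → ∃ φ, π φ = w ∧ AlgSp.Points.map a φ = τ := by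
  obtain ⟨V, v, hv, hv'⟩ := h𝒵.atlas
  have hY := h𝒴.isStack.1
  have hX := h𝒳.isStack.1
  have hZ := h𝒵.isStack.1
  let G : AlgSp.Space S := ⟨_, AlgSp.IsAlgSpace.yon_obj V⟩
  obtain ⟨F, e, he, ha⟩ := h V (BasedFunctor.comp v g)
  let q := BasedFunctor.comp e (fpFst (BasedFunctor.comp v g) f)
  let a : F.obj ⟶ G.obj := spMapOfOver q
  let v' : ofSch V ⥤ᵇ 𝒵 := BasedFunctor.comp (toOverCat V) v
  obtain ⟨γ⟩ := exists_hom_iso (BasedFunctor.comp q (ofOverCat V))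
  let β : BasedFunctor.comp (ofOverCat V) (toOverCat V) ≅ BasedFunctor.id (overCat V) :=
    BasedNatIso.mkNatIso
      (NatIso.ofComponents (fun a => Iso.refl _)
        (fun {a b} f => Over.OverMorphism.ext ((Category.comp_id _).trans (Category.id_comp _).symm)))
      (fun a => IsHomLift.id rfl)
  have ha' : ∀ φ, Points.map (BasedFunctor.comp q (ofOverCat V)) (stPt _ φ) = stPt G.obj (AlgSp.Points.map a φ) := by
    intro φ
    rw [points_map_congr γ, stPt_natural]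
    exact congrArg (fun t => stPt G.obj (AlgSp.Points.map t φ)) (spMapOfOver_eq q).symm
  have hF := (isDM_ofSp F).1
  have hfp := isAlgStack_fp h𝒴.isStack h𝒴.diag h𝒵 h𝒳 g f
  refine ⟨F, G, a, fun φ => Points.map (BasedFunctor.comp e (fpMapFst g f v)) (stPt _ φ),
    fun τ => Points.map v' (stPt _ τ), ha, (continuous_map hfp _).comp (isHomeomorph_stPt F).continuous,
    (continuous_map h𝒵 v').comp (isHomeomorph_stPt G).continuous, ?_, ?_, ?_, ?_⟩
  · exact (isOpenMap_of_flat_lfp hZ (U := G) v'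
      ((repByAlgSpWith_precomp_equiv (isEquivOver_toOverCat V)).2 (rep_flat_of_sm hv))
      ((repByAlgSpWith_precomp_equiv (isEquivOver_toOverCat V)).2 (rep_lfp_of_sm hv))).comp
      (isHomeomorph_stPt G).isOpenMap
  · intro z
    obtain ⟨w, rfl⟩ := isSurjective_of_sj hZ ((repByAlgSpWith_precomp_equiv (isEquivOver_toOverCat V)).2 hv') z
    obtain ⟨τ, rfl⟩ := stPt_bijective.2 w
    exact ⟨τ, rfl⟩
  · intro φ
    show Points.map (fpFst g f) (Points.map (BasedFunctor.comp e (fpMapFst g f v)) (stPt _ φ)) =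
      Points.map v' (stPt _ (AlgSp.Points.map a φ))
    rw [← points_map_comp, ← ha', ← points_map_comp]
    exact points_map_congr (bLeft q (bRight β v)).symm _
  · intro w τ hτ
    obtain ⟨p, hp₁, hp₂⟩ := exists_points_fp hZ (isFibGrpd_fp hZ hX hY g f) (isFibGrpd_overCat V) (fpFst g f) v
      (Points.map (toOverCat V) (stPt _ τ)) w (by rw [← points_map_comp]; exact hτ)
    obtain ⟨φ', hφ⟩ := (points_map_bijective he).2 (Points.map (fpPaste v g f) p)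
    obtain ⟨φ, rfl⟩ := stPt_bijective.2 φ'
    refine ⟨φ, ?_, stPt_bijective.1 ?_⟩
    · show Points.map (BasedFunctor.comp e (fpMapFst g f v)) (stPt _ φ) = w
      rw [points_map_comp, hφ, ← points_map_comp]
      refine (points_map_congr (fpNatIso (Φ := BasedFunctor.comp (fpPaste v g f) (fpMapFst g f v))
        (Ψ := fpSnd v (fpFst g f)) (fpIso v (fpFst g f)) (Iso.refl _) (fun x => (by
          change g.map x.obj.iso.hom ≫ x.obj.snd.obj.iso.hom =
            (g.map x.obj.iso.hom ≫ x.obj.snd.obj.iso.hom) ≫ f.map (𝟙 _)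
          rw [f.map_id, Category.comp_id]))) p).trans hp₂
    · rw [← ha']
      show Points.map (BasedFunctor.comp q (ofOverCat V)) (stPt _ φ) = stPt _ τ
      rw [points_map_comp, points_map_comp, hφ, ← points_map_comp (fpPaste v g f)]
      change Points.map (ofOverCat V) (Points.map (fpFst v (fpFst g f)) p) = _
      rw [hp₁, ← points_map_comp]
      refine (points_map_congr ?_ _).trans (points_map_id _)
      exact BasedNatIso.mkNatIso (NatIso.ofComponents (fun a => Iso.refl _)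
        (fun {a b} f => Stk.EltObj.hom_ext ((Category.comp_id _).trans (Category.id_comp _).symm)))
        (fun a => IsHomLift.id rfl)

/-- The converse: representing spaces see base changes by algebraic stacks. -/
theorem repByAlgSpWith_univSp {Q : MorphismProperty (AlgSp.Sp S)} (h𝒳 : IsAlgStack Scheme.fppfPrecoverage 𝒳)
    (h𝒴 : IsAlgStack Scheme.fppfPrecoverage 𝒴) {f : 𝒳 ⥤ᵇ 𝒴} (hf : RepByAlgSp1 f)
    (h : ∀ (T : AlgSp.Space S) (t : ofSp T.obj ⥤ᵇ 𝒴) ⦃W : AlgSp.Sp S⦄ (s : W ⟶ T.obj) (Θ : AlgSp.Points W → Points (fp t f)),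
      IsHomeomorph Θ → (∀ φ, Points.map (fpFst t f) (Θ φ) = stPt T.obj (AlgSp.Points.map s φ)) → Q s) :
    RepByAlgSpWith (AlgSp.UnivSp Q) f := by
  intro U y
  let y' : ofSch U ⥤ᵇ 𝒴 := BasedFunctor.comp (toOverCat U) y
  obtain ⟨F, a, e, he, ⟨α⟩, -⟩ :=
    exists_space_fp h𝒳.isStack.1 h𝒴.isStack.1 hf ⟨_, AlgSp.IsAlgSpace.yon_obj U⟩ y'
  refine repOver_of_repSp y ⟨F, e, he, ?_⟩
  rw [homOfBased_congr α, homOfBased_ofSpMap]
  intro Z Z' hZ g fst snd sq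
  have hZ' : AlgSp.IsAlgSpace Z' := SpFP87.isAlgSpace_of_isPullback sq F.property hZ (AlgSp.IsAlgSpace.yon_obj U).diag
  obtain ⟨Φ, hΦ, ⟨δ⟩⟩ := exists_pullback_equiv_space (F := F) (V := spY U) (G := ⟨Z, hZ⟩) he α sq
  have hT := (isDM_ofSp ⟨Z, hZ⟩).1
  refine h ⟨Z, hZ⟩ (BasedFunctor.comp (ofSpMap g) y') snd (fun φ => Points.map Φ (stPt _ φ)) ?_ fun φ => ?_
  · exact (isHomeomorph_of_equiv (isDM_ofSp ⟨Z', hZ'⟩).1
      (isAlgStack_fp h𝒴.isStack h𝒴.diag hT h𝒳 _ f) hΦ).comp (isHomeomorph_stPt ⟨Z', hZ'⟩)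
  · rw [← points_map_comp, points_map_congr δ, stPt_natural]

theorem univSp_self {Q : MorphismProperty (AlgSp.Sp S)} {F G : AlgSp.Space S} {a : F.obj ⟶ G.obj}
    (h : AlgSp.UnivSp Q a) : Q a :=
  h G.property (𝟙 _) (𝟙 _) a (IsPullback.of_horiz_isIso ⟨by simp⟩)

theorem map_eq_of_square {F : AlgSp.Sp S} {T : AlgSp.Sp S} {t : ofSp T ⥤ᵇ 𝒴} {f : 𝒳 ⥤ᵇ 𝒴} {s : F ⟶ T}
    {Θ : AlgSp.Points F → Points (fp t f)}
    (h : ∀ φ, Points.map (fpFst t f) (Θ φ) = stPt T (AlgSp.Points.map s φ)) :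
    Points.map (fpFst t f) ∘ Θ = stPt T ∘ AlgSp.Points.map s := funext h

theorem univOpen_iff (h𝒳 : IsAlgStack Scheme.fppfPrecoverage 𝒳) (h𝒴 : IsAlgStack Scheme.fppfPrecoverage 𝒴)
    {f : 𝒳 ⥤ᵇ 𝒴} (hf : RepByAlgSp1 f) :
    RepByAlgSpWith AlgSp.IsUnivOpenMor f ↔ IsUnivOpen Scheme.fppfPrecoverage f := by
  constructor
  · intro h 𝒱 h𝒱 g
    obtain ⟨F, G, a, π, ν, ha, hπ, hν, hνo, hνs, hc, hl⟩ := exists_atlas_square h𝒳 h𝒴 h𝒱 h g
    intro A hA
    have : Points.map (fpFst g f) '' A = ν '' (AlgSp.Points.map a '' (π ⁻¹' A)) := by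
      ext z
      constructor
      · rintro ⟨w, hw, rfl⟩
        obtain ⟨τ, hτ⟩ := hνs (Points.map (fpFst g f) w)
        obtain ⟨φ, h1, h2⟩ := hl w τ hτ
        exact ⟨τ, ⟨φ, by show π φ ∈ A; rw [h1]; exact hw, h2⟩, hτ⟩
      · rintro ⟨_, ⟨φ, hφ, rfl⟩, rfl⟩
        exact ⟨π φ, hφ, hc φ⟩
    rw [this]
    exact hνo _ ((univSp_self ha : AlgSp.IsOpenMor a) _ (hA.preimage hπ))
  · intro h
    refine repByAlgSpWith_univSp h𝒳 h𝒴 hf fun T t W s Θ hΘ hc => ?_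
    show IsOpenMap (AlgSp.Points.map s)
    have hT := isHomeomorph_stPt T
    have h1 : IsOpenMap (stPt T.obj ∘ AlgSp.Points.map s) :=
      map_eq_of_square hc ▸ ((h _ (isDM_ofSp T).1 t).comp hΘ.isOpenMap)
    intro A hA
    rw [← Set.preimage_image_eq (AlgSp.Points.map s '' A) hT.bijective.1, ← Set.image_comp]
    exact (h1 A hA).preimage hT.continuous

theorem univClosed_iff (h𝒳 : IsAlgStack Scheme.fppfPrecoverage 𝒳) (h𝒴 : IsAlgStack Scheme.fppfPrecoverage 𝒴)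
    {f : 𝒳 ⥤ᵇ 𝒴} (hf : RepByAlgSp1 f) :
    RepByAlgSpWith AlgSp.IsUnivClosedMor f ↔ IsUnivClosed Scheme.fppfPrecoverage f := by
  constructor
  · intro h 𝒱 h𝒱 g
    obtain ⟨F, G, a, π, ν, ha, hπ, hν, hνo, hνs, hc, hl⟩ := exists_atlas_square h𝒳 h𝒴 h𝒱 h g
    intro A hA
    have hq : IsQuotientMap ν := (IsOpenMap.isQuotientMap hνo hν hνs)
    rw [← hq.isClosed_preimage]
    have : ν ⁻¹' (Points.map (fpFst g f) '' A) = AlgSp.Points.map a '' (π ⁻¹' A) := by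
      ext τ
      constructor
      · rintro ⟨w, hw, hτ⟩
        obtain ⟨φ, h1, h2⟩ := hl w τ hτ.symm
        exact ⟨φ, by show π φ ∈ A; rw [h1]; exact hw, h2⟩
      · rintro ⟨φ, hφ, rfl⟩
        exact ⟨π φ, hφ, hc φ⟩
    rw [this]
    exact (univSp_self ha : AlgSp.IsClosedMor a) _ (hA.preimage hπ)
  · intro h
    refine repByAlgSpWith_univSp h𝒳 h𝒴 hf fun T t W s Θ hΘ hc => ?_
    show IsClosedMap (AlgSp.Points.map s)
    have hT := isHomeomorph_stPt T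
    have h1 : IsClosedMap (stPt T.obj ∘ AlgSp.Points.map s) :=
      map_eq_of_square hc ▸ ((h _ (isDM_ofSp T).1 t).comp hΘ.isClosedMap)
    intro A hA
    rw [← Set.preimage_image_eq (AlgSp.Points.map s '' A) hT.bijective.1, ← Set.image_comp]
    exact (h1 A hA).preimage hT.continuous

theorem univSubmersive_iff (h𝒳 : IsAlgStack Scheme.fppfPrecoverage 𝒳) (h𝒴 : IsAlgStack Scheme.fppfPrecoverage 𝒴)
    {f : 𝒳 ⥤ᵇ 𝒴} (hf : RepByAlgSp1 f) :
    RepByAlgSpWith AlgSp.IsUnivSubmersiveMor f ↔ ∀ (𝒱 : AlgSt.Cat S), IsAlgStack Scheme.fppfPrecoverage 𝒱 →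
      ∀ (g : 𝒱 ⥤ᵇ 𝒴), IsQuotientMap (Points.map (fpFst g f)) := by
  constructor
  · intro h 𝒱 h𝒱 g
    obtain ⟨F, G, a, π, ν, ha, hπ, hν, hνo, hνs, hc, hl⟩ := exists_atlas_square h𝒳 h𝒴 h𝒱 h g
    have ha' : IsQuotientMap (AlgSp.Points.map a) := univSp_self ha
    have hq : IsQuotientMap (ν ∘ AlgSp.Points.map a) := (IsOpenMap.isQuotientMap hνo hν hνs).comp ha'
    have hfp := isAlgStack_fp h𝒴.isStack h𝒴.diag h𝒱 h𝒳 g f
    rw [← (funext hc : Points.map (fpFst g f) ∘ π = ν ∘ AlgSp.Points.map a)] at hq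
    exact IsQuotientMap.of_comp hπ (continuous_map h𝒱 _) hq
  · intro h
    refine repByAlgSpWith_univSp h𝒳 h𝒴 hf fun T t W s Θ hΘ hc => ?_
    show IsQuotientMap (AlgSp.Points.map s)
    have hT := isHomeomorph_stPt T
    have h1 : IsQuotientMap (stPt T.obj ∘ AlgSp.Points.map s) :=
      map_eq_of_square hc ▸ ((h _ (isDM_ofSp T).1 t).comp hΘ.isQuotientMap)
    have h2 := hT.homeomorph.symm.isQuotientMap.comp h1
    have e : hT.homeomorph.symm ∘ (stPt T.obj ∘ AlgSp.Points.map s) = AlgSp.Points.map s :=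
      funext fun x => hT.homeomorph.symm_apply_apply _
    rwa [e] at h2

theorem injective_of_univInj (h𝒳 : IsAlgStack Scheme.fppfPrecoverage 𝒳) (h𝒴 : IsAlgStack Scheme.fppfPrecoverage 𝒴)
    {f : 𝒳 ⥤ᵇ 𝒴} (h : RepByAlgSpWith AlgSp.IsUnivInjectiveMor f) :
    IsUnivInjective Scheme.fppfPrecoverage f := by
  intro 𝒱 h𝒱 g
  obtain ⟨F, G, a, π, ν, ha, hπ, hν, hνo, hνs, hc, hl⟩ := exists_atlas_square h𝒳 h𝒴 h𝒱 h g
  intro w w' e
  obtain ⟨τ, hτ⟩ := hνs (Points.map (fpFst g f) w)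
  obtain ⟨φ, rfl, h1⟩ := hl w τ hτ
  obtain ⟨φ', rfl, h2⟩ := hl w' τ (hτ.trans e)
  exact congrArg π ((univSp_self (Q := fun _ _ k => Function.Injective (AlgSp.Points.map k)) ha) (h1.trans h2.symm))

theorem univInjective_iff (h𝒳 : IsAlgStack Scheme.fppfPrecoverage 𝒳) (h𝒴 : IsAlgStack Scheme.fppfPrecoverage 𝒴)
    {f : 𝒳 ⥤ᵇ 𝒴} (hf : RepByAlgSp1 f) :
    RepByAlgSpWith AlgSp.IsUnivInjectiveMor f ↔ IsUnivInjective Scheme.fppfPrecoverage f := by
  refine ⟨injective_of_univInj h𝒳 h𝒴, fun h => repByAlgSpWith_univSp h𝒳 h𝒴 hf fun T t W s Θ hΘ hc x x' e => ?_⟩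
  exact hΘ.bijective.1 (h _ (isDM_ofSp T).1 t (by rw [hc, hc, e]))

theorem univHomeo_iff (h𝒳 : IsAlgStack Scheme.fppfPrecoverage 𝒳) (h𝒴 : IsAlgStack Scheme.fppfPrecoverage 𝒴)
    {f : 𝒳 ⥤ᵇ 𝒴} (hf : RepByAlgSp1 f) :
    RepByAlgSpWith AlgSp.IsUnivHomeoMor f ↔ IsUnivHomeo Scheme.fppfPrecoverage f := by
  constructor
  · intro h 𝒱 h𝒱 g
    have hb : RepByAlgSpWith AlgSp.IsUnivOpenMor f := repByAlgSpWith_mono
      (fun _ _ a (ha : AlgSp.IsUnivHomeoMor a) Z Z' hZ k fst snd sq => (ha hZ k fst snd sq).isOpenMap) h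
    have hi : RepByAlgSpWith AlgSp.IsUnivInjectiveMor f := repByAlgSpWith_mono
      (fun _ _ a (ha : AlgSp.IsUnivHomeoMor a) Z Z' hZ k fst snd sq => (ha hZ k fst snd sq).bijective.1) h
    refine ⟨continuous_map h𝒱 _, (univOpen_iff h𝒳 h𝒴 hf).1 hb 𝒱 h𝒱 g, injective_of_univInj h𝒳 h𝒴 hi 𝒱 h𝒱 g, ?_⟩
    obtain ⟨F, G, a, π, ν, ha, hπ, hν, hνo, hνs, hc, hl⟩ := exists_atlas_square h𝒳 h𝒴 h𝒱 h g
    intro z
    obtain ⟨τ, rfl⟩ := hνs z
    obtain ⟨φ, rfl⟩ := (univSp_self (Q := fun _ _ k => IsHomeomorph (AlgSp.Points.map k)) ha).bijective.2 τ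
    exact ⟨π φ, hc φ⟩
  · intro h
    refine repByAlgSpWith_univSp h𝒳 h𝒴 hf fun T t W s Θ hΘ hc => ?_
    show IsHomeomorph (AlgSp.Points.map s)
    have hT := isHomeomorph_stPt T
    have h1 : IsHomeomorph (stPt T.obj ∘ AlgSp.Points.map s) :=
      map_eq_of_square hc ▸ ((h _ (isDM_ofSp T).1 t).comp hΘ)
    have h2 := hT.homeomorph.symm.isHomeomorph.comp h1
    have e : hT.homeomorph.symm ∘ (stPt T.obj ∘ AlgSp.Points.map s) = AlgSp.Points.map s :=
      funext fun x => hT.homeomorph.symm_apply_apply _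
    rwa [e] at h2

end Groth.Agent.AlgSt88
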