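import Groth.Agent.Gerb44.DenseGerbe
import Groth.Agent.AlgSt88.KerTrivial
import Groth.Agent.AlgSt88.InertiaDescent
import Groth.Agent.AlgSt88.Substack
import Groth.Agent.AlgSt88.UnivTopSt
import Groth.Agent.AlgSt88.Setoid
import Groth.Agent.Fib44.Equiv
import Groth.Agent.S10277

/-! Endomorphisms of morphisms into stacks with separated unramified inertia. -/

set_option autoImplicit false
set_option maxHeartbeats 1000000
set_option linter.style.haveILetI false
set_option backward.isDefEq.respectTransparency false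
set_option backward.isDefEq.respectTransparency.types false
universe u

open CategoryTheory CategoryTheory.Limits AlgebraicGeometry Opposite AlgSt FibCat

namespace Groth.Agent.AlgSt88

variable {S : Scheme.{u}} {𝒳 𝒴 : AlgSt.Cat S}

/-- The open immersion of the neutral section. -/
theorem openImm_inertiaNeutral (hY : IsFibGrpd 𝒴.p) (h : IsDMOver 𝒴) : IsOpenImm (inertiaNeutral (toSelf 𝒴)) := by
  haveI : (AlgSp.RepWith (S := S) @IsOpenImmersion).RespectsIso :=
    (AlgSp.repWith_isStableUnderBaseChange (@IsOpenImmersion : MorphismProperty Scheme.{u})).respectsIso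
  refine repByAlgSpWith_neutral_of_diag _ (repByAlgSpWith_diag_of_rep (isFibGrpd_inertia hY isFibGrpd_selfOver _) hY
    (fun F U a ha => repBySpWith_repWith_of _ ?_) (repByAlgSpWith_inertiaToBase hY _ h))
  exact SpPts86.repWith_openImm_diagonal_of_unramified F.property (AlgSp.IsAlgSpace.yon_obj U) ha

/-- Surjective open immersions are essentially surjective. -/
theorem exists_lift_of_openImm_surjective (hX : IsFibGrpd 𝒳.p) (hY : IsFibGrpd 𝒴.p) {f : 𝒳 ⥤ᵇ 𝒴}
    (hf : IsOpenImm f) (hs : IsSurjective f) (y : 𝒴.obj) : ∃ x, Nonempty (f.obj x ≅ y) := by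
  let T := 𝒴.p.obj y
  let c := classify hY y rfl
  obtain ⟨ε, -⟩ := classify_mk_id hY y rfl
  obtain ⟨F, e, he, ha⟩ := hf T c
  have hs' := (surjective_spMapOfOver he _).1 (isSurjective_fpFst hY hX (isFibGrpd_overCat T) c hs)
  let a : F.obj ⟶ (AlgSp.yon S).obj T := spMapOfOver (BasedFunctor.comp e (fpFst c f))
  obtain ⟨W₀, i, fst, sq⟩ := ha.1 (𝟙 ((AlgSp.yon S).obj T))
  haveI hi : IsOpenImmersion i.left := ha.2 _ _ _ sq
  haveI : IsIso fst := sq.isIso_fst_of_isIso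
  have hfac : fst ≫ a = (AlgSp.yon S).map i := sq.w.trans (Category.comp_id _)
  have hsurj : Function.Surjective i.left := by
    intro t
    obtain ⟨φ, hφ⟩ := hs' (AlgSp.Points.ofScheme T t)
    obtain ⟨φ', rfl⟩ : ∃ φ', AlgSp.Points.map fst φ' = φ := ⟨AlgSp.Points.map (inv fst) φ, by
      rw [← AlgSp.Points.map_comp, IsIso.inv_hom_id, AlgSp.Points.map_id]⟩
    rw [← AlgSp.Points.map_comp, hfac] at hφ
    obtain ⟨u, rfl⟩ := (AlgSp.Points.schemeHomeo W₀).surjective φ'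
    refine ⟨u, (AlgSp.Points.schemeHomeo T).injective ?_⟩
    exact (map_yon_ofScheme i u).symm.trans hφ
  haveI : Epi i.left.base := (TopCat.epi_iff_surjective _).2 hsurj
  haveI : IsIso i.left := IsOpenImmersion.isIso _
  haveI : IsIso ((Over.forget S).map i) := inferInstanceAs (IsIso i.left)
  haveI : IsIso i := isIso_of_reflects_iso i (Over.forget S)
  haveI : IsIso a := by
    rw [show a = inv fst ≫ (AlgSp.yon S).map i by rw [← hfac, IsIso.inv_hom_id_assoc]]
    infer_instance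
  obtain ⟨γ⟩ := exists_hom_iso (BasedFunctor.comp (BasedFunctor.comp e (fpFst c f)) (ofOverCat T))
  have hh : IsEquivOver (BasedFunctor.comp (BasedFunctor.comp e (fpFst c f)) (ofOverCat T)) := by
    refine isEquivOver_of_iso γ.symm ?_
    rw [← spMapOfOver_eq]
    exact isEquivOver_ofSpMap a
  obtain ⟨o, ho, -⟩ := (isEquivData_of_isEquivOver hh).essSurj ((ofOverCat T).obj (Over.mk (𝟙 T)))
  have hd := isEquivData_of_isEquivOver (isEquivOver_ofOverCat T)
  obtain ⟨k, hk⟩ := hd.full ho.hom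
  obtain ⟨k', hk'⟩ := hd.full ho.inv
  let z := e.obj o
  let kk : z.obj.fst ≅ Over.mk (𝟙 T) :=
    { hom := k
      inv := k'
      hom_inv_id := hd.faithful _ _ (by
        rw [(ofOverCat T).map_comp, (ofOverCat T).map_id, hk, hk']; exact ho.hom_inv_id)
      inv_hom_id := hd.faithful _ _ (by
        rw [(ofOverCat T).map_comp, (ofOverCat T).map_id, hk, hk']; exact ho.inv_hom_id) }
  exact ⟨z.obj.snd, ⟨z.obj.iso.symm ≪≫ c.toFunctor.mapIso kk ≪≫ ε⟩⟩

theorem aut_lift' (hY : IsFibGrpd 𝒴.p) {F : 𝒳 ⥤ᵇ 𝒴} (α : F ⟶ F) (x : 𝒳.obj) : IsIso (α.toNatTrans.app x) := by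
  haveI := BasedNatTrans.isHomLift α (a := x) (S := 𝒳.p.obj x) rfl
  haveI : IsIso (𝒴.p.map (α.toNatTrans.app x)) := by
    rw [IsHomLift.fac' 𝒴.p (𝟙 (𝒳.p.obj x)) (α.toNatTrans.app x)]
    infer_instance
  exact fg_isIso_of_isIso_map hY _

/-- The point of the inertia attached to an endomorphism. -/
noncomputable def endPoint (hY : IsFibGrpd 𝒴.p) {F : 𝒳 ⥤ᵇ 𝒴} (α : F ⟶ F) : 𝒳 ⥤ᵇ inertia (toSelf 𝒴) where
  toFunctor :=
    { obj := fun x =>
        haveI := aut_lift' hY α x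
        { pt := F.obj x
          aut := asIso (α.toNatTrans.app x)
          map_aut := by
            haveI := BasedNatTrans.isHomLift α (a := x) (S := 𝒳.p.obj x) rfl
            change 𝒴.p.map (α.toNatTrans.app x) = 𝟙 _
            rw [IsHomLift.fac' 𝒴.p (𝟙 (𝒳.p.obj x)) (α.toNatTrans.app x)]
            simp }
      map := fun {x y} k => ⟨F.map k, (α.toNatTrans.naturality k).symm⟩
      map_id := fun x => InertiaObj.hom_ext (F.map_id x)
      map_comp := fun k l => InertiaObj.hom_ext (F.map_comp k l) }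
  w := F.w

theorem eq_id_of_neutral (hY : IsFibGrpd 𝒴.p) {F : 𝒳 ⥤ᵇ 𝒴} (α : F ⟶ F) (x : 𝒳.obj) (z : 𝒴.obj)
    (i : (endPoint hY α).obj x ≅ (inertiaNeutral (toSelf 𝒴)).obj z) : α.toNatTrans.app x = 𝟙 _ := by
  have h1 : α.toNatTrans.app x ≫ i.hom.hom = i.hom.hom ≫ 𝟙 z := i.hom.comm
  have h2 : i.hom.hom ≫ i.inv.hom = 𝟙 (F.obj x) := congrArg (fun t => t.hom) i.hom_inv_id
  calc α.toNatTrans.app x = α.toNatTrans.app x ≫ i.hom.hom ≫ i.inv.hom := by rw [h2, Category.comp_id]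
    _ = 𝟙 _ := by rw [← Category.assoc, h1]; erw [Category.comp_id]; exact h2

/-- An endomorphism trivial on a dense substack is trivial. -/
theorem endTrans_eq_id {𝒰 𝒱 : AlgSt.Cat S} (h𝒳 : IsAlgStack Scheme.fppfPrecoverage 𝒳)
    (h𝒴 : IsDM Scheme.fppfPrecoverage 𝒴) (hΔ : RepByAlgSpWith AlgSp.IsSeparatedMor (diag (toSelf 𝒴)))
    (F : 𝒳 ⥤ᵇ 𝒴) (i : 𝒰 ⥤ᵇ 𝒳) (hdense : Dense (Set.range (Points.map i)))
    (j : 𝒱 ⥤ᵇ 𝒴) (hj : IsOpenImm j) (h𝒱 : RepByAlgSp 𝒱) (G : 𝒰 ⥤ᵇ 𝒱)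
    (e : BasedFunctor.comp G j ≅ BasedFunctor.comp i F) (α : F ⟶ F) : α = 𝟙 F := by
  have hX := h𝒳.isStack.1
  have hY := h𝒴.1.isStack.1
  have hI := Gerb44.isAlgStack_inertia h𝒴.1
  obtain ⟨V₀, eV, heV⟩ := id h𝒱
  obtain ⟨EV, hEV, -, -⟩ := isEquivOver_inverse heV
  have hV : IsFibGrpd 𝒱.p := Fib44.isFibGrpd_of_isEquivOver_target hEV (Stk.isFibGrpd_ofPsh _)
  haveI := full_of_isMono hV hY (isMono_of_isImm (repByAlgSpWith_mono
    (fun _ _ _ h => SpPts86.repWith_mono (Q := @IsImmersion) (fun _ _ f (hf : IsOpenImmersion f) => (inferInstance : IsImmersion f)) h) hj))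
  -- trivial on the open substack
  have h0 : ∀ w : 𝒰.obj, α.toNatTrans.app (i.obj w) = 𝟙 _ := by
    intro w
    let ew : j.obj (G.obj w) ≅ F.obj (i.obj w) := ((BasedNatTrans.forgetful _ _).mapIso e).app w
    let c := ew.hom ≫ α.toNatTrans.app (i.obj w) ≫ ew.inv
    haveI : 𝒴.p.IsHomLift (𝟙 (𝒰.p.obj w)) ew.hom := e.hom.isHomLift' w
    haveI : 𝒴.p.IsHomLift (𝟙 (𝒰.p.obj w)) ew.inv := e.inv.isHomLift' w
    haveI : 𝒴.p.IsHomLift (𝟙 (𝒰.p.obj w)) (α.toNatTrans.app (i.obj w)) :=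
      BasedNatTrans.isHomLift α (i.w_obj w)
    haveI hc : 𝒴.p.IsHomLift (𝟙 (𝒰.p.obj w)) c := inferInstance
    obtain ⟨c', hc'⟩ := j.toFunctor.map_surjective c
    haveI : 𝒴.p.IsHomLift (𝟙 (𝒰.p.obj w)) (j.map c') := by rw [hc']; exact hc
    haveI : 𝒱.p.IsHomLift (𝟙 (𝒰.p.obj w)) c' := (BasedFunctor.isHomLift_iff j _ _).1 inferInstance
    have : c' = 𝟙 _ := hom_ext_of_repByAlgSp h𝒱 (by
      rw [IsHomLift.fac' 𝒱.p (𝟙 (𝒰.p.obj w)) c', 𝒱.p.map_id]
      simp)
    have hc1 : c = 𝟙 _ := by rw [← hc', this, j.map_id]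
    have : α.toNatTrans.app (i.obj w) = ew.inv ≫ c ≫ ew.hom := by simp [c]
    rw [this, hc1, Category.id_comp, Iso.inv_hom_id]
  -- the locus where the endomorphism is trivial
  let Φ := endPoint hY α
  let n := inertiaNeutral (toSelf 𝒴)
  have hcl : IsClosedImm n := repByAlgSpWith_neutral_of_diag _ (closedImm_diag_of_sep
    (isFibGrpd_inertia hY isFibGrpd_selfOver _) hY (repByAlgSpWith_inertiaToBase hY _ hΔ))
  have huc : IsUnivClosed Scheme.fppfPrecoverage n := (univClosed_iff h𝒴.1 hI (repByAlgSp1_of_with hcl)).1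
    (repByAlgSpWith_mono_spaces (fun A B hA hB a ha =>
      (S10277.result (X := ⟨A, hA⟩) (Y := ⟨B, hB⟩) (ObjectProperty.homMk a) ha).2.2) hcl)
  have hclosed : IsClosedMap (Points.map (fpFst Φ n)) := huc 𝒳 h𝒳 Φ
  let κ : BasedFunctor.comp i Φ ≅ BasedFunctor.comp (BasedFunctor.comp i F) n :=
    BasedNatIso.mkNatIso
      (NatIso.ofComponents
        (fun w =>
          { hom := ⟨𝟙 (F.obj (i.obj w)), (congrArg (fun t => t ≫ 𝟙 _) (h0 w))⟩
            inv := ⟨𝟙 (F.obj (i.obj w)), (congrArg (fun t => 𝟙 _ ≫ t) (h0 w)).symm⟩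
            hom_inv_id := InertiaObj.hom_ext (Category.id_comp _)
            inv_hom_id := InertiaObj.hom_ext (Category.id_comp _) })
        (fun {_ _} k => InertiaObj.hom_ext ((Category.comp_id _).trans (Category.id_comp _).symm)))
      (fun w => (Fib44.inertia_isHomLift_iff _ _).2 (IsHomLift.id ((BasedFunctor.comp i F).w_obj w)))
  let L := fpLift i (BasedFunctor.comp i F) κ
  have hsurj : IsSurjective (fpFst Φ n) := by
    intro p
    have hsub : Set.range (Points.map i) ⊆ Set.range (Points.map (fpFst Φ n)) := by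
      rintro _ ⟨w, rfl⟩
      exact ⟨Points.map L w, (points_map_comp L (fpFst Φ n) w).symm⟩
    have := (hclosed.isClosed_range).closure_subset_iff.2 hsub
    rw [hdense.closure_eq] at this
    exact this (Set.mem_univ p)
  have hopen : IsOpenImm (fpFst Φ n) :=
    repByAlgSpWith_fpFst Φ (openImm_inertiaNeutral hY (isDMOver_of_isDM h𝒴))
  apply BasedNatTrans.ext
  apply NatTrans.ext
  funext x
  obtain ⟨z, ⟨ι⟩⟩ := exists_lift_of_openImm_surjective
    (isFibGrpd_fp hX hY hI.isStack.1 Φ n) hX hopen hsurj x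
  have h1 : α.toNatTrans.app z.obj.fst = 𝟙 _ := eq_id_of_neutral hY α _ z.obj.snd z.obj.iso
  let ι' : z.obj.fst ≅ x := ι
  have hn := α.toNatTrans.naturality ι'.hom
  rw [h1] at hn
  change F.map ι'.hom ≫ α.toNatTrans.app x = 𝟙 _ ≫ F.map ι'.hom at hn
  rw [Category.id_comp] at hn
  change α.toNatTrans.app x = 𝟙 _
  haveI : IsIso (F.map ι'.hom) := inferInstanceAs (IsIso (F.toFunctor.map ι'.hom))
  exact (cancel_epi (F.map ι'.hom)).1 (hn.trans (Category.comp_id _).symm)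

end Groth.Agent.AlgSt88
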