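import Groth.Agent.AlgSt88.Cancel

/-! Diagonals of composites, base changes, and the comparison maps of 2-fibre products. -/

set_option autoImplicit false
set_option backward.isDefEq.respectTransparency false
set_option backward.isDefEq.respectTransparency.types false
universe u

open CategoryTheory CategoryTheory.Limits AlgebraicGeometry Opposite AlgSt FibCat

namespace Groth.Agent.AlgSt88

variable {S : Scheme.{u}} {𝒳 𝒴 𝒵 𝒲 : AlgSt.Cat S} {P : MorphismProperty (AlgSp.Sp S)}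

theorem map_id' (F : 𝒳 ⥤ᵇ 𝒴) (x : 𝒳.obj) : F.map (𝟙 x) = 𝟙 (F.obj x) := F.map_id x

/-- The comparison `𝒜 ×_𝒴 𝒳 ⟶ 𝒜 ×_𝒵 𝒳` is a base change of the diagonal of `g`. -/
theorem repByAlgSpWith_fpPost (F : 𝒲 ⥤ᵇ 𝒴) (G : 𝒳 ⥤ᵇ 𝒴) {g : 𝒴 ⥤ᵇ 𝒵}
    (h : RepByAlgSpWith P (diag g)) : RepByAlgSpWith P (fpPost F G g) := by
  let p := Fib44.diagPair g F G
  refine (repByAlgSpWith_precomp_equiv (Fib44.diagCmp_isEquivOver g F G)).1 (repByAlgSpWith_of_iso
    (f := fpFst p (diag g)) ?_ (repByAlgSpWith_fpFst p h))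
  exact fpNatIso (Φ := fpFst p (diag g)) (Ψ := BasedFunctor.comp (Fib44.diagCmp g F G) (fpPost F G g))
    (Iso.refl _) (Iso.refl _) (fun x => by
      change g.map (F.map (𝟙 x.obj.fst.obj.fst)) ≫ g.map (x.obj.iso.hom.hom.fst ≫ x.obj.iso.inv.hom.snd) =
        x.obj.fst.obj.iso.hom ≫ g.map (G.map (𝟙 x.obj.fst.obj.snd))
      rw [map_id' F, map_id' g]
      have hrel : g.map x.obj.iso.hom.hom.fst = x.obj.fst.obj.iso.hom ≫ g.map x.obj.iso.hom.hom.snd :=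
        (Category.comp_id _).symm.trans x.obj.iso.hom.hom.w
      rw [map_id' G, map_id' g, g.map_comp, hrel]
      have e : x.obj.iso.hom.hom.snd ≫ x.obj.iso.inv.hom.snd = 𝟙 _ :=
        congrArg (fun t => t.hom.snd) x.obj.iso.hom_inv_id
      refine (Category.id_comp _).trans ((Category.assoc _ _ _).trans ?_)
      rw [← g.map_comp, e]
      exact congrArg (x.obj.fst.obj.iso.hom ≫ ·) (map_id' g _))

/-- The diagonal of a composite. -/
def diagCompIso (f : 𝒳 ⥤ᵇ 𝒴) (g : 𝒴 ⥤ᵇ 𝒵) :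
    BasedFunctor.comp (diag f) (fpPost f f g) ≅ diag (BasedFunctor.comp f g) :=
  fpNatIso (Φ := BasedFunctor.comp (diag f) (fpPost f f g)) (Ψ := diag (BasedFunctor.comp f g))
    (Iso.refl _) (Iso.refl _) (fun x => by
      change g.map (f.map (𝟙 x)) ≫ 𝟙 _ = g.map (𝟙 (f.obj x)) ≫ g.map (f.map (𝟙 x))
      rw [Category.comp_id, map_id' g (f.obj x)]
      exact (Category.id_comp _).symm)

/-- The diagonal of a composite, for a property stable under composition. -/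
theorem repByAlgSpWith_diag_comp (hX : IsFibGrpd 𝒳.p) (hY : IsFibGrpd 𝒴.p)
    (hPi : P.RespectsIso) (hPd : SpaceDescends P) (hPc : StableComp P)
    {f : 𝒳 ⥤ᵇ 𝒴} {g : 𝒴 ⥤ᵇ 𝒵} (hf : RepByAlgSpWith P (diag f)) (hg : RepByAlgSpWith P (diag g)) :
    RepByAlgSpWith P (diag (BasedFunctor.comp f g)) :=
  repByAlgSpWith_of_iso (diagCompIso f g)
    (repByAlgSpWith_comp_of hX (isFibGrpd_fp hX hX hY f f) hPi hPd hPc hf (repByAlgSpWith_fpPost f f hg))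

/-- Cancellation for diagonals. -/
theorem repByAlgSpWith_diag_of_comp {R : MorphismProperty (AlgSp.Sp S)}
    (hPb : StableBC P) (hPi : P.RespectsIso) (hcan : CancelsAlong P R)
    {f : 𝒳 ⥤ᵇ 𝒴} {g : 𝒴 ⥤ᵇ 𝒵} (hg : RepByAlgSpWith R (diag g))
    (hfg : RepByAlgSpWith P (diag (BasedFunctor.comp f g))) : RepByAlgSpWith P (diag f) :=
  repByAlgSpWith_of_comp hPb hPi hcan (repByAlgSpWith_fpPost f f hg)
    (repByAlgSpWith_of_iso (diagCompIso f g).symm hfg)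

variable (g : 𝒲 ⥤ᵇ 𝒴) (f : 𝒳 ⥤ᵇ 𝒴)

/-- The 2-isomorphism of the two projections of `(𝒲 ×_𝒴 𝒳) ×_𝒲 (𝒲 ×_𝒴 𝒳)` to `𝒴`. -/
def baseSqIso :
    BasedFunctor.comp (BasedFunctor.comp (fpFst (fpFst g f) (fpFst g f)) (fpSnd g f)) f ≅
      BasedFunctor.comp (BasedFunctor.comp (fpSnd (fpFst g f) (fpFst g f)) (fpSnd g f)) f :=
  (bLeft (fpFst (fpFst g f) (fpFst g f)) (fpIso g f)).symm ≪≫ bRight (fpIso (fpFst g f) (fpFst g f)) g ≪≫
    bLeft (fpSnd (fpFst g f) (fpFst g f)) (fpIso g f)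

/-- The map of self products induced by a base change. -/
def baseSq : fp (fpFst g f) (fpFst g f) ⥤ᵇ fp f f :=
  fpLift (BasedFunctor.comp (fpFst (fpFst g f) (fpFst g f)) (fpSnd g f))
    (BasedFunctor.comp (fpSnd (fpFst g f) (fpFst g f)) (fpSnd g f)) (baseSqIso g f)

/-- The comparison of a base change with the base change of the diagonal. -/
def diagBC : fp g f ⥤ᵇ fp (baseSq g f) (diag f) :=
  fpLift (diag (fpFst g f)) (fpSnd g f)
    (fpNatIso (Φ := BasedFunctor.comp (diag (fpFst g f)) (baseSq g f)) (Ψ := BasedFunctor.comp (fpSnd g f) (diag f))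
      (Iso.refl _) (Iso.refl _) (fun w => by
        change f.map (𝟙 w.obj.snd) ≫ 𝟙 _ =
          (w.obj.iso.inv ≫ g.map (𝟙 _) ≫ w.obj.iso.hom) ≫ f.map (𝟙 w.obj.snd)
        rw [map_id' g, map_id' f]
        simp))

theorem isEquivOver_diagBC : IsEquivOver (diagBC g f) := by
  refine IsEquivData.isEquivOver ⟨?_, ?_, ?_⟩
  · intro x y u v h
    exact congrArg (fun t => t.hom.fst.hom.fst) h
  · intro x y k
    have h1 : k.hom.fst.hom.fst.hom.snd ≫ 𝟙 _ = 𝟙 _ ≫ k.hom.snd := congrArg (fun t => t.hom.fst) k.hom.w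
    have h2 : k.hom.fst.hom.snd.hom.snd ≫ 𝟙 _ = 𝟙 _ ≫ k.hom.snd := congrArg (fun t => t.hom.snd) k.hom.w
    have h3 : k.hom.fst.hom.fst.hom.fst ≫ 𝟙 _ = 𝟙 _ ≫ k.hom.fst.hom.snd.hom.fst := k.hom.fst.hom.w
    rw [Category.comp_id, Category.id_comp] at h1 h2 h3
    exact ⟨k.hom.fst.hom.fst, fpHom_ext (fpHom_ext rfl (fpHom_ext h3 (h1.trans h2.symm))) h1⟩
  · intro z
    let c₁ : z.obj.fst.obj.fst.obj.snd ≅ z.obj.snd := (fpFst f f).toFunctor.mapIso z.obj.iso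
    let c₂ : z.obj.fst.obj.snd.obj.snd ≅ z.obj.snd := (fpSnd f f).toFunctor.mapIso z.obj.iso
    let a₁ := z.obj.fst.obj.fst.obj.iso
    let a₂ := z.obj.fst.obj.snd.obj.iso
    let b : z.obj.fst.obj.fst.obj.fst ≅ z.obj.fst.obj.snd.obj.fst := z.obj.fst.obj.iso
    let U := 𝒲.p.obj z.obj.fst.obj.fst.obj.fst
    haveI hz : (fp f f).p.IsHomLift (𝟙 U) z.obj.iso.hom := z.property
    haveI hl₁ : 𝒳.p.IsHomLift (𝟙 U) c₁.hom := BasedFunctor.preserves_isHomLift (fpFst f f) _ z.obj.iso.hom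
    haveI ha₁ : 𝒴.p.IsHomLift (𝟙 U) a₁.hom := z.obj.fst.obj.fst.property
    have hw : f.map c₁.hom ≫ 𝟙 _ = (a₁.inv ≫ g.map b.hom ≫ a₂.hom) ≫ f.map c₂.hom := z.obj.iso.hom.hom.w
    rw [Category.comp_id] at hw
    let w : (fp g f).obj := ⟨⟨z.obj.fst.obj.fst.obj.fst, z.obj.snd, a₁ ≪≫ f.toFunctor.mapIso c₁⟩,
      IsHomLift.comp_of_lift_id (p := 𝒴.p) U a₁.hom (f.map c₁.hom)⟩
    refine ⟨w, fpObjIso (fpObjIso (fpObjIso (Iso.refl _) c₁.symm ?_) (fpObjIso b c₂.symm ?_) ?_) (Iso.refl _)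
      (fpHom_ext ?_ ?_), ?_⟩
    · change g.map (𝟙 _) ≫ a₁.hom = (a₁.hom ≫ f.map c₁.hom) ≫ f.map c₁.inv
      rw [map_id' g, Category.assoc, ← f.map_comp, c₁.hom_inv_id, map_id' f]
      simp
    · change g.map b.hom ≫ a₂.hom = (a₁.hom ≫ f.map c₁.hom) ≫ f.map c₂.inv
      rw [hw]
      simp only [Category.assoc, Iso.hom_inv_id_assoc]
      rw [← f.map_comp, c₂.hom_inv_id, map_id' f]
      simp
    · exact (show (𝟙 _) ≫ b.hom = 𝟙 _ ≫ b.hom from rfl)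
    · change c₁.inv ≫ c₁.hom = 𝟙 _ ≫ 𝟙 _
      simp
    · change c₂.inv ≫ c₂.hom = 𝟙 _ ≫ 𝟙 _
      simp
    · exact fp_isHomLift _ (fp_isHomLift _ (fp_isHomLift _ (IsHomLift.id rfl)))

/-- The diagonal of a base change. -/
theorem repByAlgSpWith_diag_fpFst (h : RepByAlgSpWith P (diag f)) : RepByAlgSpWith P (diag (fpFst g f)) :=
  repByAlgSpWith_of_iso (f := BasedFunctor.comp (diagBC g f) (fpFst (baseSq g f) (diag f))) (Iso.refl _)
    ((repByAlgSpWith_precomp_equiv (isEquivOver_diagBC g f)).2 (repByAlgSpWith_fpFst (baseSq g f) h))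

end Groth.Agent.AlgSt88
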