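import Groth.Agent.AlgSt88.DiagRep2
import Groth.Agent.AlgSt88.LocPSt

/-! Diagonals and properties given by hypotheses. -/

set_option autoImplicit false
set_option backward.isDefEq.respectTransparency false
set_option backward.isDefEq.respectTransparency.types false
universe u

open CategoryTheory CategoryTheory.Limits AlgebraicGeometry Opposite AlgSt FibCat

namespace Groth.Agent.AlgSt88

variable {S : Scheme.{u}} {𝒳 𝒴 : AlgSt.Cat S} {P R : MorphismProperty (AlgSp.Sp S)}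

theorem onSpaces_respectsIso_of_bc (hPb : StableBC P) : (onSpaces P).RespectsIso := by
  refine MorphismProperty.RespectsIso.mk _ (fun {X Y Z} e f hf => ?_) (fun {X Y Z} e f hf => ?_)
  · obtain ⟨hY, hZ, hPf⟩ := hf
    exact ⟨hY.of_iso e.symm, hZ, hPb hY hZ (hY.of_iso e.symm) hZ f (𝟙 Z) (e.hom ≫ f) e.hom
      (IsPullback.of_horiz_isIso ⟨by simp⟩) hPf⟩
  · obtain ⟨hZ, hY, hPf⟩ := hf
    exact ⟨hZ, hY.of_iso e, hPb hZ hY hZ (hY.of_iso e) f e.inv (f ≫ e.hom) (𝟙 _)
      (IsPullback.of_horiz_isIso ⟨by simp⟩) hPf⟩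

theorem stableBC_onSpaces (hPb : StableBC P) : StableBC (onSpaces P) :=
  fun _ _ _ _ hX hY hX' hY' a b a' b' sq h => ⟨hX', hY', hPb hX hY hX' hY' a b a' b' sq h.2.2⟩

theorem stableComp_onSpaces (hPc : StableComp P) : StableComp (onSpaces P) :=
  fun _ _ _ hX hY hZ a b ha hb => ⟨hX, hZ, hPc hX hY hZ a b ha.2.2 hb.2.2⟩

theorem cancels_onSpaces (h : CancelsAlong P R) : CancelsAlong (onSpaces P) (onSpaces R) :=
  fun _ _ _ hX hY hZ a b hb hab => ⟨hX, hY, h hX hY hZ a b hb.2.2 hab.2.2⟩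

theorem spaceDescends_onSpaces_et (hP : AlgSp.IsLocalOnBase AlgSp.IsEtCover P) : SpaceDescends (onSpaces P) := by
  intro F G a ha
  obtain ⟨V, b, hb, hbs⟩ := G.property.atlas
  have sq := IsPullback.of_hasPullback a b
  obtain ⟨hF', hp⟩ := (AlgSp.repBySpWith_hom_iff _ a).1 ha b _ _ sq
  refine ⟨F.property, G.property, (hP (fun _ : PUnit.{u+1} => (AlgSp.yon S).obj V) (fun _ => b) G.property
    (fun _ => AlgSp.IsAlgSpace.yon_obj V)
    ⟨fun _ => SpPts86.isEtaleMor_of_repWith_etale hb, fun x => ⟨PUnit.unit, SpPts86.isSurjectiveMor_of_repWith hbs x⟩⟩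
    a F.property (fun _ => pullback a b) (fun _ => pullback.snd a b) (fun _ => pullback.fst a b)
    (fun _ => hF') (fun _ => sq)).2 (fun _ => hp.2.2)⟩

/-- A diagonal may be checked on base changes to schemes. -/
theorem repByAlgSpWith_diag_of_forall (f : 𝒳 ⥤ᵇ 𝒴)
    (h : ∀ (T : Over S) (y : overCat T ⥤ᵇ 𝒴), RepByAlgSpWith P (diag (fpFst y f))) :
    RepByAlgSpWith P (diag f) := by
  intro U p
  let p₁ := BasedFunctor.comp p (fpFst f f)
  let p₂ := BasedFunctor.comp p (fpSnd f f)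
  let y := BasedFunctor.comp p₁ f
  let ε : BasedFunctor.comp p₁ f ≅ BasedFunctor.comp p₂ f := bLeft p (fpIso f f)
  let l₁ : overCat U ⥤ᵇ fp y f := fpLift (BasedFunctor.id _) p₁ (Iso.refl _)
  let l₂ : overCat U ⥤ᵇ fp y f := fpLift (BasedFunctor.id _) p₂ ε
  let p' : overCat U ⥤ᵇ fp (fpFst y f) (fpFst y f) := fpLift l₁ l₂ (Iso.refl _)
  have h' : RepByAlgSpWith P (fpFst (baseSq y f) (diag f)) :=
    (repByAlgSpWith_precomp_equiv (isEquivOver_diagBC y f)).1
      (repByAlgSpWith_of_iso (f := diag (fpFst y f)) (Iso.refl _) (h U y))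
  let α : BasedFunctor.comp p' (baseSq y f) ≅ p := fpNatIso (Φ := BasedFunctor.comp p' (baseSq y f)) (Ψ := p)
    (Iso.refl _) (Iso.refl _) (fun x => by
      change f.map (𝟙 _) ≫ (p.obj x).obj.iso.hom = (𝟙 _ ≫ y.map (𝟙 _) ≫ (p.obj x).obj.iso.hom) ≫ f.map (𝟙 _)
      rw [map_id' f, map_id' f, map_id' y, Category.id_comp, Category.id_comp]
      exact ((Category.comp_id _).trans (Category.id_comp _)).symm)
  exact RepOver.transport (h' U p') (isEquivOver_comp (isEquivOver_fpPaste p' (baseSq y f) (diag f))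
    (isEquivOver_fpCongr α (Iso.refl _))) (Iso.refl _)

end Groth.Agent.AlgSt88
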