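import Groth.Agent.AlgSt88.AtlasFp
import Groth.Agent.AlgSt88.DiagCalc
import Groth.Agent.AlgSt88.DiagEt
import Groth.Agent.AlgSt88.DiagRep2
import Groth.Agent.AlgSt88.DiagSp

/-! Diagonals of the maps of 2-fibre products. -/

set_option autoImplicit false
set_option linter.unusedVariables false
set_option backward.isDefEq.respectTransparency false
set_option backward.isDefEq.respectTransparency.types false
universe u

open CategoryTheory CategoryTheory.Limits AlgebraicGeometry Opposite AlgSt FibCat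

namespace Groth.Agent.AlgSt88

variable {S : Scheme.{u}} {𝒳 𝒴 𝒵 𝒲 : AlgSt.Cat S} {P : MorphismProperty (AlgSp.Sp S)}

theorem repByAlgSpWith_diag_fpSnd (g : 𝒵 ⥤ᵇ 𝒴) {f : 𝒳 ⥤ᵇ 𝒴} (h : RepByAlgSpWith P (diag f)) :
    RepByAlgSpWith P (diag (fpSnd f g)) :=
  repByAlgSpWith_diag_of_iso (f := BasedFunctor.comp (fpSwap f g) (fpFst g f)) (Iso.refl _)
    ((repByAlgSpWith_diag_precomp_equiv isEquivOver_fpSwap).2 (repByAlgSpWith_diag_fpFst g f h))

theorem repByAlgSpWith_diag_fpMapFst (f : 𝒳 ⥤ᵇ 𝒵) (g : 𝒴 ⥤ᵇ 𝒵) {u : 𝒲 ⥤ᵇ 𝒳} (hu : RepByAlgSpWith P (diag u)) :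
    RepByAlgSpWith P (diag (fpMapFst f g u)) :=
  (repByAlgSpWith_diag_precomp_equiv (isEquivOver_fpPaste u f g)).1
    (repByAlgSpWith_diag_of_iso
      ((fpNatIso (Φ := BasedFunctor.comp (fpPaste u f g) (fpMapFst f g u)) (Ψ := fpSnd u (fpFst f g))
        (fpIso u (fpFst f g)) (Iso.refl _) (fun x => (by
          change f.map x.obj.iso.hom ≫ x.obj.snd.obj.iso.hom =
            (f.map x.obj.iso.hom ≫ x.obj.snd.obj.iso.hom) ≫ g.map (𝟙 _)
          rw [g.map_id, Category.comp_id]))).symm)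
      (repByAlgSpWith_diag_fpSnd (fpFst f g) hu))

theorem repByAlgSpWith_diag_fpMapSnd (f : 𝒳 ⥤ᵇ 𝒵) (g : 𝒴 ⥤ᵇ 𝒵) {v : 𝒲 ⥤ᵇ 𝒴} (hv : RepByAlgSpWith P (diag v)) :
    RepByAlgSpWith P (diag (fpMapSnd f g v)) :=
  repByAlgSpWith_diag_of_iso
    (fpNatIso (Φ := BasedFunctor.comp (fpSwap f (BasedFunctor.comp v g))
        (BasedFunctor.comp (fpMapFst g f v) (fpSwap g f)))
      (Ψ := fpMapSnd f g v) (Iso.refl _) (Iso.refl _) (fun x => (by
        change f.map (𝟙 x.obj.fst) ≫ x.obj.iso.hom = x.obj.iso.hom ≫ g.map (𝟙 (v.obj x.obj.snd))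
        simp only [f.map_id, g.map_id, Category.id_comp]; exact (Category.comp_id _).symm)))
    ((repByAlgSpWith_diag_precomp_equiv isEquivOver_fpSwap).2
      (repByAlgSpWith_diag_postcomp_equiv isEquivOver_fpSwap (repByAlgSpWith_diag_fpMapFst g f hv)))

theorem repByAlgSpWith_diag_fpMap {𝒳' 𝒴' : AlgSt.Cat S} (hX : IsFibGrpd 𝒳.p) (hX' : IsFibGrpd 𝒳'.p)
    (hY : IsFibGrpd 𝒴.p) (hY' : IsFibGrpd 𝒴'.p) (hZ : IsFibGrpd 𝒵.p)
    (hPi : P.RespectsIso) (hPd : SpaceDescends P) (hPc : StableComp P)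
    (p' : 𝒳' ⥤ᵇ 𝒵) (q' : 𝒴' ⥤ᵇ 𝒵) (f : 𝒳 ⥤ᵇ 𝒳') (g : 𝒴 ⥤ᵇ 𝒴')
    (e : BasedFunctor.comp (BasedFunctor.comp (fpFst (BasedFunctor.comp f p') (BasedFunctor.comp g q')) f) p' ≅
      BasedFunctor.comp (BasedFunctor.comp (fpSnd (BasedFunctor.comp f p') (BasedFunctor.comp g q')) g) q')
    (he : ∀ x, e.hom.toNatTrans.app x = x.obj.iso.hom)
    (hf : RepByAlgSpWith P (diag f)) (hg : RepByAlgSpWith P (diag g)) :
    RepByAlgSpWith P (diag (fpLift (BasedFunctor.comp (fpFst (BasedFunctor.comp f p') (BasedFunctor.comp g q')) f)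
      (BasedFunctor.comp (fpSnd (BasedFunctor.comp f p') (BasedFunctor.comp g q')) g) e)) := by
  let G := BasedFunctor.comp g q'
  refine repByAlgSpWith_diag_of_iso
    (fpNatIso (Φ := BasedFunctor.comp (fpMapFst p' G f) (fpMapSnd p' q' g)) (Ψ := fpLift _ _ e)
      (Iso.refl _) (Iso.refl _) (fun x => by
        change p'.map (𝟙 _) ≫ e.hom.toNatTrans.app x = x.obj.iso.hom ≫ q'.map (𝟙 _)
        rw [he, p'.map_id, q'.map_id]
        exact (Category.id_comp _).trans (Category.comp_id _).symm))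
    (repByAlgSpWith_diag_comp (isFibGrpd_fp hX hY hZ _ _) (isFibGrpd_fp hX' hY hZ _ _) hPi hPd hPc
      (repByAlgSpWith_diag_fpMapFst p' G hf) (repByAlgSpWith_diag_fpMapSnd p' q' hg))

end Groth.Agent.AlgSt88
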