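import Groth.Agent.AlgSt88.FppfDescent
import Groth.Agent.AlgSt88.Bootstrap
import Groth.Agent.AlgSt88.DiagSp
import Groth.Agent.SpPts86.CoverDescent

/-! The diagonal of a stack with a representable locally surjective chart. -/

set_option autoImplicit false
set_option backward.isDefEq.respectTransparency false
set_option backward.isDefEq.respectTransparency.types false
set_option linter.style.haveILetI false
universe w₂ v₂ w u

open CategoryTheory CategoryTheory.Limits AlgebraicGeometry Opposite AlgSt FibCat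

namespace Groth.Agent.AlgSt88

variable {S : Scheme.{u}} {𝒳 : BasedCategory.{u + 1, w} (Over S)} {𝒴 : BasedCategory.{v₂, w₂} (Over S)}
  {𝒲 ℋ : AlgSt.Cat S} {P : MorphismProperty (AlgSp.Sp S)}

/-- Objects lift locally along the functor. -/
def LiftsLocally (w : 𝒴 ⥤ᵇ 𝒳) : Prop :=
  ∀ (U : Over S) (y : overCat U ⥤ᵇ 𝒳), ∃ R ∈ (QuotSh.J Scheme.fppfPrecoverage S) U,
    ∀ ⦃V : Over S⦄ (h : V ⟶ U), R.arrows h →
      ∃ z : overCat V ⥤ᵇ 𝒴, Nonempty (BasedFunctor.comp z w ≅ BasedFunctor.comp (overMap h) y)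

theorem isAlgSpace_of_repByAlgSp_ofSp {P : AlgSp.Sp S} (h : RepByAlgSp (ofSp P)) : AlgSp.IsAlgSpace P := by
  obtain ⟨G, e, he⟩ := h
  obtain ⟨i, -⟩ := exists_iso_of_equivOver he (isEquivOver_id (ofSp P))
  exact G.property.of_iso i

/-- A stack in setoids over a scheme is an algebraic space if it is one locally. -/
theorem repByAlgSp_of_locally (hH : Stk.IsStack (QuotSh.J Scheme.fppfPrecoverage S) ℋ)
    (thin : ∀ {x y : ℋ.obj} (f g : x ⟶ y), ℋ.p.map f = ℋ.p.map g → f = g) {U : Over S} (q : ℋ ⥤ᵇ overCat U)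
    {R : Sieve U} (hR : R ∈ (QuotSh.J Scheme.fppfPrecoverage S) U)
    (h : ∀ ⦃V : Over S⦄ (c : V ⟶ U), R.arrows c → RepByAlgSp (fp (overMap c) q)) : RepByAlgSp ℋ := by
  have he := isEquivOver_toPi0 hH.1 thin
  have hs : Presieve.IsSheaf (QuotSh.J Scheme.fppfPrecoverage S) (pi0 ℋ hH.1) :=
    (Fib44.isStack_ofPsh_iff _).1 ((Fib44.isStack_iff_of_isEquivOver he _).1 hH)
  let F : AlgSp.Sp S := ⟨pi0 ℋ hH.1, (isSheaf_iff_isSheaf_of_type _ _).2 hs⟩
  obtain ⟨g, hg, -⟩ := isEquivOver_inverse he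
  let m : ofSp ((AlgSp.yon S).obj U) ⥤ᵇ overCat U := toOverCat U
  have hsnd : IsEquivOver (fpSnd m q) :=
    isEquivOver_of_iso (F := BasedFunctor.comp (fpSwap m q) (fpFst q m)) (Iso.refl _)
      (isEquivOver_comp isEquivOver_fpSwap (isEquivOver_fpFst q (isEquivOver_toOverCat U)))
  obtain ⟨i, hi, -⟩ := isEquivOver_inverse hsnd
  let g' : ofSp F ⥤ᵇ ℋ := g
  let e : ofSp F ⥤ᵇ fp m q := BasedFunctor.comp g' i
  have hee : IsEquivOver e := isEquivOver_comp hg hi
  obtain ⟨α⟩ := exists_hom_iso (F := F) (G := (AlgSp.yon S).obj U) (BasedFunctor.comp e (fpFst m q))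
  let a : F ⟶ (AlgSp.yon S).obj U := homOfBased (BasedFunctor.comp e (fpFst m q))
  obtain ⟨V, c, hcR, hc, hcs⟩ := exists_fppf_members hR
  have hP : ∀ t, AlgSp.IsAlgSpace (pullback a ((AlgSp.yon S).map (c t))) := fun t => by
    let ξ := (AlgSp.yon S).map (c t)
    let w' : overCat (V t) ⥤ᵇ ofSp ((AlgSp.yon S).obj U) := BasedFunctor.comp (ofOverCat (V t)) (ofSpMap ξ)
    obtain ⟨ι⟩ := overMap_iso (c t)
    have h1 : RepByAlgSp (fp w' (fpFst m q)) :=
      repByAlgSp_of_equiv' (h (c t) (hcR t)) (isEquivOver_comp (isEquivOver_fpPaste w' m q)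
        (isEquivOver_fpCongr (F := BasedFunctor.comp w' m) (F' := overMap (c t)) ι (Iso.refl q)))
    have h2 : RepByAlgSp (fp w' (ofSpMap a)) :=
      repByAlgSp_of_equiv' h1 (isEquivOver_comp
        (isEquivOver_fpCongr (F := w') (F' := w') (G := ofSpMap a) (Iso.refl _) α.symm)
        (isEquivOver_fpMapSnd w' (fpFst m q) e hee))
    have sq' := (IsPullback.of_hasPullback a ξ).map
      (sheafToPresheaf (QuotSh.J Scheme.fppfPrecoverage S) (Type (u + 1)))
    obtain ⟨e', he', -⟩ := exists_pullback_equiv a.hom (Iso.refl _) sq'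
    exact isAlgSpace_of_repByAlgSp_ofSp (P := pullback a ξ) (repByAlgSp_of_equiv' h2 he')
  have hF : AlgSp.IsAlgSpace F := SpPts86.isAlgSpace_of_fppf_local (AlgSp.IsAlgSpace.yon_obj U)
    (fun t => (AlgSp.yon S).obj (V t)) (fun t => AlgSp.IsAlgSpace.yon_obj _) (fun t => (AlgSp.yon S).map (c t))
    (isFppfCover_yon V c hc fun t => ⟨t, hcs t⟩) a hP
  exact repByAlgSp_of_equiv' (repByAlgSp_ofSp ⟨F, hF⟩) he

/-- A property local on the base descends along a covering sieve, in any universe. -/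
theorem repOver_of_sieve' [P.RespectsIso] (hP : AlgSp.IsLocalOnBase AlgSp.IsFppfCover P)
    {f : 𝒴 ⥤ᵇ 𝒳} (hf : RepByAlgSp1 f) {U : Over S}
    (z : overCat U ⥤ᵇ 𝒳) {R : Sieve U} (hR : R ∈ (QuotSh.J Scheme.fppfPrecoverage S) U)
    (h : ∀ ⦃W : Over S⦄ (p : W ⟶ U), R p → RepOver P (fpFst (BasedFunctor.comp (overMap p) z) f)) :
    RepOver P (fpFst z f) := by
  obtain ⟨V, c, hcR, hc, hs⟩ := exists_fppf_members hR
  let m : ofSp ((AlgSp.yon S).obj U) ⥤ᵇ 𝒳 := BasedFunctor.comp (toOverCat U) z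
  obtain ⟨I, e₀, he₀⟩ := hf U z
  have hM := isEquivOver_fpMapFst z f _ (isEquivOver_toOverCat U)
  obtain ⟨i, hi, -⟩ := isEquivOver_inverse hM
  let e : ofSp I.obj ⥤ᵇ fp m f := BasedFunctor.comp e₀ i
  have he : IsEquivOver e := isEquivOver_comp he₀ hi
  obtain ⟨α⟩ := exists_hom_iso (F := I.obj) (G := (AlgSp.yon S).obj U) (BasedFunctor.comp e (fpFst m f))
  let a : I.obj ⟶ (AlgSp.yon S).obj U := homOfBased (BasedFunctor.comp e (fpFst m f))
  have key : ∀ t, P (pullback.snd a ((AlgSp.yon S).map (c t))) := fun t => by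
    let ξ := (AlgSp.yon S).map (c t)
    let w' : overCat (V t) ⥤ᵇ ofSp ((AlgSp.yon S).obj U) := BasedFunctor.comp (ofOverCat (V t)) (ofSpMap ξ)
    obtain ⟨ι⟩ := overMap_iso (c t)
    have h1 : RepOver P (fpFst w' (fpFst m f)) :=
      RepOver.transport' (h (c t) (hcR t)) (isEquivOver_comp (isEquivOver_fpPaste w' m f)
        (isEquivOver_fpCongr (F := BasedFunctor.comp w' m) (F' := BasedFunctor.comp (overMap (c t)) z)
          (bRight ι z) (Iso.refl f))) (Iso.refl _)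
    have h2 : RepOver P (fpFst w' (ofSpMap a)) :=
      RepOver.transport' h1 (isEquivOver_comp (isEquivOver_fpCongr (F := w') (F' := w') (G := ofSpMap a) (Iso.refl _) α.symm)
        (isEquivOver_fpMapSnd w' (fpFst m f) e he)) (Iso.refl _)
    have sq' := (IsPullback.of_hasPullback a ξ).map (sheafToPresheaf (QuotSh.J Scheme.fppfPrecoverage S) (Type (u + 1)))
    obtain ⟨e', he', ⟨β⟩⟩ := exists_pullback_equiv a.hom (Iso.refl _) sq'
    have := RepOver.any (P := P) (F := pullback a ξ) h2 he'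
    rw [spMapOfOver_eq] at this
    rw [homOfBased_congr (F := pullback a ξ) (G := (AlgSp.yon S).obj (V t))
      (Φ := BasedFunctor.comp (BasedFunctor.comp e' (fpFst w' (ofSpMap a))) (ofOverCat (V t)))
      (Ψ := ofSpMap (pullback.snd a ξ)) β, homOfBased_ofSpMap] at this
    exact this
  have hPa : P a := (hP (fun t => (AlgSp.yon S).obj (V t)) (fun t => (AlgSp.yon S).map (c t))
    (AlgSp.IsAlgSpace.yon_obj U) (fun t => AlgSp.IsAlgSpace.yon_obj _)
    (isFppfCover_yon V c hc fun t => ⟨t, hs t⟩) a I.property (fun t => pullback a ((AlgSp.yon S).map (c t)))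
    (fun t => pullback.snd _ _) (fun t => pullback.fst _ _)
    (fun t => SpFP87.isAlgSpace_of_isPullback (IsPullback.of_hasPullback a _) I.property (AlgSp.IsAlgSpace.yon_obj _)
      (AlgSp.IsAlgSpace.yon_obj U).diag)
    (fun t => IsPullback.of_hasPullback _ _)).2 key
  refine ⟨I, BasedFunctor.comp e (fpMapFst z f (toOverCat U)),
    isEquivOver_comp he hM, ?_⟩
  have hmap : spMapOfOver (BasedFunctor.comp (BasedFunctor.comp e (fpMapFst z f (toOverCat U))) (fpFst z f)) =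
      a ≫ spMapOfOver (toOverCat U) := by
    have h' := spMapOfOver_congr (bRight α (toOverCat U))
    rw [spMapOfOver_comp (ofSpMap a) (toOverCat U), homOfBased_ofSpMap] at h'
    exact h'
  rw [hmap, spMapOfOver_toOverCat U]
  erw [Category.comp_id]
  exact hPa

/-- The diagonal is representable when maps from schemes are. -/
theorem repByAlgSp1_diag_of_rep (hX : IsFibGrpd 𝒳.p)
    (h : ∀ (U : Over S) (x : overCat U ⥤ᵇ 𝒳), RepByAlgSp1 x) : RepByAlgSp1 (diag (toSelf 𝒳)) := fun U z => by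
  let a := BasedFunctor.comp z (fpFst (toSelf 𝒳) (toSelf 𝒳))
  let b := BasedFunctor.comp z (fpSnd (toSelf 𝒳) (toSelf 𝒳))
  let δ : overCat U ⥤ᵇ fp (toSelf (overCat U)) (toSelf (overCat U)) :=
    fpLift (BasedFunctor.id _) (BasedFunctor.id _) (selfIso _ _)
  let α : BasedFunctor.comp δ (prodMap a b) ≅ z := fpNatIso
    (Φ := BasedFunctor.comp δ (prodMap a b)) (Ψ := z) (Iso.refl _) (Iso.refl _) (fun x => by
      refine self_hom_ext (𝟙 ((fp (toSelf 𝒳) (toSelf 𝒳)).p.obj (z.obj x))) ?_ ?_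
      · change (selfOver _).p.IsHomLift _ ((toSelf 𝒳).map (𝟙 _) ≫ _)
        rw [(toSelf 𝒳).map_id, Category.id_comp]
        exact (z.obj x).property
      · change (selfOver _).p.IsHomLift _ (_ ≫ (toSelf 𝒳).map (𝟙 _))
        rw [(toSelf 𝒳).map_id, Category.comp_id]
        exact ((BasedFunctor.comp δ (prodMap a b)).obj x).property)
  have hab : RepByAlgSp (fp a b) := h U b U a
  have hπ : RepByAlgSp1 (fpToProd a b) :=
    repByAlgSp1_of_repByAlgSp hab (repByAlgSp_prod (isFibGrpd_overCat U) (repByAlgSp_overCat U) (repByAlgSp_overCat U)) _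
  exact repByAlgSp_of_equiv (repByAlgSp_of_equiv (repByAlgSp_of_equiv
      (show RepByAlgSp (fp δ (BasedFunctor.comp (fpToDiag a b) (fpFst (prodMap a b) (diag (toSelf 𝒳))))) from hπ U δ)
      (isEquivOver_fpMapSnd δ _ (fpToDiag a b) (isEquivOver_fpToDiag a b)))
    (isEquivOver_fpPaste δ (prodMap a b) (diag (toSelf 𝒳))))
    (isEquivOver_fpCongr α (Iso.refl _))

/-- The diagonal of a stack with a representable chart along which objects lift locally. -/
theorem repByAlgSp1_diag_of_lifts (hX : Stk.IsStack (QuotSh.J Scheme.fppfPrecoverage S) 𝒳) (hW : IsFibGrpd 𝒲.p)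
    (hWs : RepByAlgSp 𝒲) (w : 𝒲 ⥤ᵇ 𝒳) (hw : RepByAlgSp1 w) (hl : LiftsLocally w) :
    RepByAlgSp1 (diag (toSelf 𝒳)) := by
  refine repByAlgSp1_diag_of_rep hX.1 fun T x V y => ?_
  have hT := isFibGrpd_overCat T
  have hH : Stk.IsStack (QuotSh.J Scheme.fppfPrecoverage S) (fp y x) :=
    Fib44.isStack_fp (isStack_overCat_fppf V) (isStack_overCat_fppf T) (Fib44.isPrestack_of_isStack hX)
  have thin : ∀ {a b : (fp y x).obj} (f g : a ⟶ b), (fp y x).p.map f = (fp y x).p.map g → f = g := by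
    intro a b f g h
    refine fpHom_ext (Over.OverMorphism.ext h) (Over.OverMorphism.ext ?_)
    have h' : (overCat T).p.map f.hom.snd = (overCat T).p.map g.hom.snd := by
      change (overCat T).p.map ((fpSnd y x).map f) = (overCat T).p.map ((fpSnd y x).map g)
      rw [p_map_eq, p_map_eq, h]
    exact h'
  obtain ⟨R, hR, hRl⟩ := hl V y
  refine repByAlgSp_of_locally hH thin (fpFst y x) hR fun W c hc => ?_
  obtain ⟨z, ⟨ι⟩⟩ := hRl c hc
  have hUT : RepByAlgSp (fp w x) := repByAlgSp_of_equiv (hw T x) isEquivOver_fpSwap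
  have hP : RepByAlgSp (fp z (fpFst w x)) :=
    repByAlgSp_fp (isFibGrpd_fp hW hT hX.1 w x) hW z (repByAlgSp1_of_repByAlgSp hUT hWs _) (repByAlgSp_overCat W)
  exact repByAlgSp_of_equiv' (repByAlgSp_of_equiv (repByAlgSp_of_equiv hP (isEquivOver_fpPaste z w x))
    (isEquivOver_fpCongr ι (Iso.refl x))) (isEquivOver_fpPaste (overMap c) y x)

theorem liftsLocally_prodMap {w : 𝒲 ⥤ᵇ 𝒳} (hl : LiftsLocally w) : LiftsLocally (prodMap w w) := by
  intro U y
  obtain ⟨R₁, hR₁, h₁⟩ := hl U (BasedFunctor.comp y (fpFst (toSelf 𝒳) (toSelf 𝒳)))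
  obtain ⟨R₂, hR₂, h₂⟩ := hl U (BasedFunctor.comp y (fpSnd (toSelf 𝒳) (toSelf 𝒳)))
  refine ⟨R₁ ⊓ R₂, GrothendieckTopology.intersection_covering _ hR₁ hR₂, fun V h hh => ?_⟩
  obtain ⟨z₁, ⟨ι₁⟩⟩ := h₁ h hh.1
  obtain ⟨z₂, ⟨ι₂⟩⟩ := h₂ h hh.2
  let z : overCat V ⥤ᵇ fp (toSelf 𝒲) (toSelf 𝒲) := fpLift z₁ z₂ (selfIso _ _)
  refine ⟨z, ⟨fpNatIso (Φ := BasedFunctor.comp z (prodMap w w)) (Ψ := BasedFunctor.comp (overMap h) y) ι₁ ι₂
    fun x => self_hom_ext (𝟙 ((overCat V).p.obj x)) ?_ ?_⟩⟩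
  · haveI : 𝒳.p.IsHomLift (𝟙 ((overCat V).p.obj x)) (ι₁.hom.toNatTrans.app x) := ι₁.hom.isHomLift' x
    haveI h1 : (selfOver (Over S)).p.IsHomLift (𝟙 ((overCat V).p.obj x))
        ((toSelf 𝒳).map (ι₁.hom.toNatTrans.app x)) := inferInstance
    haveI h2 : (selfOver (Over S)).p.IsHomLift (𝟙 ((overCat V).p.obj x))
        ((BasedFunctor.comp (overMap h) y).obj x).obj.iso.hom := by
      have := ((BasedFunctor.comp (overMap h) y).obj x).property
      rwa [← (BasedFunctor.comp (BasedFunctor.comp (overMap h) y) (fpFst (toSelf 𝒳) (toSelf 𝒳))).w_obj x]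
    exact @IsHomLift.comp_of_lift_id _ _ _ _ (selfOver (Over S)).p _ _ _ _ _ _ h1 h2
  · haveI : 𝒳.p.IsHomLift (𝟙 ((overCat V).p.obj x)) (ι₂.hom.toNatTrans.app x) := ι₂.hom.isHomLift' x
    haveI h1 : (selfOver (Over S)).p.IsHomLift (𝟙 ((overCat V).p.obj x))
        ((toSelf 𝒳).map (ι₂.hom.toNatTrans.app x)) := inferInstance
    haveI h2 : (selfOver (Over S)).p.IsHomLift (𝟙 ((overCat V).p.obj x))
        ((BasedFunctor.comp z (prodMap w w)).obj x).obj.iso.hom := by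
      have := ((BasedFunctor.comp z (prodMap w w)).obj x).property
      rwa [← (BasedFunctor.comp (BasedFunctor.comp z (prodMap w w)) (fpFst (toSelf 𝒳) (toSelf 𝒳))).w_obj x]
    exact @IsHomLift.comp_of_lift_id _ _ _ _ (selfOver (Over S)).p _ _ _ _ _ _ h2 h1

theorem isEquivOver_toSelf_ofSp_terminal :
    IsEquivOver (toSelf (ofSp ((AlgSp.yon S).obj (Over.mk (𝟙 S))))) :=
  isEquivOver_of_iso (F := BasedFunctor.comp (toOverCat (Over.mk (𝟙 S))) (toSelf (overCat (Over.mk (𝟙 S) : Over S))))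
    (selfIso _ _) (isEquivOver_comp (isEquivOver_toOverCat _) isEquivOver_toSelf_terminal)

/-- The diagonal inherits the properties of a chart from a category equivalent to the base. -/
theorem repByAlgSpWith_diag_of_lifts
    (hP : AlgSp.IsLocalOnBase AlgSp.IsFppfCover P) (hX : Stk.IsStack (QuotSh.J Scheme.fppfPrecoverage S) 𝒳)
    (hW : IsFibGrpd 𝒲.p) (hWs : RepByAlgSp 𝒲) (hWe : IsEquivOver (toSelf 𝒲)) (w : 𝒲 ⥤ᵇ 𝒳)
    (hw : RepByAlgSpWith P w) (hl : LiftsLocally w) : RepByAlgSpWith P (diag (toSelf 𝒳)) := by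
  rw [← repByAlgSpWith_onSpaces_iff]
  haveI := onSpaces_respectsIso hP
  intro U y
  obtain ⟨R, hR, hR'⟩ := liftsLocally_prodMap hl U y
  refine repOver_of_sieve' (isLocalOnBase_onSpaces hP)
    (repByAlgSp1_diag_of_lifts hX hW hWs w (repByAlgSp1_of_with hw) hl) y hR fun V p hp => ?_
  obtain ⟨z, ⟨ι⟩⟩ := hR' p hp
  have h1 : RepByAlgSpWith (onSpaces P) (fpFst (prodMap w w) (diag (toSelf 𝒳))) := by
    refine (repByAlgSpWith_precomp_equiv (isEquivOver_fpToDiag w w)).1 ?_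
    show RepByAlgSpWith (onSpaces P) (fpToProd w w)
    exact (repByAlgSpWith_postcomp_equiv (isEquivOver_fpFst (toSelf 𝒲) hWe)).1
      (repByAlgSpWith_fpFst w (repByAlgSpWith_onSpaces_iff.2 hw))
  exact RepOver.transport (h1 V z) (isEquivOver_comp (isEquivOver_fpPaste z (prodMap w w) (diag (toSelf 𝒳)))
    (isEquivOver_fpCongr (F := BasedFunctor.comp z (prodMap w w)) (F' := BasedFunctor.comp (overMap p) y) ι
      (Iso.refl (diag (toSelf 𝒳))))) (Iso.refl _)

/-- A section of the space representing a fibre gives a local lift. -/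
theorem exists_lift_of_section {U V : Over S} {y : overCat U ⥤ᵇ 𝒳} {w : 𝒲 ⥤ᵇ 𝒳} {F : AlgSp.Sp S}
    (e : ofSp F ⥤ᵇ fp y w) (c : V ⟶ U) (s : (AlgSp.yon S).obj V ⟶ F)
    (hs : s ≫ spMapOfOver (BasedFunctor.comp e (fpFst y w)) = (AlgSp.yon S).map c) :
    ∃ z : overCat V ⥤ᵇ 𝒲, Nonempty (BasedFunctor.comp z w ≅ BasedFunctor.comp (overMap c) y) := by
  let k : overCat V ⥤ᵇ fp y w := BasedFunctor.comp (ofOverCat V) (BasedFunctor.comp (ofSpMap s) e)
  let Φ : ofSp ((AlgSp.yon S).obj V) ⥤ᵇ overCat U :=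
    BasedFunctor.comp (ofSpMap s) (BasedFunctor.comp e (fpFst y w))
  obtain ⟨α⟩ := exists_hom_iso (F := (AlgSp.yon S).obj V) (G := (AlgSp.yon S).obj U)
    (BasedFunctor.comp Φ (ofOverCat U))
  have hh : homOfBased (F := (AlgSp.yon S).obj V) (G := (AlgSp.yon S).obj U)
      (BasedFunctor.comp Φ (ofOverCat U)) = (AlgSp.yon S).map c := by
    rw [← spMapOfOver_eq, spMapOfOver_comp (ofSpMap s) (BasedFunctor.comp e (fpFst y w)), homOfBased_ofSpMap, hs]
  have α' : BasedFunctor.comp Φ (ofOverCat U) ≅ ofSpMap ((AlgSp.yon S).map c) := hh ▸ α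
  obtain ⟨ι⟩ := overMap_iso c
  let β : BasedFunctor.comp (ofOverCat U) (toOverCat U) ≅ BasedFunctor.id (overCat U) :=
    BasedNatIso.mkNatIso
      (NatIso.ofComponents (fun a => Iso.refl _)
        (fun {a b} f => Over.OverMorphism.ext ((Category.comp_id _).trans (Category.id_comp _).symm)))
      (fun a => IsHomLift.id rfl)
  let γ : BasedFunctor.comp k (fpFst y w) ≅ overMap c :=
    bLeft (ofOverCat V) ((bLeft Φ β).symm ≪≫ bRight α' (toOverCat U)) ≪≫ ι
  exact ⟨BasedFunctor.comp k (fpSnd y w), ⟨(bLeft k (fpIso y w)).symm ≪≫ bRight γ y⟩⟩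

end Groth.Agent.AlgSt88
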