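import Groth.Agent.AlgSt88.BGSmoothTorsor
import Groth.Agent.RedPts82.DSFree
import Groth.Agent.RedPts82.SplitNormal
import Groth.Prelude.Def_Red2
import Mathlib.LinearAlgebra.FreeModule.PID
import Mathlib.RingTheory.Bialgebra.MonoidAlgebra

/-! A finitely generated diagonalisable group is the kernel of a surjection of split tori. -/

set_option autoImplicit false
set_option maxHeartbeats 2000000
set_option linter.style.haveILetI false
set_option linter.unusedVariables false
set_option backward.isDefEq.respectTransparency false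
set_option backward.isDefEq.respectTransparency.types false
universe u

open CategoryTheory CategoryTheory.Limits MonoidalCategory CartesianMonoidalCategory MonObj GrpObj
  AlgebraicGeometry Opposite AlgSt

namespace Groth.Agent.AlgSt88

variable {R : Type u} [CommRing R] {L N M : Type} [AddCommGroup L] [AddCommGroup N] [AddCommGroup M]

theorem isMonHom_diagMap (φ : L →+ N) : IsMonHom (Red.diagMap R φ) := by
  let b := CommBialgCat.ofHom (R := CommRingCat.of R)
    (MonoidAlgebra.mapDomainBialgHom R (AddMonoidHom.toMultiplicative φ))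
  have h := ((bialgSpec (CommRingCat.of R)).map b.op).isMonHom_hom
  exact h

/-- The group ring of a quotient is the base change of the augmentation. -/
theorem isPushout_monoidAlgebra (φ : L →+ N) (ψ : N →+ M) (hψ : Function.Surjective ψ) (hk : ψ.ker = φ.range) :
    IsPushout (CommRingCat.ofHom (MonoidAlgebra.mapDomainAlgHom R R (AddMonoidHom.toMultiplicative φ)).toRingHom)
      (CommRingCat.ofHom (Bialgebra.counitAlgHom R (MonoidAlgebra R (Multiplicative L))).toRingHom)
      (CommRingCat.ofHom (MonoidAlgebra.mapDomainAlgHom R R (AddMonoidHom.toMultiplicative ψ)).toRingHom)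
      (CommRingCat.ofHom (algebraMap R (MonoidAlgebra R (Multiplicative M)))) := by
  have hψφ : ∀ l, ψ (φ l) = 0 := fun l => by
    have : φ l ∈ ψ.ker := hk ▸ ⟨l, rfl⟩
    exact this
  have hw : CommRingCat.ofHom (MonoidAlgebra.mapDomainAlgHom R R (AddMonoidHom.toMultiplicative φ)).toRingHom ≫
      CommRingCat.ofHom (MonoidAlgebra.mapDomainAlgHom R R (AddMonoidHom.toMultiplicative ψ)).toRingHom =
      CommRingCat.ofHom (Bialgebra.counitAlgHom R (MonoidAlgebra R (Multiplicative L))).toRingHom ≫
        CommRingCat.ofHom (algebraMap R (MonoidAlgebra R (Multiplicative M))) := by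
    refine CommRingCat.hom_ext (MonoidAlgebra.ringHom_ext (fun r => ?_) fun l => ?_)
    · simp
    · have : Multiplicative.ofAdd (ψ (φ (Multiplicative.toAdd l))) = (1 : Multiplicative M) := by rw [hψφ]; rfl
      simp [MonoidAlgebra.one_def, this]
  refine ⟨⟨hw⟩, ⟨PushoutCocone.IsColimit.mk _ (fun s => ?_) ?_ ?_ ?_⟩⟩
  · letI : Algebra R s.pt := s.inr.hom.toAlgebra
    have hs : ∀ l, s.inl.hom (MonoidAlgebra.single (Multiplicative.ofAdd (φ l)) 1) = 1 := fun l => by
      have := congrArg (fun f => f.hom (MonoidAlgebra.single (Multiplicative.ofAdd l) 1)) s.condition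
      simp at this
      exact this
    let χ : Multiplicative N →* s.pt := s.inl.hom.toMonoidHom.comp (MonoidAlgebra.of R (Multiplicative N))
    have hker : ∀ a b : N, ψ a = ψ b → χ (Multiplicative.ofAdd a) = χ (Multiplicative.ofAdd b) := fun a b e => by
      have : a - b ∈ φ.range := hk ▸ (show ψ (a - b) = 0 by rw [map_sub, e, sub_self])
      obtain ⟨l, hl⟩ := this
      have e' : Multiplicative.ofAdd a = Multiplicative.ofAdd (φ l) * Multiplicative.ofAdd b := by
        rw [← ofAdd_add, hl, sub_add_cancel]
      rw [e', map_mul]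
      show s.inl.hom (MonoidAlgebra.single (Multiplicative.ofAdd (φ l)) 1) * _ = _
      rw [hs, _root_.one_mul]
    choose σ hσ using hψ
    let χ' : Multiplicative M →* s.pt :=
      { toFun := fun m => χ (Multiplicative.ofAdd (σ (Multiplicative.toAdd m)))
        map_one' := (hker _ 0 (by simp [hσ])).trans (map_one χ)
        map_mul' := fun a b => by
          rw [← map_mul χ, ← ofAdd_add]
          exact hker _ _ (by simp [hσ]) }
    exact CommRingCat.ofHom (MonoidAlgebra.lift R s.pt (Multiplicative M) χ').toRingHom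
  · intro s
    letI : Algebra R s.pt := s.inr.hom.toAlgebra
    refine CommRingCat.hom_ext (MonoidAlgebra.ringHom_ext (fun r => ?_) fun n => ?_)
    · have hs : ∀ l, s.inl.hom (MonoidAlgebra.single (Multiplicative.ofAdd (φ l)) 1) = 1 := fun l => by
        have := congrArg (fun f => f.hom (MonoidAlgebra.single (Multiplicative.ofAdd l) 1)) s.condition
        simp at this
        exact this
      have := congrArg (fun f => f.hom (MonoidAlgebra.single (1 : Multiplicative L) r)) s.condition
      simp at this
      simp [RingHom.algebraMap_toAlgebra, this]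
      obtain ⟨l, hl⟩ : (hψ 0).choose ∈ φ.range := hk ▸ (show ψ _ = 0 from (hψ 0).choose_spec)
      simp only [← hl, hs, Algebra.smul_def, _root_.mul_one]
      rfl
    · have hs : ∀ l, s.inl.hom (MonoidAlgebra.single (Multiplicative.ofAdd (φ l)) 1) = 1 := fun l => by
        have := congrArg (fun f => f.hom (MonoidAlgebra.single (Multiplicative.ofAdd l) 1)) s.condition
        simp at this
        exact this
      simp
      obtain ⟨l, hl⟩ : (hψ (ψ (Multiplicative.toAdd n))).choose - Multiplicative.toAdd n ∈ φ.range := hk ▸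
        (show ψ _ = 0 by rw [map_sub, (hψ (ψ (Multiplicative.toAdd n))).choose_spec, sub_self])
      have e' : Multiplicative.ofAdd (hψ (ψ (Multiplicative.toAdd n))).choose =
          Multiplicative.ofAdd (φ l) * n := by
        rw [hl]
        show _ = Multiplicative.ofAdd ((hψ (ψ (Multiplicative.toAdd n))).choose - Multiplicative.toAdd n + Multiplicative.toAdd n)
        rw [sub_add_cancel]
      rw [e', show (MonoidAlgebra.single (Multiplicative.ofAdd (φ l) * n) (1 : R)) =
        MonoidAlgebra.single (Multiplicative.ofAdd (φ l)) 1 * MonoidAlgebra.single n 1 by simp, map_mul, hs, _root_.one_mul]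
  · intro s
    refine CommRingCat.hom_ext (RingHom.ext fun r => ?_)
    letI : Algebra R s.pt := s.inr.hom.toAlgebra
    exact AlgHom.commutes (MonoidAlgebra.lift R s.pt (Multiplicative M) _) r
  · intro s m h1 h2
    letI : Algebra R s.pt := s.inr.hom.toAlgebra
    refine CommRingCat.hom_ext (MonoidAlgebra.ringHom_ext (fun r => ?_) fun n => ?_)
    · have hs : ∀ l, s.inl.hom (MonoidAlgebra.single (Multiplicative.ofAdd (φ l)) 1) = 1 := fun l => by
        have := congrArg (fun f => f.hom (MonoidAlgebra.single (Multiplicative.ofAdd l) 1)) s.condition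
        simp at this
        exact this
      have := congrArg (fun f => f.hom r) h2
      simp at this
      simp [RingHom.algebraMap_toAlgebra, this]
      obtain ⟨l, hl⟩ : (hψ 0).choose ∈ φ.range := hk ▸ (show ψ _ = 0 from (hψ 0).choose_spec)
      simp only [← hl, hs, Algebra.smul_def, _root_.mul_one]
      rfl
    · have := congrArg (fun f => f.hom (MonoidAlgebra.single
        (Multiplicative.ofAdd (hψ (Multiplicative.toAdd n)).choose) (1 : R))) h1
      simp [(hψ (Multiplicative.toAdd n)).choose_spec] at this
      simp [this]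

/-- The kernel square. -/
theorem isPullback_diagMap (φ : L →+ N) (ψ : N →+ M) (hψ : Function.Surjective ψ) (hk : ψ.ker = φ.range) :
    IsPullback (Red.diagMap R ψ) (toUnit (Red.diag R M)) (Red.diagMap R φ) η[Red.diag R L] := by
  have h := isPullback_SpecMap_of_isPushout _ _ _ _ (isPushout_monoidAlgebra (R := R) φ ψ hψ hk)
  refine IsPullback.of_map (Over.forget (Spec (CommRingCat.of R))) ?_ h
  exact Over.OverMorphism.ext h.w

theorem smooth_diag_free (r : ℕ) [IsNoetherianRing R] : Smooth (Red.diag R (Fin r → ℤ)).hom := by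
  haveI := RedPts82.formallySmooth_free R r
  haveI : Monoid.FG (Multiplicative (Fin r → ℤ)) :=
    Monoid.fg_iff.mpr ((AddMonoid.fg_iff_mul_fg.mp ((AddGroup.fg_iff_addMonoid_fg).mp inferInstance)).fg_top |> Monoid.fg_def.mpr |> Monoid.fg_iff.mp)
  haveI : Algebra.Smooth R (MonoidAlgebra R (Multiplicative (Fin r → ℤ))) :=
    ⟨inferInstance, Algebra.FinitePresentation.of_finiteType.mp inferInstance⟩
  show Smooth (Spec.map (CommRingCat.ofHom (algebraMap R (MonoidAlgebra R (Multiplicative (Fin r → ℤ))))))
  rw [HasRingHomProperty.Spec_iff (P := @Smooth)]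
  exact RingHom.smooth_algebraMap.mpr inferInstance

theorem diagMap_fppf (φ : L →+ N) (hφ : Function.Injective φ) :
    Flat (Red.diagMap R φ).left ∧ Surjective (Red.diagMap R φ).left := by
  have h : (MonoidAlgebra.mapDomainRingHom R (AddMonoidHom.toMultiplicative φ)).FaithfullyFlat :=
    RedPts82.mapDomainRingHom_faithfullyFlat _ hφ
  refine ⟨?_, ⟨?_⟩⟩
  · show Flat (Spec.map (CommRingCat.ofHom (MonoidAlgebra.mapDomainRingHom R (AddMonoidHom.toMultiplicative φ))))
    rw [HasRingHomProperty.Spec_iff (P := @Flat)]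
    exact h.flat
  · exact (RingHom.FaithfullyFlat.iff_flat_and_comap_surjective.1 h).2

/-- The torsor of a kernel. -/
theorem exists_kernel_torsor {S : Scheme.{u}} {G T B : Over S} [GrpObj G] [GrpObj T] [GrpObj B]
    (i : G ⟶ T) [IsMonHom i] (p : T ⟶ B) [IsMonHom p] (hk : IsPullback i (toUnit G) p η[B])
    (hp : Flat p.left) (hp' : Surjective p.left) (hp'' : LocallyOfFinitePresentation p.left) :
    ∃ A : QuotObj Scheme.fppfPrecoverage G (trivAction G), A.base = B ∧ A.P = T := by
  have hip : i ≫ p = 1 := by rw [hk.w, Hom.one_def]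
  let a : AlgGrp.Action G T :=
    { act := (fst G T ≫ i) * snd G T
      one_act := by
        rw [MonObj.comp_mul, whiskerRight_fst_assoc, whiskerRight_snd, IsMonHom.one_hom i]
        show (toUnit _ ≫ η[T]) * _ = _
        rw [← Hom.one_def, _root_.one_mul]
        exact (leftUnitor_hom _).symm
      mul_act := by
        have h : μ[G] ≫ i = (fst G G ≫ i) * (snd G G ≫ i) := by
          rw [IsMonHom.mul_hom i, Hom.mul_def, lift_fst_comp_snd_comp]
        simp [MonObj.comp_mul, h, _root_.mul_assoc] }
  have hact : ∀ {Z : Over S} (g : Z ⟶ G) (b : Z ⟶ T), lift g b ≫ a.act = (g ≫ i) * b := fun g b => by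
    simp [a, MonObj.comp_mul]
  have w : a.act ≫ p = snd G T ≫ p := by
    show ((fst G T ≫ i) * snd G T) ≫ p = _
    rw [MonObj.mul_comp, Category.assoc, hip]
    simp
  have cart : IsPullback a.act (snd G T) p p := by
    refine IsPullback.mk' w (fun Z g g' e1 e2 => ?_) (fun Z u v e => ?_)
    · have hg : ∀ g : Z ⟶ G ⊗ T, g ≫ a.act = (g ≫ fst G T ≫ i) * (g ≫ snd G T) := fun g => by
        simp [a, MonObj.comp_mul]
      rw [hg, hg, e2] at e1
      have e3 := mul_right_cancel e1
      refine CartesianMonoidalCategory.hom_ext _ _ (hk.hom_ext ?_ (toUnit_unique _ _)) e2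
      simpa using e3
    · have h1 : (u * v⁻¹) ≫ p = toUnit Z ≫ η[B] := by
        rw [MonObj.mul_comp, GrpObj.inv_comp, e, mul_inv_cancel, Hom.one_def]
      obtain ⟨g, hg, -⟩ := hk.exists_lift (u * v⁻¹) (toUnit Z) h1
      exact ⟨lift g v, by rw [hact, hg, inv_mul_cancel_right], lift_snd _ _⟩
  refine ⟨{ base := B
            P := T
            act := a
            π := p
            cart := cart
            loc := ?_
            φ := toUnit T
            eqv := toUnit_unique _ _ }, rfl, rfl⟩
  refine ⟨Presieve.singleton p.left, ?_, ?_⟩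
  · rw [Scheme.fppfPrecoverage, Scheme.singleton_mem_precoverage_iff]
    exact ⟨hp'.surj, hp, hp''⟩
  · rintro _ _ ⟨⟩
    exact ⟨𝟙 _, Category.id_comp _⟩

end Groth.Agent.AlgSt88

namespace Groth.Agent.AlgSt88

theorem monoidFG_multiplicative (L : Type) [AddCommGroup L] [AddGroup.FG L] : Monoid.FG (Multiplicative L) :=
  Monoid.fg_iff.mpr
    ((AddMonoid.fg_iff_mul_fg.mp ((AddGroup.fg_iff_addMonoid_fg).mp inferInstance)).fg_top |> Monoid.fg_def.mpr |> Monoid.fg_iff.mp)

theorem lfp_diagMap {R : Type u} [CommRing R] [IsNoetherianRing R] {L N : Type} [AddCommGroup L] [AddCommGroup N]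
    [AddGroup.FG L] [AddGroup.FG N] (φ : L →+ N) : LocallyOfFinitePresentation (Red.diagMap R φ).left := by
  haveI := monoidFG_multiplicative L
  haveI := monoidFG_multiplicative N
  show LocallyOfFinitePresentation (Spec.map (CommRingCat.ofHom
    (MonoidAlgebra.mapDomainRingHom R (AddMonoidHom.toMultiplicative φ))))
  rw [HasRingHomProperty.Spec_iff (P := @LocallyOfFinitePresentation)]
  refine RingHom.FinitePresentation.of_comp_finiteType (algebraMap R (MonoidAlgebra R (Multiplicative L))) ?_
    (RingHom.finiteType_algebraMap.mpr inferInstance)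
  have e : (MonoidAlgebra.mapDomainRingHom R (AddMonoidHom.toMultiplicative φ)).comp
      (algebraMap R (MonoidAlgebra R (Multiplicative L))) = algebraMap R (MonoidAlgebra R (Multiplicative N)) :=
    RingHom.ext fun r => by simp
  rw [CommRingCat.hom_ofHom, e]
  exact RingHom.finitePresentation_algebraMap.mpr (Algebra.FinitePresentation.of_finiteType.mp inferInstance)

theorem affine_flat_lfp_diag (R : Type u) [CommRing R] [IsNoetherianRing R] (M : Type) [AddCommGroup M]
    [AddGroup.FG M] : IsAffineHom (Red.diag R M).hom ∧ Flat (Red.diag R M).hom ∧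
      LocallyOfFinitePresentation (Red.diag R M).hom := by
  haveI := monoidFG_multiplicative M
  refine ⟨inferInstanceAs (IsAffineHom (Spec.map (CommRingCat.ofHom (algebraMap R (MonoidAlgebra R (Multiplicative M)))))), ?_, ?_⟩
  · show Flat (Spec.map (CommRingCat.ofHom (algebraMap R (MonoidAlgebra R (Multiplicative M)))))
    rw [HasRingHomProperty.Spec_iff (P := @Flat)]
    exact RingHom.flat_algebraMap_iff.2 inferInstance
  · show LocallyOfFinitePresentation (Spec.map (CommRingCat.ofHom (algebraMap R (MonoidAlgebra R (Multiplicative M)))))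
    rw [HasRingHomProperty.Spec_iff (P := @LocallyOfFinitePresentation)]
    exact RingHom.finitePresentation_algebraMap.mpr (Algebra.FinitePresentation.of_finiteType.mp inferInstance)

theorem exists_diag_torsor {R : Type u} [CommRing R] [IsNoetherianRing R] {L N M : Type} [AddCommGroup L]
    [AddCommGroup N] [AddCommGroup M] [AddGroup.FG L] [AddGroup.FG N] (φ : L →+ N) (ψ : N →+ M)
    (hφ : Function.Injective φ) (hψ : Function.Surjective ψ) (hk : ψ.ker = φ.range) :
    ∃ A : QuotObj Scheme.fppfPrecoverage (Red.diag R M) (trivAction (Red.diag R M)),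
      A.base = Red.diag R L ∧ A.P = Red.diag R N := by
  haveI := isMonHom_diagMap (R := R) φ
  haveI := isMonHom_diagMap (R := R) ψ
  obtain ⟨hfl, hsj⟩ := diagMap_fppf (R := R) φ hφ
  exact exists_kernel_torsor (G := Red.diag R M) (T := Red.diag R N) (B := Red.diag R L)
    (Red.diagMap R ψ) (Red.diagMap R φ) (isPullback_diagMap φ ψ hψ hk) hfl hsj (lfp_diagMap φ)

/-- The classifying stack of a finitely generated diagonalisable group over a field is smooth. -/
theorem locQ_smooth_BG_diag (k : Type u) [Field k] (M : Type) [AddCommGroup M] [Module.Finite ℤ M] :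
    LocQ (AlgSp.LocP @Smooth) (FibCat.toSelf (BG Scheme.fppfPrecoverage (Red.diag k M))) := by
  obtain ⟨r, f, hf⟩ := Module.Finite.exists_fin' ℤ M
  obtain ⟨n, b⟩ := Submodule.basisOfPid (Pi.basisFun ℤ (Fin r)) (LinearMap.ker f)
  let φ : (Fin n → ℤ) →+ (Fin r → ℤ) :=
    ((LinearMap.ker f).subtype.comp b.equivFun.symm.toLinearMap).toAddMonoidHom
  let ψ : (Fin r → ℤ) →+ M := f.toAddMonoidHom
  have hφ : Function.Injective φ := (Submodule.injective_subtype _).comp b.equivFun.symm.injective
  have hk : ψ.ker = φ.range := by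
    ext x
    constructor
    · intro hx
      exact ⟨b.equivFun ⟨x, hx⟩, by simp [φ]⟩
    · rintro ⟨y, rfl⟩
      exact (b.equivFun.symm y).2
  haveI : AddGroup.FG M := Module.Finite.iff_addGroup_fg.mp inferInstance
  obtain ⟨A, hA, hAP⟩ := exists_diag_torsor (R := k) φ ψ hφ hf hk
  obtain ⟨h1, h2, h3⟩ := affine_flat_lfp_diag k M
  haveI := h1
  haveI := h2
  haveI := h3
  refine locQ_smooth_toSelf_BG A ?_ ?_ ?_
  · rw [hAP]; exact smooth_diag_free r
  · rw [hAP]
    haveI : Subsingleton ↥(Spec (CommRingCat.of k)) := inferInstanceAs (Subsingleton (PrimeSpectrum k))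
    exact ⟨fun s => ⟨Classical.arbitrary (PrimeSpectrum (MonoidAlgebra k (Multiplicative (Fin r → ℤ)))),
      Subsingleton.elim _ _⟩⟩
  · rw [hA]; exact smooth_diag_free n

end Groth.Agent.AlgSt88
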