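import Groth.Agent.AlgSt88.GaloisDescent

/-!
Objects of a stack over the members of a disjoint covering glue.
-/

set_option autoImplicit false
set_option backward.isDefEq.respectTransparency false
set_option backward.isDefEq.respectTransparency.types false

universe w v₂ u₂ v u

open CategoryTheory CategoryTheory.Functor

namespace Groth.Agent.AlgSt88

variable {C : Type u} [Category.{v} C] {J : GrothendieckTopology C} {𝒳 : BasedCategory.{v₂, u₂} C}

/-- Over an object covered by the empty family parallel lifts exist uniquely. -/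
theorem existsUnique_of_bot (hst : Stk.IsStack J 𝒳) {T S' : C} (hT : (⊥ : Sieve T) ∈ J T) (f : T ⟶ S')
    {z w : 𝒳.obj} (hz : 𝒳.p.obj z = T) (hw : 𝒳.p.obj w = S') : ∃! k : z ⟶ w, 𝒳.p.IsHomLift f k := by
  obtain ⟨hg, hglue⟩ := Fib44.isStack_iff.1 hst
  obtain ⟨w', ψ, hψ⟩ := Fib44.exists_lift' 𝒳.p hg hw f
  obtain ⟨k, ⟨hk, -⟩, -⟩ := (hglue ⊥ hT).1 hz (IsHomLift.domain_eq 𝒳.p f ψ) (fun _ _ h => (h : False).elim)
    (fun _ _ h => (h : False).elim) (fun _ _ _ _ h _ => (h : False).elim)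
  have hk' : 𝒳.p.IsHomLift f (k ≫ ψ) := by
    have : 𝒳.p.IsHomLift (𝟙 T ≫ f) (k ≫ ψ) := inferInstance
    simpa using this
  refine ⟨k ≫ ψ, hk', fun k' hk'' => ?_⟩
  exact hom_ext_local hst f k' (k ≫ ψ) hT fun _ _ _ _ h _ => (h : False).elim

variable {ι : Type w} {V : ι → C} {Z : C} {c : ∀ i, V i ⟶ Z}

/-- A covering by disjoint subobjects. -/
structure DisjCover (J : GrothendieckTopology C) (c : ∀ i, V i ⟶ Z) : Prop where
  cover : Sieve.ofArrows V c ∈ J Z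
  mono : ∀ i, Mono (c i)
  disj : ∀ ⦃T : C⦄ (i j : ι) (l : T ⟶ V i) (l' : T ⟶ V j), i ≠ j → l ≫ c i = l' ≫ c j → (⊥ : Sieve T) ∈ J T

/-- Objects over the members of a disjoint covering glue. -/
theorem DisjCover.exists_glue (hc : DisjCover J c) (hst : Stk.IsStack J 𝒳) (X : ι → 𝒳.obj)
    (hX : ∀ i, 𝒳.p.obj (X i) = V i) :
    ∃ (x : 𝒳.obj), 𝒳.p.obj x = Z ∧ ∀ i, ∃ e : X i ⟶ x, 𝒳.p.IsHomLift (c i) e := by
  obtain ⟨hg, hglue⟩ := Fib44.isStack_iff.1 hst
  let R := Sieve.ofArrows V c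
  have hR : ∀ a : R.arrows.category, ∃ (i : ι) (l : a.obj.left ⟶ V i), l ≫ c i = a.obj.hom := fun a => by
    obtain ⟨W, l, f', hf', e⟩ := a.property
    cases hf' with
    | mk i => exact ⟨i, l, e⟩
  choose I L hL using hR
  have hz := fun a => Fib44.exists_lift' 𝒳.p hg (hX (I a)) (L a)
  choose G Ψ hΨ using hz
  -- the preferred morphism over a second lift
  have hpair : ∀ {T : C} {z : 𝒳.obj} {i j : ι} (l : T ⟶ V i) (ψ : z ⟶ X i) (l' : T ⟶ V j),
      𝒳.p.IsHomLift l ψ → l ≫ c i = l' ≫ c j →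
      ∃! ψ' : z ⟶ X j, 𝒳.p.IsHomLift l' ψ' ∧ ∀ h : i = j, ψ' = ψ ≫ eqToHom (congrArg X h) := by
    intro T z i j l ψ l' hψ e
    by_cases h : i = j
    · subst h
      haveI := hc.mono i
      obtain rfl : l = l' := (cancel_mono (c i)).1 e
      exact ⟨ψ, ⟨hψ, fun _ => by simp⟩, fun ψ' hψ' => by simpa using hψ'.2 rfl⟩
    · obtain ⟨k, hk, hu⟩ := existsUnique_of_bot hst (hc.disj i j l l' h e) l'
        (IsHomLift.domain_eq 𝒳.p l ψ) (hX j)
      exact ⟨k, ⟨hk, fun h' => absurd h' h⟩, fun ψ' hψ' => hu ψ' hψ'.1⟩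
  have hmap : ∀ {a b : R.arrows.category} (t : a ⟶ b), ∃! χ : G a ⟶ G b, 𝒳.p.IsHomLift t.hom.left χ ∧
      ∀ h : I a = I b, χ ≫ Ψ b = Ψ a ≫ eqToHom (congrArg X h) := fun {a b} t => by
    have := hΨ a
    have := hΨ b
    have := Fib44.isSC_of_fibGrpd 𝒳.p hg (L b) (Ψ b)
    obtain ⟨ψ', ⟨hψ', hc'⟩, hu⟩ := hpair (L a) (Ψ a) (t.hom.left ≫ L b) (hΨ a)
      (by rw [Category.assoc, hL, hL]; exact (Over.w t.hom).symm)
    refine ⟨IsStronglyCartesian.map 𝒳.p (L b) (Ψ b) (g := t.hom.left) rfl ψ',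
      ⟨IsStronglyCartesian.map_isHomLift 𝒳.p (L b) (Ψ b) (g := t.hom.left) rfl ψ', fun h => ?_⟩,
      fun χ ⟨hχ, hχc⟩ => ?_⟩
    · rw [IsStronglyCartesian.fac 𝒳.p (L b) (Ψ b) (g := t.hom.left) rfl ψ']
      exact hc' h
    · apply IsStronglyCartesian.map_uniq 𝒳.p (L b) (Ψ b) (g := t.hom.left) rfl ψ'
      exact hu _ ⟨inferInstance, hχc⟩
  let M : ∀ {a b : R.arrows.category}, (a ⟶ b) → (G a ⟶ G b) := fun t => (hmap t).choose
  have hM : ∀ {a b : R.arrows.category} (t : a ⟶ b), 𝒳.p.IsHomLift t.hom.left (M t) :=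
    fun t => (hmap t).choose_spec.1.1
  have hobj : ∀ a, 𝒳.p.obj (G a) = a.obj.left := fun a => have := hΨ a; IsHomLift.domain_eq 𝒳.p (L a) (Ψ a)
  let F : Stk.sieveCat R ⥤ᵇ 𝒳 :=
    { obj := G
      map := fun f => M f
      map_id := fun a => ((hmap (𝟙 a)).choose_spec.2 (𝟙 (G a))
        ⟨IsHomLift.id (hobj a), fun _ => by simp⟩).symm
      map_comp := fun {a b d} f g => ((hmap (f ≫ g)).choose_spec.2 (M f ≫ M g) (by
        have := hM f
        have := hM g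
        have := hΨ a
        have := hΨ b
        have := hΨ d
        refine ⟨inferInstanceAs (𝒳.p.IsHomLift (f.hom.left ≫ g.hom.left) (M f ≫ M g)), fun h => ?_⟩
        by_cases h' : I a = I b
        · rw [Category.assoc, (hmap g).choose_spec.1.2 (h'.symm.trans h), ← Category.assoc,
            (hmap f).choose_spec.1.2 h']
          simp
        · have e : L a ≫ c (I a) = (f.hom.left ≫ L b) ≫ c (I b) := by
            rw [Category.assoc, hL, hL]; exact (Over.w f.hom).symm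
          have hT := hc.disj (I a) (I b) (L a) (f.hom.left ≫ L b) h' e
          have h₁ : 𝒳.p.IsHomLift ((f.hom.left ≫ g.hom.left) ≫ L d) ((M f ≫ M g) ≫ Ψ d) := inferInstance
          obtain ⟨k, -, hu⟩ := existsUnique_of_bot hst hT ((f.hom.left ≫ g.hom.left) ≫ L d)
            (hobj a) (hX (I d))
          have h₂ : 𝒳.p.IsHomLift ((f.hom.left ≫ g.hom.left) ≫ L d) (Ψ a ≫ eqToHom (congrArg X h)) := by
            have e₂ : ((f.hom.left ≫ g.hom.left) ≫ L d) ≫ c (I d) = L a ≫ c (I a) := by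
              rw [Category.assoc, hL, hL]; exact Over.w (f ≫ g).hom
            obtain ⟨ψ', ⟨hψ', hc'⟩, -⟩ := hpair (L a) (Ψ a) ((f.hom.left ≫ g.hom.left) ≫ L d) (hΨ a) e₂.symm
            rw [← hc' h]; exact hψ'
          exact (hu _ h₁).trans (hu _ h₂).symm)).symm
      w := CategoryTheory.Functor.ext hobj fun a b f => by
        have := hM f
        exact IsHomLift.fac' 𝒳.p f.hom.left (M f) }
  obtain ⟨x, γ, hγ⟩ := (hglue R hc.cover).2 F
  refine ⟨x, hγ.over, fun i => ?_⟩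
  let a₀ : R.arrows.category := Fib44.sObj R (c i) (Sieve.ofArrows_mk V c i)
  have := hΨ a₀
  obtain ⟨ψ', ⟨hψ', -⟩, -⟩ := hpair (L a₀) (Ψ a₀) (𝟙 (V i)) (hΨ a₀)
    ((hL a₀).trans (Category.id_comp (c i)).symm)
  have := Fib44.isIso_of_fibGrpd 𝒳.p hg (𝟙 (V i)) ψ'
  have : 𝒳.p.IsHomLift (c i) (γ a₀) := hγ.lift a₀
  refine ⟨inv ψ' ≫ γ a₀, ?_⟩
  have h : 𝒳.p.IsHomLift (𝟙 (V i) ≫ c i) (inv ψ' ≫ γ a₀) := inferInstance
  simpa using h

end Groth.Agent.AlgSt88
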