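import Groth.Agent.AlgSt88.SpQProps
import Groth.Agent.S10567
import Groth.Agent.S10550
import Groth.Agent.S10553
import Groth.Agent.S10548
import Groth.Agent.S10549
import Groth.Agent.S10526
import Groth.Agent.S10527
import Groth.Agent.S10530
import Groth.Agent.S10542
import Groth.Agent.AlgSt88.DiagDescent
import Groth.Agent.AlgSt88.SepLocP

/-! Smooth-local properties used for morphisms of stacks. -/

set_option autoImplicit false
set_option linter.style.haveILetI false
set_option linter.unusedVariables false
universe u

open CategoryTheory CategoryTheory.Limits AlgebraicGeometry Opposite AlgSp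

namespace Groth.Agent.AlgSt88

variable {S : Scheme.{u}}

theorem isFppfCover_of_isSmCover {X : Sp S} {ι : Type u} {Y : ι → Sp S} {g : ∀ i, Y i ⟶ X} (h : IsSmCover Y g) :
    IsFppfCover Y g :=
  ⟨fun i => ⟨flat_of_smooth' (h.1 i), lfp_of_smooth' (h.1 i)⟩, h.2⟩

theorem localBase_sm {P : MorphismProperty (Sp S)} (h : IsLocalOnBase (IsFpqcCover (S := S)) P) :
    IsLocalOnBase (IsSmCover (S := S)) P := fun _ _ Yi g hY hYi hg _ f hX Xi p q hXi sq =>
  fppf_local_of_fpqc h Yi g hY hYi (isFppfCover_of_isSmCover hg) f hX Xi p q hXi sq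

theorem localSource_sm {P : MorphismProperty (Sp S)} (h : IsLocalOnSource (IsFppfCover (S := S)) P) :
    IsLocalOnSource (IsSmCover (S := S)) P := fun _ _ Xi g hX hXi hg _ f hY =>
  h Xi g hX hXi (isFppfCover_of_isSmCover hg) f hY

theorem smoothLocal_lft : IsSmoothLocalST (S := S) (LocP @LocallyOfFiniteType) :=
  S10567.result _ (localSource_sm (S10550.result S)) (localBase_sm (S10526.result S)) fun X Y Z f g hf hg =>
    SpFP87.locP_comp X.property Y.property Z.property hf (SpFP87.LocP.of_le
      (fun _ _ k hk => by haveI := hk; exact (inferInstance : LocallyOfFiniteType k)) hg)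

theorem smoothLocal_lfp : IsSmoothLocalST (S := S) (LocP @LocallyOfFinitePresentation) :=
  S10567.result _ (localSource_sm (S10549.result S)) (localBase_sm (S10527.result S)) fun X Y Z f g hf hg =>
    SpFP87.locP_comp X.property Y.property Z.property hf (lfp_of_smooth' hg)

theorem smoothLocal_flat : IsSmoothLocalST (S := S) (LocP @Flat) :=
  S10567.result _ (localSource_sm fun _ _ Xi g hX hXi hg _ f hY =>
      S10548.result S Xi g hX hXi (SpFP87.isFpqcCover_of_isFppfCover Xi g hX hXi hg) f hY)
    (localBase_sm (S10530.result S)) fun X Y Z f g hf hg =>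
    SpFP87.locP_comp X.property Y.property Z.property hf (flat_of_smooth' hg)

theorem smoothLocal_smooth : IsSmoothLocalST (S := S) (LocP @Smooth) :=
  S10567.result _ (S10553.result S) (localBase_sm (S10542.result S)) fun X Y Z f g hf hg =>
    SpFP87.locP_comp X.property Y.property Z.property hf hg

end Groth.Agent.AlgSt88
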