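import Groth.Agent.AlgSt88.AtlasFp
import Groth.Agent.AlgSt88.LocalProps
import Groth.Agent.AlgSt88.DiagLFT
import Groth.Agent.SpFP87.LocalST

/-! Properties of morphisms of stacks read on charts. -/

set_option autoImplicit false
set_option maxHeartbeats 1000000
set_option linter.style.haveILetI false
set_option linter.unusedVariables false
set_option backward.isDefEq.respectTransparency false
set_option backward.isDefEq.respectTransparency.types false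
universe u

open CategoryTheory CategoryTheory.Limits AlgebraicGeometry Opposite AlgSt FibCat

namespace Groth.Agent.AlgSt88

variable {S : Scheme.{u}} {𝒳 𝒴 : AlgSt.Cat S} {P : MorphismProperty (AlgSp.Sp S)}

abbrev Sm {𝒳 𝒴 : AlgSt.Cat S} (f : 𝒳 ⥤ᵇ 𝒴) : Prop := RepByAlgSpWith (AlgSp.LocP @Smooth) f

abbrev Sj {𝒳 𝒴 : AlgSt.Cat S} (f : 𝒳 ⥤ᵇ 𝒴) : Prop := RepByAlgSpWith AlgSp.IsSurjectiveMor f

theorem sm_comp {𝒲 : AlgSt.Cat S} (hW : IsFibGrpd 𝒲.p) (hX : IsFibGrpd 𝒳.p) {a : 𝒲 ⥤ᵇ 𝒳} {b : 𝒳 ⥤ᵇ 𝒴}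
    (ha : Sm a) (hb : Sm b) : Sm (BasedFunctor.comp a b) :=
  repByAlgSpWith_locP_comp @Smooth hW hX ha hb

/-- A property of a functor between algebraic spaces passes to the morphism. -/
theorem prop_homOfBased (hPi : P.RespectsIso) (hPd : SpaceDescends P) {F G : AlgSp.Space S}
    {Φ : ofSp F.obj ⥤ᵇ ofSp G.obj} (h : RepByAlgSpWith P Φ) : P (homOfBased Φ) := by
  haveI := hPi
  obtain ⟨α⟩ := exists_hom_iso Φ
  exact hPd F G _ ((repByAlgSpWith_ofPshMap_iff P _).2 (repByAlgSpWith_of_iso α h))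

theorem toOver_overMap {U V : Over S} (h : U ⟶ V) :
    Nonempty (BasedFunctor.comp (toOverCat U) (overMap h) ≅
      BasedFunctor.comp (ofSpMap ((AlgSp.yon S).map h)) (toOverCat V)) :=
  ⟨BasedNatIso.mkNatIso (NatIso.ofComponents (fun a => Iso.refl _)
    (fun {a b} f => Over.OverMorphism.ext ((Category.comp_id _).trans (Category.id_comp _).symm)))
    (fun a => IsHomLift.id rfl)⟩

theorem ofSp_hom_factor {F : AlgSp.Sp S} {V : Over S} (Φ : ofSp F ⥤ᵇ ofSch V) :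
    Nonempty (Φ ≅ ofSpMap (homOfBased Φ)) := exists_hom_iso Φ

/-- The core comparison of two charts. -/
theorem chart_transfer (hP : AlgSp.IsSmoothLocalST P) (hX : IsFibGrpd 𝒳.p) (hY : IsFibGrpd 𝒴.p) {f : 𝒳 ⥤ᵇ 𝒴}
    {U₀ V₀ : AlgSp.Space S} {x₀ : ofSp U₀.obj ⥤ᵇ 𝒳} {y₀ : ofSp V₀.obj ⥤ᵇ 𝒴} {h₀ : U₀.obj ⟶ V₀.obj}
    (α₀ : BasedFunctor.comp x₀ f ≅ BasedFunctor.comp (ofSpMap h₀) y₀)
    (hx₀ : Sm x₀) (hx₀' : Sj x₀) (hy₀ : Sm y₀) (h0 : P h₀)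
    {U V : AlgSp.Space S} (y : ofSp V.obj ⥤ᵇ 𝒴) (l : ofSp U.obj ⥤ᵇ fp f y) (hy : Sm y) (hl : Sm l) :
    P (homOfBased (BasedFunctor.comp l (fpSnd f y))) := by
  have hU₀ := Stk.isFibGrpd_ofPsh U₀.obj.obj
  have hV₀ := Stk.isFibGrpd_ofPsh V₀.obj.obj
  have hU := Stk.isFibGrpd_ofPsh U.obj.obj
  have hV := Stk.isFibGrpd_ofPsh V.obj.obj
  have hC : IsFibGrpd (fp f y).p := isFibGrpd_fp hX hV hY f y
  let q := fpFst (fpFst f y) x₀
  have hD : IsFibGrpd (fp (fpFst f y) x₀).p := isFibGrpd_fp hC hU₀ hX _ _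
  obtain ⟨U', p, e₁, he₁, ⟨αp⟩, hp⟩ :=
    exists_space_fp hD hC (f := q) (repByAlgSp1_fpFst _ (repByAlgSp1_of_with hx₀)) U l
  have hps : AlgSp.LocP @Smooth p :=
    spaceDescends_locP _ U' U p (hp _ (respectsIso_locP _) (repByAlgSpWith_fpFst _ hx₀))
  have hpj : AlgSp.IsSurjectiveMor p :=
    spaceDescends_surj U' U p (hp _ respectsIso_surj (repByAlgSpWith_fpFst _ hx₀'))
  obtain ⟨V', s, e₂, he₂, ⟨αs⟩, hs⟩ := exists_space_fp hV hY (repByAlgSp1_of_with hy) V₀ y₀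
  have hss : AlgSp.LocP @Smooth s := spaceDescends_locP _ V' V₀ s (hs _ (respectsIso_locP _) hy)
  let r : V'.obj ⟶ V.obj := homOfBased (BasedFunctor.comp e₂ (fpSnd y₀ y))
  have hrs : AlgSp.LocP @Smooth r := prop_homOfBased (respectsIso_locP _) (spaceDescends_locP _)
    ((repByAlgSpWith_precomp_equiv he₂).2 (repByAlgSpWith_fpSnd y hy₀))
  -- the fibre product `W = U₀ ×_{V₀} V'`
  have sq := IsPullback.of_hasPullback s h₀
  have sqP := sq.flip.map (sheafToPresheaf (QuotSh.J Scheme.fppfPrecoverage S) (Type (u + 1)))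
  let W : AlgSp.Space S :=
    ⟨pullback s h₀, SpFP87.isAlgSpace_of_isPullback sq V'.property U₀.property V₀.property.diag⟩
  let c₁ := fpCongr (F := ofSpMap h₀) (F' := ofSpMap h₀) (G := ofSpMap s)
      (G' := BasedFunctor.comp e₂ (fpFst y₀ y)) (Iso.refl _) αs.symm
  let Φ : ofSp W.obj ⥤ᵇ fp (BasedFunctor.comp (ofSpMap h₀) y₀) y :=
    BasedFunctor.comp (pshFpLift sqP.w) (BasedFunctor.comp c₁
      (BasedFunctor.comp (fpMapSnd (ofSpMap h₀) (fpFst y₀ y) e₂) (fpPaste (ofSpMap h₀) y₀ y)))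
  have hΦ : IsEquivOver Φ := isEquivOver_comp (isEquivOver_pshFpLift sqP)
    (isEquivOver_comp (isEquivOver_fpCongr _ _)
      (isEquivOver_comp (isEquivOver_fpMapSnd _ _ _ he₂) (isEquivOver_fpPaste _ _ _)))
  let k : fp l q ⥤ᵇ fp (BasedFunctor.comp (ofSpMap h₀) y₀) y :=
    BasedFunctor.comp (fpSnd l q) (BasedFunctor.comp (fpSwap (fpFst f y) x₀)
      (BasedFunctor.comp (fpPaste x₀ f y) (fpCongr α₀ (Iso.refl y))))
  have hk : Sm k := (repByAlgSpWith_postcomp_equiv (f := fpSnd l q) (isEquivOver_comp isEquivOver_fpSwap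
    (isEquivOver_comp (isEquivOver_fpPaste x₀ f y) (isEquivOver_fpCongr _ _)))).2 (repByAlgSpWith_fpSnd q hl)
  obtain ⟨Ψ, hΨ, -, ⟨β⟩⟩ := isEquivOver_inverse hΦ
  let t : U'.obj ⟶ W.obj := homOfBased (BasedFunctor.comp (BasedFunctor.comp e₁ k) Ψ)
  have ht : AlgSp.LocP @Smooth t := prop_homOfBased (respectsIso_locP _) (spaceDescends_locP _)
    ((repByAlgSpWith_postcomp_equiv hΨ).2 ((repByAlgSpWith_precomp_equiv he₁).2 hk))
  let h' : U'.obj ⟶ V'.obj := t ≫ pullback.fst s h₀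
  have hP' : P h' := hP.precomp U'.property W.property V'.property t _ ht
    (hP.baseChange U₀.property V₀.property W.property V'.property h₀ s _ _ sq.flip hss h0)
  let h := homOfBased (BasedFunctor.comp l (fpSnd f y))
  have hsq : p ≫ h = h' ≫ r := by
    obtain ⟨γt⟩ := exists_hom_iso (BasedFunctor.comp (BasedFunctor.comp e₁ k) Ψ)
    have e3 : homOfBased (BasedFunctor.comp Φ (fpSnd _ y)) = pullback.fst s h₀ ≫ r := by
      change homOfBased (BasedFunctor.comp (ofSpMap (pullback.fst s h₀)) (BasedFunctor.comp e₂ (fpSnd y₀ y))) = _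
      rw [homOfBased_comp, homOfBased_ofSpMap]
    have e4 : homOfBased (BasedFunctor.comp (BasedFunctor.comp e₁ k) (fpSnd _ y)) = h' ≫ r := by
      rw [Category.assoc, ← e3, ← homOfBased_comp]
      exact homOfBased_congr (bLeft (BasedFunctor.comp e₁ k) (bRight β (fpSnd _ y))).symm
    rw [← e4]
    have e5 : homOfBased (BasedFunctor.comp (BasedFunctor.comp e₁ k) (fpSnd _ y)) =
        homOfBased (BasedFunctor.comp (BasedFunctor.comp e₁ (fpFst l q)) (BasedFunctor.comp l (fpSnd f y))) :=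
      homOfBased_congr (F := U'.obj) (G := V.obj)
        (bLeft e₁ (bRight (fpIso l q) (fpSnd f y))).symm
    rw [e5, homOfBased_comp, homOfBased_congr αp, homOfBased_ofSpMap]
  refine (hP.locality U.property V.property h).2 fun u => ?_
  obtain ⟨v, hv⟩ := hpj u
  exact ⟨U'.obj, V'.obj, p, r, h', v, U'.property, V'.property, hps, hrs, hsq, hv, hP'⟩

/-- Charts by spaces. -/
def SpQ (P : MorphismProperty (AlgSp.Sp S)) {𝒳 𝒴 : AlgSt.Cat S} (f : 𝒳 ⥤ᵇ 𝒴) : Prop :=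
  ∃ (U V : AlgSp.Space S) (x : ofSp U.obj ⥤ᵇ 𝒳) (y : ofSp V.obj ⥤ᵇ 𝒴) (h : U.obj ⟶ V.obj)
    (_ : BasedFunctor.comp x f ≅ BasedFunctor.comp (ofSpMap h) y), Sm x ∧ Sj x ∧ Sm y ∧ P h

theorem SpQ.prop (hP : AlgSp.IsSmoothLocalST P) (hX : IsFibGrpd 𝒳.p) (hY : IsFibGrpd 𝒴.p) {f : 𝒳 ⥤ᵇ 𝒴}
    (hf : SpQ P f) {U V : AlgSp.Space S} (y : ofSp V.obj ⥤ᵇ 𝒴) (l : ofSp U.obj ⥤ᵇ fp f y) (hy : Sm y) (hl : Sm l) :
    P (homOfBased (BasedFunctor.comp l (fpSnd f y))) := by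
  obtain ⟨U₀, V₀, x₀, y₀, h₀, α₀, hx, hx', hy₀, h0⟩ := hf
  exact chart_transfer hP hX hY α₀ hx hx' hy₀ h0 y l hy hl

theorem spQ_of_locQ {f : 𝒳 ⥤ᵇ 𝒴} (h : LocQ P f) : SpQ P f := by
  obtain ⟨U, V, x, y, h, α, hx, hx', hy, hh⟩ := h
  obtain ⟨ι⟩ := toOver_overMap h
  exact ⟨⟨_, AlgSp.IsAlgSpace.yon_obj U⟩, ⟨_, AlgSp.IsAlgSpace.yon_obj V⟩, BasedFunctor.comp (toOverCat U) x,
    BasedFunctor.comp (toOverCat V) y, (AlgSp.yon S).map h, bLeft (toOverCat U) α ≪≫ bRight ι y,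
    (repByAlgSpWith_precomp_equiv (isEquivOver_toOverCat U)).2 hx,
    (repByAlgSpWith_precomp_equiv (isEquivOver_toOverCat U)).2 hx',
    (repByAlgSpWith_precomp_equiv (isEquivOver_toOverCat V)).2 hy, hh⟩

/-- A scheme atlas of the base change to a chart. -/
theorem exists_lift_chart (h𝒳 : IsAlgStack Scheme.fppfPrecoverage 𝒳) (h𝒴 : IsAlgStack Scheme.fppfPrecoverage 𝒴)
    (f : 𝒳 ⥤ᵇ 𝒴) {V : AlgSp.Space S} (y : ofSp V.obj ⥤ᵇ 𝒴) :
    ∃ (U : Over S) (l : ofSch U ⥤ᵇ fp f y), Sm l ∧ Sj l := by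
  obtain ⟨U, u, hu, hu'⟩ := (isAlgStack_fp h𝒴.isStack h𝒴.diag h𝒳 (isDM_ofSp V).1 f y).atlas
  exact ⟨U, BasedFunctor.comp (toOverCat U) u, (repByAlgSpWith_precomp_equiv (isEquivOver_toOverCat U)).2 hu,
    (repByAlgSpWith_precomp_equiv (isEquivOver_toOverCat U)).2 hu'⟩

theorem exists_space_atlas (h𝒴 : IsAlgStack Scheme.fppfPrecoverage 𝒴) :
    ∃ (V : Over S) (y : ofSch V ⥤ᵇ 𝒴), Sm y ∧ Sj y := by
  obtain ⟨V, y, hy, hy'⟩ := h𝒴.atlas
  exact ⟨V, BasedFunctor.comp (toOverCat V) y, (repByAlgSpWith_precomp_equiv (isEquivOver_toOverCat V)).2 hy,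
    (repByAlgSpWith_precomp_equiv (isEquivOver_toOverCat V)).2 hy'⟩

/-- From a universal property on charts. -/
theorem locQ_of_forall (h𝒳 : IsAlgStack Scheme.fppfPrecoverage 𝒳) (h𝒴 : IsAlgStack Scheme.fppfPrecoverage 𝒴)
    {f : 𝒳 ⥤ᵇ 𝒴}
    (h : ∀ (U V : Over S) (y : ofSch V ⥤ᵇ 𝒴) (l : ofSch U ⥤ᵇ fp f y), Sm y → Sj y → Sm l → Sj l →
      P (homOfBased (BasedFunctor.comp l (fpSnd f y)))) : LocQ P f := by
  obtain ⟨V, y, hy, hy'⟩ := exists_space_atlas h𝒴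
  obtain ⟨U, l, hl, hl'⟩ := exists_lift_chart h𝒳 h𝒴 f (V := ⟨_, AlgSp.IsAlgSpace.yon_obj V⟩) y
  let g := homOfBased (BasedFunctor.comp l (fpSnd f y))
  obtain ⟨k, hk⟩ := (AlgSp.yon S).map_surjective g
  obtain ⟨γ⟩ := exists_hom_iso (BasedFunctor.comp l (fpSnd f y))
  rw [show homOfBased (BasedFunctor.comp l (fpSnd f y)) = (AlgSp.yon S).map k from hk.symm] at γ
  obtain ⟨ι⟩ := overMap_iso k
  let x := BasedFunctor.comp l (fpFst f y)
  have hC : IsFibGrpd (fp f y).p :=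
    isFibGrpd_fp h𝒳.isStack.1 (Stk.isFibGrpd_ofPsh _) h𝒴.isStack.1 f y
  refine ⟨U, V, BasedFunctor.comp (ofOverCat U) x, BasedFunctor.comp (ofOverCat V) y, k, ?_, ?_, ?_, ?_, ?_⟩
  · have hid : BasedFunctor.comp (toOverCat V) (ofOverCat V) ≅ BasedFunctor.id (ofSch V) :=
      BasedNatIso.mkNatIso (NatIso.ofComponents (fun a => Iso.refl _)
        (fun {a b} f => Stk.EltObj.hom_ext ((Category.comp_id _).trans (Category.id_comp _).symm)))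
        (fun a => IsHomLift.id rfl)
    exact bLeft (ofOverCat U) (bLeft l (fpIso f y) ≪≫ bRight γ y) ≪≫
      (bLeft (BasedFunctor.comp (ofOverCat U) (ofSpMap ((AlgSp.yon S).map k))) (bRight hid y)).symm ≪≫
      bRight ι (BasedFunctor.comp (ofOverCat V) y)
  · exact (repByAlgSpWith_precomp_equiv (isEquivOver_ofOverCat U)).2
      (sm_comp (Stk.isFibGrpd_ofPsh _) hC hl (repByAlgSpWith_fpFst f hy))
  · exact (repByAlgSpWith_precomp_equiv (isEquivOver_ofOverCat U)).2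
      (repByAlgSpWith_surj_comp (Stk.isFibGrpd_ofPsh _) hC hl' (repByAlgSpWith_fpFst f hy'))
  · exact (repByAlgSpWith_precomp_equiv (isEquivOver_ofOverCat V)).2 hy
  · exact hk ▸ h U V y l hy hy' hl hl'

theorem locQ_iff_spQ (hP : AlgSp.IsSmoothLocalST P) (h𝒳 : IsAlgStack Scheme.fppfPrecoverage 𝒳)
    (h𝒴 : IsAlgStack Scheme.fppfPrecoverage 𝒴) {f : 𝒳 ⥤ᵇ 𝒴} : LocQ P f ↔ SpQ P f :=
  ⟨spQ_of_locQ, fun h => locQ_of_forall h𝒳 h𝒴 fun U V y l hy _ hl _ =>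
    h.prop hP h𝒳.isStack.1 h𝒴.isStack.1 (U := ⟨_, AlgSp.IsAlgSpace.yon_obj U⟩)
      (V := ⟨_, AlgSp.IsAlgSpace.yon_obj V⟩) y l hy hl⟩

end Groth.Agent.AlgSt88
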