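import Groth.Agent.AlgSt88.Top
import Groth.Agent.SpPts86.Compact
import Groth.Agent.AlgSt88.SepLocP

/-! Quasi-compact algebraic stacks. -/

set_option autoImplicit false
set_option maxHeartbeats 1000000
set_option linter.style.haveILetI false
set_option linter.unusedVariables false
set_option backward.isDefEq.respectTransparency false
set_option backward.isDefEq.respectTransparency.types false
universe u

open CategoryTheory CategoryTheory.Limits AlgebraicGeometry Opposite AlgSt FibCat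

namespace Groth.Agent.AlgSt88

variable {S : Scheme.{u}} {𝒳 𝒴 : AlgSt.Cat S}

theorem sm_overMap {U V : Over S} (c : U ⟶ V) (hc : Smooth c.left) : Sm (overMap c) := by
  obtain ⟨ι⟩ := overMap_iso c
  exact repByAlgSpWith_of_iso ι ((repByAlgSpWith_postcomp_equiv (isEquivOver_toOverCat V)).2
    ((repByAlgSpWith_precomp_equiv (isEquivOver_ofOverCat U)).2
      (repByAlgSpWith_ofSpMap (stableBC_locP _) (respectsIso_locP _) (F := ⟨_, AlgSp.IsAlgSpace.yon_obj U⟩)
        (G := ⟨_, AlgSp.IsAlgSpace.yon_obj V⟩) _ ((SpFP87.locP_yon_map_iff (P := @Smooth) c).2 hc))))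

theorem ofChart_overMap {U V : Over S} (c : U ⟶ V) (x : overCat V ⥤ᵇ 𝒳) (t : ↥U.left) :
    Points.ofChart (BasedFunctor.comp (overMap c) x) t = Points.ofChart x (c.left t) := by
  obtain ⟨j⟩ := toOver_overMap c
  rw [ofChart_eq, ofChart_eq]
  refine (points_map_congr (bRight j x) _).trans ?_
  rw [show AlgSp.Points.ofScheme V (c.left t) = AlgSp.Points.map ((AlgSp.yon S).map c) (AlgSp.Points.ofScheme U t)
    from (AlgSp.Points.map_yon_map_apply c t).symm, ← stPt_natural]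
  rfl

theorem compactSpace_points_of_isQuasiCompact (h𝒳 : IsAlgStack Scheme.fppfPrecoverage 𝒳) (h : IsQuasiCompact 𝒳) :
    CompactSpace (Points 𝒳) := by
  obtain ⟨U, x, hU, h1, h2⟩ := h
  haveI := hU
  refine ⟨?_⟩
  rw [← (surjective_ofChart h𝒳.isStack.1 x h2).range_eq]
  exact isCompact_range (continuous_ofChart h𝒳 x)

theorem isQuasiCompact_of_compactSpace (h𝒳 : IsAlgStack Scheme.fppfPrecoverage 𝒳) [CompactSpace (Points 𝒳)] :
    IsQuasiCompact 𝒳 := by
  obtain ⟨U, u, hu, hu'⟩ := h𝒳.atlas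
  have hX := h𝒳.isStack.1
  have hopen := isOpenMap_ofChart hX u (rep_flat_of_sm hu) (rep_lfp_of_sm hu)
  let O : U.left.affineOpens → Set (Points 𝒳) := fun A => Points.ofChart u '' (A.1 : Set U.left)
  obtain ⟨s, hs⟩ := isCompact_univ.elim_finite_subcover O (fun A => hopen _ A.1.isOpen) (fun y _ => by
    obtain ⟨t, rfl⟩ := surjective_ofChart hX u hu' y
    obtain ⟨A, hA, htA, -⟩ := exists_isAffineOpen_mem_and_subset (X := U.left) (U := ⊤) (x := t) trivial
    exact Set.mem_iUnion.2 ⟨⟨A, hA⟩, t, htA, rfl⟩)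
  haveI : Finite (↥s) := Finite.of_fintype _
  let X' : ↥s → Scheme.{u} := fun A => (A.1.1 : U.left.Opens)
  haveI : ∀ A, IsAffine (X' A) := fun A => A.1.2
  let c : (∐ X') ⟶ U.left := Sigma.desc fun A => A.1.1.ι
  let V : Over S := Over.mk (c ≫ U.hom)
  let c' : V ⟶ U := Over.homMk c rfl
  have hc : Smooth c := IsZariskiLocalAtSource.sigmaDesc (P := @Smooth) fun A => inferInstance
  have hx : Sm (BasedFunctor.comp (overMap c') u) :=
    sm_comp (isFibGrpd_overCat V) (isFibGrpd_overCat U) (sm_overMap c' hc) hu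
  refine ⟨V, BasedFunctor.comp (overMap c') u, inferInstanceAs (IsAffine (∐ X')), hx,
    sj_of_isSurjective (isFibGrpd_overCat V) hX (repByAlgSp1_of_with hx) fun y => ?_⟩
  obtain ⟨A, hA⟩ := Set.mem_iUnion.1 (hs (Set.mem_univ y))
  obtain ⟨hAs, t, ht, rfl⟩ := Set.mem_iUnion.1 hA
  let v : ↥V.left := Sigma.ι X' ⟨A, hAs⟩ ⟨t, ht⟩
  refine ⟨Points.map (toOverCat V) (stPt _ (AlgSp.Points.ofScheme V v)), ?_⟩
  rw [← points_map_comp]
  refine (ofChart_eq (BasedFunctor.comp (overMap c') u) v).symm.trans ?_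
  rw [ofChart_overMap]
  refine congrArg (Points.ofChart u) ?_
  change c (Sigma.ι X' ⟨A, hAs⟩ ⟨t, ht⟩) = t
  rw [← Scheme.Hom.comp_apply, Sigma.ι_desc]
  rfl

theorem isQuasiCompact_iff (h𝒳 : IsAlgStack Scheme.fppfPrecoverage 𝒳) :
    IsQuasiCompact 𝒳 ↔ CompactSpace (Points 𝒳) :=
  ⟨compactSpace_points_of_isQuasiCompact h𝒳, fun _ => isQuasiCompact_of_compactSpace h𝒳⟩

theorem isQuasiCompact_of_surjective (h𝒴 : IsAlgStack Scheme.fppfPrecoverage 𝒴)
    (h𝒳 : IsAlgStack Scheme.fppfPrecoverage 𝒳) (f : 𝒳 ⥤ᵇ 𝒴) (hf : IsSurjective f) (h : IsQuasiCompact 𝒳) :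
    IsQuasiCompact 𝒴 := by
  haveI := compactSpace_points_of_isQuasiCompact h𝒳 h
  haveI : CompactSpace (Points 𝒴) := ⟨by rw [← hf.range_eq]; exact isCompact_range (continuous_map h𝒴 f)⟩
  exact isQuasiCompact_of_compactSpace h𝒴

theorem compactSpace_points_ofSp (F : AlgSp.Space S) :
    CompactSpace (Points (ofSp F.obj)) ↔ AlgSp.IsQuasiCompactSp F.obj := by
  rw [SpPts86.isQuasiCompactSp_iff_compactSpace F.property]
  exact ⟨fun h => ((isHomeomorph_stPt F).homeomorph).symm.compactSpace,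
    fun h => ((isHomeomorph_stPt F).homeomorph).compactSpace⟩

end Groth.Agent.AlgSt88
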