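import Groth.Agent.AlgSt88.FlatValLiftSt
import Groth.Agent.AlgSt88.QC
import Groth.Agent.S2121

/-!
Valuation rings witnessing closures of images of quasi-compact morphisms of algebraic stacks.
-/

set_option autoImplicit false
set_option maxHeartbeats 1000000
set_option linter.style.haveILetI false
set_option linter.unusedVariables false
set_option backward.isDefEq.respectTransparency false
set_option backward.isDefEq.respectTransparency.types false
universe u

open CategoryTheory CategoryTheory.Limits AlgebraicGeometry Opposite AlgSt FibCat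

namespace Groth.Agent.AlgSt88

variable {S : Scheme.{u}} {𝒳 𝒴 : AlgSt.Cat S}

theorem isEquivOver_toOverCat_ofOverCat (U : Over S) :
    Nonempty (BasedFunctor.comp (toOverCat U) (ofOverCat U) ≅ BasedFunctor.id (ofSch U)) :=
  ⟨BasedNatIso.mkNatIso
      (NatIso.ofComponents (fun a => Iso.refl _)
        (fun {a b} f => Stk.EltObj.hom_ext ((Category.comp_id _).trans (Category.id_comp _).symm)))
      (fun a => IsHomLift.id rfl)⟩

theorem isQuasiCompact_ofSch_affine (V : Over S) [IsAffine V.left] : IsQuasiCompact (ofSch V) := by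
  haveI : CompactSpace ↥V.left := isCompact_univ_iff.1 (isAffineOpen_top V.left).isCompact
  haveI : CompactSpace (AlgSp.Points ((AlgSp.yon S).obj V)) := (AlgSp.Points.schemeHomeo V).compactSpace
  haveI : CompactSpace (Points (ofSch V)) := ((isHomeomorph_stPt (spY V)).homeomorph).compactSpace
  exact isQuasiCompact_of_compactSpace (isDM_ofSp (spY V)).1

theorem exists_valuationRing_witness (h𝒳 : IsAlgStack Scheme.fppfPrecoverage 𝒳)
    (h𝒴 : IsAlgStack Scheme.fppfPrecoverage 𝒴) (f : 𝒳 ⥤ᵇ 𝒴)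
    (hf : IsQuasiCompactMor Scheme.fppfPrecoverage f)
    (y : Points 𝒴) (hy : y ∈ closure (Set.range (Points.map f))) :
    ∃ (A : Type u) (_ : CommRing A) (_ : IsDomain A) (_ : ValuationRing A) (sA : Spec (CommRingCat.of A) ⟶ S)
      (a : overCat (Over.mk sA) ⥤ᵇ 𝒴)
      (x : overCat (Over.mk (Spec.map (CommRingCat.ofHom (algebraMap A (FractionRing A))) ≫ sA)) ⥤ᵇ 𝒳),
      Nonempty (BasedFunctor.comp x f ≅
        BasedFunctor.comp (overMap (Over.homMk (Spec.map (CommRingCat.ofHom (algebraMap A (FractionRing A)))) rfl :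
          Over.mk (Spec.map (CommRingCat.ofHom (algebraMap A (FractionRing A))) ≫ sA) ⟶ Over.mk sA)) a) ∧
      Points.ofChart a (IsLocalRing.closedPoint A) = y := by
  have hX := h𝒳.isStack.1
  have hY := h𝒴.isStack.1
  obtain ⟨V, y₀, hy₀, hy₀'⟩ := exists_space_atlas h𝒴
  obtain ⟨p, hp⟩ := isSurjective_of_sj hY hy₀' y
  obtain ⟨τ, rfl⟩ := stPt_bijective.2 p
  obtain ⟨v, rfl⟩ := (AlgSp.Points.schemeHomeo V).surjective τ
  obtain ⟨O, hO, hvO, -⟩ := exists_isAffineOpen_mem_and_subset (U := (⊤ : V.left.Opens)) (x := v) trivial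
  let V₀ : Over S := Over.mk (O.ι ≫ V.hom)
  let j : V₀ ⟶ V := Over.homMk O.ι rfl
  let v₀ : ↥V₀.left := ⟨v, hvO⟩
  haveI : IsAffine V₀.left := hO
  let y' : ofSch V₀ ⥤ᵇ 𝒴 := BasedFunctor.comp (ofSpMap ((AlgSp.yon S).map j)) y₀
  have hjs : AlgSp.LocP @Smooth ((AlgSp.yon S).map j) :=
    (SpFP87.locP_yon_map_iff (P := @Smooth) j).2 (inferInstanceAs (Smooth O.ι))
  have hy' : Sm y' := sm_comp (Stk.isFibGrpd_ofPsh _) (Stk.isFibGrpd_ofPsh _)
    (repByAlgSpWith_ofSpMap (stableBC_locP _) (respectsIso_locP _) (F := spY V₀) (G := spY V) _ hjs) hy₀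
  have hv₀ : Points.map y' (stPt _ (AlgSp.Points.schemeHomeo V₀ v₀)) = y := by
    rw [points_map_comp, ← hp]
    refine congrArg (Points.map y₀) ((stPt_natural _ _).trans ?_)
    exact congrArg (stPt _) (AlgSp.Points.map_yon_map_apply j v₀)
  have hV₀ := (isDM_ofSp (spY V₀)).1
  obtain ⟨U, u, hUa, hu, hu'⟩ := hf _ hV₀ (isQuasiCompact_ofSch_affine V₀) y'
  let C := fp y' f
  have hC : IsFibGrpd C.p := isFibGrpd_fp (Stk.isFibGrpd_ofPsh _) hX hY y' f
  let u₀ : ofSch U ⥤ᵇ C := BasedFunctor.comp (toOverCat U) u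
  have hu₀' : Sj u₀ := (repByAlgSpWith_precomp_equiv (isEquivOver_toOverCat U)).2 hu'
  obtain ⟨δ⟩ := exists_hom_iso (BasedFunctor.comp u₀ (fpFst y' f))
  obtain ⟨h, hh⟩ := (AlgSp.yon S).map_surjective (homOfBased (BasedFunctor.comp u₀ (fpFst y' f)))
  rw [← hh] at δ
  haveI := hUa
  haveI : QuasiCompact h.left := inferInstance
  have hrange : ∀ t : ↥V₀.left, t ∈ Set.range h.left ↔
      Points.map y' (stPt _ (AlgSp.Points.schemeHomeo V₀ t)) ∈ Set.range (Points.map f) := by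
    intro t
    constructor
    · rintro ⟨s, rfl⟩
      refine ⟨Points.map (BasedFunctor.comp u₀ (fpSnd y' f)) (stPt _ (AlgSp.Points.schemeHomeo U s)), ?_⟩
      rw [← points_map_comp, ← AlgSp.Points.map_yon_map_apply h s, ← stPt_natural, ← points_map_congr δ,
        ← points_map_comp]
      exact (points_map_congr (bLeft u₀ (fpIso y' f)) _).symm
    · rintro ⟨z, hz⟩
      obtain ⟨w, hw, -⟩ := exists_points_fp hY hX (Stk.isFibGrpd_ofPsh _) f y' _ z hz.symm
      obtain ⟨v', rfl⟩ := isSurjective_of_sj hC hu₀' w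
      obtain ⟨σ, rfl⟩ := stPt_bijective.2 v'
      obtain ⟨s, rfl⟩ := (AlgSp.Points.schemeHomeo U).surjective σ
      refine ⟨s, (AlgSp.Points.schemeHomeo V₀).injective (stPt_bijective.1 ?_)⟩
      rw [← AlgSp.Points.map_yon_map_apply h s, ← stPt_natural, ← points_map_congr δ, points_map_comp]
      exact hw
  have hcl : v₀ ∈ closure (Set.range h.left) := by
    rw [mem_closure_iff]
    intro W hW hvW
    let W' : Set (Points 𝒴) := Points.map y' '' (stPt _ '' (AlgSp.Points.schemeHomeo V₀ '' W))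
    have hW' : IsOpen W' := isOpenMap_of_flat_lfp hY (U := spY V₀) y' (rep_flat_of_sm hy') (rep_lfp_of_sm hy') _
      ((isHomeomorph_stPt (spY V₀)).isOpenMap _ ((AlgSp.Points.schemeHomeo V₀).isOpenMap _ hW))
    obtain ⟨_, ⟨_, ⟨_, ⟨t, ht, rfl⟩, rfl⟩, rfl⟩, hz⟩ :=
      mem_closure_iff.1 hy W' hW' ⟨_, ⟨_, ⟨v₀, hvW, rfl⟩, rfl⟩, hv₀⟩
    exact ⟨t, ht, (hrange t).2 hz⟩
  obtain ⟨A, i₁, i₂, i₃, xs, ys, hxy, hyc⟩ := S2121.result h.left v₀ hcl
  let sA : Spec (CommRingCat.of A) ⟶ S := ys ≫ V₀.hom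
  let T : Over S := Over.mk sA
  let m₀ := Spec.map (CommRingCat.ofHom (algebraMap A (FractionRing A)))
  let T' : Over S := Over.mk (m₀ ≫ sA)
  let m : T' ⟶ T := Over.homMk m₀ rfl
  let yT : T ⟶ V₀ := Over.homMk ys rfl
  let xT : T' ⟶ U := Over.homMk xs (by
    show xs ≫ U.hom = m₀ ≫ sA
    rw [← Over.w h, ← Category.assoc, hxy, Category.assoc])
  have hm : xT ≫ h = m ≫ yT := Over.OverMorphism.ext hxy
  obtain ⟨c₁⟩ := nonempty_ofSpMap_comp' ((AlgSp.yon S).map xT) ((AlgSp.yon S).map h)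
  obtain ⟨c₂⟩ := nonempty_ofSpMap_comp' ((AlgSp.yon S).map m) ((AlgSp.yon S).map yT)
  rw [← Functor.map_comp, hm, Functor.map_comp] at c₁
  obtain ⟨j'⟩ := toOver_overMap m
  obtain ⟨u'⟩ := nonempty_ofOverCat_toOverCat T'
  obtain ⟨w⟩ := isEquivOver_toOverCat_ofOverCat T
  refine ⟨A, i₁, i₂, i₃, sA, BasedFunctor.comp (ofOverCat T) (BasedFunctor.comp (ofSpMap ((AlgSp.yon S).map yT)) y'),
    BasedFunctor.comp (ofOverCat T') (BasedFunctor.comp (ofSpMap ((AlgSp.yon S).map xT))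
      (BasedFunctor.comp u₀ (fpSnd y' f))), ⟨?_⟩, ?_⟩
  · exact bLeft (ofOverCat T') (bLeft (ofSpMap ((AlgSp.yon S).map xT))
        (bLeft u₀ (fpIso y' f).symm ≪≫ bRight δ y') ≪≫ bRight c₁.symm y' ≪≫ bRight c₂ y' ≪≫
        bLeft (ofSpMap ((AlgSp.yon S).map m)) (bRight w.symm (BasedFunctor.comp (ofSpMap ((AlgSp.yon S).map yT)) y')) ≪≫
        bRight j'.symm (BasedFunctor.comp (ofOverCat T) (BasedFunctor.comp (ofSpMap ((AlgSp.yon S).map yT)) y'))) ≪≫
      bRight u' (BasedFunctor.comp (overMap m) (BasedFunctor.comp (ofOverCat T) (BasedFunctor.comp (ofSpMap ((AlgSp.yon S).map yT)) y')))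
  · obtain ⟨w⟩ := isEquivOver_toOverCat_ofOverCat T
    rw [ofChart_eq]
    refine (points_map_congr (bRight w (BasedFunctor.comp (ofSpMap ((AlgSp.yon S).map yT)) y')) _).trans ?_
    refine Eq.trans ?_ hv₀
    show Points.map (BasedFunctor.comp (ofSpMap ((AlgSp.yon S).map yT)) y') _ = _
    rw [points_map_comp]
    refine congrArg (Points.map y') ((stPt_natural _ _).trans ?_)
    refine congrArg (stPt _) ((AlgSp.Points.map_yon_map_apply yT _).trans ?_)
    exact congrArg (AlgSp.Points.ofScheme V₀) hyc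

end Groth.Agent.AlgSt88
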