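import Groth.Agent.AlgSt88.RelationProp
import Groth.Agent.AlgSt88.BootstrapEtale
import Groth.Agent.AlgSt88.ValWitness
import Groth.Agent.AlgSt88.SmoothLocalInst
import Groth.Agent.AlgSt88.SpQ
import Groth.Agent.SpPts86.DvrClosure

/-! Specializations in stacks with quasi-compact diagonal are realized by discrete valuation rings. -/

set_option autoImplicit false
set_option maxHeartbeats 1000000
set_option linter.style.haveILetI false
set_option backward.isDefEq.respectTransparency false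
set_option backward.isDefEq.respectTransparency.types false
universe u

open CategoryTheory CategoryTheory.Limits AlgebraicGeometry Opposite AlgSt FibCat

namespace Groth.Agent.AlgSt88

variable {S : Scheme.{u}} {𝒳 𝒴 : AlgSt.Cat S}

theorem isAlgStack_ofSch_etale (V : Over S) : IsAlgStack Scheme.etalePrecoverage (ofSch V) :=
  ⟨(Fib44.isStack_ofPsh_iff (P := ((AlgSp.yon S).obj V).obj) _).2
      ((isSheaf_iff_isSheaf_of_type _ _).1 (SpPts86.isSheaf_etale ((AlgSp.yon S).obj V))),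
    (isDM_ofSp (spY V)).1.diag, (isDM_ofSp (spY V)).1.atlas⟩

/-- The point of a chart at a point of the scheme. -/
noncomputable abbrev chPt {V : Over S} (y : ofSch V ⥤ᵇ 𝒴) (v : ↥V.left) : Points 𝒴 :=
  Points.map y (stPt _ (AlgSp.Points.ofScheme V v))

theorem map_ofSpMap_ofScheme {U V : Over S} (k : U ⟶ V) (u : ↥U.left) :
    Points.map (ofSpMap ((AlgSp.yon S).map k)) (stPt _ (AlgSp.Points.ofScheme U u)) =
      stPt _ (AlgSp.Points.ofScheme V (k.left u)) :=
  (stPt_natural _ _).trans (congrArg (stPt _) (AlgSp.Points.map_yon_map_apply k u))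

/-- Generalizations lift along affine smooth charts. -/
theorem exists_generalization [QuasiSeparatedSpace S] (h : RepByAlgSpWith AlgSp.IsQuasiCompactMor (diag (toSelf 𝒴)))
    (hY : IsFibGrpd 𝒴.p) {V : Over S} [IsAffine V.left] (y : ofSch V ⥤ᵇ 𝒴) (hy : Sm y) (v : ↥V.left)
    (p : Points 𝒴) (hp : p ⤳ chPt y v) : ∃ v', v' ⤳ v ∧ chPt y v' = p := by
  have hV : IsFibGrpd (ofSch V).p := Stk.isFibGrpd_ofPsh _
  have hopen : ∀ W : Set ↥V.left, IsOpen W → IsOpen (chPt y '' W) := fun W hW => by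
    have := isOpenMap_of_flat_lfp hY (U := spY V) y (rep_flat_of_sm hy) (rep_lfp_of_sm hy) _
      ((isHomeomorph_stPt (spY V)).isOpenMap _ ((AlgSp.Points.schemeHomeo V).isOpenMap _ hW))
    rw [Set.image_image, Set.image_image] at this
    exact this
  have hmeet : ∀ W : Set ↥V.left, IsOpen W → v ∈ W → ∃ b ∈ W, chPt y b = p := fun W hW hv =>
    hp.mem_open (hopen W hW) ⟨v, hv, rfl⟩
  obtain ⟨a, -, ha⟩ := hmeet Set.univ isOpen_univ trivial
  obtain ⟨R, k, Φ, hΦ, ⟨α₁⟩, ⟨α₂⟩, hk⟩ := exists_relation_prop h y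
  let P := overProd V V
  haveI : QuasiCompact V.hom := quasiCompact_of_compactSpace V.hom
  haveI : CompactSpace P.left := QuasiCompact.compactSpace_of_compactSpace (pullback.fst V.hom V.hom)
  haveI : CompactSpace (AlgSp.Points ((AlgSp.yon S).obj P)) := (AlgSp.Points.schemeHomeo P).compactSpace
  have hR : AlgSp.IsQuasiCompactSp R.obj := hk (AlgSp.IsAlgSpace.yon_obj P)
    (SpPts86.isQuasiCompactSp_of_compactSpace (AlgSp.IsAlgSpace.yon_obj P)) (𝟙 _) (𝟙 _) k
    (IsPullback.of_horiz_isIso ⟨by simp⟩)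
  haveI := SpPts86.compactSpace_points_of_isQuasiCompactSp hR
  obtain ⟨R', π, hR', -, hπ⟩ := SpPts86.exists_affine_chart_of_compactSpace R.property
  haveI := hR'
  obtain ⟨m, hm⟩ := (AlgSp.yon S).map_surjective (π ≫ k)
  let s := m ≫ overProdFst V V
  let t := m ≫ overProdSnd V V
  have hs : (AlgSp.yon S).map s = π ≫ k ≫ (AlgSp.yon S).map (overProdFst V V) := by
    rw [(AlgSp.yon S).map_comp, hm, Category.assoc]
  have ht : (AlgSp.yon S).map t = π ≫ k ≫ (AlgSp.yon S).map (overProdSnd V V) := by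
    rw [(AlgSp.yon S).map_comp, hm, Category.assoc]
  have hval : ∀ r : ↥R'.left,
      let q := Points.map Φ (stPt _ (AlgSp.Points.map π (AlgSp.Points.ofScheme R' r)))
      Points.map (fpFst y y) q = stPt _ (AlgSp.Points.ofScheme V (s.left r)) ∧
        Points.map (fpSnd y y) q = stPt _ (AlgSp.Points.ofScheme V (t.left r)) := fun r => by
    constructor
    · rw [← points_map_comp, points_map_congr α₁, stPt_natural, ← AlgSp.Points.map_comp, ← hs]
      exact congrArg (stPt _) (AlgSp.Points.map_yon_map_apply s r)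
    · rw [← points_map_comp, points_map_congr α₂, stPt_natural, ← AlgSp.Points.map_comp, ← ht]
      exact congrArg (stPt _) (AlgSp.Points.map_yon_map_apply t r)
  have hpair : ∀ b, chPt y b = p → ∃ r, s.left r = b ∧ t.left r = a := fun b hb => by
    obtain ⟨w, hw₁, hw₂⟩ := exists_points_fp hY hV hV y y (stPt _ (AlgSp.Points.ofScheme V b))
      (stPt _ (AlgSp.Points.ofScheme V a)) (hb.trans ha.symm)
    obtain ⟨w', rfl⟩ := (points_map_bijective hΦ).2 w
    obtain ⟨φ, rfl⟩ := stPt_bijective.2 w'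
    obtain ⟨r, rfl⟩ := SpPts86.surjective_ofPt hπ φ
    rw [AlgSp.Points.ofPt_eq_map_ofScheme] at hw₁ hw₂
    exact ⟨r, (AlgSp.Points.schemeHomeo V).injective (stPt_bijective.1 ((hval r).1.symm.trans hw₁)),
      (AlgSp.Points.schemeHomeo V).injective (stPt_bijective.1 ((hval r).2.symm.trans hw₂))⟩
  haveI : QuasiCompact s.left := quasiCompact_of_compactSpace _
  haveI : QuasiCompact t.left := quasiCompact_of_compactSpace _
  have hcl : v ∈ closure (Set.range (t.left.fiberι a ≫ s.left)) := mem_closure_iff.2 fun W hW hv => by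
    obtain ⟨b, hbW, hb⟩ := hmeet W hW hv
    obtain ⟨r, hr₁, hr₂⟩ := hpair b hb
    obtain ⟨z, hz⟩ : r ∈ Set.range (t.left.fiberι a) := by rw [Scheme.Hom.range_fiberι]; exact hr₂
    exact ⟨b, hbW, z, by rw [Scheme.Hom.comp_apply, hz, hr₁]⟩
  haveI : CompactSpace ↥(t.left.fiber a) := inferInstance
  haveI : QuasiCompact (t.left.fiberι a ≫ s.left) := quasiCompact_of_compactSpace _
  obtain ⟨z, hz⟩ := SchBasics.exists_specializes_of_mem_closure_range _ hcl
  refine ⟨_, hz, ?_⟩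
  have htz : t.left (t.left.fiberι a z) = a :=
    (Scheme.Hom.range_fiberι t.left a).le ⟨z, rfl⟩
  rw [← ha, Scheme.Hom.comp_apply]
  have key := (points_map_comp _ y _).symm.trans ((points_map_congr (fpIso y y)
    (Points.map Φ (stPt _ (AlgSp.Points.map π (AlgSp.Points.ofScheme R' (t.left.fiberι a z)))))).trans
      (points_map_comp _ y _))
  rw [(hval _).1, (hval _).2, htz] at key
  exact key

theorem exists_dvr_through {X T : Scheme.{u}} [IsLocallyNoetherian T] (q : X ⟶ T) [LocallyOfFiniteType q]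
    (x : X) (v : T) (h : q x ⤳ v) :
    ∃ (A : Type u) (_ : CommRing A) (_ : IsDomain A) (_ : IsDiscreteValuationRing A)
      (a : Spec (CommRingCat.of (FractionRing A)) ⟶ X) (b : Spec (CommRingCat.of A) ⟶ T),
      a ≫ q = Spec.map (CommRingCat.ofHom (algebraMap A (FractionRing A))) ≫ b ∧
      b (IsLocalRing.closedPoint A) = v ∧ ∀ p, a p = x := by
  by_cases hne : v = q x
  · let k := X.residueField x
    let c : Spec (CommRingCat.of (PowerSeries k)) ⟶ X :=
      Spec.map (CommRingCat.ofHom (PowerSeries.C (R := k))) ≫ X.fromSpecResidueField x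
    have hc : ∀ p, c p = x := fun p => by
      rw [Scheme.Hom.comp_apply]
      exact Scheme.fromSpecResidueField_apply _ _
    refine ⟨PowerSeries k, inferInstance, inferInstance, inferInstance,
      Spec.map (CommRingCat.ofHom (algebraMap (PowerSeries k) (FractionRing (PowerSeries k)))) ≫ c,
      c ≫ q, Category.assoc _ _ _, ?_, fun p => by rw [Scheme.Hom.comp_apply]; exact hc _⟩
    rw [hne, Scheme.Hom.comp_apply, hc]
  · obtain ⟨A, g, hA, hg, hw⟩ := EGA73.exists_dvr_hom q x v h hne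
    obtain ⟨k, -, hk⟩ := LimTop61.exists_fractionRing_iso x A
    refine ⟨A, inferInstance, inferInstance, hA, k ≫ X.fromSpecResidueField x, g, ?_, hg, fun p => by
      rw [Scheme.Hom.comp_apply]; exact Scheme.fromSpecResidueField_apply _ _⟩
    rw [hk, Category.assoc, Category.assoc, hw]

theorem exists_dvr_realizing [QuasiSeparatedSpace S] (h𝒳 : IsAlgStack Scheme.etalePrecoverage 𝒳)
    (h𝒴 : IsAlgStack Scheme.etalePrecoverage 𝒴) (hN : SmoothLocally (fun T => IsLocallyNoetherian T) 𝒴)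
    (hΔ : RepByAlgSpWith AlgSp.IsQuasiCompactMor (diag (toSelf 𝒴)))
    (f : 𝒳 ⥤ᵇ 𝒴) (hft : LocQ (AlgSp.LocP @LocallyOfFiniteType) f) (x : Points 𝒳) (y₀ : Points 𝒴)
    (hsp : Points.map f x ⤳ y₀) :
    ∃ (R : Type u) (_ : CommRing R) (_ : IsDomain R) (_ : IsDiscreteValuationRing R)
      (sR : Spec (CommRingCat.of R) ⟶ S)
      (a : overCat (Over.mk (Spec.map (CommRingCat.ofHom (algebraMap R (FractionRing R))) ≫ sR)) ⥤ᵇ 𝒳)
      (b : overCat (Over.mk sR) ⥤ᵇ 𝒴),
      Nonempty (BasedFunctor.comp a f ≅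
        BasedFunctor.comp (overMap (Over.homMk (Spec.map (CommRingCat.ofHom (algebraMap R (FractionRing R)))) rfl :
          Over.mk (Spec.map (CommRingCat.ofHom (algebraMap R (FractionRing R))) ≫ sR) ⟶ Over.mk sR)) b) ∧
      (∀ p, Points.ofChart a p = x) ∧ Points.ofChart b (IsLocalRing.closedPoint R) = y₀ := by
  have hX := h𝒳.isStack.1
  have hY := h𝒴.isStack.1
  obtain ⟨V, y₁, hy₁, hy₁'⟩ := h𝒴.atlas
  let y₂ := BasedFunctor.comp (toOverCat V) y₁
  have hy₂ : Sm y₂ := (repByAlgSpWith_precomp_equiv (isEquivOver_toOverCat V)).2 hy₁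
  have hy₂' : Sj y₂ := (repByAlgSpWith_precomp_equiv (isEquivOver_toOverCat V)).2 hy₁'
  obtain ⟨p, hp⟩ := isSurjective_of_sj hY hy₂' y₀
  obtain ⟨τ, rfl⟩ := stPt_bijective.2 p
  obtain ⟨v₁, rfl⟩ := (AlgSp.Points.schemeHomeo V).surjective τ
  obtain ⟨O, hO, hvO, -⟩ := exists_isAffineOpen_mem_and_subset (U := (⊤ : V.left.Opens)) (x := v₁) trivial
  let V₀ : Over S := Over.mk (O.ι ≫ V.hom)
  let j : V₀ ⟶ V := Over.homMk O.ι rfl
  let v₀ : ↥V₀.left := ⟨v₁, hvO⟩
  haveI : IsAffine V₀.left := hO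
  let y : ofSch V₀ ⥤ᵇ 𝒴 := BasedFunctor.comp (ofSpMap ((AlgSp.yon S).map j)) y₂
  have hjs : AlgSp.LocP @Smooth ((AlgSp.yon S).map j) :=
    (SpFP87.locP_yon_map_iff (P := @Smooth) j).2 (inferInstanceAs (Smooth O.ι))
  have hy : Sm y := sm_comp (Stk.isFibGrpd_ofPsh _) (Stk.isFibGrpd_ofPsh _)
    (repByAlgSpWith_ofSpMap (stableBC_locP _) (respectsIso_locP _) (F := spY V₀) (G := spY V) _ hjs) hy₂
  haveI : IsLocallyNoetherian V₀.left := hN V₀ (BasedFunctor.comp (ofOverCat V₀) y)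
    ((repByAlgSpWith_precomp_equiv (isEquivOver_ofOverCat V₀)).2 hy)
  have hv₀ : chPt y v₀ = y₀ := by
    rw [chPt, points_map_comp, map_ofSpMap_ofScheme, ← hp]
    rfl
  obtain ⟨v', hv', hv'f⟩ := exists_generalization hΔ hY y hy v₀ (Points.map f x) (hv₀.symm ▸ hsp)
  -- a chart of the fibre product
  have hC : IsAlgStack Scheme.etalePrecoverage (fp f y) :=
    isAlgStack_fp h𝒴.isStack h𝒴.diag h𝒳 (isAlgStack_ofSch_etale V₀) f y
  obtain ⟨U, u, hu, hu'⟩ := hC.atlas
  let l : ofSch U ⥤ᵇ fp f y := BasedFunctor.comp (toOverCat U) u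
  have hl : Sm l := (repByAlgSpWith_precomp_equiv (isEquivOver_toOverCat U)).2 hu
  have hl' : Sj l := (repByAlgSpWith_precomp_equiv (isEquivOver_toOverCat U)).2 hu'
  obtain ⟨δ⟩ := exists_hom_iso (BasedFunctor.comp l (fpSnd f y))
  obtain ⟨h, hh⟩ := (AlgSp.yon S).map_surjective (homOfBased (BasedFunctor.comp l (fpSnd f y)))
  have hlft := (spQ_of_locQ hft).prop smoothLocal_lft hX hY (U := spY U) (V := spY V₀) y l hy hl
  rw [← hh] at δ hlft
  haveI : LocallyOfFiniteType h.left := (SpFP87.locP_yon_map_iff (P := @LocallyOfFiniteType) h).1 hlft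
  obtain ⟨w, hw₁, hw₂⟩ := exists_points_fp hY (Stk.isFibGrpd_ofPsh _) hX y f x
    (stPt _ (AlgSp.Points.ofScheme V₀ v')) hv'f.symm
  obtain ⟨w', rfl⟩ := isSurjective_of_sj hC.isStack.1 hl' w
  obtain ⟨σ, rfl⟩ := stPt_bijective.2 w'
  obtain ⟨u₁, rfl⟩ := (AlgSp.Points.schemeHomeo U).surjective σ
  have hu₁ : h.left u₁ = v' := by
    refine (AlgSp.Points.schemeHomeo V₀).injective (stPt_bijective.1 (Eq.trans ?_ hw₂))
    rw [← points_map_comp, points_map_congr δ]
    exact (map_ofSpMap_ofScheme h u₁).symm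
  obtain ⟨A, i₁, i₂, i₃, xs, ys, hxy, hyc, hxp⟩ := exists_dvr_through h.left u₁ v₀ (hu₁.symm ▸ hv')
  let sA : Spec (CommRingCat.of A) ⟶ S := ys ≫ V₀.hom
  let T : Over S := Over.mk sA
  let m₀ := Spec.map (CommRingCat.ofHom (algebraMap A (FractionRing A)))
  let T' : Over S := Over.mk (m₀ ≫ sA)
  let m : T' ⟶ T := Over.homMk m₀ rfl
  let yT : T ⟶ V₀ := Over.homMk ys rfl
  let xT : T' ⟶ U := Over.homMk xs (by
    show xs ≫ U.hom = m₀ ≫ sA
    rw [← Over.w h, ← Category.assoc, hxy, Category.assoc])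
  have hm : xT ≫ h = m ≫ yT := Over.OverMorphism.ext hxy
  obtain ⟨c₁⟩ := nonempty_ofSpMap_comp' ((AlgSp.yon S).map xT) ((AlgSp.yon S).map h)
  obtain ⟨c₂⟩ := nonempty_ofSpMap_comp' ((AlgSp.yon S).map m) ((AlgSp.yon S).map yT)
  rw [← Functor.map_comp, hm, Functor.map_comp] at c₁
  obtain ⟨j'⟩ := toOver_overMap m
  obtain ⟨u'⟩ := nonempty_ofOverCat_toOverCat T'
  obtain ⟨ω⟩ := isEquivOver_toOverCat_ofOverCat T
  obtain ⟨ω'⟩ := isEquivOver_toOverCat_ofOverCat T'
  let A₁ := BasedFunctor.comp (ofSpMap ((AlgSp.yon S).map xT)) (BasedFunctor.comp l (fpFst f y))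
  let B₁ := BasedFunctor.comp (ofSpMap ((AlgSp.yon S).map yT)) y
  refine ⟨A, i₁, i₂, i₃, sA, BasedFunctor.comp (ofOverCat T') A₁, BasedFunctor.comp (ofOverCat T) B₁,
    ⟨?_⟩, fun p => ?_, ?_⟩
  · exact bLeft (ofOverCat T') (bLeft (ofSpMap ((AlgSp.yon S).map xT))
        (bLeft l (fpIso f y) ≪≫ bRight δ y) ≪≫ bRight c₁.symm y ≪≫ bRight c₂ y ≪≫
        bLeft (ofSpMap ((AlgSp.yon S).map m)) (bRight ω.symm B₁) ≪≫
        bRight j'.symm (BasedFunctor.comp (ofOverCat T) B₁)) ≪≫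
      bRight u' (BasedFunctor.comp (overMap m) (BasedFunctor.comp (ofOverCat T) B₁))
  · rw [ofChart_eq]
    refine (points_map_congr (bRight ω' A₁) _).trans ?_
    show Points.map A₁ _ = _
    rw [points_map_comp, map_ofSpMap_ofScheme, show xT.left p = u₁ from hxp p, points_map_comp]
    exact hw₁
  · rw [ofChart_eq]
    refine (points_map_congr (bRight ω B₁) _).trans ?_
    show Points.map B₁ _ = _
    rw [points_map_comp, map_ofSpMap_ofScheme, show yT.left (IsLocalRing.closedPoint A) = v₀ from hyc]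
    exact hv₀

end Groth.Agent.AlgSt88
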