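import Groth.Agent.SpPts86.HasAtMorBC
import Groth.Agent.SpPts86.LocPNear
import Groth.Agent.SpFP87.GoodSmooth
import Groth.Agent.SpFP87.EtaleMor

/-! The etale locus of a morphism of algebraic spaces and smooth base change. -/

set_option autoImplicit false
set_option linter.style.haveILetI false
set_option backward.isDefEq.respectTransparency false
universe u

open CategoryTheory CategoryTheory.Limits AlgebraicGeometry Topology
open AlgSp Groth.Agent.SpFP87 Groth.Agent.SpPts86

namespace Groth.Agent.AlgSt88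

variable {S : Scheme.{u}}

theorem baseLocal_etale : BaseLocal (S := S) (fun _ _ h _ => Etale h) where
  precomp T' T V e h v he H := MorphismProperty.comp_mem @Etale e h he H
  cover T V h v H := by
    choose U hU hE using H
    haveI : IsZariskiLocalAtSource (@Etale.{u} : MorphismProperty Scheme.{u}) :=
      HasRingHomProperty.instIsZariskiLocalAtSource (Q := @RingHom.Etale)
    exact (IsZariskiLocalAtSource.iff_of_iSup_eq_top U
      (top_le_iff.1 fun t _ => TopologicalSpace.Opens.mem_iSup.2 ⟨t, hU t⟩)).2 hE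
  descSource T' T V e h v he hes H := EtLoc.of_cover e h he hes H
  bc T V T' V' a h' h g sq hg v H := MorphismProperty.of_isPullback (P := @Etale) sq H
  desc T V T' V' a h' h g sq hg hgs v H := by
    haveI := hg
    haveI := SpFP87.etale_descendsAlong_fppfSurj.{u}
    exact MorphismProperty.of_isPullback_of_descendsAlong (P := @Etale) (Q := fppfSurj) sq.flip
      ((fppfSurj_iff g).2 ⟨hgs, inferInstance, inferInstance⟩) H
  post T V V' h j v hj H := by
    haveI := hj
    exact MorphismProperty.comp_mem @Etale h j H inferInstance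

theorem nearPt_etale_bc {A B C D : Scheme.{u}} (p : A ⟶ B) (q : A ⟶ C) (f : B ⟶ D) (g : C ⟶ D)
    (sq : IsPullback p q f g) (hg : Smooth g) (a : A) :
    NearPt @Etale A C q a ↔ NearPt @Etale B D f (p a) := by
  have hR := baseLocal_etale (S := D)
  haveI := hg
  refine ⟨fun H => ?_, fun H => ?_⟩
  · exact hR.descGood_smooth g p q f sq (𝟙 D) a H
  · exact hR.good_pullback sq hg (v := 𝟙 D) H

theorem hasAtMor_near_etale_bc {X Y X' Y' : Sp S} {fst : X' ⟶ X} {snd : X' ⟶ Y'} {f : X ⟶ Y} {g : Y' ⟶ Y}
    (sq : IsPullback fst snd f g) (hX : IsAlgSpace X) (hY : IsAlgSpace Y) (hY' : IsAlgSpace Y')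
    (hg : LocP @Smooth g) (x' : Points X') :
    HasAtMor (NearPt @Etale) snd x' ↔ HasAtMor (NearPt @Etale) f (Points.map fst x') := by
  have hQ : EtInv (NearPt (@Etale.{u} : MorphismProperty Scheme.{u})) := etInv_nearPt _
  obtain ⟨V, b, hb, hbs⟩ := hY.atlas
  obtain ⟨U, a, h, ha, has, w⟩ := exists_compatible_chart f hX hY.diag hb hbs
  obtain ⟨V', b', k, hb', hbs', w'⟩ := exists_compatible_chart g hY' hY.diag hb hbs
  have hX' := isAlgSpace_of_isPullback sq hX hY' hY.diag
  obtain ⟨W, r, s, c, hc, sqW, hc1, hc2⟩ := exists_chart_of_isPullback sq hY.diag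
    (@Etale ⊓ @Surjective) a b' ((repWith_inf_iff a).2 ⟨ha, has⟩) ((repWith_inf_iff b').2 ⟨hb', hbs'⟩)
  obtain ⟨hc, hcs⟩ := (repWith_inf_iff c).1 hc
  obtain ⟨V₂, r₂, s₂, sqV⟩ := exists_isPullback_yon hY.diag b b
  obtain ⟨A, α, β, sqA⟩ := exists_isPullback_yon (IsAlgSpace.yon_obj V).diag
    ((yon S).map h) ((yon S).map r₂)
  have hsA := isPullback_left_of_yon sqA
  have hs₂ : Etale s₂.left := etale_snd_of_isPullback sqV hb
  have hr₂ : Etale r₂.left := etale_snd_of_isPullback sqV.flip hb
  have hk : Smooth k.left := hg b' b k hb' hb w'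
  have hA : IsPullback ((yon S).map α) ((yon S).map (β ≫ s₂)) (a ≫ f) b := by
    rw [w, Functor.map_comp]
    exact IsPullback.paste_vert sqA sqV
  let n : W ⟶ A := (yon S).preimage (hA.lift ((yon S).map r) ((yon S).map (s ≫ k))
    (by rw [sqW.w, Functor.map_comp, Category.assoc, w']))
  have hn1 : n ≫ α = r := (yon S).map_injective (by
    rw [Functor.map_comp, Functor.map_preimage, hA.lift_fst])
  have hn : IsPullback ((yon S).map n) ((yon S).map s) ((yon S).map (β ≫ s₂)) ((yon S).map k) := by
    refine IsPullback.of_right (h₁₂ := (yon S).map α) (v₁₃ := a ≫ f) (h₂₂ := b) ?_ ?_ hA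
    · rw [Functor.map_preimage, hA.lift_fst, ← w']; exact sqW
    · rw [Functor.map_preimage, hA.lift_snd, Functor.map_comp]
  obtain ⟨z, rfl⟩ := surjective_ofPt hcs x'
  have hx : Points.ofPt a (r.left z) = Points.map fst (Points.ofPt c z) := by
    rw [Points.map_ofPt, hc1, ofPt_comp]
  have key : NearPt @Etale W.left V'.left s.left z ↔ NearPt @Etale U.left V.left h.left (r.left z) := by
    rw [nearPt_etale_bc n.left s.left (β ≫ s₂).left k.left (isPullback_left_of_yon hn) hk]
    have e := hQ (β ≫ s₂).left β.left (𝟙 A.left) s₂.left inferInstance hs₂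
      (by rw [Category.id_comp, Over.comp_left]) (n.left z)
    replace e : NearPt @Etale A.left V.left (β ≫ s₂).left (n.left z) ↔
        NearPt @Etale A.left V₂.left β.left (n.left z) := e
    haveI := hr₂
    rw [e, nearPt_etale_bc α.left β.left h.left r₂.left hsA inferInstance, ← hn1, Over.comp_left,
      Scheme.Hom.comp_apply]
  constructor
  · intro H
    exact ⟨U, V, a, b, h, r.left z, ha, hb, w, hx,
      key.1 (forall_diagram_of_hasAtMor hX' hY' hQ H hc hb' hc2 rfl)⟩
  · intro H
    exact ⟨W, V', c, b', s, z, hc, hb', hc2, rfl,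
      key.2 (forall_diagram_of_hasAtMor hX hY hQ H ha hb w hx)⟩

theorem isOpen_near {X Y : Sp S} (hX : IsAlgSpace X) (hY : IsAlgSpace Y) (f : X ⟶ Y)
    (P : MorphismProperty Scheme.{u}) [EtLoc P] : IsOpen {x : Points X | HasAtMor (NearPt P) f x} := by
  refine isOpen_iff_forall_mem_open.2 fun x hx => ?_
  obtain ⟨O, hO, hxO, hP⟩ := exists_open_subspace_of_near hX hY hx
  refine ⟨O, fun y hy => ?_, hO, hxO⟩
  obtain ⟨z, rfl⟩ : y ∈ Set.range (Points.map (restrictι X O)) := (range_map_restrictι hO).ge hy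
  exact near_of_open_subspace hX hY (isAlgSpace_restrictSheaf hX hO) (repWith_restrictι hO) hP z

theorem near_of_precomp_openImm {X X' Y : Sp S} (hX : IsAlgSpace X) (hX' : IsAlgSpace X') (hY : IsAlgSpace Y)
    {j : X' ⟶ X} (hj : RepWith @IsOpenImmersion j) (f : X ⟶ Y) (P : MorphismProperty Scheme.{u}) [EtLoc P]
    (x : Points X') (H : HasAtMor (NearPt P) f (Points.map j x)) : HasAtMor (NearPt P) (j ≫ f) x := by
  obtain ⟨U, V, a, b, h, u, ha, hb, w, hu⟩ := exists_diagram_through hX' hY (j ≫ f) x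
  have hje : RepWith @Etale j := repWith_mono (fun _ _ g (_ : IsOpenImmersion g) => (inferInstance : Etale g)) hj
  exact ⟨U, V, a, b, h, u, ha, hb, w, hu,
    forall_diagram_of_hasAtMor hX hY (etInv_nearPt P) H (isEtaleMor_of_repWith_etale hje a ha) hb
      (by rw [Category.assoc, w]) (by rw [← hu, Points.map_ofPt])⟩

end Groth.Agent.AlgSt88
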