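import Groth.Agent.S5014
import Groth.Agent.SpFP87.GoodSmooth
import Mathlib.RingTheory.Etale.Locus
import Mathlib.RingTheory.Etale.Kaehler
import Mathlib.RingTheory.LocalRing.Module
import Mathlib.Algebra.MvPolynomial.Funext

/-! Etale coordinates of a smooth algebra chosen among the elements of an unramified generating algebra. -/

set_option autoImplicit false
set_option linter.style.haveILetI false
universe u

open TensorProduct MvPolynomial

namespace Groth.Agent.AlgSt88.EtaleSlice

/-- The differentials of generators of an unramified algebra generate. -/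
theorem span_of_formallyUnramified {A B C : Type u} [CommRing A] [CommRing B] [CommRing C] [Algebra A B]
    (φ : C →+* B) (h : (MvPolynomial.aeval (R := A) fun c : C => φ c).toRingHom.FormallyUnramified) :
    Submodule.span B (Set.range fun c : C => KaehlerDifferential.D A B (φ c)) = ⊤ := by
  let Ψ := MvPolynomial.aeval (R := A) fun c : C => φ c
  letI : Algebra (MvPolynomial C A) B := Ψ.toRingHom.toAlgebra
  haveI : IsScalarTower A (MvPolynomial C A) B := IsScalarTower.of_algebraMap_eq fun r => (Ψ.commutes r).symm
  haveI hu : Algebra.FormallyUnramified (MvPolynomial C A) B := h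
  refine eq_top_iff.2 fun ω _ => ?_
  revert ω
  suffices H : ∀ η : Ω[MvPolynomial C A⁄A], KaehlerDifferential.map A A (MvPolynomial C A) B η ∈
      Submodule.span B (Set.range fun c : C => KaehlerDifferential.D A B (φ c)) by
    intro ω _
    have hω : ω ∈ LinearMap.range (KaehlerDifferential.mapBaseChange A (MvPolynomial C A) B) := by
      rw [KaehlerDifferential.range_mapBaseChange, LinearMap.mem_ker]
      exact Subsingleton.elim _ _
    obtain ⟨z, rfl⟩ := hω
    induction z using TensorProduct.induction_on with
    | zero => simp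
    | add x y hx hy => rw [map_add]; exact add_mem (hx trivial) (hy trivial)
    | tmul b η => rw [KaehlerDifferential.mapBaseChange_tmul]; exact Submodule.smul_mem _ b (H η)
  intro η
  have hη : η ∈ Submodule.span (MvPolynomial C A) (Set.range (KaehlerDifferential.D A (MvPolynomial C A))) := by
    rw [KaehlerDifferential.span_range_derivation]; trivial
  induction hη using Submodule.span_induction with
  | mem x hx =>
    obtain ⟨p, rfl⟩ := hx
    rw [KaehlerDifferential.map_D]
    induction p using MvPolynomial.induction_on with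
    | C a =>
      rw [show algebraMap (MvPolynomial C A) B (MvPolynomial.C a) = algebraMap A B a from Ψ.commutes a,
        Derivation.map_algebraMap]
      exact zero_mem _
    | add p q hp hq => rw [map_add, map_add]; exact add_mem hp hq
    | mul_X p c hp =>
      rw [map_mul, Derivation.leibniz]
      refine add_mem (Submodule.smul_mem _ _ (Submodule.subset_span ⟨c, ?_⟩)) (Submodule.smul_mem _ _ hp)
      exact (congrArg (KaehlerDifferential.D A B) (MvPolynomial.aeval_X (R := A) (fun c : C => φ c) c)).symm
  | zero => simp
  | add x y _ _ hx hy => rw [map_add]; exact add_mem hx hy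
  | smul r x _ hx => rw [map_smul, ← IsScalarTower.algebraMap_smul B r]; exact Submodule.smul_mem _ _ hx

/-- Etale coordinates near a prime. -/
theorem exists_etale_coordinates {A B C : Type u} [CommRing A] [CommRing B] [CommRing C] [Algebra A B]
    [Algebra.Smooth A B] (φ : C →+* B)
    (hspan : Submodule.span B (Set.range fun c : C => KaehlerDifferential.D A B (φ c)) = ⊤)
    (q : Ideal B) [q.IsPrime] :
    ∃ (d : ℕ) (c : Fin d → C) (h : B), h ∉ q ∧
      ((algebraMap B (Localization.Away h)).comp (MvPolynomial.aeval (R := A) fun i => φ (c i)).toRingHom).Etale := by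
  let Bq := Localization.AtPrime q
  let v : C → Ω[Bq⁄A] := fun c => KaehlerDifferential.D A Bq (algebraMap B Bq (φ c))
  have hv : Submodule.span Bq (Set.range v) = ⊤ := by
    have h1 := span_eq_top_of_isLocalizedModule Bq q.primeCompl (KaehlerDifferential.map A A B Bq) hspan
    rw [← Set.range_comp] at h1
    rw [← h1]
    congr 2
    funext c
    exact (KaehlerDifferential.map_D A A B Bq (φ c)).symm
  haveI : Algebra.FormallySmooth A Bq := by
    haveI : Algebra.FormallySmooth B Bq := Algebra.FormallySmooth.of_isLocalization q.primeCompl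
    exact Algebra.FormallySmooth.comp A B Bq
  haveI : Module.Finite Bq Ω[Bq⁄A] := Module.Finite.of_isLocalizedModule q.primeCompl (KaehlerDifferential.map A A B Bq)
  haveI : Module.FinitePresentation Bq Ω[Bq⁄A] := Module.finitePresentation_of_projective _ _
  obtain ⟨κ, a, b, hb⟩ := Module.exists_basis_of_span_of_flat v hv
  haveI : Finite κ := Module.Finite.finite_basis b
  obtain ⟨d, ⟨e⟩⟩ := Finite.exists_equiv_fin κ
  let c : Fin d → C := fun i => a (e.symm i)
  refine ⟨d, c, ?_⟩
  let Ψ := MvPolynomial.aeval (R := A) fun i => φ (c i)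
  letI : Algebra (MvPolynomial (Fin d) A) B := Ψ.toRingHom.toAlgebra
  haveI : IsScalarTower A (MvPolynomial (Fin d) A) B := IsScalarTower.of_algebraMap_eq fun r => (Ψ.commutes r).symm
  have hX : ∀ i, algebraMap (MvPolynomial (Fin d) A) B (MvPolynomial.X i) = φ (c i) :=
    fun i => MvPolynomial.aeval_X (R := A) (fun i => φ (c i)) i
  have hbe : (fun i : Fin d => KaehlerDifferential.D A Bq
      (algebraMap B Bq (algebraMap (MvPolynomial (Fin d) A) B (MvPolynomial.X i)))) = b.reindex e := by
    funext i
    rw [hX, Module.Basis.reindex_apply, hb]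
  have het : Algebra.IsEtaleAt (MvPolynomial (Fin d) A) q := by
    refine (Groth.Agent.S5014.result A B d q).2 ⟨?_, ?_⟩
    · rw [hbe]; exact (b.reindex e).linearIndependent
    · rw [hbe]; exact (b.reindex e).span_eq
  haveI : Algebra.FinitePresentation (MvPolynomial (Fin d) A) B :=
    Algebra.FinitePresentation.of_restrict_scalars_finitePresentation A _ B
  obtain ⟨h, hh, H⟩ := Algebra.exists_etale_of_isEtaleAt (R := MvPolynomial (Fin d) A) q
  exact ⟨h, hh, RingHom.etale_algebraMap.2 H⟩

/-- A nonzero polynomial is nonzero at some tuple of roots of unity. -/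
theorem exists_eval_roots_ne_zero {k : Type u} [Field k] [IsAlgClosed k] {d : ℕ} {g : MvPolynomial (Fin d) k}
    (hg : g ≠ 0) :
    ∃ x : Fin d → k, (∀ i, ∃ ℓ : ℕ, (ℓ : k) ≠ 0 ∧ x i ^ ℓ = 1) ∧ MvPolynomial.eval x g ≠ 0 := by
  by_contra hc
  push Not at hc
  refine hg (MvPolynomial.funext_set (fun _ => {x : k | ∃ ℓ : ℕ, (ℓ : k) ≠ 0 ∧ x ^ ℓ = 1})
    (fun _ => SpFP87.infinite_rootsOfUnity k) fun x hx => ?_)
  rw [map_zero]
  exact hc x fun i => hx i trivial

end Groth.Agent.AlgSt88.EtaleSlice
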