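import Groth.Agent.AlgSt88.EtaleSliceAlg
import Groth.Agent.SpPts86.SliceFlat
import Mathlib.AlgebraicGeometry.Morphisms.FormallyUnramified
import Mathlib.AlgebraicGeometry.Morphisms.Etale
import Mathlib.RingTheory.TensorProduct.MvPolynomial

/-! An etale slice through the fibre of a smooth morphism which is unramified over the product. -/

set_option autoImplicit false
set_option linter.style.haveILetI false
set_option maxHeartbeats 1000000
set_option backward.isDefEq.respectTransparency false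
set_option backward.isDefEq.respectTransparency.types false
universe u

open CategoryTheory CategoryTheory.Limits AlgebraicGeometry TensorProduct MvPolynomial

namespace Groth.Agent.AlgSt88.EtaleSlice

theorem appTop_SpecMap {R S : CommRingCat.{u}} (f : R ⟶ S) :
    (Scheme.ΓSpecIso R).inv ≫ (Spec.map f).appTop = f ≫ (Scheme.ΓSpecIso S).inv := by
  rw [Iso.inv_comp_eq, ← Category.assoc, ← Scheme.ΓSpecIso_naturality, Category.assoc, Iso.hom_inv_id,
    Category.comp_id]

theorem ext_of_appTop {T : Scheme.{u}} {R : CommRingCat.{u}} {f g : T ⟶ Spec R}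
    (h : (Scheme.ΓSpecIso R).inv ≫ f.appTop = (Scheme.ΓSpecIso R).inv ≫ g.appTop) : f = g :=
  ext_of_isAffine ((cancel_epi (Scheme.ΓSpecIso R).inv).1 h)

/-- The algebra generated by the second factor is unramified. -/
theorem formallyUnramified_aeval {A B C : CommRingCat.{u}} {B0 : Scheme.{u}} (a : A ⟶ B) (φ : C ⟶ B)
    (πA : Spec A ⟶ B0) (πC : Spec C ⟶ B0) (w : Spec.map a ≫ πA = Spec.map φ ≫ πC)
    (hK : FormallyUnramified (pullback.lift (Spec.map a) (Spec.map φ) w)) :
    letI := a.hom.toAlgebra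
    (MvPolynomial.aeval (R := A) fun c : C => φ c).toRingHom.FormallyUnramified := by
  letI := a.hom.toAlgebra
  let P0 := pullback πA πC
  let γA : A ⟶ Γ(P0, ⊤) := (Scheme.ΓSpecIso A).inv ≫ (pullback.fst πA πC).appTop
  let γC : C ⟶ Γ(P0, ⊤) := (Scheme.ΓSpecIso C).inv ≫ (pullback.snd πA πC).appTop
  let σ : CommRingCat.of (MvPolynomial C A) ⟶ Γ(P0, ⊤) :=
    CommRingCat.ofHom (MvPolynomial.eval₂Hom γA.hom (fun c : C => γC c))
  let n : P0 ⟶ Spec (CommRingCat.of (MvPolynomial C A)) := P0.toSpecΓ ≫ Spec.map σ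
  have hn : (Scheme.ΓSpecIso _).inv ≫ n.appTop = σ := by
    simp only [n, Scheme.Hom.comp_appTop, reassoc_of% appTop_SpecMap, Scheme.toSpecΓ_appTop, Iso.inv_hom_id,
      Category.comp_id]
  have hσA : CommRingCat.ofHom (MvPolynomial.C : A →+* MvPolynomial C A) ≫ σ = γA :=
    CommRingCat.hom_ext (RingHom.ext fun r => MvPolynomial.eval₂Hom_C _ _ r)
  haveI : Mono n := ⟨fun {T} u v huv => by
    have h : σ ≫ u.appTop = σ ≫ v.appTop := by
      have := congrArg (fun k : T ⟶ Spec _ => (Scheme.ΓSpecIso (CommRingCat.of (MvPolynomial C A))).inv ≫ k.appTop) huv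
      simpa only [Scheme.Hom.comp_appTop, reassoc_of% hn] using this
    refine pullback.hom_ext (ext_of_appTop ?_) (ext_of_appTop ?_)
    · rw [Scheme.Hom.comp_appTop, Scheme.Hom.comp_appTop]
      change γA ≫ u.appTop = γA ≫ v.appTop
      rw [← hσA, Category.assoc, Category.assoc, h]
    · rw [Scheme.Hom.comp_appTop, Scheme.Hom.comp_appTop]
      change γC ≫ u.appTop = γC ≫ v.appTop
      refine CommRingCat.hom_ext (RingHom.ext fun c => ?_)
      have := congrArg (fun k => k.hom (MvPolynomial.X c)) h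
      change u.appTop (σ.hom (MvPolynomial.X c)) = v.appTop (σ.hom (MvPolynomial.X c)) at this
      rw [show σ.hom (MvPolynomial.X c) = γC c from MvPolynomial.eval₂Hom_X' _ _ c] at this
      exact this⟩
  let K0 := pullback.lift (Spec.map a) (Spec.map φ) w
  haveI : FormallyUnramified (K0 ≫ n) := MorphismProperty.comp_mem _ _ _ hK inferInstance
  have e : K0 ≫ n = Spec.map (CommRingCat.ofHom (MvPolynomial.aeval (R := A) fun c : C => φ c).toRingHom) := by
    apply ext_of_appTop
    rw [Scheme.Hom.comp_appTop, reassoc_of% hn, appTop_SpecMap]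
    have hA : γA ≫ K0.appTop = a ≫ (Scheme.ΓSpecIso B).inv := by
      simp only [γA, Category.assoc, ← Scheme.Hom.comp_appTop, K0, pullback.lift_fst, appTop_SpecMap]
    have hC : γC ≫ K0.appTop = φ ≫ (Scheme.ΓSpecIso B).inv := by
      simp only [γC, Category.assoc, ← Scheme.Hom.comp_appTop, K0, pullback.lift_snd, appTop_SpecMap]
    refine CommRingCat.hom_ext (MvPolynomial.ringHom_ext (fun r => ?_) (fun c => ?_))
    · change K0.appTop (σ.hom (MvPolynomial.C r)) = (Scheme.ΓSpecIso B).inv ((MvPolynomial.aeval (R := A) fun c : C => φ c) (MvPolynomial.C r))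
      rw [show σ.hom (MvPolynomial.C r) = γA r from MvPolynomial.eval₂Hom_C _ _ r, MvPolynomial.aeval_C]
      exact congrArg (fun k => k.hom r) hA
    · change K0.appTop (σ.hom (MvPolynomial.X c)) = (Scheme.ΓSpecIso B).inv ((MvPolynomial.aeval (R := A) fun c : C => φ c) (MvPolynomial.X c))
      rw [show σ.hom (MvPolynomial.X c) = γC c from MvPolynomial.eval₂Hom_X' _ _ c, MvPolynomial.aeval_X]
      exact congrArg (fun k => k.hom c) hC
  have h₁ : FormallyUnramified (K0 ≫ n) := inferInstance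
  rw [e] at h₁
  exact (HasRingHomProperty.Spec_iff (P := @FormallyUnramified)).1 h₁

/-- A pullback of a restriction. -/
theorem isOpenImmersion_restrict {D O P R Z : Scheme.{u}} (i : P ⟶ Z) [Mono i] (κC : P ⟶ D) {E : Scheme.{u}}
    (zc : E ⟶ D) (t : R ⟶ Z) (jO : O ⟶ R) [IsOpenImmersion jO] (b : O ⟶ P) (hb : jO ≫ t = b ≫ i)
    (f : O ⟶ D) (hf : f = b ≫ κC) :
    ∃ κ : pullback f zc ⟶ pullback (pullback.fst κC zc ≫ i) t, IsOpenImmersion κ ∧
      κ ≫ pullback.snd _ _ = pullback.fst f zc ≫ jO := by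
  subst hf
  let μ : pullback (b ≫ κC) zc ⟶ pullback κC zc :=
    pullback.lift (pullback.fst _ _ ≫ b) (pullback.snd _ _) (by rw [Category.assoc]; exact pullback.condition)
  have h1 : IsPullback μ (pullback.fst (b ≫ κC) zc) (pullback.fst κC zc) b :=
    IsPullback.flip (IsPullback.of_right (h₁₁ := μ) (v₁₁ := pullback.fst (b ≫ κC) zc) (h₂₁ := b)
      (by rw [pullback.lift_snd]; exact (IsPullback.of_hasPullback (b ≫ κC) zc).flip)
      (pullback.lift_fst _ _ _) (IsPullback.of_hasPullback κC zc).flip).flip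
  have h2 : IsPullback μ (pullback.fst (b ≫ κC) zc) (pullback.fst κC zc ≫ i) (b ≫ i) :=
    SpPts86.isPullback_comp_mono h1 i
  rw [← hb] at h2
  let κ : pullback (b ≫ κC) zc ⟶ pullback (pullback.fst κC zc ≫ i) t :=
    pullback.lift μ (pullback.fst _ _ ≫ jO) (by rw [Category.assoc]; exact h2.w)
  have h3 : IsPullback κ (pullback.fst (b ≫ κC) zc) (pullback.snd _ _) jO :=
    IsPullback.of_right (h₁₂ := pullback.fst (pullback.fst κC zc ≫ i) t)
      (by rw [pullback.lift_fst]; exact h2) (pullback.lift_snd _ _ _) (IsPullback.of_hasPullback _ _)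
  exact ⟨κ, MorphismProperty.of_isPullback (P := @IsOpenImmersion) h3.flip ‹_›, pullback.lift_snd _ _ _⟩

theorem coord_hom_eq {A B C : CommRingCat.{u}} {d : ℕ} {L : Type u} [CommRing L] (φ : C ⟶ B) (c : Fin d → C)
    (ι : ULift.{u} ℤ →+* A) (ιC : ULift.{u} ℤ →+* C) (ψ : MvPolynomial (Fin d) A →+* B) (l : B →+* L)
    (hX : ∀ i, ψ (MvPolynomial.X i) = φ (c i)) :
    (l.comp ψ).comp (MvPolynomial.map ι) = (l.comp φ.hom).comp (MvPolynomial.eval₂Hom ιC c) := by
  refine MvPolynomial.ringHom_ext (fun n => ?_) (fun i => ?_)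
  · exact RingHom.congr_fun (RingHom.ext_int
      ((((l.comp ψ).comp (MvPolynomial.map ι)).comp MvPolynomial.C).comp ULift.ringEquiv.symm.toRingHom)
      ((((l.comp φ.hom).comp (MvPolynomial.eval₂Hom ιC c)).comp MvPolynomial.C).comp
        ULift.ringEquiv.symm.toRingHom)) n.down
  · simp only [RingHom.comp_apply, MvPolynomial.map_X, MvPolynomial.eval₂Hom_X', hX]

theorem point_hom_eq {A E k : Type u} [CommRing A] [CommRing E] [CommRing k] {d : ℕ}
    (evx : MvPolynomial (Fin d) A →+* k) (ι : ULift.{u} ℤ →+* A) (ψ : E →+* k)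
    (zc : MvPolynomial (Fin d) (ULift.{u} ℤ) →+* E) (hX : ∀ i, evx (MvPolynomial.X i) = ψ (zc (MvPolynomial.X i))) :
    evx.comp (MvPolynomial.map ι) = ψ.comp zc := by
  refine MvPolynomial.ringHom_ext (fun n => ?_) (fun i => ?_)
  · exact RingHom.congr_fun (RingHom.ext_int
      (((evx.comp (MvPolynomial.map ι)).comp MvPolynomial.C).comp ULift.ringEquiv.symm.toRingHom)
      (((ψ.comp zc).comp MvPolynomial.C).comp ULift.ringEquiv.symm.toRingHom)) n.down
  · simp only [RingHom.comp_apply, MvPolynomial.map_X, hX]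

theorem ker_point_eq {A E k : Type u} [CommRing A] [CommRing E] [CommRing k] [IsDomain k] {R₀ : Type u} [CommRing R₀]
    (evx : A →+* k) (f : R₀ →+* A) (ψ : E →+* k) (g : R₀ →+* E) (h : evx.comp f = ψ.comp g) :
    PrimeSpectrum.comap f ⟨RingHom.ker evx, RingHom.ker_isPrime _⟩ =
      PrimeSpectrum.comap g ⟨RingHom.ker ψ, RingHom.ker_isPrime _⟩ :=
  PrimeSpectrum.ext ((RingHom.comap_ker evx f).trans
    ((congrArg RingHom.ker h).trans (RingHom.comap_ker ψ g).symm))

/-- The slice. -/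
theorem exists_slice {R U Z B0 : Scheme.{u}} (s : R ⟶ U) [Smooth s] (t : R ⟶ Z) (πU : U ⟶ B0) (πZ : Z ⟶ B0)
    (w : s ≫ πU = t ≫ πZ) (hL : FormallyUnramified (pullback.lift s t w)) (r : ↥R) :
    ∃ (Z₁ : Scheme.{u}) (g : Z₁ ⟶ Z) (_ : LocallyOfFinitePresentation g) (O : (pullback g t).Opens)
      (p : ↥(pullback g t)), p ∈ O ∧ Etale (O.ι ≫ pullback.snd g t ≫ s) ∧ (pullback.snd g t ≫ s) p = s r := by
  classical
  obtain ⟨_, ⟨U₀, hU, rfl⟩, hrU, -⟩ := U.isBasis_affineOpens.exists_subset_of_mem_open (Set.mem_univ (s r)) isOpen_univ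
  obtain ⟨_, ⟨Z₀, hZ, rfl⟩, hrZ, -⟩ := Z.isBasis_affineOpens.exists_subset_of_mem_open (Set.mem_univ (t r)) isOpen_univ
  obtain ⟨_, ⟨R₀, hR, rfl⟩, hrR, hle⟩ := R.isBasis_affineOpens.exists_subset_of_mem_open
    (show r ∈ ((s ⁻¹ᵁ U₀ ⊓ t ⁻¹ᵁ Z₀ : R.Opens) : Set ↥R) from ⟨hrU, hrZ⟩) (s ⁻¹ᵁ U₀ ⊓ t ⁻¹ᵁ Z₀).2
  have hRU : R₀ ≤ s ⁻¹ᵁ U₀ := fun x hx => (hle hx).1
  have hRZ : R₀ ≤ t ⁻¹ᵁ Z₀ := fun x hx => (hle hx).2
  let A := Γ(U, U₀)
  let B := Γ(R, R₀)
  let C := Γ(Z, Z₀)
  let a := s.appLE U₀ R₀ hRU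
  let φ := t.appLE Z₀ R₀ hRZ
  have ha : Spec.map a ≫ hU.fromSpec = hR.fromSpec ≫ s := hU.SpecMap_appLE_fromSpec s hR hRU
  have hφ : Spec.map φ ≫ hZ.fromSpec = hR.fromSpec ≫ t := hZ.SpecMap_appLE_fromSpec t hR hRZ
  have wA : Spec.map a ≫ hU.fromSpec ≫ πU = Spec.map φ ≫ hZ.fromSpec ≫ πZ := by
    rw [reassoc_of% ha, reassoc_of% hφ, w]
  letI : Algebra A B := a.hom.toAlgebra
  haveI : Algebra.Smooth A B := RingHom.smooth_algebraMap.1 (s.smooth_appLE hU hR hRU)
  have hK : FormallyUnramified (pullback.lift (Spec.map a) (Spec.map φ) wA) := by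
    let m : pullback (hU.fromSpec ≫ πU) (hZ.fromSpec ≫ πZ) ⟶ pullback πU πZ :=
      pullback.lift (pullback.fst _ _ ≫ hU.fromSpec) (pullback.snd _ _ ≫ hZ.fromSpec)
        (by simp only [Category.assoc]; exact pullback.condition)
    haveI : FormallyUnramified (pullback.lift (Spec.map a) (Spec.map φ) wA ≫ m) := by
      have : pullback.lift (Spec.map a) (Spec.map φ) wA ≫ m = hR.fromSpec ≫ pullback.lift s t w := by
        apply pullback.hom_ext <;> simp [m, ha, hφ]
      rw [this]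
      exact MorphismProperty.comp_mem _ _ _ inferInstance hL
    exact FormallyUnramified.of_comp _ m
  have hspan := span_of_formallyUnramified (A := A) φ.hom
    (formallyUnramified_aeval a φ (hU.fromSpec ≫ πU) (hZ.fromSpec ≫ πZ) wA hK)
  obtain ⟨q, hq⟩ : r ∈ Set.range hR.fromSpec := by rw [IsAffineOpen.range_fromSpec]; exact hrR
  obtain ⟨d, c, h, hh, het⟩ := exists_etale_coordinates φ.hom hspan q.asIdeal
  -- the etale chart of affine space
  let Φ : CommRingCat.of (MvPolynomial (Fin d) A) ⟶ CommRingCat.of (Localization.Away h) :=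
    CommRingCat.ofHom ((algebraMap B (Localization.Away h)).comp (MvPolynomial.aeval (R := A) fun i => φ (c i)).toRingHom)
  haveI : Etale (Spec.map Φ) := SpFP87.etale_specMap Φ het
  let j : Spec (CommRingCat.of (Localization.Away h)) ⟶ Spec B :=
    Spec.map (CommRingCat.ofHom (algebraMap B (Localization.Away h)))
  haveI : IsOpenImmersion j := IsOpenImmersion.of_isLocalization h
  obtain ⟨q', hq'⟩ : q ∈ Set.range j := by
    refine (PrimeSpectrum.localization_away_comap_range (Localization.Away h) h).ge ?_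
    exact hh
  let P := Spec.map Φ q'
  let q₀ : PrimeSpectrum A := Spec.map a q
  let CA : A ⟶ CommRingCat.of (MvPolynomial (Fin d) A) := CommRingCat.ofHom MvPolynomial.C
  have hCA : CA ≫ Φ = a ≫ CommRingCat.ofHom (algebraMap B (Localization.Away h)) := by
    refine CommRingCat.hom_ext (RingHom.ext fun x => congrArg (algebraMap B (Localization.Away h)) ?_)
    exact MvPolynomial.aeval_C _ x
  have hPq : Spec.map CA P = q₀ := by
    rw [← Scheme.Hom.comp_apply, ← Spec.map_comp, hCA, Spec.map_comp, Scheme.Hom.comp_apply, hq']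
  -- a point with roots of unity as coordinates in the image of the chart
  let k := AlgebraicClosure q₀.asIdeal.ResidueField
  let ε : A →+* k := (algebraMap q₀.asIdeal.ResidueField k).comp (algebraMap A q₀.asIdeal.ResidueField)
  have hε : ∀ x, ε x = 0 ↔ x ∈ q₀.asIdeal := fun x => by
    rw [RingHom.comp_apply, map_eq_zero, Ideal.algebraMap_residueField_eq_zero]
  obtain ⟨_, ⟨g₀, rfl⟩, hPg, hgo⟩ := PrimeSpectrum.isTopologicalBasis_basic_opens.exists_subset_of_mem_open
    (⟨q', rfl⟩ : P ∈ Set.range (Spec.map Φ)) (Spec.map Φ).isOpenMap.isOpen_range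
  have hg0 : MvPolynomial.map ε g₀ ≠ 0 := by
    intro h0
    apply hPg
    rw [g₀.as_sum]
    refine Ideal.sum_mem _ fun m _ => ?_
    rw [MvPolynomial.monomial_eq]
    refine Ideal.mul_mem_right _ _ ?_
    have h1 : g₀.coeff m ∈ q₀.asIdeal := (hε _).1 (by rw [← MvPolynomial.coeff_map, h0, MvPolynomial.coeff_zero])
    rw [← hPq] at h1
    exact h1
  obtain ⟨x, hx, hxg⟩ := exists_eval_roots_ne_zero hg0
  letI : Algebra (ULift.{u} ℤ) k := ((Int.castRingHom k).comp ULift.ringEquiv.toRingHom).toAlgebra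
  obtain ⟨E, eE, ψ, z, heE, -, hz⟩ := SpFP87.exists_etale_roots (A := ULift.{u} ℤ) x hx
  let ZX : Type u := MvPolynomial (Fin d) (ULift.{u} ℤ)
  let ι : ULift.{u} ℤ →+* A := (Int.castRingHom A).comp ULift.ringEquiv.toRingHom
  let zc : CommRingCat.of ZX ⟶ E := CommRingCat.ofHom (MvPolynomial.eval₂Hom eE.hom z)
  let zA : CommRingCat.of ZX ⟶ CommRingCat.of (MvPolynomial (Fin d) A) := CommRingCat.ofHom (MvPolynomial.map ι)
  let κC : CommRingCat.of ZX ⟶ C :=
    CommRingCat.ofHom (MvPolynomial.eval₂Hom ((Int.castRingHom C).comp ULift.ringEquiv.toRingHom) c)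
  -- the slice
  let g : pullback (Spec.map κC) (Spec.map zc) ⟶ Z := pullback.fst _ _ ≫ hZ.fromSpec
  haveI : LocallyOfFinitePresentation (Spec.map zc) := by
    refine (HasRingHomProperty.Spec_iff (P := @LocallyOfFinitePresentation)).2 ?_
    refine RingHom.FinitePresentation.of_comp_finiteType (g := zc.hom) (MvPolynomial.C : ULift.{u} ℤ →+* ZX) ?_ ?_
    · rw [show zc.hom.comp MvPolynomial.C = eE.hom from RingHom.ext fun n => MvPolynomial.eval₂Hom_C _ _ n]
      exact heE.finitePresentation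
    · exact RingHom.finiteType_algebraMap.2 (inferInstanceAs (Algebra.FiniteType (ULift.{u} ℤ) (MvPolynomial (Fin d) (ULift.{u} ℤ))))
  -- the base change of the slice
  let jO : Spec (CommRingCat.of (Localization.Away h)) ⟶ R := j ≫ hR.fromSpec
  let Q := pullback (Spec.map (zA ≫ Φ)) (Spec.map zc)
  have hzΦ : Spec.map (zA ≫ Φ) = (j ≫ Spec.map φ) ≫ Spec.map κC := by
    rw [Category.assoc, ← Spec.map_comp, ← Spec.map_comp]
    exact congrArg Spec.map (CommRingCat.hom_ext (coord_hom_eq φ c ι _ _ (algebraMap B (Localization.Away h))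
      (fun i => MvPolynomial.aeval_X _ i)))
  obtain ⟨κ, hκo, hκ⟩ := isOpenImmersion_restrict hZ.fromSpec (Spec.map κC) (Spec.map zc) t jO (j ≫ Spec.map φ)
    (by simp only [jO, Category.assoc, hφ]) (Spec.map (zA ≫ Φ)) hzΦ
  haveI := hκo
  have hup : jO ≫ s = Spec.map Φ ≫ Spec.map CA ≫ hU.fromSpec := by
    rw [← Spec.map_comp_assoc, hCA, Spec.map_comp_assoc, ha]
    simp only [jO, j, Category.assoc]
  -- the composite to the base is etale
  let sZ : Spec (CommRingCat.of ZX) ⟶ Spec (CommRingCat.of (ULift.{u} ℤ)) :=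
    Spec.map (CommRingCat.ofHom (MvPolynomial.C : ULift.{u} ℤ →+* ZX))
  haveI : Etale (Spec.map zc ≫ sZ) := by
    rw [← Spec.map_comp]
    refine SpFP87.etale_specMap _ ?_
    show (zc.hom.comp (MvPolynomial.C : ULift.{u} ℤ →+* ZX)).Etale
    rw [show zc.hom.comp MvPolynomial.C = eE.hom from RingHom.ext fun n => MvPolynomial.eval₂Hom_C _ _ n]
    exact heE
  have sqA : IsPullback (Spec.map zA) (Spec.map CA) sZ (Spec.map (CommRingCat.ofHom ι)) := by
    letI : Algebra (ULift.{u} ℤ) A := ι.toAlgebra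
    letI := MvPolynomial.algebraMvPolynomial (σ := Fin d) (R := ULift.{u} ℤ) (S := A)
    exact (isPullback_SpecMap_of_isPushout _ _ _ _
      ((CommRingCat.isPushout_iff_isPushout (R := ULift.{u} ℤ) (S := A) (R' := ZX) (S' := MvPolynomial (Fin d) A)).2
        inferInstance))
  let T := pullback (Spec.map zA) (Spec.map zc)
  have hT : IsPullback (pullback.snd (Spec.map zA) (Spec.map zc)) (pullback.fst (Spec.map zA) (Spec.map zc) ≫ Spec.map CA)
      (Spec.map zc ≫ sZ) (Spec.map (CommRingCat.ofHom ι)) :=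
    ((IsPullback.of_hasPullback (Spec.map zA) (Spec.map zc)).paste_horiz sqA.flip).flip
  haveI : Etale (pullback.fst (Spec.map zA) (Spec.map zc) ≫ Spec.map CA) :=
    MorphismProperty.of_isPullback (P := @Etale) hT inferInstance
  let ν : Q ⟶ T := pullback.lift (pullback.fst _ _ ≫ Spec.map Φ) (pullback.snd _ _)
    (by rw [Category.assoc, ← Spec.map_comp]; exact pullback.condition)
  have hν₁ : ν ≫ pullback.fst (Spec.map zA) (Spec.map zc) = pullback.fst _ _ ≫ Spec.map Φ := pullback.lift_fst _ _ _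
  have sqν : IsPullback ν (pullback.fst (Spec.map (zA ≫ Φ)) (Spec.map zc)) (pullback.fst (Spec.map zA) (Spec.map zc))
      (Spec.map Φ) :=
    IsPullback.of_right (h₁₂ := pullback.snd (Spec.map zA) (Spec.map zc))
      (by rw [pullback.lift_snd, ← Spec.map_comp]; exact (IsPullback.of_hasPullback _ _).flip) hν₁
      (IsPullback.of_hasPullback (Spec.map zA) (Spec.map zc)).flip
  haveI : Etale ν := MorphismProperty.of_isPullback (P := @Etale) sqν.flip inferInstance
  haveI hQU : Etale (κ ≫ pullback.snd g t ≫ s) := by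
    rw [reassoc_of% hκ, hup, ← reassoc_of% hν₁, ← Category.assoc (pullback.fst (Spec.map zA) (Spec.map zc))]
    infer_instance
  -- a point
  let evx : MvPolynomial (Fin d) A →+* k := MvPolynomial.eval₂Hom ε x
  let P' : Spec (CommRingCat.of (MvPolynomial (Fin d) A)) := ⟨RingHom.ker evx, RingHom.ker_isPrime _⟩
  obtain ⟨q'', hq''⟩ : P' ∈ Set.range (Spec.map Φ) := hgo (by
    show evx g₀ ≠ 0
    rw [show evx g₀ = MvPolynomial.eval x (MvPolynomial.map ε g₀) from (MvPolynomial.eval_map ε x g₀).symm]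
    exact hxg)
  let e' : Spec E := ⟨RingHom.ker ψ, RingHom.ker_isPrime _⟩
  obtain ⟨ŵ, hw₁, -⟩ := Scheme.Pullback.exists_preimage_pullback (f := Spec.map (zA ≫ Φ)) (g := Spec.map zc) q'' e' (by
    rw [Spec.map_comp, Scheme.Hom.comp_apply, hq'']
    exact ker_point_eq evx zA.hom ψ zc.hom (point_hom_eq evx ι ψ zc.hom (fun i => by
      rw [show zc.hom (MvPolynomial.X i) = z i from MvPolynomial.eval₂Hom_X' _ _ i, hz]
      exact MvPolynomial.eval₂Hom_X' _ _ i)))
  refine ⟨_, g, inferInstance, κ.opensRange, κ ŵ, ⟨ŵ, rfl⟩, ?_, ?_⟩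
  · refine (MorphismProperty.cancel_left_of_respectsIso @Etale κ.isoOpensRange.hom _).1 ?_
    rw [← Category.assoc, Scheme.Hom.isoOpensRange_hom_ι]
    exact hQU
  · rw [← Scheme.Hom.comp_apply, reassoc_of% hκ, hup]
    simp only [Scheme.Hom.comp_apply, hw₁, hq'']
    have : Spec.map CA P' = q₀ := PrimeSpectrum.ext (Ideal.ext fun y => by
      show evx (MvPolynomial.C y) = 0 ↔ _
      rw [show evx (MvPolynomial.C y) = ε y from MvPolynomial.eval₂Hom_C _ _ y, hε])
    rw [this, ← hq]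
    exact congrArg (fun k => k q) ha

end Groth.Agent.AlgSt88.EtaleSlice
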