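import Groth.Agent.AlgSt88.LqfSlice
import Groth.Agent.Gerb44.GerbeSection
import Groth.Agent.S10541

/-! A quasi-DM stack with separated diagonal has a flat locally quasi-finite cover by a scheme. -/

set_option autoImplicit false
set_option maxHeartbeats 1000000
set_option linter.style.haveILetI false
set_option backward.isDefEq.respectTransparency false
set_option backward.isDefEq.respectTransparency.types false
universe u

open CategoryTheory CategoryTheory.Limits AlgebraicGeometry Opposite AlgSt FibCat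

namespace Groth.Agent.AlgSt88

open SpPts86 (FlatQFAt sigmaOver sigmaIn sigmaOut sigmaIn_out openOver openIncl flatQFAt_comp_iff)

variable {S : Scheme.{u}} {𝒳 : AlgSt.Cat S}

/-- Every finite type point lies in the flat quasi-finite image of a slice. -/
theorem exists_slice_stack (h𝒳 : IsAlgStack Scheme.fppfPrecoverage 𝒳) {U R : Over S} (y : ofSch U ⥤ᵇ 𝒳)
    {s t : R ⟶ U} (Φ : ofSch R ⥤ᵇ fp y y) (hΦ : IsEquivOver Φ)
    (α₁ : BasedFunctor.comp Φ (fpFst y y) ≅ ofSpMap ((AlgSp.yon S).map s))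
    (α₂ : BasedFunctor.comp Φ (fpSnd y y) ≅ ofSpMap ((AlgSp.yon S).map t))
    [Smooth s.left] [Smooth t.left]
    (hlqf : LocallyQuasiFinite (pullback.lift s.left t.left ((Over.w s).trans (Over.w t).symm) :
      R.left ⟶ pullback U.hom U.hom))
    (u : ↥U.left) (hu : LocallyOfFiniteType (U.left.fromSpecResidueField u)) :
    ∃ (Z : Over S) (g : Z ⟶ U), LocallyOfFinitePresentation g.left ∧
      (∀ x : ↥(pullback g t).left, FlatQFAt (pullback.snd g t ≫ s).left x) ∧
      ∃ x : ↥(pullback g t).left, (pullback.snd g t ≫ s).left x = u := by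
  have hX := h𝒳.isStack.1
  -- a point of the relation over `u`
  obtain ⟨e, hes⟩ : ∃ e : U ⟶ R, e ≫ s = 𝟙 U := by
    obtain ⟨Ψ, -, -, ⟨β⟩⟩ := isEquivOver_inverse hΦ
    let D : ofSch U ⥤ᵇ fp y y := fpLift (BasedFunctor.id _) (BasedFunctor.id _) (Iso.refl _)
    obtain ⟨δ⟩ := exists_hom_iso (BasedFunctor.comp D Ψ)
    obtain ⟨e, he⟩ := (AlgSp.yon S).map_surjective (homOfBased (BasedFunctor.comp D Ψ))
    refine ⟨e, (AlgSp.yon S).map_injective ?_⟩
    rw [(AlgSp.yon S).map_comp, he, ← homOfBased_ofSpMap ((AlgSp.yon S).map s),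
      ← homOfBased_congr α₁, ← homOfBased_comp]
    refine (homOfBased_congr (bRight (bLeft D β) (fpFst y y))).trans ?_
    rw [CategoryTheory.Functor.map_id]
    exact sp_hom_ext fun T x => rfl
  obtain ⟨x₀, hx₀⟩ : ∃ x₀ : Spec (CommRingCat.of ↥(U.left.residueField u)) ⟶ U.left,
      x₀ = U.left.fromSpecResidueField u := ⟨_, rfl⟩
  have : LocallyOfFiniteType x₀ := hx₀ ▸ hu
  have hes' : e.left ≫ s.left = 𝟙 U.left := by rw [← Over.comp_left, hes]; rfl
  obtain ⟨w, -, -⟩ := Scheme.Pullback.exists_preimage_pullback (f := x₀) (g := s.left)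
    (default : ↥(Spec (U.left.residueField u))) (e.left u) (by
      rw [hx₀, ← Scheme.Hom.comp_apply, hes']
      exact Scheme.fromSpecResidueField_apply u _)
  have : Nonempty ↥(pullback x₀ s.left) := ⟨w⟩
  obtain ⟨Z, i, hi, z, ⟨k, hk⟩, hz₁, hz₂⟩ :=
    SliceLqf.exists_slice s.left t.left U.hom ((Over.w s).trans (Over.w t).symm) hlqf x₀
  let ZO : Over S := Over.mk (i ≫ U.hom)
  let g : ZO ⟶ U := Over.homMk i rfl
  let ρ : pullback g t ⟶ ZO := pullback.fst g t
  let f : pullback g t ⟶ U := pullback.snd g t ≫ s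
  have sqS : IsPullback ρ.left (pullback.snd g t).left i t.left :=
    (IsPullback.of_hasPullback g t).map (Over.forget S)
  obtain ⟨z', hz'⟩ : ∃ z' : ↥(pullback g t).left, sqS.isoPullback.hom z' = z :=
    ⟨sqS.isoPullback.inv z, by rw [← Scheme.Hom.comp_apply, Iso.inv_hom_id]; rfl⟩
  have hf : f.left = sqS.isoPullback.hom ≫ pullback.snd i t.left ≫ s.left := by
    rw [← Category.assoc, sqS.isoPullback_hom_snd]
    rfl
  have hfz : FlatQFAt f.left z' := by
    rw [hf]
    exact (flatQFAt_comp_iff _ _ _).2 (hz' ▸ ⟨hz₁, hz₂⟩)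
  have hzu : f.left z' = u := by
    rw [hf, Scheme.Hom.comp_apply, hz', ← hk, hx₀]
    exact Scheme.fromSpecResidueField_apply u _
  have : LocallyOfFinitePresentation (pullback.snd g t).left :=
    MorphismProperty.of_isPullback (P := @LocallyOfFinitePresentation) sqS hi
  have : LocallyOfFinitePresentation f.left :=
    (inferInstance : LocallyOfFinitePresentation ((pullback.snd g t).left ≫ s.left))
  have : Smooth ρ.left := MorphismProperty.of_isPullback (P := @Smooth) sqS.flip ‹Smooth t.left›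
  let Z₀ : ZO.left.Opens := ⟨ρ.left '' {x | FlatQFAt f.left x}, ρ.left.isOpenMap _ (SpPts86.isOpen_flatQFAt f.left)⟩
  let j : openOver ZO Z₀ ⟶ ZO := openIncl ZO Z₀
  have : IsOpenImmersion j.left := inferInstanceAs (IsOpenImmersion Z₀.ι)
  let κ : pullback (j ≫ g) t ⟶ pullback g t :=
    pullback.lift (pullback.fst (j ≫ g) t ≫ j) (pullback.snd (j ≫ g) t)
      (by rw [Category.assoc]; exact pullback.condition)
  have hκ : pullback.snd (j ≫ g) t ≫ s = κ ≫ f := by
    rw [← Category.assoc, pullback.lift_snd]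
  have sqκ : IsPullback (pullback.fst (j ≫ g) t) κ j ρ :=
    IsPullback.of_bot (by rw [pullback.lift_snd]; exact IsPullback.of_hasPullback (j ≫ g) t)
      (pullback.lift_fst _ _ _).symm (IsPullback.of_hasPullback g t)
  have sqκ' := sqκ.map (Over.forget S)
  have : IsOpenImmersion κ.left := MorphismProperty.of_isPullback (P := @IsOpenImmersion) sqκ' ‹_›
  refine ⟨openOver ZO Z₀, j ≫ g, ?_, fun x => ?_, ?_⟩
  · exact (inferInstance : LocallyOfFinitePresentation (j.left ≫ i))
  · rw [hκ, Over.comp_left, flatQFAt_comp_iff]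
    obtain ⟨τ, hτ, hτρ⟩ : ρ.left (κ.left x) ∈ ρ.left '' {x | FlatQFAt f.left x} := by
      have e' : ρ.left (κ.left x) = j.left ((pullback.fst (j ≫ g) t).left x) :=
        congrArg (fun q : pullback (j ≫ g) t ⟶ ZO => q.left x) (pullback.lift_fst _ _ _ : κ ≫ ρ = pullback.fst _ _ ≫ j)
      rw [e']
      exact ((pullback.fst (j ≫ g) t).left x).2
    exact flatQFAt_saturated h𝒳 y Φ hΦ α₁ α₂ g (inferInstanceAs (LocallyOfFiniteType i)) τ _ hτρ hτ
  · obtain ⟨x, -, hx⟩ := Scheme.exists_preimage_of_isPullback sqκ'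
      (⟨ρ.left z', ⟨z', hfz, rfl⟩⟩ : ↥(openOver ZO Z₀).left) z' rfl
    refine ⟨x, ?_⟩
    rw [hκ, Over.comp_left, Scheme.Hom.comp_apply]
    change f.left (κ.left x) = u
    rw [show κ.left x = z' from hx, hzu]

/-- The cover. -/
theorem exists_lqf_cover_stack (h𝒳 : IsAlgStack Scheme.fppfPrecoverage 𝒳)
    (hsep : RepByAlgSpWith AlgSp.IsSeparatedMor (diag (toSelf 𝒳))) (hqf : IsQuasiDMOver 𝒳) :
    ∃ (W : Over S) (w : overCat W ⥤ᵇ 𝒳),
      RepByAlgSpWith
        (AlgSp.LocP (@Flat ⊓ @LocallyOfFinitePresentation ⊓ @LocallyQuasiFinite) ⊓ AlgSp.IsSurjectiveMor) w := by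
  have hX := h𝒳.isStack.1
  obtain ⟨U, y, hy, hy'⟩ := exists_space_atlas h𝒳
  obtain ⟨R, s, t, Φ, hΦ, ⟨α₁⟩, ⟨α₂⟩, hs, ht, hlqf⟩ := exists_chart_relation hX hsep hqf y hy
  let ι := {u : ↥U.left // LocallyOfFiniteType (U.left.fromSpecResidueField u)}
  choose Z gZ hlfp hgood hpt using fun u : ι => exists_slice_stack h𝒳 y Φ hΦ α₁ α₂ hlqf u.1 u.2
  let U' : Over S := sigmaOver Z
  let g : U' ⟶ U := sigmaOut gZ
  haveI : IsZariskiLocalAtSource (@LocallyOfFinitePresentation : MorphismProperty Scheme.{u}) :=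
    HasRingHomProperty.instIsZariskiLocalAtSource
  have hg : LocallyOfFinitePresentation g.left := IsZariskiLocalAtSource.sigmaDesc hlfp
  let ρ : pullback g t ⟶ U' := pullback.fst g t
  let f : pullback g t ⟶ U := pullback.snd g t ≫ s
  have sqA := (IsPullback.of_hasPullback g t).map (Over.forget S)
  have : LocallyOfFinitePresentation (pullback.snd g t).left :=
    MorphismProperty.of_isPullback (P := @LocallyOfFinitePresentation) sqA hg
  have hfp : LocallyOfFinitePresentation f.left :=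
    (inferInstance : LocallyOfFinitePresentation ((pullback.snd g t).left ≫ s.left))
  have hpiece : ∀ u : ι, ∃ κ : pullback (gZ u) t ⟶ pullback g t,
      pullback.snd (gZ u) t ≫ s = κ ≫ f ∧ IsPullback (pullback.fst (gZ u) t) κ (sigmaIn Z u) ρ := by
    intro u
    have hin : sigmaIn Z u ≫ g = gZ u := sigmaIn_out _ _
    refine ⟨pullback.lift (pullback.fst (gZ u) t ≫ sigmaIn Z u) (pullback.snd (gZ u) t)
      (by rw [Category.assoc, hin]; exact pullback.condition), ?_, ?_⟩
    · rw [← Category.assoc, pullback.lift_snd]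
    · exact IsPullback.of_bot (by rw [pullback.lift_snd, hin]; exact IsPullback.of_hasPullback (gZ u) t)
        (pullback.lift_fst _ _ _).symm (IsPullback.of_hasPullback g t)
  choose κ hκ sqκ using hpiece
  have hio : ∀ u, IsOpenImmersion (κ u).left := fun u =>
    MorphismProperty.of_isPullback (P := @IsOpenImmersion) ((sqκ u).map (Over.forget S))
      (inferInstanceAs (IsOpenImmersion (Sigma.ι (fun u => (Z u).left) u)))
  have hall : ∀ x : ↥(pullback g t).left, FlatQFAt f.left x := by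
    intro x
    obtain ⟨⟨u, w⟩, hw⟩ := (sigmaMk (fun u => (Z u).left)).surjective (ρ.left x)
    rw [sigmaMk_mk] at hw
    obtain ⟨y', -, rfl⟩ := Scheme.exists_preimage_of_isPullback ((sqκ u).map (Over.forget S)) w x hw
    have := hio u
    refine (flatQFAt_comp_iff (κ u).left f.left y').1 ?_
    rw [← Over.comp_left, ← hκ]
    exact hgood u y'
  obtain ⟨hff, hfq⟩ := SpPts86.flat_locallyQuasiFinite_of_forall f.left hall
  have hfs : Surjective f.left := by
    refine ⟨fun u => ?_⟩
    by_contra hu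
    have hopen : IsOpen (Set.range f.left) := f.left.isOpenMap.isOpen_range
    obtain ⟨_, ⟨V, hV, rfl⟩, huV, -⟩ :=
      U.left.isBasis_affineOpens.exists_subset_of_mem_open (Set.mem_univ u) isOpen_univ
    have hcl : IsClosed (hV.fromSpec ⁻¹' (Set.range f.left)ᶜ) :=
      hopen.isClosed_compl.preimage hV.fromSpec.continuous
    obtain ⟨q, hqu⟩ : u ∈ Set.range hV.fromSpec := by rw [IsAffineOpen.range_fromSpec]; exact huV
    obtain ⟨x, hxq, hxcl⟩ := hcl.exists_closed_singleton
      ⟨q, show hV.fromSpec q ∈ (Set.range f.left)ᶜ by rw [hqu]; exact hu⟩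
    have : IsClosedImmersion ((Spec Γ(U.left, V)).fromSpecResidueField x) :=
      IsClosedImmersion.of_isPreimmersion _ (by rw [Scheme.range_fromSpecResidueField]; exact hxcl)
    have hlft : LocallyOfFiniteType (U.left.fromSpecResidueField (hV.fromSpec x)) := by
      have e := Scheme.Hom.SpecMap_residueFieldMap_fromSpecResidueField hV.fromSpec x
      rw [← IsIso.eq_inv_comp] at e
      rw [e]
      infer_instance
    obtain ⟨y', hy''⟩ := hpt ⟨hV.fromSpec x, hlft⟩
    apply hxq
    refine ⟨(κ _).left y', ?_⟩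
    rw [← Scheme.Hom.comp_apply, ← Over.comp_left, ← hκ]
    exact hy''
  let w₀ := BasedFunctor.comp (ofSpMap ((AlgSp.yon S).map g)) y
  obtain ⟨E, hE, ⟨αE⟩, -⟩ := exists_slice_chart h𝒳 y Φ hΦ α₁ α₂ g
  have key : ∀ {P : MorphismProperty (AlgSp.Sp S)}, StableBC P → AlgSp.IsLocalOnBase AlgSp.IsFppfCover P →
      P ((AlgSp.yon S).map f) → RepByAlgSpWith P w₀ := fun hB hL hf =>
    repByAlgSpWith_of_repSp_cover (Stk.isFibGrpd_ofPsh _) hX hB hL (rep1_ofSch h𝒳 w₀) (spY U) y
      (rep_flat_of_sm hy) (rep_lfp_of_sm hy) hy' (repSp_of_equiv (G := spY U) (F := spY (pullback g t)) hE αE hf)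
  haveI := Groth.Agent.Unr55.locallyQuasiFinite.{u}
  haveI : IsZariskiLocalAtTarget (@LocallyQuasiFinite ⊓ @LocallyOfFiniteType : MorphismProperty Scheme.{u}) :=
    inferInstance
  have hF : RepByAlgSpWith (AlgSp.LocP @Flat) w₀ :=
    key (stableBC_locP _) Gerb44.isLocalOnBase_flat ((SpFP87.locP_yon_map_iff f).2 hff)
  have hP : RepByAlgSpWith (AlgSp.LocP @LocallyOfFinitePresentation) w₀ :=
    key (stableBC_locP _) Gerb44.isLocalOnBase_lfp ((SpFP87.locP_yon_map_iff f).2 hfp)
  have hQ : RepByAlgSpWith (AlgSp.LocP (@LocallyQuasiFinite ⊓ @LocallyOfFiniteType)) w₀ :=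
    key (stableBC_locP _) (fppf_local_of_fpqc (S10541.result S).1)
      ((SpFP87.locP_yon_map_iff f).2 ⟨hfq, (inferInstance : LocallyOfFiniteType f.left)⟩)
  have hS : RepByAlgSpWith AlgSp.IsSurjectiveMor w₀ :=
    key Gerb44.stableBC_surj Gerb44.isLocalOnBase_surj
      (SpPts86.isSurjectiveMor_of_repWith ((AlgSp.repWith_yon_map_iff @Surjective f).2 hfs))
  haveI := respectsIso_locP (S := S) (@Flat : MorphismProperty Scheme.{u})
  haveI := respectsIso_locP (S := S) (@LocallyOfFinitePresentation : MorphismProperty Scheme.{u})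
  haveI := respectsIso_locP (S := S) (@LocallyQuasiFinite ⊓ @LocallyOfFiniteType : MorphismProperty Scheme.{u})
  refine ⟨U', BasedFunctor.comp (ofOverCat U') w₀, (repByAlgSpWith_precomp_equiv (isEquivOver_ofOverCat U')).2 ?_⟩
  refine repByAlgSpWith_mono ?_ (repByAlgSpWith_inf (repByAlgSpWith_inf (repByAlgSpWith_inf hF hP) hQ) hS)
  rintro A B a ⟨⟨⟨h1, h2⟩, h3⟩, h4⟩
  exact ⟨fun _ _ p q r hp hq he => ⟨⟨h1 p q r hp hq he, h2 p q r hp hq he⟩, (h3 p q r hp hq he).1⟩, h4⟩

end Groth.Agent.AlgSt88
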