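import Groth.Agent.AlgSt88.EtaleLocus
import Groth.Agent.AlgSt88.EtaleSliceSch
import Groth.Agent.AlgSt88.LqfCover
import Groth.Agent.AlgSt88.AtlasFp
import Groth.Agent.AlgSt88.KerTrivial

/-! Etale slices of a smooth atlas of a stack with unramified diagonal. -/

set_option autoImplicit false
set_option maxHeartbeats 1000000
set_option linter.style.haveILetI false
set_option backward.isDefEq.respectTransparency false
set_option backward.isDefEq.respectTransparency.types false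
universe u

open CategoryTheory CategoryTheory.Limits AlgebraicGeometry Opposite AlgSt FibCat

namespace Groth.Agent.AlgSt88

open SpPts86 (NearPt sigmaOver sigmaIn sigmaOut sigmaIn_out openOver openIncl)

variable {S : Scheme.{u}} {𝒳 : AlgSt.Cat S}

theorem fppf_local_etale : AlgSp.IsLocalOnBase AlgSp.IsFppfCover (AlgSp.LocP (S := S) @Etale) :=
  fppf_local_of_fpqc SpFP87.isLocalOnBase_fpqc_locP

/-- The relation of a smooth chart with its unramified map to the product. -/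
theorem exists_space_relation (hX : IsFibGrpd 𝒳.p) (hdm : IsDMOver 𝒳) {U : Over S} (y : ofSch U ⥤ᵇ 𝒳) (hy : Sm y) :
    ∃ (R : AlgSp.Space S) (k : R.obj ⟶ (AlgSp.yon S).obj (overProd U U)) (Φ : ofSp R.obj ⥤ᵇ fp y y),
      IsEquivOver Φ ∧
      Nonempty (BasedFunctor.comp Φ (fpFst y y) ≅ ofSpMap (k ≫ (AlgSp.yon S).map (overProdFst U U))) ∧
      Nonempty (BasedFunctor.comp Φ (fpSnd y y) ≅ ofSpMap (k ≫ (AlgSp.yon S).map (overProdSnd U U))) ∧
      AlgSp.LocP @Smooth (k ≫ (AlgSp.yon S).map (overProdFst U U)) ∧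
      AlgSp.LocP @Smooth (k ≫ (AlgSp.yon S).map (overProdSnd U U)) ∧
      AlgSp.LocP (@LocallyOfFiniteType ⊓ @FormallyUnramified) k := by
  let r := fpToProd y y
  have h₂ : RepByAlgSpWith (AlgSp.LocP (@LocallyOfFiniteType ⊓ @FormallyUnramified)) r :=
    (repByAlgSpWith_precomp_equiv (f := fpFst (prodMap y y) (diag (toSelf 𝒳))) (isEquivOver_fpToDiag y y)).2
      (repByAlgSpWith_fpFst _ hdm)
  let W := overProd U U
  let z := BasedFunctor.comp (ofOverCat W) (toProdOfSch U U)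
  have hz : IsEquivOver z := isEquivOver_comp (isEquivOver_ofOverCat W) (isEquivOver_toProdOfSch U U)
  obtain ⟨F, e, he, hq⟩ := h₂ W z
  let k := spMapOfOver (BasedFunctor.comp e (fpFst z r))
  let Φ : ofSp F.obj ⥤ᵇ fp y y := BasedFunctor.comp e (fpSnd z r)
  have hΦ : IsEquivOver Φ := isEquivOver_comp he
    (isEquivOver_of_iso (F := BasedFunctor.comp (fpSwap z r) (fpFst r z)) (Iso.refl _)
      (isEquivOver_comp isEquivOver_fpSwap (isEquivOver_fpFst r hz)))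
  obtain ⟨γ⟩ : Nonempty (BasedFunctor.comp (BasedFunctor.comp e (fpFst z r)) (ofOverCat W) ≅ ofSpMap k) := by
    obtain ⟨γ⟩ := exists_hom_iso (BasedFunctor.comp (BasedFunctor.comp e (fpFst z r)) (ofOverCat W))
    rw [← spMapOfOver_eq] at γ
    exact ⟨γ⟩
  obtain ⟨c₁⟩ := nonempty_ofSpMap_comp k ((AlgSp.yon S).map (overProdFst U U))
  obtain ⟨c₂⟩ := nonempty_ofSpMap_comp k ((AlgSp.yon S).map (overProdSnd U U))
  have α₁ : BasedFunctor.comp Φ (fpFst y y) ≅ ofSpMap (k ≫ (AlgSp.yon S).map (overProdFst U U)) :=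
    bRight (bLeft e (fpIso z r)).symm (fpFst (toSelf (ofSch U)) (toSelf (ofSch U))) ≪≫
      bRight γ (ofSpMap ((AlgSp.yon S).map (overProdFst U U))) ≪≫ c₁.symm
  have α₂ : BasedFunctor.comp Φ (fpSnd y y) ≅ ofSpMap (k ≫ (AlgSp.yon S).map (overProdSnd U U)) :=
    bRight (bLeft e (fpIso z r)).symm (fpSnd (toSelf (ofSch U)) (toSelf (ofSch U))) ≪≫
      bRight γ (ofSpMap ((AlgSp.yon S).map (overProdSnd U U))) ≪≫ c₂.symm
  have hU : IsFibGrpd (ofSch U).p := Stk.isFibGrpd_ofPsh _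
  exact ⟨F, k, Φ, hΦ, ⟨α₁⟩, ⟨α₂⟩,
    prop_of_rep hU hX (stableBC_locP _) (fppf_local_of_fpqc (S10542.result S)) hy (G := spY U) y hΦ α₁,
    prop_of_rep hU hX (stableBC_locP _) (fppf_local_of_fpqc (S10542.result S)) hy (G := spY U) y
      (e := BasedFunctor.comp Φ (fpSwap y y)) (isEquivOver_comp hΦ isEquivOver_fpSwap) α₂, hq⟩

section
variable (hX : IsFibGrpd 𝒳.p) (hrep : ∀ {W : Over S} (x : ofSch W ⥤ᵇ 𝒳), RepByAlgSp1 x)
  {U : Over S} (y : ofSch U ⥤ᵇ 𝒳) {R : AlgSp.Space S} {b₁ b₂ : R.obj ⟶ (AlgSp.yon S).obj U}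
  (Φ : ofSp R.obj ⥤ᵇ fp y y) (hΦ : IsEquivOver Φ)
  (α₁ : BasedFunctor.comp Φ (fpFst y y) ≅ ofSpMap b₁) (α₂ : BasedFunctor.comp Φ (fpSnd y y) ≅ ofSpMap b₂)

include hX hrep hΦ α₁ α₂ in
/-- The base change of a slice to the chart, as a space. -/
theorem exists_slice_space {Z : Over S} (g : Z ⟶ U) :
    ∃ (F : AlgSp.Space S) (g₁ : F.obj ⟶ R.obj) (ρ : F.obj ⟶ (AlgSp.yon S).obj Z)
      (E : ofSp F.obj ⥤ᵇ fp y (BasedFunctor.comp (ofSpMap ((AlgSp.yon S).map g)) y)),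
      IsEquivOver E ∧ IsPullback g₁ ρ b₂ ((AlgSp.yon S).map g) ∧
      Nonempty (BasedFunctor.comp E (fpFst _ _) ≅ ofSpMap (g₁ ≫ b₁)) ∧
      Nonempty (BasedFunctor.comp E (fpSnd _ _) ≅ ofSpMap ρ) := by
  have hU : IsFibGrpd (ofSch U).p := Stk.isFibGrpd_ofPsh _
  let w := BasedFunctor.comp (ofSpMap ((AlgSp.yon S).map g)) y
  obtain ⟨F, a', e', he', ⟨α'⟩⟩ := exists_space_fp_chart hU hX (hrep y) (spY Z) w
  obtain ⟨g₁, sq, ⟨c⟩⟩ := exists_bc y (V := spY U) (F := R) y (BasedFunctor.comp Φ (fpSwap y y))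
    (isEquivOver_comp hΦ isEquivOver_fpSwap) b₂ α₂ (ofSpMap ((AlgSp.yon S).map g))
    ((AlgSp.yon S).map g) (Iso.refl _) w (Iso.refl _) e' he' a' α'
  let E : ofSp F.obj ⥤ᵇ fp y w := BasedFunctor.comp e' (fpSwap w y)
  have d₁ : BasedFunctor.comp e' (fpSnd w y) ≅ ofSpMap (g₁ ≫ b₁) :=
    (bRight c (fpSnd y y)).symm ≪≫ bLeft (ofSpMap g₁) α₁ ≪≫
      Classical.choice ((nonempty_ofSpMap_comp g₁ b₁).map Iso.symm)
  exact ⟨F, g₁, a', E, isEquivOver_comp he' isEquivOver_fpSwap, sq, ⟨d₁⟩, ⟨α'⟩⟩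

include hX hrep hΦ α₁ α₂ in
/-- The etale locus is saturated for the projection to the slice. -/
theorem etaleAt_saturated (hs : AlgSp.LocP @Smooth b₁) (ht : AlgSp.LocP @Smooth b₂)
    {Z : Over S} (g : Z ⟶ U) {F : AlgSp.Space S} {φ : F.obj ⟶ (AlgSp.yon S).obj U}
    {ρ : F.obj ⟶ (AlgSp.yon S).obj Z}
    (E : ofSp F.obj ⥤ᵇ fp y (BasedFunctor.comp (ofSpMap ((AlgSp.yon S).map g)) y)) (hE : IsEquivOver E)
    (α : BasedFunctor.comp E (fpFst _ _) ≅ ofSpMap φ) (αZ : BasedFunctor.comp E (fpSnd _ _) ≅ ofSpMap ρ)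
    (p₁ p₂ : AlgSp.Points F.obj) (hτ : AlgSp.Points.map ρ p₁ = AlgSp.Points.map ρ p₂)
    (h₁ : AlgSp.HasAtMor (NearPt @Etale) φ p₁) : AlgSp.HasAtMor (NearPt @Etale) φ p₂ := by
  have hU : IsFibGrpd (ofSch U).p := Stk.isFibGrpd_ofPsh _
  have hZ : IsFibGrpd (ofSch Z).p := Stk.isFibGrpd_ofPsh _
  let f := BasedFunctor.comp (ofSpMap ((AlgSp.yon S).map g)) y
  let β₂ : BasedFunctor.comp (BasedFunctor.comp Φ (fpFst y y)) y ≅ BasedFunctor.comp (BasedFunctor.comp Φ (fpSnd y y)) y :=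
    bLeft Φ (fpIso y y)
  let Φ₁ := BasedFunctor.comp Φ (fpFst y y)
  let Φ₂ := BasedFunctor.comp Φ (fpSnd y y)
  obtain ⟨F', a', e', he', ⟨α'⟩⟩ := exists_space_fp_chart hZ hX (hrep f) R (BasedFunctor.comp Φ₁ y)
  obtain ⟨g₁, sq₁, ⟨c₁⟩⟩ := exists_bc f (V := spY U) (F := F) y E hE φ α Φ₁
    b₁ α₁ (BasedFunctor.comp Φ₁ y) (Iso.refl _) e' he' a' α'
  obtain ⟨g₂, sq₂, ⟨c₂⟩⟩ := exists_bc f (V := spY U) (F := F) y E hE φ α Φ₂
    b₂ α₂ (BasedFunctor.comp Φ₁ y) β₂ e' he' a' α'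
  obtain ⟨r, e₁', e₂'⟩ : ∃ r, AlgSp.Points.map g₁ r = p₁ ∧ AlgSp.Points.map g₂ r = p₂ := by
    obtain ⟨z, hz₁, hz₂⟩ := exists_pair_point hZ hU hX f y (Points.map E (stPt _ p₁)) (Points.map E (stPt _ p₂)) (by
      have key : ∀ x, Points.map (fpSnd y f) (Points.map E (stPt _ x)) =
          stPt _ (AlgSp.Points.map ρ x) := fun x =>
        (points_map_comp E (fpSnd y f) _).symm.trans ((points_map_congr αZ _).trans (stPt_natural _ x))
      rw [key, key, hτ])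
    obtain ⟨z', rfl⟩ := (points_map_bijective
      (isEquivOver_fpMapFst (BasedFunctor.comp (fpFst y y) y) f Φ hΦ)).2 z
    obtain ⟨v, rfl⟩ := (points_map_bijective he').2 z'
    obtain ⟨r, rfl⟩ := stPt_bijective.2 v
    let M := fpMapFst (BasedFunctor.comp (fpFst y y) y) f Φ
    have σ₁ : BasedFunctor.comp (fpCongr (Iso.refl (BasedFunctor.comp Φ₁ y)) (Iso.refl f)) (fpMapFst y f Φ₁) ≅
        BasedFunctor.comp M (fpMapFst y f (fpFst y y)) :=
      fpNatIso (Φ := BasedFunctor.comp (fpCongr (Iso.refl (BasedFunctor.comp Φ₁ y)) (Iso.refl f)) (fpMapFst y f Φ₁))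
        (Ψ := BasedFunctor.comp M (fpMapFst y f (fpFst y y))) (Iso.refl _) (Iso.refl _) (fun x => by
          change y.map (𝟙 _) ≫ x.obj.iso.hom = (𝟙 _ ≫ x.obj.iso.hom ≫ 𝟙 _) ≫ f.map (𝟙 _)
          rw [map_id', map_id']
          simp)
    have σ₂ : BasedFunctor.comp (fpCongr β₂ (Iso.refl f)) (fpMapFst y f Φ₂) ≅
        BasedFunctor.comp (BasedFunctor.comp M (fpCongr (fpIso y y) (Iso.refl f))) (fpMapFst y f (fpSnd y y)) :=
      fpNatIso (Φ := BasedFunctor.comp (fpCongr β₂ (Iso.refl f)) (fpMapFst y f Φ₂))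
        (Ψ := BasedFunctor.comp (BasedFunctor.comp M (fpCongr (fpIso y y) (Iso.refl f))) (fpMapFst y f (fpSnd y y)))
        (Iso.refl _) (Iso.refl _) (fun x => by
          change y.map (𝟙 _) ≫ ((Φ.obj x.obj.fst).obj.iso.inv ≫ x.obj.iso.hom ≫ 𝟙 _) =
            ((Φ.obj x.obj.fst).obj.iso.inv ≫ x.obj.iso.hom ≫ 𝟙 _) ≫ f.map (𝟙 _)
          rw [map_id', map_id']
          simp)
    refine ⟨r, stPt_bijective.1 ((points_map_bijective hE).1 ?_), stPt_bijective.1 ((points_map_bijective hE).1 ?_)⟩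
    · rw [← stPt_natural g₁, ← points_map_comp, points_map_congr (c₁ ≪≫ bLeft e' σ₁), points_map_comp,
        points_map_comp]
      exact hz₁
    · rw [← stPt_natural g₂, ← points_map_comp, points_map_congr (c₂ ≪≫ bLeft e' σ₂), points_map_comp,
        points_map_comp, points_map_comp]
      exact hz₂
  rw [← e₂']
  rw [← e₁'] at h₁
  exact (hasAtMor_near_etale_bc sq₂ F.property (AlgSp.IsAlgSpace.yon_obj U) R.property ht r).1
    ((hasAtMor_near_etale_bc sq₁ F.property (AlgSp.IsAlgSpace.yon_obj U) R.property hs r).2 h₁)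

end

/-- The etale cover. -/
theorem exists_etale_atlas {K : Precoverage Scheme.{u}} (h : IsAlgStack K 𝒳) (hdm : IsDMOver 𝒳) :
    HasAtlas AlgSp.IsEtaleMor 𝒳 := by
  have hX := h.isStack.1
  have hrep : ∀ {W : Over S} (x : ofSch W ⥤ᵇ 𝒳), RepByAlgSp1 x := fun {W} x =>
    repByAlgSp1_from_space hX ((diag_iff hX).1 h.diag) (repByAlgSp_ofSp (spY W)) x
  obtain ⟨U, u₀, hu, hu'⟩ := h.atlas
  let y := BasedFunctor.comp (toOverCat U) u₀
  have hy : Sm y := (repByAlgSpWith_precomp_equiv (isEquivOver_toOverCat U)).2 hu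
  have hy' : Sj y := (repByAlgSpWith_precomp_equiv (isEquivOver_toOverCat U)).2 hu'
  have hU : IsFibGrpd (ofSch U).p := Stk.isFibGrpd_ofPsh _
  obtain ⟨R, k, Φ, hΦ, ⟨α₁⟩, ⟨α₂⟩, hs, ht, hk⟩ := exists_space_relation hX hdm y hy
  let b₁ := k ≫ (AlgSp.yon S).map (overProdFst U U)
  let b₂ := k ≫ (AlgSp.yon S).map (overProdSnd U U)
  -- a chart of the relation
  obtain ⟨R', π, hπ, hπs⟩ := R.property.atlas
  obtain ⟨m, hm⟩ := (AlgSp.yon S).map_surjective (π ≫ k)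
  let s := m ≫ overProdFst U U
  let t := m ≫ overProdSnd U U
  have hs' : (AlgSp.yon S).map s = π ≫ b₁ := by rw [(AlgSp.yon S).map_comp, hm, Category.assoc]
  have ht' : (AlgSp.yon S).map t = π ≫ b₂ := by rw [(AlgSp.yon S).map_comp, hm, Category.assoc]
  have : Smooth s.left := hs π (𝟙 _) s hπ (AlgSp.repWith_id _ U) (by rw [Category.comp_id, hs'])
  have : Smooth t.left := ht π (𝟙 _) t hπ (AlgSp.repWith_id _ U) (by rw [Category.comp_id, ht'])
  have hL : FormallyUnramified (pullback.lift s.left t.left ((Over.w s).trans (Over.w t).symm)) := by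
    have h3 := (hk π (𝟙 _) m hπ (AlgSp.repWith_id _ _) (by rw [Category.comp_id, hm])).2
    have e : pullback.lift s.left t.left ((Over.w s).trans (Over.w t).symm) = m.left := by
      apply pullback.hom_ext
      · rw [pullback.lift_fst]; rfl
      · rw [pullback.lift_snd]; rfl
    rw [e]
    exact h3
  have hsur : ∀ u : ↥U.left, ∃ r, s.left r = u := by
    intro u
    have hb : AlgSp.IsSurjectiveMor b₁ := prop_of_rep hU hX Gerb44.stableBC_surj Gerb44.isLocalOnBase_surj hy'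
      (G := spY U) y hΦ α₁
    obtain ⟨v, hv⟩ := hb (AlgSp.Points.schemeHomeo U u)
    obtain ⟨v', rfl⟩ := SpPts86.isSurjectiveMor_of_repWith hπs v
    obtain ⟨r, rfl⟩ := (AlgSp.Points.schemeHomeo R').surjective v'
    rw [← AlgSp.Points.map_comp, ← hs', AlgSp.Points.map_yon_map_apply] at hv
    exact ⟨r, (AlgSp.Points.schemeHomeo U).injective hv⟩
  choose r hr using hsur
  -- the slices
  choose Z₁ g₀ hlfp O p hpO hO hp using fun u : ↥U.left =>
    EtaleSlice.exists_slice s.left t.left U.hom U.hom ((Over.w s).trans (Over.w t).symm) hL (r u)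
  let Z : ↥U.left → Over S := fun u => Over.mk (g₀ u ≫ U.hom)
  let gZ : ∀ u, Z u ⟶ U := fun u => Over.homMk (g₀ u) rfl
  let ZS : Over S := sigmaOver Z
  let g : ZS ⟶ U := sigmaOut gZ
  obtain ⟨F, g₁, ρ, E, hE, sq, ⟨αE⟩, ⟨αZ⟩⟩ := exists_slice_space hX hrep y Φ hΦ α₁ α₂ g
  let φ : F.obj ⟶ (AlgSp.yon S).obj U := g₁ ≫ b₁
  -- its chart
  let P := pullback g t
  have sqP := ((IsPullback.of_hasPullback g t).map (AlgSp.yon S))
  let π₁ : (AlgSp.yon S).obj P ⟶ F.obj := sq.lift ((AlgSp.yon S).map (pullback.snd g t) ≫ π)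
    ((AlgSp.yon S).map (pullback.fst g t)) (by rw [Category.assoc, ← ht']; exact sqP.w.symm)
  have sqπ : IsPullback π₁ ((AlgSp.yon S).map (pullback.snd g t)) g₁ π :=
    IsPullback.of_right (h₁₂ := ρ) (by rw [IsPullback.lift_snd, ← ht']; exact sqP)
      (IsPullback.lift_fst _ _ _ _) sq.flip
  have hπ₁ : AlgSp.RepWith @Etale π₁ := MorphismProperty.of_isPullback sqπ.flip hπ
  have hπ₁' : π₁ ≫ φ = (AlgSp.yon S).map (pullback.snd g t ≫ s) := by
    rw [(AlgSp.yon S).map_comp, hs', ← Category.assoc, IsPullback.lift_fst, Category.assoc]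
  have hπρ : π₁ ≫ ρ = (AlgSp.yon S).map (pullback.fst g t) := IsPullback.lift_snd _ _ _ _
  -- the locus
  let LU := {x : AlgSp.Points F.obj | AlgSp.HasAtMor (NearPt @Etale) φ x}
  have hLU : IsOpen LU := isOpen_near F.property (AlgSp.IsAlgSpace.yon_obj U) φ @Etale
  let q : ↥P.left → AlgSp.Points F.obj := fun x => AlgSp.Points.map π₁ (AlgSp.Points.schemeHomeo P x)
  have hq : Continuous q := (AlgSp.Points.continuous_map π₁).comp (AlgSp.Points.schemeHomeo P).continuous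
  have hsmf : Smooth (pullback.fst g t).left :=
    MorphismProperty.of_isPullback (P := @Smooth) ((IsPullback.of_hasPullback g t).map (Over.forget S)).flip ‹Smooth t.left›
  let Z₀ : ZS.left.Opens :=
    ⟨(pullback.fst g t).left '' (q ⁻¹' LU), (pullback.fst g t).left.isOpenMap _ (hLU.preimage hq)⟩
  -- every point of the chart is hit
  have hhit : ∀ u : ↥U.left, ∃ x, q x ∈ LU ∧ (pullback.snd g t ≫ s).left x = u := by
    intro u
    have hin : sigmaIn Z u ≫ g = gZ u := sigmaIn_out _ _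
    let κ : pullback (gZ u) t ⟶ P := pullback.lift (pullback.fst (gZ u) t ≫ sigmaIn Z u) (pullback.snd (gZ u) t)
      (by rw [Category.assoc, hin]; exact pullback.condition)
    have sqκ : IsPullback (pullback.fst (gZ u) t) κ (sigmaIn Z u) (pullback.fst g t) :=
      IsPullback.of_bot (by rw [pullback.lift_snd, hin]; exact IsPullback.of_hasPullback (gZ u) t)
        (pullback.lift_fst _ _ _).symm (IsPullback.of_hasPullback g t)
    have hκo : IsOpenImmersion κ.left := MorphismProperty.of_isPullback (P := @IsOpenImmersion)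
      (sqκ.map (Over.forget S)) (inferInstanceAs (IsOpenImmersion (Sigma.ι (fun u => (Z u).left) u)))
    let sqS := (IsPullback.of_hasPullback (gZ u) t).map (Over.forget S)
    let i := sqS.isoPullback
    obtain ⟨x₀, hx₀⟩ : ∃ x₀, i.hom x₀ = p u := ⟨i.inv (p u), by rw [← Scheme.Hom.comp_apply, Iso.inv_hom_id]; rfl⟩
    let h₀ : pullback (gZ u) t ⟶ U := pullback.snd (gZ u) t ≫ s
    have hh₀ : h₀.left = i.hom ≫ pullback.snd (g₀ u) t.left ≫ s.left := by
      rw [← Category.assoc]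
      exact (congrArg (· ≫ s.left) sqS.isoPullback_hom_snd.symm : _)
    refine ⟨κ.left x₀, ?_, ?_⟩
    · have : Etale κ.left := inferInstance
      refine ⟨pullback (gZ u) t, U, (AlgSp.yon S).map κ ≫ π₁, 𝟙 _, h₀, x₀, SpPts86.repWith_etale_comp κ hπ₁,
        AlgSp.repWith_id _ U, ?_, ?_, ?_⟩
      · rw [Category.comp_id, Category.assoc, hπ₁', ← Functor.map_comp, ← Category.assoc, pullback.lift_snd]
      · rw [AlgSp.Points.ofPt_eq_map_ofScheme, AlgSp.Points.map_comp]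
        exact congrArg (AlgSp.Points.map π₁) (AlgSp.Points.map_yon_map_apply κ x₀)
      · rw [hh₀]
        exact (SpPts86.etInv_nearPt @Etale (pullback.snd (g₀ u) t.left ≫ s.left) _ i.hom (𝟙 _) inferInstance
          inferInstance (Category.comp_id _) x₀).1 (hx₀.symm ▸ ⟨O u, hpO u, hO u⟩)
    · rw [← Scheme.Hom.comp_apply, ← Over.comp_left,
        show κ ≫ pullback.snd g t ≫ s = h₀ by rw [← Category.assoc, pullback.lift_snd], hh₀, Scheme.Hom.comp_apply]
      exact (congrArg (pullback.snd (g₀ u) t.left ≫ s.left) hx₀).trans ((hp u).trans (hr u))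
  -- the atlas
  let j : openOver ZS Z₀ ⟶ ZS := openIncl ZS Z₀
  have : IsOpenImmersion j.left := inferInstanceAs (IsOpenImmersion Z₀.ι)
  obtain ⟨F₀, g₁', ρ', E', hE', sq', ⟨αE'⟩, -⟩ := exists_slice_space hX hrep y Φ hΦ α₁ α₂ (j ≫ g)
  let κF : F₀.obj ⟶ F.obj := sq.lift g₁' (ρ' ≫ (AlgSp.yon S).map j)
    (by rw [sq'.w, (AlgSp.yon S).map_comp, Category.assoc])
  have sqF : IsPullback κF ρ' ρ ((AlgSp.yon S).map j) :=
    IsPullback.of_right (h₁₂ := g₁) (v₁₃ := b₂) (h₂₂ := (AlgSp.yon S).map g)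
      (by rw [IsPullback.lift_fst, ← (AlgSp.yon S).map_comp]; exact sq') (IsPullback.lift_snd _ _ _ _) sq
  have hκF : AlgSp.RepWith @IsOpenImmersion κF :=
    MorphismProperty.of_isPullback sqF.flip ((AlgSp.repWith_yon_map_iff @IsOpenImmersion j).2 ‹_›)
  have hκφ : κF ≫ φ = g₁' ≫ b₁ := by rw [← Category.assoc, IsPullback.lift_fst]
  have hY := AlgSp.IsAlgSpace.yon_obj U
  have hEt : AlgSp.LocP @Etale (g₁' ≫ b₁) := by
    haveI : IsZariskiLocalAtSource (@Etale.{u} : MorphismProperty Scheme.{u}) :=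
      HasRingHomProperty.instIsZariskiLocalAtSource (Q := @RingHom.Etale)
    refine (SpPts86.locP_iff_forall_near F₀.property hY _).2 fun x => ?_
    rw [← hκφ]
    refine near_of_precomp_openImm F.property F₀.property hY hκF φ @Etale x ?_
    obtain ⟨z, hz⟩ := (AlgSp.Points.schemeHomeo _).surjective (AlgSp.Points.map ρ' x)
    obtain ⟨x₁, hx₁, hx₁z⟩ := (z : ↥(openOver ZS Z₀).left).2
    refine etaleAt_saturated hX hrep y Φ hΦ α₁ α₂ hs ht g E hE αE αZ (q x₁) _ ?_ hx₁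
    rw [← AlgSp.Points.map_comp, ← AlgSp.Points.map_comp, hπρ, sqF.w, AlgSp.Points.map_comp, ← hz,
      AlgSp.Points.map_yon_map_apply, AlgSp.Points.map_yon_map_apply, hx₁z]
    rfl
  have hSur : AlgSp.IsSurjectiveMor (g₁' ≫ b₁) := by
    intro v
    obtain ⟨u, rfl⟩ := (AlgSp.Points.schemeHomeo U).surjective v
    obtain ⟨x, hx, hxu⟩ := hhit u
    obtain ⟨w, hw, -⟩ := SpPts86.exists_of_isPullback sqF (q x)
      (AlgSp.Points.schemeHomeo (openOver ZS Z₀) ⟨(pullback.fst g t).left x, ⟨x, hx, rfl⟩⟩) (by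
        rw [← AlgSp.Points.map_comp, hπρ, AlgSp.Points.map_yon_map_apply, AlgSp.Points.map_yon_map_apply]
        rfl)
    refine ⟨w, ?_⟩
    rw [← hκφ, AlgSp.Points.map_comp, hw, ← AlgSp.Points.map_comp, hπ₁', AlgSp.Points.map_yon_map_apply, hxu]
  let w₀ := BasedFunctor.comp (ofSpMap ((AlgSp.yon S).map (j ≫ g))) y
  have key : ∀ {P : MorphismProperty (AlgSp.Sp S)}, StableBC P → AlgSp.IsLocalOnBase AlgSp.IsFppfCover P →
      P (g₁' ≫ b₁) → RepByAlgSpWith P w₀ := fun hB hL hf =>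
    repByAlgSpWith_of_repSp_cover (Stk.isFibGrpd_ofPsh _) hX hB hL (hrep w₀) (spY U) y
      (rep_flat_of_sm hy) (rep_lfp_of_sm hy) hy' (repSp_of_equiv (G := spY U) hE' αE' hf)
  exact hasAtlas_etale_iff.2 ⟨openOver ZS Z₀, BasedFunctor.comp (ofOverCat (openOver ZS Z₀)) w₀,
    (repByAlgSpWith_precomp_equiv (isEquivOver_ofOverCat _)).2 (key (stableBC_locP _) fppf_local_etale hEt),
    (repByAlgSpWith_precomp_equiv (isEquivOver_ofOverCat _)).2 (key Gerb44.stableBC_surj Gerb44.isLocalOnBase_surj hSur)⟩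

end Groth.Agent.AlgSt88
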