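import Groth.Agent.AlgSt88.SpQDescend
import Groth.Agent.AlgSt88.QCMorSt

/-! Jointly surjective flat families of stacks lift objects locally. -/

set_option autoImplicit false
set_option maxHeartbeats 1000000
set_option linter.style.haveILetI false
set_option linter.unusedVariables false
set_option backward.isDefEq.respectTransparency false
set_option backward.isDefEq.respectTransparency.types false
universe u

open CategoryTheory CategoryTheory.Limits AlgebraicGeometry Opposite AlgSt FibCat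

namespace Groth.Agent.AlgSt88

variable {S : Scheme.{u}} {𝒳 𝒴 : AlgSt.Cat S}

theorem exists_chart_over_object (h𝒳 : IsAlgStack Scheme.fppfPrecoverage 𝒳)
    (h𝒴 : IsAlgStack Scheme.fppfPrecoverage 𝒴) {f : 𝒳 ⥤ᵇ 𝒴} (hf₁ : LocQ (AlgSp.LocP @Flat) f)
    (hf₂ : LocQ (AlgSp.LocP @LocallyOfFinitePresentation) f) {U : Over S} (x : overCat U ⥤ᵇ 𝒴) :
    ∃ (W : Over S) (k : W ⟶ U) (x' : overCat W ⥤ᵇ 𝒳), Flat k.left ∧ LocallyOfFinitePresentation k.left ∧
      Nonempty (BasedFunctor.comp x' f ≅ BasedFunctor.comp (overMap k) x) ∧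
      ∀ t : ↥U.left, (Points.map x (Points.map (toOverCat U) (stPt _ (AlgSp.Points.schemeHomeo U t))) ∈
        Set.range (Points.map f)) → t ∈ Set.range k.left := by
  have hU := isAlgStack_overCat U
  have hP := isAlgStack_fp h𝒴.isStack h𝒴.diag hU h𝒳 x f
  obtain ⟨W, l, hl, hl'⟩ := exists_lift_chart hP hU (fpFst x f) (V := spY U) (toOverCat U)
  obtain ⟨k, hk⟩ := (AlgSp.yon S).map_surjective (homOfBased (BasedFunctor.comp l (fpSnd (fpFst x f) (toOverCat U))))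
  let r : overCat W ⥤ᵇ fp x f :=
    BasedFunctor.comp (ofOverCat W) (BasedFunctor.comp l (fpFst (fpFst x f) (toOverCat U)))
  have hq : ∀ {P : MorphismProperty Scheme.{u}} [SpFP87.EtLoc P], AlgSp.IsSmoothLocalST (S := S) (AlgSp.LocP P) →
      LocQ (AlgSp.LocP P) f → P k.left := fun {P} _ hP' hf => by
    have h1 := (spQ_fpFst hP' (stableBC_locP P) h𝒳 h𝒴 hU x (spQ_of_locQ hf)).prop hP' hP.isStack.1 hU.isStack.1
      (U := spY W) (V := spY U) (toOverCat U) l (sm_equiv (isEquivOver_toOverCat U)) hl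
    exact (SpFP87.locP_yon_map_iff (P := P) k).1 ((congrArg (fun t => AlgSp.LocP P t) hk.symm).mp h1)
  obtain ⟨α⟩ := exists_hom_iso (BasedFunctor.comp l (fpSnd (fpFst x f) (toOverCat U)))
  have α' : BasedFunctor.comp l (fpSnd (fpFst x f) (toOverCat U)) ≅ ofSpMap ((AlgSp.yon S).map k) := hk ▸ α
  obtain ⟨ι⟩ := overMap_iso k
  refine ⟨W, k, BasedFunctor.comp r (fpSnd x f), hq smoothLocal_flat hf₁, hq smoothLocal_lfp hf₂,
    ⟨(bLeft r (fpIso x f)).symm ≪≫
      bRight (bLeft (ofOverCat W) (bLeft l (fpIso (fpFst x f) (toOverCat U))) ≪≫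
        bLeft (ofOverCat W) (bRight α' (toOverCat U)) ≪≫ ι) x⟩, fun t ht => ?_⟩
  have hX := h𝒳.isStack.1
  have hY := h𝒴.isStack.1
  obtain ⟨w, hw⟩ := ht
  let o := Points.map (toOverCat U) (stPt _ (AlgSp.Points.schemeHomeo U t))
  obtain ⟨p, hp, -⟩ := exists_points_fp hY hX (isFibGrpd_overCat U) f x o w hw.symm
  have hA := isFibGrpd_fp hP.isStack.1 (Stk.isFibGrpd_ofPsh ((AlgSp.yon S).obj U).obj) (isFibGrpd_overCat U)
    (fpFst x f) (toOverCat U)
  obtain ⟨p', hp'⟩ := isSurjective_fpFst (f := toOverCat U) (isFibGrpd_overCat U)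
    (Stk.isFibGrpd_ofPsh ((AlgSp.yon S).obj U).obj) hP.isStack.1 (fpFst x f)
    (surjective_of_equiv (isEquivOver_toOverCat U)) p
  obtain ⟨q, hq'⟩ := isSurjective_of_sj hA hl' p'
  obtain ⟨q₀, rfl⟩ := stPt_bijective.2 q
  obtain ⟨v, rfl⟩ := (AlgSp.Points.schemeHomeo W).surjective q₀
  refine ⟨v, (AlgSp.Points.schemeHomeo U).injective (stPt_bijective.1
    ((points_map_bijective (isEquivOver_toOverCat U)).1 ?_))⟩
  rw [← AlgSp.Points.map_yon_map_apply, ← stPt_natural, ← points_map_congr α', points_map_comp l, hq',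
    ← points_map_comp, ← points_map_congr (fpIso (fpFst x f) (toOverCat U)), points_map_comp, hp', hp]

theorem exists_fppf_cover_lifting {J : Type u} {𝒳' : J → AlgSt.Cat S}
    (h𝒳 : IsAlgStack Scheme.fppfPrecoverage 𝒳) (h𝒳' : ∀ j, IsAlgStack Scheme.fppfPrecoverage (𝒳' j))
    (f : ∀ j, 𝒳' j ⥤ᵇ 𝒳) (hf₁ : ∀ j, LocQ (AlgSp.LocP @Flat) (f j))
    (hf₂ : ∀ j, LocQ (AlgSp.LocP @LocallyOfFinitePresentation) (f j))
    (hf₃ : ∀ p : Points 𝒳, ∃ j, p ∈ Set.range (Points.map (f j))) (U : Over S) (x : overCat U ⥤ᵇ 𝒳) :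
    ∃ (ι : Type u) (V : ι → Over S) (g : ∀ i, V i ⟶ U) (c : ι → J),
      (Presieve.ofArrows (fun i ↦ (V i).left) fun i ↦ (g i).left) ∈ Scheme.fppfPrecoverage U.left ∧
      ∀ i, ∃ x' : overCat (V i) ⥤ᵇ 𝒳' (c i),
        Nonempty (BasedFunctor.comp x' (f (c i)) ≅ BasedFunctor.comp (overMap (g i)) x) := by
  choose V g x' h1 h2 h3 h4 using fun j => exists_chart_over_object (h𝒳' j) h𝒳 (hf₁ j) (hf₂ j) x
  refine ⟨J, V, g, id, ?_, fun i => ⟨x' i, h3 i⟩⟩
  rw [Scheme.fppfPrecoverage, Scheme.ofArrows_mem_precoverage_iff]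
  refine ⟨fun t => ?_, fun j => ⟨h1 j, h2 j⟩⟩
  obtain ⟨j, hj⟩ := hf₃ (Points.map x (Points.map (toOverCat U) (stPt _ (AlgSp.Points.schemeHomeo U t))))
  obtain ⟨v, hv⟩ := h4 j t hj
  exact ⟨j, v, hv⟩

end Groth.Agent.AlgSt88
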