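import Groth.Agent.SpPts86.Charts
import Groth.Agent.SpPts86.Compact
import Groth.Agent.SpFP87.EtLocInst
import Mathlib.AlgebraicGeometry.Morphisms.Separated

/-!
Finite fibre powers of a separated chart of an algebraic space, with the action of permutations.
-/

universe u

set_option autoImplicit false

open CategoryTheory CategoryTheory.Limits AlgebraicGeometry
open AlgSp Groth.Agent.SpFP87

namespace Groth.Agent.AlgSt88

variable {S : Scheme.{u}} {F : Sp S}

/-- A represented fibre product with one factor separated over the base is separated over the other. -/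
theorem isSeparated_snd_of_isPullback {U V W : Over S} {p : W ⟶ U} {q : W ⟶ V}
    {a : (yon S).obj U ⟶ F} {b : (yon S).obj V ⟶ F}
    (sq : IsPullback ((yon S).map p) ((yon S).map q) a b) [IsSeparated U.hom] :
    IsSeparated q.left := by
  have := SpPts86.mono_lift_of_isPullback sq
  have e : (pullback.lift p.left q.left ((Over.w p).trans (Over.w q).symm) :
      W.left ⟶ pullback U.hom V.hom) ≫ pullback.snd U.hom V.hom = q.left := pullback.lift_snd _ _ _
  rw [← e]
  infer_instance

/-- `V` with projections `pr` is the fibre power of `U` over `F` indexed by `ι`. -/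
def IsFibPow {U : Over S} (q : (yon S).obj U ⟶ F) (ι : Type u) (V : Over S) (pr : ι → (V ⟶ U)) : Prop :=
  (∀ i j, (yon S).map (pr i) ≫ q = (yon S).map (pr j) ≫ q) ∧
    ∀ (T : Over S) (f : ι → (T ⟶ U)), (∀ i j, (yon S).map (f i) ≫ q = (yon S).map (f j) ≫ q) →
      ∃! g : T ⟶ V, ∀ i, g ≫ pr i = f i

theorem exists_fibPow_fin (hF : IsAlgSpace F) {U : Over S} {q : (yon S).obj U ⟶ F}
    (hq : RepWith @Etale q) [IsSeparated U.hom] (n : ℕ) :
    ∃ (V : Over S) (pr : Fin (n + 1) → (V ⟶ U)),
      (∀ i, (yon S).map (pr i) ≫ q = (yon S).map (pr 0) ≫ q) ∧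
      (∀ (T : Over S) (f : Fin (n + 1) → (T ⟶ U)),
        (∀ i, (yon S).map (f i) ≫ q = (yon S).map (f 0) ≫ q) → ∃! g : T ⟶ V, ∀ i, g ≫ pr i = f i) ∧
      Etale (pr 0).left ∧ IsSeparated (pr 0).left := by
  induction n with
  | zero =>
    refine ⟨U, fun _ => 𝟙 U, fun _ => rfl, fun T f _ => ⟨f 0, fun i => ?_, fun g hg => ?_⟩, ?_, ?_⟩
    · rw [Category.comp_id, Fin.fin_one_eq_zero i]
    · rw [← hg 0, Category.comp_id]
    · rw [Over.id_left]; infer_instance
    · rw [Over.id_left]; infer_instance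
  | succ n ih =>
    obtain ⟨V, pr, he, hu, het, hsep⟩ := ih
    have : IsSeparated V.hom := by rw [← Over.w (pr 0)]; infer_instance
    have ha : RepWith @Etale ((yon S).map (pr 0) ≫ q) := SpPts86.repWith_etale_comp (pr 0) hq
    obtain ⟨W, w₁, w₂, sq⟩ := exists_isPullback_yon hF.diag ((yon S).map (pr 0) ≫ q) q
    let pr' : Fin (n + 1 + 1) → (W ⟶ U) := fun i => Fin.cases (motive := fun _ => W ⟶ U) w₂ (fun i => w₁ ≫ pr i) i
    have p0 : pr' 0 = w₂ := rfl
    have ps : ∀ i, pr' (Fin.succ i) = w₁ ≫ pr i := fun i => rfl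
    refine ⟨W, pr', fun i => ?_, fun T f hf => ?_,
      by rw [p0]; exact etale_snd_of_isPullback sq ha,
      by rw [p0]; exact isSeparated_snd_of_isPullback sq⟩
    · induction i using Fin.cases with
      | zero => rfl
      | succ i => rw [ps, p0, Functor.map_comp, Category.assoc, he i, sq.w]
    · obtain ⟨g, hg, hgu⟩ := hu T (fun i => f i.succ) fun i => by rw [hf i.succ, hf (Fin.succ 0)]
      have hw : (yon S).map g ≫ (yon S).map (pr 0) ≫ q = (yon S).map (f 0) ≫ q := by
        rw [← Category.assoc, ← Functor.map_comp, hg 0, hf]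
      obtain ⟨l, hl⟩ := (yon S).map_surjective (sq.lift _ _ hw)
      have hl₁ : l ≫ w₁ = g := (yon S).map_injective (by rw [Functor.map_comp, hl, sq.lift_fst])
      have hl₂ : l ≫ w₂ = f 0 := (yon S).map_injective (by rw [Functor.map_comp, hl, sq.lift_snd])
      refine ⟨l, fun i => ?_, fun m hm => ?_⟩
      · induction i using Fin.cases with
        | zero => rw [p0, hl₂]
        | succ i => rw [ps, ← Category.assoc, hl₁, hg i]
      · apply (yon S).map_injective
        apply sq.hom_ext <;> rw [← Functor.map_comp, ← Functor.map_comp] <;> congr 1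
        · rw [hl₁]
          refine hgu _ fun i => ?_
          rw [Category.assoc, ← ps]; exact hm i.succ
        · rw [hl₂, ← p0]
          exact hm 0

theorem exists_fibPow (hF : IsAlgSpace F) {U : Over S} {q : (yon S).obj U ⟶ F}
    (hq : RepWith @Etale q) [IsSeparated U.hom] (ι : Type u) [Finite ι] (i₀ : ι) :
    ∃ (V : Over S) (pr : ι → (V ⟶ U)), IsFibPow q ι V pr ∧
      ∃ i₁, Etale (pr i₁).left ∧ IsSeparated (pr i₁).left := by
  obtain ⟨m, ⟨e⟩⟩ := Finite.exists_equiv_fin ι
  obtain ⟨n, rfl⟩ := Nat.exists_eq_succ_of_ne_zero (n := m) (by rintro rfl; exact (e i₀).elim0)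
  obtain ⟨V, pr, he, hu, het, hsep⟩ := exists_fibPow_fin hF hq n
  refine ⟨V, fun i => pr (e i), ⟨fun i j => (he _).trans (he _).symm, fun T f hf => ?_⟩, e.symm 0,
    show Etale (pr (e (e.symm 0))).left by rw [e.apply_symm_apply]; exact het,
    show IsSeparated (pr (e (e.symm 0))).left by rw [e.apply_symm_apply]; exact hsep⟩
  obtain ⟨g, hg, hgu⟩ := hu T (fun i => f (e.symm i)) fun i => hf _ _
  refine ⟨g, fun i => by rw [hg, e.symm_apply_apply], fun m hm => hgu m fun i => ?_⟩
  have : m ≫ pr (e (e.symm i)) = f (e.symm i) := hm (e.symm i)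
  rwa [e.apply_symm_apply] at this

namespace IsFibPow

variable {U : Over S} {q : (yon S).obj U ⟶ F} {ι : Type u} {V : Over S} {pr : ι → (V ⟶ U)}
  (h : IsFibPow q ι V pr)
include h

theorem hom_ext {T : Over S} {a b : T ⟶ V} (e : ∀ i, a ≫ pr i = b ≫ pr i) : a = b := by
  refine (h.2 T (fun i => b ≫ pr i) fun i j => ?_).unique e fun i => rfl
  simp only [Functor.map_comp, Category.assoc, h.1 i j]

/-- The permutation action on a fibre power. -/
theorem exists_perm :
    ∃ ρ : Equiv.Perm ι →* Aut V, ∀ g i, (ρ g).hom ≫ pr i = pr (g⁻¹ i) := by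
  choose c hc _ using fun g : Equiv.Perm ι =>
    h.2 V (fun i => pr (g⁻¹ i)) fun i j => h.1 _ _
  have hmul : ∀ g g' : Equiv.Perm ι, c (g * g') = c g' ≫ c g := fun g g' =>
    h.hom_ext fun i => by rw [Category.assoc, hc, hc, hc, mul_inv_rev, Equiv.Perm.mul_apply]
  have hone : c 1 = 𝟙 V := h.hom_ext fun i => by rw [hc, inv_one, Equiv.Perm.one_apply, Category.id_comp]
  let a : Equiv.Perm ι → Aut V := fun g =>
    ⟨c g, c g⁻¹, by rw [← hmul, inv_mul_cancel, hone], by rw [← hmul, mul_inv_cancel, hone]⟩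
  refine ⟨MonoidHom.mk' a fun g g' => Iso.ext ?_, hc⟩
  rw [Aut.Aut_mul_def]
  exact hmul g g'

end IsFibPow

end Groth.Agent.AlgSt88
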