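import Mathlib.FieldTheory.IsSepClosed
import Mathlib.FieldTheory.Galois.Infinite
import Mathlib.RingTheory.Etale.Field
import Mathlib.RingTheory.Unramified.Finite
import Mathlib.AlgebraicGeometry.Morphisms.Etale

/-!
Points of an etale algebra over a field with values in a separable closure.
-/

universe u

set_option autoImplicit false

open CategoryTheory CategoryTheory.Limits AlgebraicGeometry

namespace Groth.Agent.AlgSt88

variable (k : Type u) [Field k] (A : Type u) [CommRing A] [Algebra k A] [Algebra.Etale k A]

theorem finite_algHom_of_etale (Ω : Type u) [Field Ω] [Algebra k Ω] : Finite (A →ₐ[k] Ω) := by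
  have := Algebra.FormallyUnramified.finite_of_free k A
  infer_instance

theorem nonempty_algHom_sepClosure [Nontrivial A] : Nonempty (A →ₐ[k] SeparableClosure k) := by
  obtain ⟨m, hm⟩ := Ideal.exists_maximal A
  let _ : Field (A ⧸ m) := Ideal.Quotient.field m
  have := Algebra.FormallyUnramified.finite_of_free k A
  have : Algebra.FormallyUnramified k (A ⧸ m) :=
    Algebra.FormallyUnramified.of_surjective (Ideal.Quotient.mkₐ k m) (Ideal.Quotient.mkₐ_surjective k m)
  have : Algebra.EssFiniteType k (A ⧸ m) := inferInstance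
  have : Algebra.IsSeparable k (A ⧸ m) := Algebra.FormallyUnramified.isSeparable k (A ⧸ m)
  exact ⟨(IsSepClosed.lift : (A ⧸ m) →ₐ[k] SeparableClosure k).comp (Ideal.Quotient.mkₐ k m)⟩

variable {k A}

omit [Algebra.Etale k A] in
/-- A point fixed by the absolute Galois group is rational. -/
theorem exists_rational_of_fixed (φ : A →ₐ[k] SeparableClosure k)
    (h : ∀ σ : Gal(SeparableClosure k/k), σ.toAlgHom.comp φ = φ) : Nonempty (A →ₐ[k] k) := by
  have hr : ∀ a, ∃ c : k, algebraMap k (SeparableClosure k) c = φ a := fun a =>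
    (InfiniteGalois.mem_range_algebraMap_iff_fixed (φ a)).2 fun σ => DFunLike.congr_fun (h σ) a
  choose f hf using hr
  have inj := (algebraMap k (SeparableClosure k)).injective
  exact ⟨{
    toFun := f
    map_one' := inj (by rw [hf, map_one, map_one])
    map_mul' := fun a b => inj (by rw [hf, map_mul, map_mul, hf, hf])
    map_zero' := inj (by rw [hf, map_zero, map_zero])
    map_add' := fun a b => inj (by rw [hf, map_add, map_add, hf, hf])
    commutes' := fun c => inj (by rw [hf, AlgHom.commutes]; rfl) }⟩

/-- An affine neighbourhood of a point of a scheme etale over a field, as an etale algebra. -/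
theorem exists_etale_algebra_nhd {k : Type u} [Field k] {P : Scheme.{u}}
    (π : P ⟶ Spec (CommRingCat.of k)) [Etale π] (p₀ : ↥P) :
    ∃ (A : Type u) (_ : CommRing A) (_ : Algebra k A) (_ : Algebra.Etale k A)
      (j : Spec (CommRingCat.of A) ⟶ P),
      IsOpenImmersion j ∧ p₀ ∈ Set.range j ∧ j ≫ π = Spec.map (CommRingCat.ofHom (algebraMap k A)) := by
  obtain ⟨V, hV, hp, -⟩ := exists_isAffineOpen_mem_and_subset (x := p₀) (U := ⊤) trivial
  have hj : Etale (hV.fromSpec ≫ π) := inferInstance
  obtain ⟨φ, hφ⟩ := Spec.map_surjective (hV.fromSpec ≫ π)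
  rw [← hφ] at hj
  have he : φ.hom.Etale := (HasRingHomProperty.Spec_iff (P := @Etale)).1 hj
  let _ : Algebra k Γ(P, V) := φ.hom.toAlgebra
  refine ⟨Γ(P, V), inferInstance, inferInstance, he, hV.fromSpec, inferInstance, ?_, ?_⟩
  · rw [hV.range_fromSpec]; exact hp
  · exact hφ.symm

end Groth.Agent.AlgSt88
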