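import Groth.Agent.AlgSt88.FibPow
import Groth.Agent.AlgSt88.SepPoints
import Groth.Agent.SpPts86.FreeQuot
import Groth.Agent.SpPts86.QuotFinite
import Groth.Agent.SpPts86.EtaleMor
import Groth.Agent.SpPts86.Quot
import Groth.Agent.SpPts86.SchImagePoints
import Groth.Agent.Grpd80.FiniteInAffine
import Groth.Agent.Sga84.FiniteSigma

/-!
A point of an algebraic space with values in a field lifts to an affine etale chart.
-/

universe u

set_option autoImplicit false

open CategoryTheory CategoryTheory.Limits AlgebraicGeometry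
open AlgSp Groth.Agent.SpFP87
open Groth.Agent.SpPts86 (openOver openIncl)

namespace Groth.Agent.AlgSt88

variable {S : Scheme.{u}}

/-- The locus where two maps to a scheme over the base agree, as a set of points. -/
def eqSet {V U : Over S} (a b : V ⟶ U) : Set ↥V.left := Set.range (equalizer.ι a b).left

theorem isClosed_eqSet {V U : Over S} [IsSeparated U.hom] (a b : V ⟶ U) : IsClosed (eqSet a b) :=
  (equalizer.ι a b).left.isClosedEmbedding.isClosed_range

theorem mem_eqSet_of_eq {V U T : Over S} {a b : V ⟶ U} (f : T ⟶ V) (e : f ≫ a = f ≫ b) (t : ↥T.left) :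
    f.left t ∈ eqSet a b :=
  ⟨(equalizer.lift f e).left t, by rw [← Scheme.Hom.comp_apply, ← Over.comp_left, equalizer.lift_ι]⟩

theorem eq_of_mem_eqSet {V U : Over S} {a b : V ⟶ U} {K : Type u} [Field K]
    {str : Spec (CommRingCat.of K) ⟶ S} (f : Over.mk str ⟶ V)
    (hf : f.left (IsLocalRing.closedPoint K) ∈ eqSet a b) : f ≫ a = f ≫ b := by
  refine Over.OverMorphism.ext ?_
  let f' : Spec (CommRingCat.of K) ⟶ V.left := f.left
  change f' ≫ a.left = f' ≫ b.left
  change f' (IsLocalRing.closedPoint K) ∈ eqSet a b at hf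
  obtain ⟨y, hy⟩ := hf
  let ι := (equalizer.ι a b).left
  have e : ι ≫ a.left = ι ≫ b.left := by rw [← Over.comp_left, ← Over.comp_left, equalizer.condition]
  let φ := Spec.map (ι.residueFieldMap y)
  have : Flat φ := Flat.SpecMap_iff.2 (RingHom.Flat.of_isField (Field.toIsField _) _)
  have : Surjective φ := ⟨fun x => ⟨default, Subsingleton.elim _ _⟩⟩
  have : Epi φ := Flat.epi_of_flat_of_surjective φ
  have h1 : V.left.fromSpecResidueField (ι y) ≫ a.left = V.left.fromSpecResidueField (ι y) ≫ b.left := by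
    rw [← cancel_epi φ, reassoc_of% (Scheme.Hom.SpecMap_residueFieldMap_fromSpecResidueField ι y),
      reassoc_of% (Scheme.Hom.SpecMap_residueFieldMap_fromSpecResidueField ι y), e]
  rw [← Scheme.descResidueField_stalkClosedPointTo_fromSpecResidueField _ _ f', Category.assoc, Category.assoc]
  congr 1
  change ι y = _ at hy
  rw [← hy]
  exact h1

section Open

variable {F : Sp S} {U : Over S} {q : (yon S).obj U ⟶ F} {ι : Type u} [Finite ι] {V : Over S}
  {pr : ι → (V ⟶ U)}

/-- The open of pairwise distinct coordinates, with the free action of permutations. -/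
theorem exists_free_open [IsSeparated U.hom] (ρ : Equiv.Perm ι →* Aut V)
    (hρ : ∀ g i, (ρ g).hom ≫ pr i = pr (g⁻¹ i)) :
    ∃ (W : V.left.Opens) (ρ' : Equiv.Perm ι →* Aut (openOver V W)),
      (∀ g, (ρ' g).hom ≫ openIncl V W = openIncl V W ≫ (ρ g).hom) ∧
      (∀ (g : Equiv.Perm ι) (x : (openOver V W).left), g ≠ 1 →
        (openOver V W).left.fromSpecResidueField x ≫ (ρ' g).hom.left ≠
          (openOver V W).left.fromSpecResidueField x) ∧
      ∀ (K : Type u) [Field K] (str : Spec (CommRingCat.of K) ⟶ S) (f : Over.mk str ⟶ V),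
        (∀ i j, i ≠ j → f ≫ pr i ≠ f ≫ pr j) → f.left (IsLocalRing.closedPoint K) ∈ W := by
  classical
  let C : Set ↥V.left := ⋃ (p : {p : ι × ι // p.1 ≠ p.2}), eqSet (pr p.1.1) (pr p.1.2)
  let W : V.left.Opens := ⟨Cᶜ, (isClosed_iUnion_of_finite fun _ => isClosed_eqSet _ _).isOpen_compl⟩
  have hW : ∀ {x : ↥V.left}, x ∈ W ↔ ∀ i j, i ≠ j → x ∉ eqSet (pr i) (pr j) := by
    intro x
    refine ⟨fun hx i j hij he => hx (Set.mem_iUnion.2 ⟨⟨(i, j), hij⟩, he⟩), fun h hx => ?_⟩
    obtain ⟨p, hp⟩ := Set.mem_iUnion.1 hx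
    exact h _ _ p.2 hp
  let j := openIncl V W
  have hmono : Mono j := (Over.forget S).mono_of_mono_map (inferInstanceAs (Mono W.ι))
  have hst : ∀ g, Set.range (j ≫ (ρ g).hom).left ⊆ Set.range W.ι := fun g => by
    rintro _ ⟨x, rfl⟩
    rw [W.range_ι]
    refine hW.2 fun i k hik => ?_
    rintro ⟨y, hy⟩
    refine hW.1 x.2 (g⁻¹ i) (g⁻¹ k) (g⁻¹.injective.ne hik) ?_
    have e : (equalizer.ι (pr i) (pr k) ≫ (ρ g).inv) ≫ pr (g⁻¹ i) =
        (equalizer.ι (pr i) (pr k) ≫ (ρ g).inv) ≫ pr (g⁻¹ k) := by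
      rw [← hρ g i, ← hρ g k, Category.assoc, Category.assoc, Iso.inv_hom_id_assoc, Iso.inv_hom_id_assoc,
        equalizer.condition]
    have := mem_eqSet_of_eq _ e y
    rwa [Over.comp_left, Scheme.Hom.comp_apply, hy, ← Scheme.Hom.comp_apply, ← Over.comp_left,
      Category.assoc, Iso.hom_inv_id, Category.comp_id] at this
  let c : Equiv.Perm ι → (openOver V W ⟶ openOver V W) := fun g =>
    Over.homMk (IsOpenImmersion.lift W.ι (j ≫ (ρ g).hom).left (hst g)) (by
      change _ ≫ W.ι ≫ V.hom = _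
      rw [IsOpenImmersion.lift_fac_assoc]; exact Over.w (j ≫ (ρ g).hom))
  have hc : ∀ g, c g ≫ j = j ≫ (ρ g).hom := fun g =>
    Over.OverMorphism.ext (IsOpenImmersion.lift_fac _ _ _)
  have hmul : ∀ g g', c (g * g') = c g' ≫ c g := fun g g' => by
    rw [← cancel_mono j, Category.assoc, hc, hc, reassoc_of% (hc g'), SpPts86.aut_mul ρ g' g]
  have hone : c 1 = 𝟙 _ := by
    rw [← cancel_mono j, hc, SpPts86.aut_one, Category.comp_id, Category.id_comp]
  let a : Equiv.Perm ι → Aut (openOver V W) := fun g =>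
    ⟨c g, c g⁻¹, by rw [← hmul, inv_mul_cancel, hone], by rw [← hmul, mul_inv_cancel, hone]⟩
  refine ⟨W, MonoidHom.mk' a fun g g' => Iso.ext (by rw [Aut.Aut_mul_def]; exact hmul g g'), hc,
    fun g x hg hx => ?_, fun K _ str f hf => hW.2 fun i k hik he => hf i k hik (eq_of_mem_eqSet f he)⟩
  obtain ⟨i, hi⟩ : ∃ i, g⁻¹ i ≠ i := not_forall.1 fun h => hg (inv_eq_one.1 (Equiv.ext h))
  let O := (openOver V W).left
  let p : Over.mk (O.fromSpecResidueField x ≫ (openOver V W).hom) ⟶ openOver V W :=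
    Over.homMk (O.fromSpecResidueField x) rfl
  have hp : p ≫ c g = p := Over.OverMorphism.ext hx
  have hpe : (p ≫ j) ≫ pr (g⁻¹ i) = (p ≫ j) ≫ pr i := by
    rw [← hρ g i, Category.assoc p j, ← reassoc_of% (hc g), reassoc_of% hp, Category.assoc]
  have := mem_eqSet_of_eq (p ≫ j) hpe (IsLocalRing.closedPoint (O.residueField x))
  exact hW.1 ((p.left (IsLocalRing.closedPoint (O.residueField x))).2) _ _ hi this

end Open

/-- The finite quotient of a free action, mapping etale to a space. -/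
theorem exists_perm_quot {F : Sp S} (hF : IsAlgSpace F) {W : Over S} {G : Type u} [Group G] [Finite G]
    (ρ : G →* Aut W)
    (hfree : ∀ (g : G) (x : W.left), g ≠ 1 →
      W.left.fromSpecResidueField x ≫ (ρ g).hom.left ≠ W.left.fromSpecResidueField x)
    (hW : ∀ A : Set ↥W.left, A.Finite → ∃ V : W.left.Opens, IsAffineOpen V ∧ A ⊆ (V : Set ↥W.left))
    {e : (yon S).obj W ⟶ F} (he : RepWith @Etale e) (hinv : ∀ g, (yon S).map (ρ g).hom ≫ e = e) :
    ∃ (M : Over S) (m : W ⟶ M) (r : (yon S).obj M ⟶ F),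
      RepWith @Etale r ∧ (∀ g, (ρ g).hom ≫ m = m) ∧ (yon S).map m ≫ r = e := by
  let R : Over S := SpPts86.sigmaOver (fun _ : G => W)
  let s : R ⟶ W := SpPts86.sigmaOut (fun _ : G => 𝟙 W)
  let t : R ⟶ W := SpPts86.sigmaOut (fun g : G => (ρ g).hom)
  have hs : ∀ g, SpPts86.sigmaIn (fun _ : G => W) g ≫ s = 𝟙 W := fun g => SpPts86.sigmaIn_out _ g
  have ht : ∀ g, SpPts86.sigmaIn (fun _ : G => W) g ≫ t = (ρ g).hom := fun g => SpPts86.sigmaIn_out _ g
  have hR := SpPts86.isEtaleEqvRel_free_action ρ hfree (SpPts86.sigmaOverIsColimit _) hs ht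
  have : Etale s.left := hR.etale_left
  have : IsFinite s.left := by
    have : ∀ _g : G, IsFinite (𝟙 W : W ⟶ W).left := fun _ => by rw [Over.id_left]; infer_instance
    exact FiniteSigma84.isFinite_sigmaDesc fun _ : G => (𝟙 W : W ⟶ W).left
  obtain ⟨M, m, sq, hms, hmf, hmfl, hmfp⟩ := SpPts86.exists_quot_of_finLocFree hR.toIsEqvRel hW
  have hm : fppfSurj m.left := (fppfSurj_iff _).2 ⟨hms, hmfl, hmfp⟩
  have hme : Etale m.left :=
    MorphismProperty.of_isPullback_of_descendsAlong (Q := fppfSurj) (P := @Etale) sq hm hR.etale_right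
  have hst : t ≫ m = s ≫ m := Over.OverMorphism.ext sq.w
  have hinvm : ∀ g, (ρ g).hom ≫ m = m := fun g => by
    rw [← ht g, Category.assoc, hst, ← Category.assoc, hs, Category.id_comp]
  have hte : (yon S).map t ≫ e = (yon S).map s ≫ e := by
    refine SpPts86.open_cover_hom_ext (fun _ : G => W) (fun g => SpPts86.sigmaIn (fun _ : G => W) g)
      (fun g => inferInstanceAs (IsOpenImmersion (Sigma.ι (fun _ : G => W.left) g)))
      (SpPts86.cofan_cover (SpPts86.sigmaOverIsColimit (fun _ : G => W))).2 fun g => ?_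
    rw [← Functor.map_comp_assoc, ← Functor.map_comp_assoc, ht, hs, hinv, CategoryTheory.Functor.map_id, Category.id_comp]
  obtain ⟨r, hr⟩ := SpPts86.exists_desc (p := (yon S).map m)
    (locLift_of_repWith le_rfl ((repWith_yon_map_iff (S := S) fppfSurj m).2 hm)) e fun T l l' h => by
      have h' : l ≫ m = l' ≫ m := (yon S).map_injective (by rw [Functor.map_comp, Functor.map_comp]; exact h)
      obtain ⟨z, h1, h2⟩ := (IsPullback.of_map (Over.forget S) hst sq).exists_lift l l' h'
      rw [← h1, ← h2, Functor.map_comp_assoc, Functor.map_comp_assoc, hte]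
  exact ⟨M, m, r, SpPts86.repWith_etale_of_precomp hF m (by rw [hr]; exact he), hinvm, hr⟩

/-- Every field-valued point of an algebraic space lifts to an affine etale chart. -/
theorem exists_affine_chart_fieldPoint {F : Sp S} (hF : IsAlgSpace F) {k : Type u} [Field k]
    {str : Spec (CommRingCat.of k) ⟶ S} (x : (yon S).obj (Over.mk str) ⟶ F) :
    ∃ (Z : Over S) (p : (yon S).obj Z ⟶ F) (g : Over.mk str ⟶ Z),
      IsAffine Z.left ∧ RepWith @Etale p ∧ (yon S).map g ≫ p = x := by
  classical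
  obtain ⟨U, q, v, hU, hq, hv⟩ :=
    SpPts86.exists_affine_chart_pt hF (Points.ofPt x (IsLocalRing.closedPoint k))
  have : IsSeparated U.hom :=
    have : IsSeparated (U.hom ≫ terminal.from S) := by
      rw [terminal.comp_from]; infer_instance
    IsSeparated.of_comp U.hom (terminal.from S)
  obtain ⟨P, a, b, sq⟩ := exists_isPullback_yon hF.diag q x
  have : Etale b.left := etale_snd_of_isPullback sq hq
  obtain ⟨p₀, -, -⟩ := SpPts86.exists_pt_common_chart sq v (IsLocalRing.closedPoint k) hv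
  obtain ⟨A, _, _, _, j, hj, hp₀, hjb⟩ := exists_etale_algebra_nhd (show P.left ⟶ Spec (CommRingCat.of k) from b.left) p₀
  have : Nontrivial A := by
    obtain ⟨z, -⟩ := hp₀
    exact PrimeSpectrum.nonempty_iff_nontrivial.1 ⟨z⟩
  let Ω := SeparableClosure k
  let Λ : Type u := A →ₐ[k] Ω
  have : Finite Λ := finite_algHom_of_etale k A Ω
  obtain ⟨l₀⟩ : Nonempty Λ := nonempty_algHom_sepClosure k A
  let sΩ : Spec (CommRingCat.of Ω) ⟶ Spec (CommRingCat.of k) :=
    Spec.map (CommRingCat.ofHom (algebraMap k Ω))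
  let T : Over S := Over.mk (sΩ ≫ str)
  let τ : T ⟶ Over.mk str := Over.homMk sΩ rfl
  have hpt : ∀ l : Λ, (Spec.map (CommRingCat.ofHom l.toRingHom) ≫ j) ≫ b.left = sΩ := fun l => by
    rw [Category.assoc]
    refine (congrArg (Spec.map (CommRingCat.ofHom l.toRingHom) ≫ ·) hjb).trans ?_
    rw [← Spec.map_comp, ← CommRingCat.ofHom_comp]
    exact congrArg (fun f => Spec.map (CommRingCat.ofHom f)) l.comp_algebraMap
  let pt : Λ → (T ⟶ P) := fun l => Over.homMk (Spec.map (CommRingCat.ofHom l.toRingHom) ≫ j) (by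
    rw [← Over.w b, ← Category.assoc, hpt]; rfl)
  have hptb : ∀ l, pt l ≫ b = τ := fun l => Over.OverMorphism.ext (hpt l)
  have hpinj : ∀ l l', pt l ≫ a = pt l' ≫ a → l = l' := fun l l' e => by
    have e' : pt l = pt l' := by
      apply (yon S).map_injective
      apply sq.hom_ext <;> rw [← Functor.map_comp, ← Functor.map_comp]
      · rw [e]
      · rw [hptb, hptb]
    have e'' : Spec.map (CommRingCat.ofHom l.toRingHom) ≫ j = Spec.map (CommRingCat.ofHom l'.toRingHom) ≫ j :=
      congrArg CommaMorphism.left e'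
    rw [cancel_mono] at e''
    exact AlgHom.coe_ringHom_injective (congrArg CommRingCat.Hom.hom (Spec.map_injective e''))
  have hfq : ∀ l, (yon S).map (pt l ≫ a) ≫ q = (yon S).map τ ≫ x := fun l => by
    rw [Functor.map_comp, Category.assoc, sq.w, ← Category.assoc, ← Functor.map_comp, hptb]
  obtain ⟨V, pr, hV, i₁, het, hsep⟩ := exists_fibPow hF hq Λ l₀
  obtain ⟨ρ, hρ⟩ := hV.exists_perm
  obtain ⟨W, ρ', hρ', hfree, hin⟩ := exists_free_open (pr := pr) ρ hρ
  obtain ⟨ω, hω, -⟩ := hV.2 T (fun l => pt l ≫ a) fun i i' => (hfq i).trans (hfq i').symm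
  have hmem : ω.left (IsLocalRing.closedPoint Ω) ∈ W :=
    hin Ω _ ω fun i i' hii e => hii (hpinj i i' (by rw [← hω, ← hω, e]))
  have hrange : Set.range ω.left ⊆ Set.range W.ι := by
    rintro _ ⟨y, rfl⟩
    rw [W.range_ι, show y = IsLocalRing.closedPoint Ω from Subsingleton.elim (α := PrimeSpectrum Ω) _ _]
    exact hmem
  let ω' : T ⟶ openOver V W := Over.homMk (IsOpenImmersion.lift W.ι ω.left hrange) (by
    change _ ≫ W.ι ≫ V.hom = _
    rw [IsOpenImmersion.lift_fac_assoc]; exact Over.w ω)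
  have hω' : ω' ≫ openIncl V W = ω := Over.OverMorphism.ext (IsOpenImmersion.lift_fac _ _ _)
  have : Etale (pr i₁).left := het
  have : IsSeparated (pr i₁).left := hsep
  have hWA : ∀ A : Set ↥(openOver V W).left, A.Finite →
      ∃ V' : (openOver V W).left.Opens, IsAffineOpen V' ∧ A ⊆ (V' : Set ↥(openOver V W).left) := fun A hA => by
    have : LocallyQuasiFinite (W.ι ≫ (pr i₁).left) := etale_locallyQuasiFinite _ inferInstance
    exact Grpd80.exists_affine_of_lqf (W.ι ≫ (pr i₁).left) hA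
  have hee : RepWith @Etale ((yon S).map (openIncl V W ≫ pr i₁) ≫ q) := by
    have : Etale (openIncl V W ≫ pr i₁).left := inferInstanceAs (Etale (W.ι ≫ (pr i₁).left))
    exact SpPts86.repWith_etale_comp _ hq
  obtain ⟨M, m, r, hr, hinv, hmr⟩ := exists_perm_quot hF ρ' hfree hWA hee fun g => by
    rw [← Functor.map_comp_assoc, reassoc_of% (hρ' g), hρ, Functor.map_comp, Category.assoc, hV.1 _ i₁,
      ← Category.assoc, ← Functor.map_comp]
  obtain ⟨Q, fQ, gQ, sqQ⟩ := exists_isPullback_yon hF.diag r x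
  have : Etale gQ.left := etale_snd_of_isPullback sqQ hr
  have hζ : (yon S).map (ω' ≫ m) ≫ r = (yon S).map τ ≫ x := by
    rw [Functor.map_comp, Category.assoc, hmr, ← Functor.map_comp_assoc, reassoc_of% hω', hω, hfq]
  obtain ⟨η, hη⟩ := (yon S).map_surjective (sqQ.lift _ _ hζ)
  have hηf : η ≫ fQ = ω' ≫ m := (yon S).map_injective (by rw [Functor.map_comp, hη, sqQ.lift_fst])
  have hηg : η ≫ gQ = τ := (yon S).map_injective (by rw [Functor.map_comp, hη, sqQ.lift_snd])
  let σT : Gal(Ω/k) → (T ⟶ T) := fun σ => Over.homMk (Spec.map (CommRingCat.ofHom σ.toAlgHom.toRingHom)) (by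
    change _ ≫ sΩ ≫ str = sΩ ≫ str
    rw [← Category.assoc, ← Spec.map_comp, ← CommRingCat.ofHom_comp]
    exact congrArg (fun f => Spec.map (CommRingCat.ofHom f) ≫ str) σ.toAlgHom.comp_algebraMap)
  have hστ : ∀ σ, σT σ ≫ τ = τ := fun σ => Over.OverMorphism.ext (by
    change Spec.map _ ≫ sΩ = sΩ
    rw [← Spec.map_comp, ← CommRingCat.ofHom_comp]
    exact congrArg (fun f => Spec.map (CommRingCat.ofHom f)) σ.toAlgHom.comp_algebraMap)
  have hfix : ∀ σ, σT σ ≫ η = η := fun σ => by
    let π : Equiv.Perm Λ := Equiv.ofBijective (fun l : Λ => σ.toAlgHom.comp l)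
      ⟨fun l l' e => AlgHom.ext fun y => σ.injective (DFunLike.congr_fun e y),
        fun l => ⟨σ.symm.toAlgHom.comp l, AlgHom.ext fun y => σ.apply_symm_apply _⟩⟩
    have hpi : ∀ l, σT σ ≫ pt l = pt (π l) := fun l => Over.OverMorphism.ext (by
      change Spec.map _ ≫ Spec.map _ ≫ j = Spec.map _ ≫ j
      rw [← Category.assoc, ← Spec.map_comp, ← CommRingCat.ofHom_comp]; rfl)
    have h1 : σT σ ≫ ω = ω ≫ (ρ π⁻¹).hom := hV.hom_ext fun i => by
      rw [Category.assoc, hω, ← Category.assoc, hpi, Category.assoc, hρ, inv_inv, hω]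
    have h2 : σT σ ≫ ω' = ω' ≫ (ρ' π⁻¹).hom := by
      have : Mono (openIncl V W) := (Over.forget S).mono_of_mono_map (inferInstanceAs (Mono W.ι))
      rw [← cancel_mono (openIncl V W), Category.assoc, hω', h1, Category.assoc, hρ', reassoc_of% hω']
    apply (yon S).map_injective
    apply sqQ.hom_ext <;> rw [← Functor.map_comp, ← Functor.map_comp] <;> congr 1
    · rw [Category.assoc, hηf, ← Category.assoc, h2, Category.assoc, hinv]
    · rw [Category.assoc, hηg, hστ]
  obtain ⟨B, _, _, _, i, hi, hyi, hib⟩ := exists_etale_algebra_nhd (show Q.left ⟶ Spec (CommRingCat.of k) from gQ.left)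
    (η.left (IsLocalRing.closedPoint Ω))
  have hr' : Set.range η.left ⊆ Set.range i := by
    rintro _ ⟨y, rfl⟩
    rw [show y = IsLocalRing.closedPoint Ω from Subsingleton.elim (α := PrimeSpectrum Ω) _ _]
    exact hyi
  obtain ⟨φ₀, hφ₀⟩ := Spec.map_surjective (IsOpenImmersion.lift i η.left hr')
  have hφi : Spec.map φ₀ ≫ i = η.left := by rw [hφ₀, IsOpenImmersion.lift_fac]
  have hφk : CommRingCat.ofHom (algebraMap k B) ≫ φ₀ = CommRingCat.ofHom (algebraMap k Ω) := by
    apply Spec.map_injective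
    rw [Spec.map_comp, ← hib, ← Category.assoc, hφi]
    exact congrArg CommaMorphism.left hηg
  let φ : B →ₐ[k] Ω :=
    { φ₀.hom with commutes' := fun c => DFunLike.congr_fun (congrArg CommRingCat.Hom.hom hφk) c }
  obtain ⟨ψ⟩ := exists_rational_of_fixed φ fun σ => by
    apply AlgHom.coe_ringHom_injective
    have : Spec.map (φ₀ ≫ CommRingCat.ofHom σ.toAlgHom.toRingHom) = Spec.map φ₀ := by
      rw [← cancel_mono i, Spec.map_comp, Category.assoc, hφi]
      exact congrArg CommaMorphism.left (hfix σ)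
    exact congrArg CommRingCat.Hom.hom (Spec.map_injective this)
  have hψ : (Spec.map (CommRingCat.ofHom ψ.toRingHom) ≫ i) ≫ gQ.left = 𝟙 _ := by
    rw [Category.assoc]
    refine (congrArg (Spec.map (CommRingCat.ofHom ψ.toRingHom) ≫ ·) hib).trans ?_
    rw [← Spec.map_comp, ← CommRingCat.ofHom_comp]
    exact (congrArg (fun f => Spec.map (CommRingCat.ofHom f)) ψ.comp_algebraMap).trans (Spec.map_id _)
  let sec : Over.mk str ⟶ Q := Over.homMk (Spec.map (CommRingCat.ofHom ψ.toRingHom) ≫ i) (by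
    rw [← Over.w gQ, ← Category.assoc, hψ]; exact Category.id_comp _)
  have hsec : sec ≫ gQ = 𝟙 _ := Over.OverMorphism.ext hψ
  have hg : (yon S).map (sec ≫ fQ) ≫ r = x := by
    rw [Functor.map_comp, Category.assoc, sqQ.w, ← Category.assoc, ← Functor.map_comp, hsec,
      CategoryTheory.Functor.map_id, Category.id_comp]
  obtain ⟨O, hO, hpO, -⟩ := exists_isAffineOpen_mem_and_subset
    (x := (sec ≫ fQ).left (IsLocalRing.closedPoint k)) (U := ⊤) trivial
  have hrg : Set.range (sec ≫ fQ).left ⊆ Set.range O.ι := by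
    rintro _ ⟨y, rfl⟩
    rw [O.range_ι, show y = IsLocalRing.closedPoint k from Subsingleton.elim (α := PrimeSpectrum k) _ _]
    exact hpO
  let g : Over.mk str ⟶ openOver M O := Over.homMk (IsOpenImmersion.lift O.ι (sec ≫ fQ).left hrg) (by
    change _ ≫ O.ι ≫ M.hom = _
    rw [IsOpenImmersion.lift_fac_assoc]; exact Over.w (sec ≫ fQ))
  have hgO : g ≫ openIncl M O = sec ≫ fQ := Over.OverMorphism.ext (IsOpenImmersion.lift_fac _ _ _)
  have : Etale (openIncl M O).left := inferInstanceAs (Etale O.ι)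
  exact ⟨openOver M O, (yon S).map (openIncl M O) ≫ r, g, hO, SpPts86.repWith_etale_comp _ hr,
    by rw [← Category.assoc, ← Functor.map_comp, hgO, hg]⟩

end Groth.Agent.AlgSt88
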