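import Groth.Agent.AlgSt88.UnivInjLocal
import Groth.Agent.AlgSt88.DiagLFT2
import Groth.Agent.AlgSt88.DiagRep2
import Mathlib.AlgebraicGeometry.AlgClosed.Basic

/-! Surjective diagonals and lifts of morphisms over algebraically closed fields. -/

set_option autoImplicit false
set_option maxHeartbeats 1000000
set_option linter.style.haveILetI false
set_option backward.isDefEq.respectTransparency false
set_option backward.isDefEq.respectTransparency.types false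
universe u

open CategoryTheory CategoryTheory.Limits AlgebraicGeometry Opposite AlgSt FibCat

namespace Groth.Agent.AlgSt88

variable {S : Scheme.{u}} {𝒳 𝒴 : AlgSt.Cat S}

/-- A morphism locally of finite type, surjective on points, has liftings of points over algebraically closed fields. -/
theorem exists_section_algClosed (hY : IsFibGrpd 𝒴.p) (hX : IsFibGrpd 𝒳.p) {g : 𝒳 ⥤ᵇ 𝒴}
    (hg : RepByAlgSpWith (AlgSp.LocP @LocallyOfFiniteType) g) (hs : IsSurjective g) (k : Type u) [Field k]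
    [IsAlgClosed k] (s : Spec (CommRingCat.of k) ⟶ S) (y : 𝒴.obj) (hy : 𝒴.p.obj y = Over.mk s) :
    ∃ (x : 𝒳.obj) (e : g.obj x ≅ y), 𝒳.p.obj x = Over.mk s ∧ 𝒴.p.IsHomLift (𝟙 (Over.mk s)) e.hom := by
  let T : Over S := Over.mk s
  let c := classify hY y hy
  obtain ⟨ε, hε⟩ := classify_mk_id hY y hy
  obtain ⟨F, e, he, ha⟩ := hg T c
  let a : F.obj ⟶ (AlgSp.yon S).obj T := spMapOfOver (BasedFunctor.comp e (fpFst c g))
  have hs' := (surjective_spMapOfOver he _).1 (isSurjective_fpFst hY hX (isFibGrpd_overCat T) c hs)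
  obtain ⟨U, p, hp, hps⟩ := F.property.atlas
  obtain ⟨m, hm⟩ := (AlgSp.yon S).map_surjective (p ≫ a)
  haveI : LocallyOfFiniteType m.left :=
    ha p (𝟙 _) m hp (AlgSp.repWith_id _ T) (by rw [Category.comp_id]; exact hm.symm)
  haveI : Nonempty ↥U.left := by
    obtain ⟨φ, -⟩ := hs' (AlgSp.Points.ofScheme T (IsLocalRing.closedPoint k))
    obtain ⟨u, -⟩ := SpPts86.surjective_ofPt hps φ
    exact ⟨u⟩
  haveI : JacobsonSpace ↥U.left :=
    LocallyOfFiniteType.jacobsonSpace (Y := Spec (CommRingCat.of k)) m.left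
  obtain ⟨u, -, hu⟩ := nonempty_inter_closedPoints (Z := (Set.univ : Set ↥U.left)) Set.univ_nonempty
    isOpen_univ.isLocallyClosed
  let q : Spec (CommRingCat.of k) ⟶ U.left := pointOfClosedPoint (K := k) m.left u hu
  have hq : q ≫ m.left = 𝟙 _ := pointOfClosedPoint_comp (K := k) m.left u hu
  let σ : T ⟶ U := Over.homMk q (by
    rw [← Over.w m, ← Category.assoc, hq]
    exact Category.id_comp _)
  have hσ : ((AlgSp.yon S).map σ ≫ p) ≫ a = 𝟙 _ := by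
    rw [Category.assoc, ← hm, ← Functor.map_comp, show σ ≫ m = 𝟙 T from Over.OverMorphism.ext hq,
      CategoryTheory.Functor.map_id]
  let b : overCat T ⥤ᵇ fp c g := BasedFunctor.comp (ofOverCat T)
    (BasedFunctor.comp (ofSpMap ((AlgSp.yon S).map σ ≫ p)) e)
  obtain ⟨γ⟩ := exists_hom_iso (BasedFunctor.comp (BasedFunctor.comp e (fpFst c g)) (ofOverCat T))
  rw [← spMapOfOver_eq] at γ
  let o := b.obj (Over.mk (𝟙 T))
  have hoT : (fp c g).p.obj o = T := b.w_obj _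
  let δ : (ofOverCat T).obj o.obj.fst ≅ (ofOverCat T).obj (Over.mk (𝟙 T)) :=
    ((BasedNatTrans.forgetful _ _).mapIso γ).app
        ((ofSpMap ((AlgSp.yon S).map σ ≫ p)).obj ((ofOverCat T).obj (Over.mk (𝟙 T)))) ≪≫
      eltIso (congrArg (fun t : (AlgSp.yon S).obj T ⟶ (AlgSp.yon S).obj T => t.hom.app (op T) ⟨𝟙 T⟩) hσ)
  have hd := isEquivData_of_isEquivOver (isEquivOver_ofOverCat T)
  obtain ⟨j, hj⟩ := hd.full δ.hom
  obtain ⟨j', hj'⟩ := hd.full δ.inv
  let J : o.obj.fst ≅ Over.mk (𝟙 T) :=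
    { hom := j
      inv := j'
      hom_inv_id := hd.faithful _ _ (by rw [(ofOverCat T).map_comp, (ofOverCat T).map_id, hj, hj']; exact δ.hom_inv_id)
      inv_hom_id := hd.faithful _ _ (by rw [(ofOverCat T).map_comp, (ofOverCat T).map_id, hj, hj']; exact δ.inv_hom_id) }
  have hJl : J.hom.left = eqToHom hoT := by
    have hw := Over.w J.hom
    have hl : j.left ≫ 𝟙 T = o.obj.fst.hom := hw
    have := Category.comp_id j.left
    have h1 : (ofOverCat T).map j = δ.hom := hj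
    haveI hδ : (ofSch T).p.IsHomLift (𝟙 T) δ.hom := @IsHomLift.comp_of_lift_id _ _ _ _ (ofSch T).p T _ _ _ _ _
      (BasedNatTrans.isHomLift γ.hom rfl) (IsHomLift.of_fac' (ofSch T).p (𝟙 T) _ rfl rfl (by simp [eltIso]; rfl))
    rw [← h1] at hδ
    haveI := ((ofOverCat T).isHomLift_iff (𝟙 T) j).1 hδ
    have h2 := IsHomLift.fac' (overCat T).p (𝟙 T) j
    exact h2.trans (by simp)
  refine ⟨o.obj.snd, o.obj.iso.symm ≪≫ c.toFunctor.mapIso J ≪≫ ε, ((fpSnd c g).w_obj o).trans hoT, ?_⟩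
  haveI := hε
  refine IsHomLift.of_fac' 𝒴.p (𝟙 T) _ ((g.w_obj _).trans (((fpSnd c g).w_obj o).trans hoT)) hy ?_
  simp only [Iso.trans_hom, Iso.symm_hom, Functor.mapIso_hom, Functor.map_comp,
    IsHomLift.fac' 𝒴.p (𝟙 T) ε.hom]
  rw [show 𝒴.p.map o.obj.iso.inv = inv (𝒴.p.map o.obj.iso.hom) by rw [← Functor.map_inv]; simp,
    show 𝒴.p.map (c.toFunctor.map J.hom) = _ from p_map_eq c J.hom, show (overCat T).p.map J.hom = _ from hJl]
  simp [fp_iso_map]

/-- Surjectivity of the diagonal on algebraically closed fields. -/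
theorem surjective_diag_iff_lift (h𝒳 : IsAlgStack Scheme.fppfPrecoverage 𝒳)
    (h𝒴 : IsAlgStack Scheme.fppfPrecoverage 𝒴) (f : 𝒳 ⥤ᵇ 𝒴) :
    IsSurjective (FibCat.diag f) ↔
      ∀ (k : Type u) [Field k] [IsAlgClosed k] (s : Spec (CommRingCat.of k) ⟶ S) (a₁ a₂ : 𝒳.obj)
        (_ : 𝒳.p.obj a₁ = Over.mk s) (_ : 𝒳.p.obj a₂ = Over.mk s) (β : f.obj a₁ ⟶ f.obj a₂),
        𝒴.p.IsHomLift (𝟙 (Over.mk s)) β →
          ∃ α : a₁ ⟶ a₂, 𝒳.p.IsHomLift (𝟙 (Over.mk s)) α ∧ f.map α = β := by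
  have hX := h𝒳.isStack.1
  have hY := h𝒴.isStack.1
  have hFF := isFibGrpd_fp hX hX hY f f
  constructor
  · intro hs k _ _ s a₁ a₂ h₁ h₂ β hβ
    haveI := hβ
    haveI := fg_isIso_of_lift_id hY β (Over.mk s)
    let z : (fp f f).obj := ⟨⟨a₁, a₂, asIso β⟩, by
      change 𝒴.p.IsHomLift (𝟙 (𝒳.p.obj a₁)) β
      rw [h₁]; exact hβ⟩
    obtain ⟨x, e, hx, he⟩ := exists_section_algClosed hFF hX (lft_diag h𝒳 h𝒴 f) hs k s z h₁
    haveI := he
    let e₁ : x ≅ a₁ := (fpFst f f).toFunctor.mapIso e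
    let e₂ : x ≅ a₂ := (fpSnd f f).toFunctor.mapIso e
    haveI he₁ : 𝒳.p.IsHomLift (𝟙 (Over.mk s)) e₁.hom := (fpFst f f).preserves_isHomLift (𝟙 _) e.hom
    haveI he₂ : 𝒳.p.IsHomLift (𝟙 (Over.mk s)) e₂.hom := (fpSnd f f).preserves_isHomLift (𝟙 _) e.hom
    haveI : 𝒳.p.IsHomLift (𝟙 (Over.mk s)) e₁.inv := IsHomLift.lift_id_inv 𝒳.p _ e₁
    have hw : f.map e₁.hom ≫ β = 𝟙 _ ≫ f.map e₂.hom := e.hom.hom.w
    rw [Category.id_comp] at hw
    refine ⟨e₁.inv ≫ e₂.hom, inferInstance, ?_⟩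
    rw [f.map_comp, ← hw, ← Category.assoc, ← f.map_comp, Iso.inv_hom_id, map_id' f, Category.id_comp]
  · intro hC z
    obtain ⟨p, rfl⟩ := Points.mk_surjective z
    let Ω := AlgebraicClosure p.K
    let d : Over.mk (Spec.map (CommRingCat.ofHom (algebraMap p.K Ω)) ≫ p.str) ⟶ Over.mk p.str :=
      Over.homMk (Spec.map (CommRingCat.ofHom (algebraMap p.K Ω))) rfl
    obtain ⟨z', hz', φ, -⟩ := fg_exists_lift hFF (x := p.obj) (d ≫ eqToHom p.lies.symm)
    have h₁ : 𝒳.p.obj z'.obj.fst = Over.mk (Spec.map (CommRingCat.ofHom (algebraMap p.K Ω)) ≫ p.str) := hz'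
    have h₂ : 𝒳.p.obj z'.obj.snd = Over.mk (Spec.map (CommRingCat.ofHom (algebraMap p.K Ω)) ≫ p.str) :=
      ((fpSnd f f).w_obj z').trans hz'
    obtain ⟨α, hα, hαβ⟩ := hC Ω _ z'.obj.fst z'.obj.snd h₁ h₂ z'.obj.iso.hom (by
      have h := z'.property
      change 𝒴.p.IsHomLift (𝟙 (𝒳.p.obj z'.obj.fst)) z'.obj.iso.hom at h
      rwa [h₁] at h)
    let k : (FibCat.diag f).obj z'.obj.fst ⟶ z' := fpHom (𝟙 _) α (by
      change f.map (𝟙 _) ≫ z'.obj.iso.hom = 𝟙 _ ≫ f.map α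
      rw [hαβ, map_id' f])
    let o : FPt 𝒳 := { K := Ω, str := _, obj := z'.obj.fst, lies := h₁ }
    exact ⟨Points.mk o, Points.sound ⟨o.map (FibCat.diag f), 𝟙 _, k ≫ φ, trivial⟩⟩

end Groth.Agent.AlgSt88
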