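import Groth.Agent.AlgSt88.EquivCrit
import Groth.Agent.AlgSt88.DiagLifts
import Groth.Agent.Fib44.Yoneda
import Groth.Agent.Fib44.Descent

/-!
Tuples of points of a chart of a stack with compatible isomorphisms of their objects.
-/

set_option autoImplicit false
set_option backward.isDefEq.respectTransparency false
set_option backward.isDefEq.respectTransparency.types false
universe u

open CategoryTheory CategoryTheory.Limits AlgebraicGeometry Opposite AlgSt FibCat

namespace Groth.Agent.AlgSt88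

variable {S : Scheme.{u}} {𝒵 : AlgSt.Cat S} {U : Over S} (w : overCat U ⥤ᵇ 𝒵)

/-- The object over a point of the chart. -/
abbrev wObj {T : Over S} (a : T ⟶ U) : 𝒵.obj := w.obj (Over.mk a : Over U)

/-- The morphism of objects over a morphism of points. -/
abbrev wRes {T' T : Over S} (g : T' ⟶ T) {a : T ⟶ U} {a' : T' ⟶ U} (h : g ≫ a = a') :
    wObj w a' ⟶ wObj w a :=
  w.map (Over.homMk g h : (Over.mk a' : Over U) ⟶ Over.mk a)

instance isHomLift_wRes {T' T : Over S} (g : T' ⟶ T) {a : T ⟶ U} {a' : T' ⟶ U} (h : g ≫ a = a') :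
    𝒵.p.IsHomLift g (wRes w g h) :=
  Fib44.isHomLift_map_left w (Over.homMk g h : (Over.mk a' : Over U) ⟶ Over.mk a)

theorem wRes_id {T : Over S} {a : T ⟶ U} (h : 𝟙 T ≫ a = a) : wRes w (𝟙 T) h = 𝟙 _ := by
  rw [wRes, ← w.map_id]
  exact congrArg w.map (Over.OverMorphism.ext rfl)

theorem wRes_comp {T'' T' T : Over S} (g' : T'' ⟶ T') (g : T' ⟶ T) {a : T ⟶ U} {a' : T' ⟶ U}
    {a'' : T'' ⟶ U} (h' : g' ≫ a' = a'') (h : g ≫ a = a') (h'' : (g' ≫ g) ≫ a = a'') :
    wRes w g' h' ≫ wRes w g h = wRes w (g' ≫ g) h'' := by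
  rw [wRes, wRes, wRes, ← w.map_comp]
  exact congrArg w.map (Over.OverMorphism.ext rfl)

variable {w}

/-- A vertical morphism restricts uniquely. -/
theorem existsUnique_res (hZ : IsFibGrpd 𝒵.p) {T' T : Over S} (g : T' ⟶ T) {a b : T ⟶ U} {a' b' : T' ⟶ U}
    (ha : g ≫ a = a') (hb : g ≫ b = b') (k : wObj w a ⟶ wObj w b) [𝒵.p.IsHomLift (𝟙 T) k] :
    ∃! k' : wObj w a' ⟶ wObj w b', 𝒵.p.IsHomLift (𝟙 T') k' ∧ k' ≫ wRes w g hb = wRes w g ha ≫ k := by
  have : 𝒵.p.IsStronglyCartesian g (wRes w g hb) := Fib44.isSC_of_fibGrpd 𝒵.p hZ g _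
  have : 𝒵.p.IsHomLift g (wRes w g ha ≫ k) := by
    have h' : 𝒵.p.IsHomLift (g ≫ 𝟙 T) (wRes w g ha ≫ k) := inferInstance
    simpa only [Category.comp_id] using h'
  refine ⟨Functor.IsCartesian.map 𝒵.p g (wRes w g hb) (wRes w g ha ≫ k),
    ⟨inferInstance, Functor.IsCartesian.fac 𝒵.p g (wRes w g hb) _⟩, ?_⟩
  rintro k' ⟨hk', e⟩
  exact Functor.IsCartesian.map_uniq 𝒵.p g (wRes w g hb) _ k' e

theorem isIso_vert (hZ : IsFibGrpd 𝒵.p) {T : Over S} {x y : 𝒵.obj} (k : x ⟶ y) [𝒵.p.IsHomLift (𝟙 T) k] :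
    IsIso k := by
  have : 𝒵.p.IsStronglyCartesian (𝟙 T) k := Fib44.isSC_of_fibGrpd 𝒵.p hZ _ _
  exact Functor.IsStronglyCartesian.isIso_of_base_isIso 𝒵.p (𝟙 T) k

variable (w)

/-- A tuple of points with compatible isomorphisms. -/
structure PowPt (ι : Type u) (T : Over S) : Type (u + 1) where
  u : ι → (T ⟶ U)
  α : ∀ i j, wObj w (u i) ⟶ wObj w (u j)
  lift : ∀ i j, 𝒵.p.IsHomLift (𝟙 T) (α i j)
  comp : ∀ i j k, α i j ≫ α j k = α i k

namespace PowPt

variable {w} {ι κ : Type u} {T T' T'' : Over S}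

theorem α_self (hZ : IsFibGrpd 𝒵.p) (x : PowPt w ι T) (i : ι) : x.α i i = 𝟙 _ := by
  have := x.lift i i
  have := isIso_vert hZ (T := T) (x.α i i)
  exact (cancel_epi (x.α i i)).1 ((x.comp i i i).trans (Category.comp_id _).symm)

theorem α_swap (hZ : IsFibGrpd 𝒵.p) (x : PowPt w ι T) (i j : ι) : x.α i j ≫ x.α j i = 𝟙 _ := by
  rw [x.comp, x.α_self hZ]

/-- One tuple is the restriction of another. -/
def Rel (g : T' ⟶ T) (x' : PowPt w ι T') (x : PowPt w ι T) : Prop :=
  ∃ hu : ∀ i, g ≫ x.u i = x'.u i, ∀ i j, x'.α i j ≫ wRes w g (hu j) = wRes w g (hu i) ≫ x.α i j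

theorem exists_rel (hZ : IsFibGrpd 𝒵.p) (g : T' ⟶ T) (x : PowPt w ι T) : ∃ x', Rel g x' x := by
  choose k hk hu using fun i j =>
    have := x.lift i j
    existsUnique_res hZ g (a := x.u i) (b := x.u j) rfl rfl (x.α i j)
  refine ⟨⟨fun i => g ≫ x.u i, k, fun i j => (hk i j).1, fun i j l => ?_⟩, fun i => rfl, fun i j => (hk i j).2⟩
  have := (hk i j).1
  have := (hk j l).1
  refine hu i l _ ⟨inferInstance, ?_⟩
  rw [Category.assoc, (hk j l).2, ← Category.assoc, (hk i j).2, Category.assoc, x.comp]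

theorem Rel.unique (hZ : IsFibGrpd 𝒵.p) {g : T' ⟶ T} {x : PowPt w ι T} {x' x'' : PowPt w ι T'}
    (h' : Rel g x' x) (h'' : Rel g x'' x) : x' = x'' := by
  obtain ⟨u', α', l', c'⟩ := x'
  obtain ⟨u'', α'', l'', c''⟩ := x''
  obtain ⟨hu', e'⟩ := h'
  obtain ⟨hu'', e''⟩ := h''
  obtain rfl : u' = u'' := funext fun i => (hu' i).symm.trans (hu'' i)
  obtain rfl : α' = α'' := funext fun i => funext fun j =>
    have := x.lift i j
    (existsUnique_res hZ g (hu' i) (hu' j) (x.α i j)).unique ⟨l' i j, e' i j⟩ ⟨l'' i j, e'' i j⟩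
  rfl

theorem rel_id (x : PowPt w ι T) : Rel (𝟙 T) x x :=
  ⟨fun i => Category.id_comp _, fun i j => by rw [wRes_id, wRes_id, Category.comp_id, Category.id_comp]⟩

theorem Rel.comp {g' : T'' ⟶ T'} {g : T' ⟶ T} {x'' : PowPt w ι T''} {x' : PowPt w ι T'} {x : PowPt w ι T}
    (h' : Rel g' x'' x') (h : Rel g x' x) : Rel (g' ≫ g) x'' x := by
  obtain ⟨hu', e'⟩ := h'
  obtain ⟨hu, e⟩ := h
  refine ⟨fun i => by rw [Category.assoc, hu, hu'], fun i j => ?_⟩
  rw [← wRes_comp w g' g (hu' j) (hu j), ← Category.assoc, e', Category.assoc, e, ← Category.assoc,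
    wRes_comp w g' g (hu' i) (hu i)]

/-- Equal indices may be tested against a base index. -/
theorem rel_of_base (hZ : IsFibGrpd 𝒵.p) (i₀ : ι) {g : T' ⟶ T} {x' : PowPt w ι T'} {x : PowPt w ι T}
    (hu : ∀ i, g ≫ x.u i = x'.u i)
    (h : ∀ i, x'.α i i₀ ≫ wRes w g (hu i₀) = wRes w g (hu i) ≫ x.α i i₀) : Rel g x' x := by
  refine ⟨hu, fun i j => ?_⟩
  have := x.lift j i₀
  have := isIso_vert hZ (T := T) (x.α j i₀)
  rw [← cancel_mono (x.α j i₀), Category.assoc, ← h j, Category.assoc, x.comp, ← Category.assoc, x'.comp, h i]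

/-- Reindexing. -/
def reindex (e : κ → ι) (x : PowPt w ι T) : PowPt w κ T :=
  ⟨fun i => x.u (e i), fun i j => x.α (e i) (e j), fun _ _ => x.lift _ _, fun _ _ _ => x.comp _ _ _⟩

theorem Rel.reindex (e : κ → ι) {g : T' ⟶ T} {x' : PowPt w ι T'} {x : PowPt w ι T} (h : Rel g x' x) :
    Rel g (x'.reindex e) (x.reindex e) :=
  ⟨fun i => h.choose (e i), fun i j => h.choose_spec (e i) (e j)⟩

theorem ext_base (hZ : IsFibGrpd 𝒵.p) (i₀ : ι) {x x' : PowPt w ι T} (hu : ∀ i, x.u i = x'.u i)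
    (h : ∀ i, x.α i i₀ ≫ wRes w (𝟙 T) ((Category.id_comp _).trans (hu i₀).symm) =
      wRes w (𝟙 T) ((Category.id_comp _).trans (hu i).symm) ≫ x'.α i i₀) : x = x' :=
  (rel_of_base hZ i₀ (fun i => (Category.id_comp _).trans (hu i).symm) h).unique hZ (rel_id x')

/-- A tuple from isomorphisms to one object. -/
theorem exists_of_base (hZ : IsFibGrpd 𝒵.p) (v : ι → (T ⟶ U)) {z : 𝒵.obj}
    (β : ∀ i, wObj w (v i) ⟶ z) (hβ : ∀ i, 𝒵.p.IsHomLift (𝟙 T) (β i)) :
    ∃ α : ∀ i j, wObj w (v i) ⟶ wObj w (v j),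
      (∀ i j, 𝒵.p.IsHomLift (𝟙 T) (α i j)) ∧ (∀ i j k, α i j ≫ α j k = α i k) ∧
      ∀ i j, α i j ≫ β j = β i := by
  have : ∀ i, IsIso (β i) := fun i => have := hβ i; isIso_vert hZ (T := T) (β i)
  refine ⟨fun i j => β i ≫ inv (β j), fun i j => ?_, fun i j k => by simp, fun i j => by simp⟩
  have := hβ i
  have := hβ j
  have : 𝒵.p.IsHomLift (𝟙 T) (inv (β j)) := inferInstance
  infer_instance

end PowPt

variable {w} (hZ : IsFibGrpd 𝒵.p)

/-- The presheaf of tuples. -/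
noncomputable def powPsh (w : overCat U ⥤ᵇ 𝒵) (hZ : IsFibGrpd 𝒵.p) (ι : Type u) : AlgSp.PSp S where
  obj T := PowPt w ι (unop T)
  map g := TypeCat.ofHom fun x => (PowPt.exists_rel hZ g.unop x).choose
  map_id T := ConcreteCategory.hom_ext _ _ fun x =>
    (PowPt.exists_rel hZ _ x).choose_spec.unique hZ (PowPt.rel_id x)
  map_comp g g' := ConcreteCategory.hom_ext _ _ fun x =>
    (PowPt.exists_rel hZ _ x).choose_spec.unique hZ
      ((PowPt.exists_rel hZ g'.unop _).choose_spec.comp (PowPt.exists_rel hZ g.unop x).choose_spec)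

variable {ι κ : Type u}

theorem powPsh_map_rel {T T' : Over S} (g : T' ⟶ T) (x : PowPt w ι T) :
    PowPt.Rel g ((powPsh w hZ ι).map g.op x : PowPt w ι T') x :=
  (PowPt.exists_rel hZ g x).choose_spec

theorem powPsh_map_eq {T T' : Over S} (g : T' ⟶ T) {x : PowPt w ι T} {x' : PowPt w ι T'} (h : PowPt.Rel g x' x) :
    (powPsh w hZ ι).map g.op x = x' :=
  (powPsh_map_rel hZ g x).unique hZ h

/-- Reindexing as a map of presheaves. -/
noncomputable def powReindex (e : κ → ι) : powPsh w hZ ι ⟶ powPsh w hZ κ where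
  app _ := TypeCat.ofHom fun x => x.reindex e
  naturality _ _ g := ConcreteCategory.hom_ext _ _ fun x =>
    (powPsh_map_eq hZ g.unop ((powPsh_map_rel hZ g.unop x).reindex e)).symm

/-- A coordinate. -/
noncomputable def powProj (i : ι) : powPsh w hZ ι ⟶ (AlgSp.pyon S).obj U where
  app T := TypeCat.ofHom fun (x : PowPt w ι (unop T)) => (ULift.up (x.u i) : ULift.{u + 1} (unop T ⟶ U))
  naturality T _ g := by
    ext x
    exact congrArg ULift.up ((powPsh_map_rel hZ g.unop (x : PowPt w ι (unop T))).choose i).symm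

/-- The index of two points. -/
abbrev Two : Type u := ULift.{u} Bool

/-- Pairs with an isomorphism as objects of the fibre product of the chart with itself. -/
noncomputable def twoToFp : Stk.ofPsh (powPsh w hZ Two.{u}) ⥤ᵇ fp w w where
  toFunctor :=
    { obj := fun a =>
        ⟨{ fst := (Over.mk ((a.sec : PowPt w Two a.base).u ⟨true⟩) : Over U)
           snd := (Over.mk ((a.sec : PowPt w Two a.base).u ⟨false⟩) : Over U)
           iso :=
            { hom := (a.sec : PowPt w Two a.base).α ⟨true⟩ ⟨false⟩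
              inv := (a.sec : PowPt w Two a.base).α ⟨false⟩ ⟨true⟩
              hom_inv_id := PowPt.α_swap hZ _ _ _
              inv_hom_id := PowPt.α_swap hZ _ _ _ } },
          (a.sec : PowPt w Two a.base).lift _ _⟩
      map := fun {a b} f =>
        have h : PowPt.Rel f.hom (a.sec : PowPt w Two a.base) b.sec := by
          have e := powPsh_map_rel hZ f.hom (b.sec : PowPt w Two b.base)
          rw [show ((powPsh w hZ Two).map f.hom.op b.sec : PowPt w Two a.base) = a.sec from f.map_sec] at e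
          exact e
        ObjectProperty.homMk
          { fst := Over.homMk f.hom (h.choose ⟨true⟩)
            snd := Over.homMk f.hom (h.choose ⟨false⟩)
            w := (h.choose_spec ⟨true⟩ ⟨false⟩).symm }
      map_id := fun a => ObjectProperty.hom_ext _
        (CategoricalPullback.hom_ext (Over.OverMorphism.ext rfl) (Over.OverMorphism.ext rfl))
      map_comp := fun f g => ObjectProperty.hom_ext _
        (CategoricalPullback.hom_ext (Over.OverMorphism.ext rfl) (Over.OverMorphism.ext rfl)) }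
  w := rfl

theorem isEquivOver_twoToFp : IsEquivOver (twoToFp (w := w) hZ) := by
  refine IsEquivData.isEquivOver ⟨fun f g h => ?_, fun {a b} g => ?_, fun y => ?_⟩
  · exact Stk.EltObj.hom_ext (congrArg (fun k => k.hom.fst.left) h)
  · let f₀ : a.base ⟶ b.base := g.hom.fst.left
    have h1 : g.hom.snd.left = f₀ := by
      have := FibCat.fp_isHomLift_snd (F := w) (G := w) g
      have e := IsHomLift.fac' (overCat U).p ((fp w w).p.map g) g.hom.snd
      simp [f₀] at e ⊢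
      exact e
    have hu : ∀ i : Two.{u}, f₀ ≫ (b.sec : PowPt w Two b.base).u i = (a.sec : PowPt w Two a.base).u i := by
      rintro ⟨_ | _⟩
      · rw [← h1]; exact Over.w g.hom.snd
      · exact Over.w g.hom.fst
    have hrel : PowPt.Rel f₀ (a.sec : PowPt w Two a.base) b.sec := by
      refine PowPt.rel_of_base hZ ⟨false⟩ hu ?_
      rintro ⟨_ | _⟩
      · rw [PowPt.α_self hZ, PowPt.α_self hZ, Category.id_comp, Category.comp_id]
      · have e := g.hom.w
        have e2 : g.hom.snd = Over.homMk f₀ (hu ⟨false⟩) := Over.OverMorphism.ext h1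
        rw [e2] at e
        exact e.symm
    exact ⟨⟨f₀, powPsh_map_eq hZ f₀ hrel⟩, ObjectProperty.hom_ext _
      (CategoricalPullback.hom_ext (Over.OverMorphism.ext rfl) (Over.OverMorphism.ext h1.symm))⟩
  · let f₁ : Over U := y.obj.fst
    let f₂ : Over U := y.obj.snd
    have hT : f₂.left = f₁.left := (fpSnd w w).w_obj y
    let v : Two.{u} → (f₁.left ⟶ U) := fun i => match i with
      | ⟨true⟩ => f₁.hom
      | ⟨false⟩ => eqToHom hT.symm ≫ f₂.hom
    let c : (Over.mk (v ⟨false⟩) : Over U) ≅ f₂ := Over.isoMk (eqToIso hT.symm) rfl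
    let c₁ : (Over.mk (v ⟨true⟩) : Over U) ≅ f₁ := Over.isoMk (Iso.refl _) (Category.id_comp _)
    let β : ∀ i, wObj w (v i) ⟶ wObj w (v ⟨false⟩) := fun i => match i with
      | ⟨true⟩ => w.map c₁.hom ≫ y.obj.iso.hom ≫ w.map c.inv
      | ⟨false⟩ => 𝟙 _
    have hβ : ∀ i, 𝒵.p.IsHomLift (𝟙 f₁.left) (β i) := by
      rintro ⟨_ | _⟩
      · exact IsHomLift.id (Fib44.obj_over w _)
      · have h₁ : 𝒵.p.IsHomLift (𝟙 f₁.left) (w.map c₁.hom) := Fib44.isHomLift_map_left w c₁.hom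
        have h₂ : 𝒵.p.IsHomLift (𝟙 f₁.left) y.obj.iso.hom := y.property
        have h₃ : 𝒵.p.IsHomLift (eqToHom hT) (w.map c.inv) := Fib44.isHomLift_map_left w c.inv
        have key : ∀ {X Y : Over S} (h : X = Y) {x x' : 𝒵.obj} (φ : x ⟶ x'),
            𝒵.p.IsHomLift (eqToHom h) φ → 𝒵.p.IsHomLift (𝟙 Y) φ := fun {X Y} h {x x'} φ hφ => by
          subst h
          simpa using hφ
        have : 𝒵.p.IsHomLift (𝟙 f₁.left) (w.map c.inv) := key hT _ h₃
        exact inferInstanceAs (𝒵.p.IsHomLift (𝟙 f₁.left) (w.map c₁.hom ≫ y.obj.iso.hom ≫ w.map c.inv))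
    obtain ⟨α, hα, hαc, hαβ⟩ := PowPt.exists_of_base hZ v β hβ
    refine ⟨⟨f₁.left, (⟨v, α, hα, hαc⟩ : PowPt w Two f₁.left)⟩,
      fpObjIso (F := w) (G := w) c₁ c ?_, ?_⟩
    · change w.map c₁.hom ≫ y.obj.iso.hom = α ⟨true⟩ ⟨false⟩ ≫ w.map c.hom
      have e := hαβ ⟨true⟩ ⟨false⟩
      simp only [β, Category.comp_id] at e
      rw [e, Category.assoc, Category.assoc, ← w.map_comp, c.inv_hom_id, w.map_id]
      exact congrArg _ (Category.comp_id _).symm
    · exact fp_isHomLift _ (IsHomLift.id rfl)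

end Groth.Agent.AlgSt88
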