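import Groth.Agent.AlgSt88.GaloisCover
import Groth.Agent.AlgSt88.PowPt
import Groth.Agent.AlgSt88.QC
import Groth.Agent.AlgSt88.LiftAlgClosed
import Groth.Agent.SpPts86.SmoothSection
import Groth.Agent.S3713
import Mathlib.FieldTheory.Galois.Basic
import Mathlib.FieldTheory.Normal.Closure

/-!
A field-valued point of a stack comes from a finite Galois point of an affine smooth chart, with trivial stabilizer.
-/

set_option autoImplicit false
set_option linter.style.haveILetI false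
set_option backward.isDefEq.respectTransparency false
set_option backward.isDefEq.respectTransparency.types false
universe u

open CategoryTheory CategoryTheory.Limits AlgebraicGeometry Opposite AlgSt FibCat
open Groth.Agent.SpPts86 (openOver openIncl)

namespace Groth.Agent.AlgSt88

variable {S : Scheme.{u}} {𝒵 : AlgSt.Cat S}

theorem sm_comp_overMap (hZ : IsFibGrpd 𝒵.p) {U' U : Over S} (c : U' ⟶ U) (hc : Smooth c.left)
    {w : overCat U ⥤ᵇ 𝒵} (hw : Sm w) : Sm (BasedFunctor.comp (overMap c) w) :=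
  sm_comp (isFibGrpd_overCat U') (isFibGrpd_overCat U) (sm_overMap c hc) hw

/-- A field-valued point of a stack comes from a finite Galois point of an atlas. -/
theorem exists_galois_point_atlas {U₀ : Over S} (w₀ : overCat U₀ ⥤ᵇ 𝒵) (hw₀ : Sm w₀) (hw₀' : Sj w₀)
    {k : Type u} [Field k] {sk : Spec (CommRingCat.of k) ⟶ S} (x : overCat (Over.mk sk) ⥤ᵇ 𝒵) :
    ∃ (L : Type u) (_ : Field L) (_ : Algebra k L) (_ : FiniteDimensional k L) (_ : IsGalois k L)
      (a₀ : fieldOver k L sk ⟶ U₀) (β₀ : wObj w₀ a₀ ⟶ x.obj (Fib44.idObj (Over.mk sk))),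
      𝒵.p.IsHomLift (fieldMap k L sk) β₀ := by
  classical
  let T : Over S := Over.mk sk
  obtain ⟨F, e, he, ha⟩ := hw₀ T x
  let q : F.obj ⟶ (AlgSp.yon S).obj T := spMapOfOver (BasedFunctor.comp e (fpFst x w₀))
  obtain ⟨F', e', he', hs'⟩ := hw₀' T x
  have hs : AlgSp.IsSurjectiveMor q := by
    haveI := respectsIso_surj (S := S)
    exact RepOver.any (P := AlgSp.IsSurjectiveMor) ⟨F', e', he', hs'⟩ he
  obtain ⟨V, p, hp, hps⟩ := F.property.atlas
  obtain ⟨m, hm⟩ := (AlgSp.yon S).map_surjective (p ≫ q)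
  haveI : Smooth m.left := ha p (𝟙 _) m hp (AlgSp.repWith_id _ T) (by rw [Category.comp_id]; exact hm.symm)
  obtain ⟨v⟩ : Nonempty ↥V.left := by
    obtain ⟨φ, -⟩ := hs (AlgSp.Points.ofScheme T (IsLocalRing.closedPoint k))
    obtain ⟨u, -⟩ := SpPts86.surjective_ofPt hps φ
    exact ⟨u⟩
  obtain ⟨S', g, s', hg, -, h, hh⟩ := SpPts86.exists_etale_section (show V.left ⟶ Spec (CommRingCat.of k) from m.left) v
  obtain ⟨A, _, _, _, j, hj, ⟨z, -⟩, hjg⟩ := exists_etale_algebra_nhd g s'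
  have : Nontrivial A := PrimeSpectrum.nonempty_iff_nontrivial.1 ⟨z⟩
  obtain ⟨φ⟩ := nonempty_algHom_sepClosure k A
  have := Algebra.FormallyUnramified.finite_of_free k A
  let E : IntermediateField k (SeparableClosure k) := IntermediateField.adjoin k (φ.range : Set (SeparableClosure k))
  have hE : FiniteDimensional k E := by
    let b := Module.Free.chooseBasis k A
    have hle : E ≤ IntermediateField.adjoin k (Set.range fun i => φ (b i)) := by
      refine IntermediateField.adjoin_le_iff.2 ?_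
      rintro _ ⟨y, rfl⟩
      have hy : y ∈ Submodule.span k (Set.range b) := by rw [b.span_eq]; trivial
      induction hy using Submodule.span_induction with
      | mem y hy =>
        obtain ⟨i, rfl⟩ := hy
        exact IntermediateField.subset_adjoin _ _ ⟨i, rfl⟩
      | zero => rw [map_zero]; exact zero_mem _
      | add y y' _ _ h h' => rw [map_add]; exact add_mem h h'
      | smul c y _ h =>
        show φ (c • y) ∈ _
        rw [map_smul]; exact IntermediateField.smul_mem _ h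
    have : FiniteDimensional k (IntermediateField.adjoin k (Set.range fun i => φ (b i))) :=
      IntermediateField.finiteDimensional_adjoin fun y _ => Algebra.IsIntegral.isIntegral y
    exact Module.Finite.of_injective (IntermediateField.inclusion hle).toLinearMap
      (IntermediateField.inclusion hle).injective
  let N : IntermediateField k (SeparableClosure k) := IntermediateField.normalClosure k E (SeparableClosure k)
  have hEN : E ≤ N := E.le_normalClosure
  let φ' : A →ₐ[k] N := φ.codRestrict N.toSubalgebra fun y =>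
    hEN (IntermediateField.subset_adjoin _ _ ⟨y, rfl⟩)
  obtain ⟨L, _, _, _, _, ψ⟩ : ∃ (L : Type u) (_ : Field L) (_ : Algebra k L) (_ : FiniteDimensional k L)
      (_ : IsGalois k L), Nonempty (A →ₐ[k] L) := ⟨N, inferInstance, inferInstance, inferInstance, inferInstance, ⟨φ'⟩⟩
  obtain ⟨ψ⟩ := ψ
  let TL : Over S := fieldOver k L sk
  let σ₀ : Spec (CommRingCat.of L) ⟶ V.left := Spec.map (CommRingCat.ofHom ψ.toRingHom) ≫ j ≫ h
  have hσ₀ : σ₀ ≫ m.left = Spec.map (CommRingCat.ofHom (algebraMap k L)) := by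
    simp only [σ₀, Category.assoc]
    refine (congrArg (fun t => Spec.map (CommRingCat.ofHom ψ.toRingHom) ≫ j ≫ t) hh).trans ?_
    refine (congrArg (fun t => Spec.map (CommRingCat.ofHom ψ.toRingHom) ≫ t) hjg).trans ?_
    exact specMap_algHom k ψ
  let σ : TL ⟶ V := Over.homMk σ₀ (by
    rw [← Over.w m, ← Category.assoc, hσ₀]; rfl)
  have hσm : σ ≫ m = fieldMap k L sk := Over.OverMorphism.ext hσ₀
  let el : F.obj.obj.obj (op TL) := ((AlgSp.yon S).map σ ≫ p).hom.app (op TL) ⟨𝟙 TL⟩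
  let Φ : ofSp F.obj ⥤ᵇ overCat T := BasedFunctor.comp e (fpFst x w₀)
  let o : (fp x w₀).obj := e.obj ⟨TL, el⟩
  have hfst : eqToHom (Φ.w_obj ⟨TL, el⟩).symm ≫ o.obj.fst.hom = fieldMap k L sk := by
    have h1 : (spMapOfOver Φ).hom.app (op TL) el = ⟨secHom Φ ⟨TL, el⟩⟩ := spMapOfOver_app Φ TL el
    have h2 : ((AlgSp.yon S).map σ ≫ p) ≫ q = (AlgSp.yon S).map (fieldMap k L sk) := by
      rw [Category.assoc, ← hm, ← Functor.map_comp, hσm]
    have h3 := congrArg (fun t : (AlgSp.yon S).obj TL ⟶ (AlgSp.yon S).obj T => t.hom.app (op TL) ⟨𝟙 TL⟩) h2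
    exact (congrArg ULift.down (h1.symm.trans h3)).trans (show _ = fieldMap k L sk from Category.id_comp (fieldMap k L sk))
  have hfl : o.obj.fst.left = TL := Φ.w_obj ⟨TL, el⟩
  have hsl : o.obj.snd.left = TL := (BasedFunctor.comp e (fpSnd x w₀)).w_obj ⟨TL, el⟩
  let a₀ : TL ⟶ U₀ := eqToHom hsl.symm ≫ o.obj.snd.hom
  let c : (Over.mk a₀ : Over U₀) ⟶ o.obj.snd := Over.homMk (eqToHom hsl.symm) rfl
  have hc : 𝒵.p.IsHomLift (eqToHom hsl.symm) (w₀.map c) := Fib44.isHomLift_map_left w₀ c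
  have hi : 𝒵.p.IsHomLift (𝟙 o.obj.fst.left) o.obj.iso.hom := o.property
  have hi' : 𝒵.p.IsHomLift (𝟙 o.obj.fst.left) o.obj.iso.inv := IsHomLift.lift_id_inv 𝒵.p _ o.obj.iso
  let β₀ : wObj w₀ a₀ ⟶ x.obj (Fib44.idObj T) := w₀.map c ≫ o.obj.iso.inv ≫ x.map (Fib44.toId o.obj.fst)
  have hβ₀ : 𝒵.p.IsHomLift (fieldMap k L sk) β₀ := by
    rw [← hfst]
    have key : ∀ {X Y : Over S} (h : X = Y) {z z' z'' z''' : 𝒵.obj} (f : X ⟶ T) (φ₁ : z ⟶ z') (φ₂ : z' ⟶ z'') (φ₃ : z'' ⟶ z''')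
        (h' : Y = X), 𝒵.p.IsHomLift (eqToHom h') φ₁ → 𝒵.p.IsHomLift (𝟙 X) φ₂ → 𝒵.p.IsHomLift f φ₃ →
          𝒵.p.IsHomLift (eqToHom h' ≫ f) (φ₁ ≫ φ₂ ≫ φ₃) := fun {X Y} h {z z' z'' z'''} f φ₁ φ₂ φ₃ h' _ _ _ => by
      subst h
      simp only [eqToHom_refl, Category.id_comp]
      have : 𝒵.p.IsHomLift (𝟙 X) φ₁ := by assumption
      infer_instance
    have hsf : o.obj.snd.left = o.obj.fst.left := hsl.trans hfl.symm
    have hc' : 𝒵.p.IsHomLift (eqToHom hfl.symm) (w₀.map c) := by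
      have e : eqToHom hsl.symm ≫ eqToHom hsf = eqToHom hfl.symm := eqToHom_trans _ _
      rw [← e]
      have : 𝒵.p.IsHomLift (eqToHom hsf) (𝟙 (w₀.obj o.obj.snd)) :=
        IsHomLift.id_lift_eqToHom_domain hsf (w₀.w_obj o.obj.snd)
      rw [← Category.comp_id (w₀.map c)]
      infer_instance
    exact key hfl o.obj.fst.hom (w₀.map c) o.obj.iso.inv (x.map (Fib44.toId o.obj.fst)) hfl.symm hc' hi'
      (Fib44.isHomLift_toId x o.obj.fst)
  exact ⟨L, inferInstance, inferInstance, inferInstance, inferInstance, a₀, β₀, hβ₀⟩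

/-- A field-valued point of a stack with a smooth atlas. -/
theorem exists_galois_point (hZ : IsFibGrpd 𝒵.p) (hA : HasAtlas (AlgSp.LocP @Smooth) 𝒵)
    {k : Type u} [Field k] {sk : Spec (CommRingCat.of k) ⟶ S} (x : overCat (Over.mk sk) ⥤ᵇ 𝒵) :
    ∃ (L : Type u) (_ : Field L) (_ : Algebra k L) (_ : FiniteDimensional k L) (_ : IsGalois k L)
      (U : Over S) (_ : IsAffine U.left) (w : overCat U ⥤ᵇ 𝒵) (a : fieldOver k L sk ⟶ U)
      (β : wObj w a ⟶ x.obj (Fib44.idObj (Over.mk sk))),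
      Sm w ∧ 𝒵.p.IsHomLift (fieldMap k L sk) β ∧ ∀ g : L ≃ₐ[k] L, fieldConj k L sk g ≫ a = a → g = 1 := by
  classical
  let T : Over S := Over.mk sk
  obtain ⟨U₀, w₀, hw₀, hw₀'⟩ := hA
  obtain ⟨L, _, _, _, _, a₀, β₀, hβ₀⟩ := exists_galois_point_atlas w₀ hw₀ hw₀' x
  let TL : Over S := fieldOver k L sk
  obtain ⟨O, hO, hpO, -⟩ := exists_isAffineOpen_mem_and_subset
    (x := a₀.left (IsLocalRing.closedPoint L)) (U := ⊤) trivial
  have hr : Set.range a₀.left ⊆ Set.range O.ι := by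
    rintro _ ⟨y, rfl⟩
    rw [O.range_ι, show y = IsLocalRing.closedPoint L from Subsingleton.elim (α := PrimeSpectrum L) _ _]
    exact hpO
  let U₁ : Over S := openOver U₀ O
  let a₁ : TL ⟶ U₁ := Over.homMk (IsOpenImmersion.lift O.ι a₀.left hr) (by
    change _ ≫ O.ι ≫ U₀.hom = _
    rw [IsOpenImmersion.lift_fac_assoc]; exact Over.w a₀)
  have ha₁ : a₁ ≫ openIncl U₀ O = a₀ := Over.OverMorphism.ext (IsOpenImmersion.lift_fac _ _ _)
  haveI : IsAffine U₁.left := hO
  let U₂ : Over S := Over.mk ((AffineSpace PUnit.{u + 1} U₁.left ↘ U₁.left) ≫ U₁.hom)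
  let π : U₂ ⟶ U₁ := Over.homMk (AffineSpace PUnit.{u + 1} U₁.left ↘ U₁.left) rfl
  obtain ⟨θ, hθ⟩ := Field.exists_primitive_element k L
  let v₀ : PUnit.{u + 1} → Γ(TL.left, ⊤) := fun _ => (Scheme.ΓSpecIso (CommRingCat.of L)).inv θ
  let a : TL ⟶ U₂ := Over.homMk (AffineSpace.homOfVector a₁.left v₀) (by
    change _ ≫ (_ ≫ U₁.hom) = _
    rw [AffineSpace.homOfVector_over_assoc]; exact Over.w a₁)
  have hπ : a ≫ π = a₁ := Over.OverMorphism.ext (AffineSpace.homOfVector_over _ _)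
  haveI : IsAffine U₂.left := inferInstanceAs (IsAffine (AffineSpace PUnit.{u + 1} U₁.left))
  have hsmπ : Smooth (π ≫ openIncl U₀ O).left :=
    haveI : Smooth π.left := Groth.Agent.S3713.smooth_over U₁.left
    inferInstanceAs (Smooth (π.left ≫ O.ι))
  let w : overCat U₂ ⥤ᵇ 𝒵 := BasedFunctor.comp (overMap (π ≫ openIncl U₀ O)) w₀
  have hwo : wObj w a = wObj w₀ a₀ := by
    change w₀.obj (Over.mk (a ≫ π ≫ openIncl U₀ O)) = _
    rw [← Category.assoc, hπ, ha₁]
  haveI := hβ₀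
  haveI : 𝒵.p.IsHomLift (𝟙 TL) (eqToHom hwo) :=
    IsHomLift.eqToHom_domain_lift_id hwo (Fib44.obj_over w (Over.mk a : Over U₂))
  refine ⟨L, inferInstance, inferInstance, inferInstance, inferInstance, U₂, inferInstance, w, a,
    eqToHom hwo ≫ β₀, sm_comp_overMap hZ _ hsmπ hw₀, ?_, fun g hg => ?_⟩
  · have : 𝒵.p.IsHomLift (𝟙 TL ≫ fieldMap k L sk) (eqToHom hwo ≫ β₀) := inferInstance
    rwa [Category.id_comp] at this
  · have e1 := congrArg (fun t : TL ⟶ U₂ => t.left.appTop (AffineSpace.coord U₁.left PUnit.unit)) hg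
    change (Spec.map _ ≫ AffineSpace.homOfVector a₁.left v₀).appTop _ =
      (AffineSpace.homOfVector a₁.left v₀).appTop _ at e1
    rw [Scheme.Hom.comp_appTop, CommRingCat.comp_apply, AffineSpace.homOfVector_appTop_coord] at e1
    have e2 := congrArg (fun t : CommRingCat.of L ⟶ Γ(Spec (CommRingCat.of L), ⊤) => t θ)
      (Scheme.ΓSpecIso_inv_naturality (CommRingCat.ofHom g.symm.toAlgHom.toRingHom))
    have e3 : g.symm θ = θ :=
      (Scheme.ΓSpecIso (CommRingCat.of L)).commRingCatIsoToRingEquiv.symm.injective (e2.trans (e1.trans (AffineSpace.homOfVector_appTop_coord _ _ _)))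
    have e4 : g.symm.toAlgHom = (AlgEquiv.refl : L ≃ₐ[k] L).toAlgHom := algHom_ext_prim hθ e3
    refine AlgEquiv.ext fun y => ?_
    have e5 := DFunLike.congr_fun e4 (g y)
    exact ((g.symm_apply_apply y).symm.trans e5).symm

end Groth.Agent.AlgSt88
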