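import Groth.Agent.AlgSt88.SmoothLocusFun
import Groth.Agent.SpPts86.FlatValLift

/-!
Lifting valuation rings along flat morphisms of algebraic stacks.
-/

set_option autoImplicit false
set_option maxHeartbeats 1000000
set_option linter.unusedVariables false
set_option linter.style.haveILetI false
set_option backward.isDefEq.respectTransparency false
set_option backward.isDefEq.respectTransparency.types false
universe u

open CategoryTheory CategoryTheory.Limits AlgebraicGeometry Opposite AlgSt FibCat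

namespace Groth.Agent.AlgSt88

variable {S : Scheme.{u}} {𝒳 𝒴 : AlgSt.Cat S}

theorem nonempty_ofSpMap_comp' {F G H : AlgSp.Sp S} (a : F ⟶ G) (b : G ⟶ H) :
    Nonempty (ofSpMap (a ≫ b) ≅ BasedFunctor.comp (ofSpMap a) (ofSpMap b)) := by
  obtain ⟨δ⟩ := exists_hom_iso (BasedFunctor.comp (ofSpMap a) (ofSpMap b))
  rw [homOfBased_comp, homOfBased_ofSpMap, homOfBased_ofSpMap] at δ
  exact ⟨δ.symm⟩

theorem nonempty_ofOverCat_toOverCat (U : Over S) :
    Nonempty (BasedFunctor.comp (ofOverCat U) (toOverCat U) ≅ BasedFunctor.id (overCat U)) :=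
  ⟨BasedNatIso.mkNatIso
      (NatIso.ofComponents (fun a => Iso.refl _)
        (fun {a b} f => Over.OverMorphism.ext ((Category.comp_id _).trans (Category.id_comp _).symm)))
      (fun a => IsHomLift.id rfl)⟩

/-- Lifting a valuation ring along a flat morphism. -/
theorem exists_lift_valuationRing_flat_st (h𝒳 : IsAlgStack Scheme.fppfPrecoverage 𝒳)
    (h𝒴 : IsAlgStack Scheme.fppfPrecoverage 𝒴) (f : 𝒳 ⥤ᵇ 𝒴) (hf : LocQ (AlgSp.LocP @Flat) f)
    (A : Type u) [CommRing A] [IsDomain A] [ValuationRing A] (sA : Spec (CommRingCat.of A) ⟶ S)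
    (a : overCat (Over.mk sA) ⥤ᵇ 𝒴)
    (ha : Points.ofChart a (IsLocalRing.closedPoint A) ∈ Set.range (Points.map f)) :
    ∃ (A' : Type u) (_ : CommRing A') (_ : IsDomain A') (_ : ValuationRing A') (φ : A →+* A'),
      Function.Injective φ ∧ IsLocalHom φ ∧
      ∃ x : overCat (Over.mk (Spec.map (CommRingCat.ofHom φ) ≫ sA)) ⥤ᵇ 𝒳,
        Nonempty (BasedFunctor.comp x f ≅
          BasedFunctor.comp (overMap (Over.homMk (Spec.map (CommRingCat.ofHom φ)) rfl :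
            Over.mk (Spec.map (CommRingCat.ofHom φ) ≫ sA) ⟶ Over.mk sA)) a) := by
  have hX := h𝒳.isStack.1
  have hY := h𝒴.isStack.1
  let T : Over S := Over.mk sA
  let a₀ : ofSch T ⥤ᵇ 𝒴 := BasedFunctor.comp (toOverCat T) a
  have hT := (isDM_ofSp (spY T)).1
  have hC := isAlgStack_fp h𝒴.isStack h𝒴.diag hT h𝒳 a₀ f
  obtain ⟨U₀, V₀, x₀, yv, h₀, α, -, hx', hyv, hh⟩ :=
    spQ_fpFst smoothLocal_flat (stableBC_locP _) h𝒳 h𝒴 hT a₀ (spQ_of_locQ hf)
  obtain ⟨γ⟩ := exists_hom_iso yv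
  let k := homOfBased yv
  have hk : AlgSp.LocP @Smooth k :=
    prop_homOfBased (respectsIso_locP _) (spaceDescends_locP _) (F := V₀) (G := spY T) hyv
  have hflat : AlgSp.LocP @Flat (h₀ ≫ k) :=
    SpFP87.locP_comp U₀.property V₀.property (AlgSp.IsAlgSpace.yon_obj T) hh (flat_of_smooth' hk)
  obtain ⟨c⟩ := nonempty_ofSpMap_comp' h₀ k
  have β : BasedFunctor.comp x₀ (fpFst a₀ f) ≅ ofSpMap (h₀ ≫ k) := α ≪≫ bLeft (ofSpMap h₀) γ ≪≫ c.symm
  let cA : ↥T.left := (IsLocalRing.closedPoint A : PrimeSpectrum A)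
  have hmem : AlgSp.Points.ofPt (𝟙 ((AlgSp.yon S).obj T)) cA ∈ Set.range (AlgSp.Points.map (h₀ ≫ k)) := by
    obtain ⟨z, hz⟩ := ha
    rw [ofChart_eq] at hz
    obtain ⟨w, hw, -⟩ := exists_points_fp hY hX (Stk.isFibGrpd_ofPsh _) f a₀
      (stPt _ (AlgSp.Points.ofScheme T cA)) z hz.symm
    obtain ⟨v, rfl⟩ := isSurjective_of_sj hC.isStack.1 hx' w
    obtain ⟨τ, rfl⟩ := stPt_bijective.2 v
    refine ⟨τ, stPt_bijective.1 ?_⟩
    rw [← stPt_natural, ← points_map_congr β, points_map_comp, AlgSp.Points.ofPt_eq_map_ofScheme,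
      AlgSp.Points.map_id]
    exact hw
  obtain ⟨A', i₁, i₂, i₃, φ, hinj, hloc, l, hl⟩ :=
    SpPts86.exists_lift_valuationRing_of_flat U₀.property (AlgSp.IsAlgSpace.yon_obj T) hflat A sA
      (𝟙 ((AlgSp.yon S).obj T)) hmem
  refine ⟨A', i₁, i₂, i₃, φ, hinj, hloc, ?_⟩
  let T' : Over S := Over.mk (Spec.map (CommRingCat.ofHom φ) ≫ sA)
  let m : T' ⟶ T := Over.homMk (Spec.map (CommRingCat.ofHom φ)) rfl
  refine ⟨BasedFunctor.comp (ofOverCat T')
    (BasedFunctor.comp (BasedFunctor.comp (ofSpMap l) x₀) (fpSnd a₀ f)), ?_⟩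
  obtain ⟨c'⟩ := nonempty_ofSpMap_comp' l (h₀ ≫ k)
  rw [Category.comp_id] at hl
  rw [hl] at c'
  obtain ⟨j⟩ := toOver_overMap m
  obtain ⟨u⟩ := nonempty_ofOverCat_toOverCat T'
  exact ⟨bLeft (ofOverCat T') (bLeft (ofSpMap l) (bLeft x₀ (fpIso a₀ f).symm ≪≫ bRight β a₀) ≪≫
    bRight c'.symm a₀ ≪≫ bRight j.symm a) ≪≫ bRight u (BasedFunctor.comp (overMap m) a)⟩

end Groth.Agent.AlgSt88
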