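import Groth.Prelude.Def_FibCat2
import Groth.Agent.AlgSt88.Based

/-! Manipulation of 2-fibre products over a base category. -/

set_option autoImplicit false
set_option backward.isDefEq.respectTransparency false
set_option backward.isDefEq.respectTransparency.types false
universe v₆ u₆ v₅ u₅ v₄ u₄ v₃ u₃ v₂ u₂ v u

open CategoryTheory CategoryTheory.Limits FibCat

namespace Groth.Agent.AlgSt88

variable {C : Type u} [Category.{v} C] {𝒳 : BasedCategory.{v₂, u₂} C} {𝒴 : BasedCategory.{v₃, u₃} C}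
  {𝒮 : BasedCategory.{v₄, u₄} C} {𝒲 : BasedCategory.{v₅, u₅} C}

@[simp] theorem fpFst_obj (F : 𝒳 ⥤ᵇ 𝒮) (G : 𝒴 ⥤ᵇ 𝒮) (x : (fp F G).obj) : (fpFst F G).obj x = x.obj.fst := rfl
@[simp] theorem fpSnd_obj (F : 𝒳 ⥤ᵇ 𝒮) (G : 𝒴 ⥤ᵇ 𝒮) (x : (fp F G).obj) : (fpSnd F G).obj x = x.obj.snd := rfl

section
variable {F : 𝒳 ⥤ᵇ 𝒮} {G : 𝒴 ⥤ᵇ 𝒮}

/-- A 2-isomorphism between functors into a 2-fibre product from 2-isomorphisms of the two components. -/
def fpNatIso {Φ Ψ : 𝒲 ⥤ᵇ fp F G}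
    (a : BasedFunctor.comp Φ (fpFst F G) ≅ BasedFunctor.comp Ψ (fpFst F G))
    (b : BasedFunctor.comp Φ (fpSnd F G) ≅ BasedFunctor.comp Ψ (fpSnd F G))
    (w : ∀ x, F.map (a.hom.toNatTrans.app x) ≫ (Ψ.obj x).obj.iso.hom =
      (Φ.obj x).obj.iso.hom ≫ G.map (b.hom.toNatTrans.app x)) : Φ ≅ Ψ :=
  BasedNatIso.mkNatIso
    (NatIso.ofComponents
      (fun x => (fpProp F G).isoMk
        (CategoricalPullback.mkIso (((BasedNatTrans.forgetful _ _).mapIso a).app x)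
          (((BasedNatTrans.forgetful _ _).mapIso b).app x) (w x)))
      (fun {x y} f => ObjectProperty.hom_ext _ (CategoricalPullback.hom_ext
        (a.hom.toNatTrans.naturality f) (b.hom.toNatTrans.naturality f))))
    (fun x => by
      haveI h : 𝒳.p.IsHomLift (𝟙 (𝒲.p.obj x)) (a.hom.toNatTrans.app x) := a.hom.isHomLift' x
      exact IsHomLift.of_fac' (fp F G).p (𝟙 (𝒲.p.obj x)) _ (Φ.w_obj x) (Ψ.w_obj x)
        (IsHomLift.fac' 𝒳.p (𝟙 (𝒲.p.obj x)) (a.hom.toNatTrans.app x)))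

theorem fpLift_fst (a : 𝒲 ⥤ᵇ 𝒳) (b : 𝒲 ⥤ᵇ 𝒴) (e : BasedFunctor.comp a F ≅ BasedFunctor.comp b G) :
    BasedFunctor.comp (fpLift a b e) (fpFst F G) = a := rfl

theorem fpLift_snd (a : 𝒲 ⥤ᵇ 𝒳) (b : 𝒲 ⥤ᵇ 𝒴) (e : BasedFunctor.comp a F ≅ BasedFunctor.comp b G) :
    BasedFunctor.comp (fpLift a b e) (fpSnd F G) = b := rfl

variable (F G) in
/-- Swapping the factors. -/
def fpSwap : fp F G ⥤ᵇ fp G F := fpLift (fpSnd F G) (fpFst F G) (fpIso F G).symm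

theorem isEquivOver_fpSwap : IsEquivOver (fpSwap F G) := by
  refine ⟨fpSwap G F, ⟨?_⟩, ⟨?_⟩⟩
  · exact fpNatIso (Φ := BasedFunctor.comp (fpSwap F G) (fpSwap G F)) (Ψ := BasedFunctor.id (fp F G))
      (Iso.refl _) (Iso.refl _) (fun x => (by
        change F.map (𝟙 x.obj.fst) ≫ x.obj.iso.hom = x.obj.iso.hom ≫ G.map (𝟙 x.obj.snd)
        simp))
  · exact fpNatIso (Φ := BasedFunctor.comp (fpSwap G F) (fpSwap F G)) (Ψ := BasedFunctor.id (fp G F))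
      (Iso.refl _) (Iso.refl _) (fun x => (by
        change G.map (𝟙 x.obj.fst) ≫ x.obj.iso.hom = x.obj.iso.hom ≫ F.map (𝟙 x.obj.snd)
        simp))

/-- Changing the structure functors by 2-isomorphisms. -/
def fpCongr {F' : 𝒳 ⥤ᵇ 𝒮} {G' : 𝒴 ⥤ᵇ 𝒮} (α : F ≅ F') (β : G ≅ G') : fp F G ⥤ᵇ fp F' G' :=
  fpLift (fpFst F G) (fpSnd F G) ((bLeft (fpFst F G) α).symm ≪≫ fpIso F G ≪≫ bLeft (fpSnd F G) β)

theorem isEquivOver_fpCongr {F' : 𝒳 ⥤ᵇ 𝒮} {G' : 𝒴 ⥤ᵇ 𝒮} (α : F ≅ F') (β : G ≅ G') :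
    IsEquivOver (fpCongr α β) := by
  have hα : ∀ (x : 𝒳.obj), α.hom.toNatTrans.app x ≫ α.inv.toNatTrans.app x = 𝟙 _ := fun x =>
    congrArg (fun t => t.toNatTrans.app x) α.hom_inv_id
  have hα' : ∀ (x : 𝒳.obj), α.inv.toNatTrans.app x ≫ α.hom.toNatTrans.app x = 𝟙 _ := fun x =>
    congrArg (fun t => t.toNatTrans.app x) α.inv_hom_id
  have hβ : ∀ (x : 𝒴.obj), β.hom.toNatTrans.app x ≫ β.inv.toNatTrans.app x = 𝟙 _ := fun x =>
    congrArg (fun t => t.toNatTrans.app x) β.hom_inv_id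
  have hβ' : ∀ (x : 𝒴.obj), β.inv.toNatTrans.app x ≫ β.hom.toNatTrans.app x = 𝟙 _ := fun x =>
    congrArg (fun t => t.toNatTrans.app x) β.inv_hom_id
  refine ⟨fpCongr α.symm β.symm, ⟨?_⟩, ⟨?_⟩⟩
  · exact fpNatIso (Φ := BasedFunctor.comp (fpCongr α β) (fpCongr α.symm β.symm))
      (Ψ := BasedFunctor.id (fp F G)) (Iso.refl _) (Iso.refl _) (fun x => (by
        change F.map (𝟙 x.obj.fst) ≫ x.obj.iso.hom =
          (α.hom.toNatTrans.app x.obj.fst ≫ (α.inv.toNatTrans.app x.obj.fst ≫ x.obj.iso.hom ≫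
            β.hom.toNatTrans.app x.obj.snd) ≫ β.inv.toNatTrans.app x.obj.snd) ≫ G.map (𝟙 x.obj.snd)
        simp only [F.map_id, G.map_id, Category.id_comp, Category.comp_id, Category.assoc, hβ]
        rw [reassoc_of% hα]))
  · exact fpNatIso (Φ := BasedFunctor.comp (fpCongr α.symm β.symm) (fpCongr α β))
      (Ψ := BasedFunctor.id (fp F' G')) (Iso.refl _) (Iso.refl _) (fun x => (by
        change F'.map (𝟙 x.obj.fst) ≫ x.obj.iso.hom =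
          (α.inv.toNatTrans.app x.obj.fst ≫ (α.hom.toNatTrans.app x.obj.fst ≫ x.obj.iso.hom ≫
            β.inv.toNatTrans.app x.obj.snd) ≫ β.hom.toNatTrans.app x.obj.snd) ≫ G'.map (𝟙 x.obj.snd)
        simp only [F'.map_id, G'.map_id, Category.id_comp, Category.comp_id, Category.assoc, hβ']
        rw [reassoc_of% hα']))

end

end Groth.Agent.AlgSt88
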