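import Groth.Agent.AlgSt88.DiagLFT
import Groth.Agent.AlgSt88.DiagEt
import Groth.Agent.SpFP87.LocPRep
import Groth.Agent.SpFP87.EtLocInst
import Groth.Agent.SpPts86.Subspace

/-! Descent of properties of representable morphisms along fppf covers. -/

set_option autoImplicit false
set_option backward.isDefEq.respectTransparency false
set_option backward.isDefEq.respectTransparency.types false
set_option linter.style.haveILetI false
universe u

open CategoryTheory CategoryTheory.Limits AlgebraicGeometry Opposite AlgSt FibCat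

namespace Groth.Agent.AlgSt88

variable {S : Scheme.{u}} {𝒳 𝒴 𝒵 : AlgSt.Cat S} {P : MorphismProperty (AlgSp.Sp S)}

theorem exists_fppf_members {U : Over S} {R : Sieve U} (hR : R ∈ (QuotSh.J Scheme.fppfPrecoverage S) U) :
    ∃ (V : U.left → Over S) (c : ∀ t, V t ⟶ U), (∀ t, R (c t)) ∧
      (∀ t, Flat (c t).left ∧ LocallyOfFinitePresentation (c t).left) ∧ ∀ t, t ∈ Set.range (c t).left := by
  have h : Sieve.overEquiv U R ∈ Scheme.fppfTopology U.left :=
    (GrothendieckTopology.mem_over_iff _ _).1 hR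
  have : (@Flat ⊓ @LocallyOfFinitePresentation :
      MorphismProperty Scheme.{u}).IsStableUnderBaseChange :=
    MorphismProperty.IsStableUnderBaseChange.inf
  have : MorphismProperty.IsMultiplicative
      (@Flat ⊓ @LocallyOfFinitePresentation : MorphismProperty Scheme.{u}) :=
    { id_mem := fun X => ⟨(inferInstance : Flat (𝟙 X)),
        (inferInstance : LocallyOfFinitePresentation (𝟙 X))⟩
      comp_mem := fun f g ⟨_, _⟩ ⟨_, _⟩ => ⟨(inferInstance : Flat (f ≫ g)),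
        (inferInstance : LocallyOfFinitePresentation (f ≫ g))⟩ }
  obtain ⟨𝒰, h𝒰⟩ := Scheme.exists_cover_of_mem_grothendieckTopology
    (P := @Flat ⊓ @LocallyOfFinitePresentation) h
  choose i y hy using 𝒰.exists_eq
  refine ⟨fun t => Over.mk (𝒰.f (i t) ≫ U.hom), fun t => Over.homMk (𝒰.f (i t)) rfl, ?_, ?_, ?_⟩
  · exact fun t => (Sieve.overEquiv_iff R _).1 (h𝒰 _ _ ⟨i t⟩)
  · exact fun t => 𝒰.map_prop (i t)
  · exact fun t => ⟨y t, hy t⟩

theorem isFppfCover_yon {U : Over S} {ι : Type u} (V : ι → Over S) (c : ∀ i, V i ⟶ U)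
    (hc : ∀ i, Flat (c i).left ∧ LocallyOfFinitePresentation (c i).left)
    (hs : ∀ t : U.left, ∃ i, t ∈ Set.range (c i).left) :
    AlgSp.IsFppfCover (fun i => (AlgSp.yon S).obj (V i)) (fun i => (AlgSp.yon S).map (c i)) := by
  refine ⟨fun i => ⟨(SpFP87.locP_yon_map_iff _).2 (hc i).1, (SpFP87.locP_yon_map_iff _).2 (hc i).2⟩, fun x => ?_⟩
  obtain ⟨t, rfl⟩ := (AlgSp.Points.schemeHomeo U).surjective x
  obtain ⟨i, v, hv⟩ := hs t
  exact ⟨i, AlgSp.Points.schemeHomeo (V i) v, by rw [← hv]; exact AlgSp.Points.map_yon_map_apply (c i) v⟩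

/-- A property local on the base descends along a covering sieve. -/
theorem repOver_of_sieve (hPi : P.RespectsIso) (hP : AlgSp.IsLocalOnBase AlgSp.IsFppfCover P)
    (hX : IsFibGrpd 𝒳.p) (hY : IsFibGrpd 𝒴.p) {f : 𝒳 ⥤ᵇ 𝒴} (hf : RepByAlgSp1 f) {U : Over S}
    (z : overCat U ⥤ᵇ 𝒴) {R : Sieve U} (hR : R ∈ (QuotSh.J Scheme.fppfPrecoverage S) U)
    (h : ∀ ⦃W : Over S⦄ (p : W ⟶ U), R p → RepOver P (fpFst (BasedFunctor.comp (overMap p) z) f)) :
    RepOver P (fpFst z f) := by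
  haveI := hPi
  obtain ⟨V, c, hcR, hc, hs⟩ := exists_fppf_members hR
  let GV : AlgSp.Space S := ⟨(AlgSp.yon S).obj U, AlgSp.IsAlgSpace.yon_obj U⟩
  let m : ofSp GV.obj ⥤ᵇ 𝒴 := BasedFunctor.comp (toOverCat U) z
  obtain ⟨I, a, e, he, ⟨α⟩, -⟩ := exists_space_fp hX hY hf GV m
  have key : ∀ t, P (pullback.snd a ((AlgSp.yon S).map (c t))) := fun t => by
    let ξ := (AlgSp.yon S).map (c t)
    let w' : overCat (V t) ⥤ᵇ ofSp GV.obj := BasedFunctor.comp (ofOverCat (V t)) (ofSpMap ξ)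
    obtain ⟨ι⟩ := overMap_iso (c t)
    have h1 : RepOver P (fpFst w' (fpFst m f)) :=
      RepOver.transport' (h (c t) (hcR t)) (isEquivOver_comp (isEquivOver_fpPaste w' m f)
        (isEquivOver_fpCongr (F := BasedFunctor.comp w' m) (F' := BasedFunctor.comp (overMap (c t)) z)
          (bRight ι z) (Iso.refl f))) (Iso.refl _)
    have h2 : RepOver P (fpFst w' (ofSpMap a)) :=
      RepOver.transport' h1 (isEquivOver_comp (isEquivOver_fpCongr (F := w') (F' := w') (G := ofSpMap a) (Iso.refl _) α.symm)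
        (isEquivOver_fpMapSnd w' (fpFst m f) e he)) (Iso.refl _)
    have sq' := (IsPullback.of_hasPullback a ξ).map (sheafToPresheaf (QuotSh.J Scheme.fppfPrecoverage S) (Type (u + 1)))
    obtain ⟨e', he', ⟨β⟩⟩ := exists_pullback_equiv a.hom (Iso.refl _) sq'
    have := RepOver.any (P := P) (F := pullback a ξ) h2 he'
    rw [spMapOfOver_eq] at this
    rw [homOfBased_congr (F := pullback a ξ) (G := (AlgSp.yon S).obj (V t))
      (Φ := BasedFunctor.comp (BasedFunctor.comp e' (fpFst w' (ofSpMap a))) (ofOverCat (V t)))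
      (Ψ := ofSpMap (pullback.snd a ξ)) β, homOfBased_ofSpMap] at this
    exact this
  have hPa : P a := (hP (fun t => (AlgSp.yon S).obj (V t)) (fun t => (AlgSp.yon S).map (c t))
    (AlgSp.IsAlgSpace.yon_obj U) (fun t => AlgSp.IsAlgSpace.yon_obj _)
    (isFppfCover_yon V c hc fun t => ⟨t, hs t⟩) a I.property (fun t => pullback a ((AlgSp.yon S).map (c t)))
    (fun t => pullback.snd _ _) (fun t => pullback.fst _ _)
    (fun t => SpFP87.isAlgSpace_of_isPullback (IsPullback.of_hasPullback a _) I.property (AlgSp.IsAlgSpace.yon_obj _)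
      (AlgSp.IsAlgSpace.yon_obj U).diag)
    (fun t => IsPullback.of_hasPullback _ _)).2 key
  refine ⟨I, BasedFunctor.comp e (fpMapFst z f (toOverCat U)),
    isEquivOver_comp he (isEquivOver_fpMapFst z f _ (isEquivOver_toOverCat U)), ?_⟩
  have hmap : spMapOfOver (BasedFunctor.comp (BasedFunctor.comp e (fpMapFst z f (toOverCat U))) (fpFst z f)) =
      a ≫ spMapOfOver (toOverCat U) := by
    have h' := spMapOfOver_congr (bRight α (toOverCat U))
    rw [spMapOfOver_comp (ofSpMap a) (toOverCat U), homOfBased_ofSpMap] at h'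
    exact h'
  rw [hmap, spMapOfOver_toOverCat U]
  erw [Category.comp_id]
  exact hPa

theorem isLocalOnBase_onSpaces (hP : AlgSp.IsLocalOnBase AlgSp.IsFppfCover P) :
    AlgSp.IsLocalOnBase AlgSp.IsFppfCover (onSpaces P) := fun _ _ Yi g hY hYi hg _ f hX Xi p q hXi sq =>
  ⟨fun h i => ⟨hXi i, hYi i, (hP Yi g hY hYi hg f hX Xi p q hXi sq).1 h.2.2 i⟩,
    fun h => ⟨hX, hY, (hP Yi g hY hYi hg f hX Xi p q hXi sq).2 fun i => (h i).2.2⟩⟩

/-- Descent along a locally essentially surjective morphism. -/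
theorem repByAlgSpWith_of_fpFst_locally (hX : IsFibGrpd 𝒳.p) (hY : IsFibGrpd 𝒴.p) (hP : AlgSp.IsLocalOnBase AlgSp.IsFppfCover P)
    {f : 𝒳 ⥤ᵇ 𝒴} (hf : RepByAlgSp1 f) {g : 𝒵 ⥤ᵇ 𝒴}
    (hg : ∀ (U : Over S) (y : overCat U ⥤ᵇ 𝒴), ∃ R ∈ (QuotSh.J Scheme.fppfPrecoverage S) U,
      ∀ ⦃V : Over S⦄ (h : V ⟶ U), R.arrows h →
        ∃ z : overCat V ⥤ᵇ 𝒵, Nonempty (BasedFunctor.comp z g ≅ BasedFunctor.comp (overMap h) y))
    (h' : RepByAlgSpWith P (fpFst g f)) : RepByAlgSpWith P f := by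
  rw [← repByAlgSpWith_onSpaces_iff] at h' ⊢
  intro U y
  obtain ⟨R, hR, hR'⟩ := hg U y
  refine repOver_of_sieve (onSpaces_respectsIso hP) (isLocalOnBase_onSpaces hP) hX hY hf y hR fun W p hp => ?_
  obtain ⟨z, ⟨ι⟩⟩ := hR' p hp
  exact RepOver.transport (h' W z) (isEquivOver_comp (isEquivOver_fpPaste z g f)
    (isEquivOver_fpCongr (F := BasedFunctor.comp z g) (F' := BasedFunctor.comp (overMap p) y) ι (Iso.refl f))) (Iso.refl _)

end Groth.Agent.AlgSt88
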