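import Groth.Agent.AlgSt88.GaloisDescent
import Groth.Agent.AlgSt88.FieldChart
import Groth.Agent.SpPts86.EtaleSheaf
import Groth.Agent.SpPts86.PreGlue
import Mathlib.FieldTheory.Galois.Basic
import Mathlib.FieldTheory.PrimitiveElement
import Mathlib.RingTheory.Etale.Field

/-!
Free quotients and Galois extensions as covers with a free group action.
-/

set_option autoImplicit false

universe u

open CategoryTheory CategoryTheory.Limits AlgebraicGeometry
open AlgSp Groth.Agent.SpFP87
open Groth.Agent.SpPts86 (openOver openIncl)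

namespace Groth.Agent.AlgSt88

variable {S : Scheme.{u}}

theorem etale_le_fppf_gc :
    QuotSh.J Scheme.etalePrecoverage S ≤ QuotSh.J Scheme.fppfPrecoverage S := fun T R hR => by
  rw [GrothendieckTopology.mem_over_iff] at hR ⊢
  exact Precoverage.toGrothendieck_mono (Scheme.precoverage_mono fun X Y f hf => by
    have := hf
    exact ⟨(inferInstance : Flat f), (inferInstance : LocallyOfFinitePresentation f)⟩) _ hR

theorem zariski_le_etale :
    QuotSh.J Scheme.zariskiPrecoverage S ≤ QuotSh.J Scheme.etalePrecoverage S := fun T R hR => by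
  rw [GrothendieckTopology.mem_over_iff] at hR ⊢
  exact Precoverage.toGrothendieck_mono (Scheme.precoverage_mono fun X Y f hf => by
    have := hf
    exact (inferInstance : Etale f)) _ hR

theorem open_family_mem {T : Over S} {ι : Type u} (V : ι → Over S) (c : ∀ i, V i ⟶ T)
    (hc : ∀ i, IsOpenImmersion (c i).left) (hs : ∀ t : ↥T.left, ∃ i, t ∈ Set.range (c i).left) :
    Sieve.ofArrows V c ∈ QuotSh.J Scheme.etalePrecoverage S T :=
  zariski_le_etale _ (SpPts86.zariski_family_mem V c hc hs)

theorem bot_mem_of_isEmpty {T : Over S} [IsEmpty ↥T.left] :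
    (⊥ : Sieve T) ∈ QuotSh.J Scheme.etalePrecoverage S T := by
  refine GrothendieckTopology.superset_covering _ ?_
    (open_family_mem (T := T) (fun i : PEmpty.{u + 1} => i.elim) (fun i => i.elim) (fun i => i.elim)
      fun t => isEmptyElim t)
  rw [Sieve.ofArrows, Sieve.generate_le_iff]
  rintro Z f ⟨i⟩
  exact i.elim

theorem isEmpty_of_fixed {T W : Over S} (l : T ⟶ W) (c : W ⟶ W)
    (hc : ∀ x : ↥W.left, W.left.fromSpecResidueField x ≫ c.left ≠ W.left.fromSpecResidueField x)
    (e : l ≫ c = l) : IsEmpty ↥T.left := by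
  refine ⟨fun x => hc (l.left x) ?_⟩
  let φ := Spec.map (l.left.residueFieldMap x)
  have : Flat φ := Flat.SpecMap_iff.2 (RingHom.Flat.of_isField (Field.toIsField _) _)
  have : Surjective φ := ⟨fun x => ⟨default, Subsingleton.elim _ _⟩⟩
  have : Epi φ := Flat.epi_of_flat_of_surjective φ
  rw [← cancel_epi φ, reassoc_of% (Scheme.Hom.SpecMap_residueFieldMap_fromSpecResidueField l.left x),
    Scheme.Hom.SpecMap_residueFieldMap_fromSpecResidueField l.left x, ← Over.comp_left, e]

section Quot

variable {W M R : Over S} {G : Type u} [Group G]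

/-- A free quotient is a Galois cover. -/
theorem galCover_of_isPullback (J : GrothendieckTopology (Over S))
    (hJ : QuotSh.J Scheme.etalePrecoverage S ≤ J) (ρ : G →* Aut W)
    (hfree : ∀ (g : G) (x : W.left), g ≠ 1 →
      W.left.fromSpecResidueField x ≫ (ρ g).hom.left ≠ W.left.fromSpecResidueField x)
    (m : W ⟶ M) [Etale m.left] [Surjective m.left] (hinv : ∀ g, (ρ g).hom ≫ m = m)
    (inj : G → (W ⟶ R)) (hio : ∀ g, IsOpenImmersion (inj g).left)
    (hcov : ∀ r : ↥R.left, ∃ g, r ∈ Set.range (inj g).left) {s t : R ⟶ W}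
    (hs : ∀ g, inj g ≫ s = 𝟙 W) (ht : ∀ g, inj g ≫ t = (ρ g).hom)
    (sq : IsPullback t.left s.left m.left m.left) : GalCover J m ρ where
  cover := hJ _ (SpPts86.etale_singleton_mem m)
  inv := hinv
  free T l g hg e := by
    have := isEmpty_of_fixed l (ρ g).hom (fun x => hfree g x hg) e
    exact hJ _ bot_mem_of_isEmpty
  pairs T l l' h := by
    have w : t ≫ m = s ≫ m := Over.OverMorphism.ext sq.w
    obtain ⟨z, hzt, hzs⟩ := (IsPullback.of_map (Over.forget S) w sq).exists_lift l' l h.symm
    let O : G → T.left.Opens := fun g => z.left ⁻¹ᵁ (inj g).left.opensRange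
    refine ⟨Sieve.ofArrows (fun g => openOver T (O g)) (fun g => openIncl T (O g)),
      hJ _ (open_family_mem _ _ (fun g => inferInstanceAs (IsOpenImmersion (O g).ι)) fun x => ?_),
      fun T' f hf => ?_⟩
    · obtain ⟨g, hg⟩ := hcov (z.left x)
      exact ⟨g, ⟨x, hg⟩, rfl⟩
    · obtain ⟨V, h', f', ⟨g⟩, rfl⟩ := hf
      have := hio g
      have hr : Set.range (openIncl T (O g) ≫ z).left ⊆ Set.range (inj g).left := by
        rintro _ ⟨x, rfl⟩
        exact x.2
      let a : openOver T (O g) ⟶ W :=
        Over.homMk (IsOpenImmersion.lift (inj g).left (openIncl T (O g) ≫ z).left hr) (by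
          rw [← Over.w (inj g), IsOpenImmersion.lift_fac_assoc]; exact Over.w (openIncl T (O g) ≫ z))
      have ha : a ≫ inj g = openIncl T (O g) ≫ z :=
        Over.OverMorphism.ext (IsOpenImmersion.lift_fac _ _ _)
      refine ⟨g, ?_⟩
      have h1 : openIncl T (O g) ≫ l = a := by
        rw [← hzs, ← Category.assoc, ← ha, Category.assoc, hs, Category.comp_id]
      have h2 : openIncl T (O g) ≫ l' = a ≫ (ρ g).hom := by
        rw [← hzt, ← Category.assoc, ← ha, Category.assoc, ht]
      simp only [Category.assoc]
      rw [reassoc_of% h1, h2]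

/-- The free quotient by a finite group. -/
theorem exists_galCover_quot (J : GrothendieckTopology (Over S))
    (hJ : QuotSh.J Scheme.etalePrecoverage S ≤ J) [Finite G] (ρ : G →* Aut W)
    (hfree : ∀ (g : G) (x : W.left), g ≠ 1 →
      W.left.fromSpecResidueField x ≫ (ρ g).hom.left ≠ W.left.fromSpecResidueField x)
    (hW : ∀ A : Set ↥W.left, A.Finite → ∃ V : W.left.Opens, IsAffineOpen V ∧ A ⊆ (V : Set ↥W.left)) :
    ∃ (M : Over S) (m : W ⟶ M), Etale m.left ∧ Surjective m.left ∧ GalCover J m ρ := by
  let R : Over S := SpPts86.sigmaOver (fun _ : G => W)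
  let s : R ⟶ W := SpPts86.sigmaOut (fun _ : G => 𝟙 W)
  let t : R ⟶ W := SpPts86.sigmaOut (fun g : G => (ρ g).hom)
  have hs : ∀ g, SpPts86.sigmaIn (fun _ : G => W) g ≫ s = 𝟙 W := fun g => SpPts86.sigmaIn_out _ g
  have ht : ∀ g, SpPts86.sigmaIn (fun _ : G => W) g ≫ t = (ρ g).hom := fun g => SpPts86.sigmaIn_out _ g
  have hR := SpPts86.isEtaleEqvRel_free_action ρ hfree (SpPts86.sigmaOverIsColimit _) hs ht
  have : Etale s.left := hR.etale_left
  have : IsFinite s.left := by
    exact @FiniteSigma84.isFinite_sigmaDesc G _ _ _ (fun _ : G => (𝟙 W : W ⟶ W).left)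
      (fun _ => by rw [Over.id_left]; infer_instance)
  obtain ⟨M, m, sq, hms, hmf, hmfl, hmfp⟩ := SpPts86.exists_quot_of_finLocFree hR.toIsEqvRel hW
  have hm : fppfSurj m.left := (fppfSurj_iff _).2 ⟨hms, hmfl, hmfp⟩
  have hme : Etale m.left :=
    MorphismProperty.of_isPullback_of_descendsAlong (Q := fppfSurj) (P := @Etale) sq hm hR.etale_right
  have hst : t ≫ m = s ≫ m := Over.OverMorphism.ext sq.w
  have hinv : ∀ g, (ρ g).hom ≫ m = m := fun g => by
    rw [← ht g, Category.assoc, hst, ← Category.assoc, hs, Category.id_comp]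
  exact ⟨M, m, hme, hms, galCover_of_isPullback J hJ ρ hfree m hinv
    (fun g => SpPts86.sigmaIn (fun _ : G => W) g)
    (fun g => inferInstanceAs (IsOpenImmersion (Sigma.ι (fun _ : G => W.left) g)))
    (fun r => (SpPts86.cofan_cover (SpPts86.sigmaOverIsColimit (fun _ : G => W))).2 r) hs ht sq⟩

end Quot

section Field

variable (k L : Type u) [Field k] [Field L] [Algebra k L]

variable {k L} in
theorem algHom_ext_prim [FiniteDimensional k L] {θ : L} (hθ : IntermediateField.adjoin k {θ} = ⊤) {A : Type u}
    [CommRing A] [Algebra k A] {f f' : L →ₐ[k] A} (h : f θ = f' θ) : f = f' := by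
  have h1 : Algebra.adjoin k {θ} = ⊤ := by
    rw [← IntermediateField.adjoin_simple_toSubalgebra_of_isAlgebraic (Algebra.IsAlgebraic.isAlgebraic θ), hθ,
      IntermediateField.top_toSubalgebra]
  exact AlgHom.ext_of_adjoin_eq_top h1 fun y hy => by rw [Set.mem_singleton_iff.1 hy]; exact h

/-- The spectrum of an extension field as a scheme over the base. -/
noncomputable abbrev fieldOver (sk : Spec (CommRingCat.of k) ⟶ S) : Over S :=
  Over.mk (Spec.map (CommRingCat.ofHom (algebraMap k L)) ≫ sk)

/-- The structure map of an extension field. -/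
noncomputable abbrev fieldMap (sk : Spec (CommRingCat.of k) ⟶ S) : fieldOver k L sk ⟶ Over.mk sk :=
  Over.homMk (Spec.map (CommRingCat.ofHom (algebraMap k L))) rfl

theorem specMap_algHom {A B : Type u} [CommRing A] [CommRing B] [Algebra k A] [Algebra k B]
    (l : A →ₐ[k] B) :
    Spec.map (CommRingCat.ofHom l.toRingHom) ≫ Spec.map (CommRingCat.ofHom (algebraMap k A)) =
      Spec.map (CommRingCat.ofHom (algebraMap k B)) := by
  rw [← Spec.map_comp, ← CommRingCat.ofHom_comp]
  exact congrArg (fun f => Spec.map (CommRingCat.ofHom f)) l.comp_algebraMap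

/-- Conjugation on the spectrum. -/
noncomputable abbrev fieldConj (sk : Spec (CommRingCat.of k) ⟶ S) (g : L ≃ₐ[k] L) : fieldOver k L sk ⟶ fieldOver k L sk :=
  Over.homMk (Spec.map (CommRingCat.ofHom g.symm.toAlgHom.toRingHom)) (by
    change Spec.map _ ≫ Spec.map _ ≫ sk = Spec.map _ ≫ sk
    rw [← Category.assoc, specMap_algHom])

theorem fieldConj_mul (sk : Spec (CommRingCat.of k) ⟶ S) (g h : L ≃ₐ[k] L) :
    fieldConj k L sk h ≫ fieldConj k L sk g = fieldConj k L sk (g * h) := by
  refine Over.OverMorphism.ext ?_
  change Spec.map _ ≫ Spec.map _ = Spec.map _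
  rw [← Spec.map_comp, ← CommRingCat.ofHom_comp]
  rfl

theorem fieldConj_one (sk : Spec (CommRingCat.of k) ⟶ S) : fieldConj k L sk 1 = 𝟙 _ :=
  Over.OverMorphism.ext (Spec.map_id _)

/-- The action of the group of automorphisms on the spectrum. -/
noncomputable def fieldAct (sk : Spec (CommRingCat.of k) ⟶ S) : (L ≃ₐ[k] L) →* Aut (fieldOver k L sk) :=
  MonoidHom.mk' (fun g => ⟨fieldConj k L sk g, fieldConj k L sk g⁻¹,
      by rw [fieldConj_mul, inv_mul_cancel, fieldConj_one],
      by rw [fieldConj_mul, mul_inv_cancel, fieldConj_one]⟩)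
    fun g h => Iso.ext (fieldConj_mul k L sk g h).symm

/-- A finite Galois extension is a Galois cover. -/
theorem galCover_field (J : GrothendieckTopology (Over S)) (hJ : QuotSh.J Scheme.etalePrecoverage S ≤ J)
    [FiniteDimensional k L] [IsGalois k L] (sk : Spec (CommRingCat.of k) ⟶ S) :
    GalCover J (fieldMap k L sk) (fieldAct k L sk) where
  cover := by
    have : Algebra.FormallyEtale k L := Algebra.FormallyEtale.of_isSeparable k L
    have : Algebra.FinitePresentation k L :=
      Algebra.FinitePresentation.of_finiteType.1 inferInstance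
    have : Algebra.Etale k L := ⟨inferInstance, inferInstance⟩
    have : Etale (fieldMap k L sk).left :=
      (HasRingHomProperty.Spec_iff (P := @Etale)).2 (RingHom.etale_algebraMap.2 inferInstance)
    have : Surjective (fieldMap k L sk).left := ⟨fun x =>
      ⟨IsLocalRing.closedPoint L, Subsingleton.elim (α := PrimeSpectrum k) _ _⟩⟩
    exact hJ _ (SpPts86.etale_singleton_mem _)
  inv g := Over.OverMorphism.ext (specMap_algHom k g.symm.toAlgHom)
  free T l g hg e := by
    have := isEmpty_of_fixed l (fieldAct k L sk g).hom (fun x hx => hg ?_) e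
    · exact hJ _ bot_mem_of_isEmpty
    · let p := (fieldOver k L sk).left.fromSpecResidueField x
      obtain ⟨φ, hφ⟩ := Spec.map_surjective p
      change p ≫ Spec.map _ = p at hx
      rw [← hφ, ← Spec.map_comp] at hx
      have h := Spec.map_injective hx
      refine AlgEquiv.ext fun y => ?_
      have h' := congrArg (fun f => f.hom (g y)) h
      have hinj : Function.Injective φ.hom := φ.hom.injective
      refine hinj ?_
      exact h'.symm.trans (congrArg φ.hom (g.symm_apply_apply y))
  pairs T l l' h := by
    let A := Γ(T.left, ⊤)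
    let ev : (T ⟶ fieldOver k L sk) → (L →+* A) := fun l =>
      (((ΓSpec.adjunction.homEquiv _ _).symm l.left).unop).hom
    obtain ⟨θ, hθ⟩ := Field.exists_primitive_element k L
    have hbase : ∀ c : k, ev l (algebraMap k L c) = ev l' (algebraMap k L c) := fun c => by
      have e : l.left ≫ Spec.map (CommRingCat.ofHom (algebraMap k L)) =
          l'.left ≫ Spec.map (CommRingCat.ofHom (algebraMap k L)) := congrArg CommaMorphism.left h
      have e' := congrArg (fun f => (ΓSpec.adjunction.homEquiv T.left (Opposite.op (CommRingCat.of k))).symm f) e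
      have key : ∀ q : T.left ⟶ Spec (CommRingCat.of L),
          (ΓSpec.adjunction.homEquiv T.left (Opposite.op (CommRingCat.of k))).symm
              (q ≫ Spec.map (CommRingCat.ofHom (algebraMap k L))) =
            (ΓSpec.adjunction.homEquiv T.left (Opposite.op (CommRingCat.of L))).symm q ≫
              (CommRingCat.ofHom (algebraMap k L)).op := fun q =>
        ΓSpec.adjunction.homEquiv_naturality_right_symm q (CommRingCat.ofHom (algebraMap k L)).op
      rw [key, key] at e'
      exact congrArg (fun f => (f.unop).hom c) e'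
    let d : (L ≃ₐ[k] L) → A := fun g => ev l' θ - ev l (g.symm θ)
    let _ := Fintype.ofFinite (L ≃ₐ[k] L)
    have hprod : ∏ g, d g = 0 := by
      have hroot : Polynomial.aeval θ (minpoly k θ) = 0 := minpoly.aeval k θ
      have hsplit : (minpoly k θ).map (algebraMap k L) =
          ∏ g : L ≃ₐ[k] L, (Polynomial.X - Polynomial.C (g.symm θ)) := by
        have hint : IsIntegral k θ := IsIntegral.of_finite k θ
        have hinj : Function.Injective fun g : L ≃ₐ[k] L => g.symm θ := fun g g' e => by
          have : g.symm.toAlgHom = g'.symm.toAlgHom := by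
            exact algHom_ext_prim hθ e
          exact AlgEquiv.symm_bijective.1 (AlgEquiv.ext fun y => DFunLike.congr_fun this y)
        have hcard : Fintype.card (L ≃ₐ[k] L) = (minpoly k θ).natDegree := by
          rw [Fintype.card_eq_nat_card, IsGalois.card_aut_eq_finrank, ← IntermediateField.finrank_top',
            ← hθ, IntermediateField.adjoin.finrank hint]
        refine Eq.symm (Polynomial.eq_of_monic_of_dvd_of_natDegree_le
          (Polynomial.monic_prod_of_monic _ _ fun g _ => Polynomial.monic_X_sub_C _)
          ((minpoly.monic hint).map _) (Fintype.prod_dvd_of_coprime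
            (Polynomial.pairwise_coprime_X_sub_C hinj) fun g => Polynomial.dvd_iff_isRoot.2 ?_) ?_).symm
        · rw [Polynomial.IsRoot, Polynomial.eval_map, ← Polynomial.aeval_def]
          exact (Polynomial.aeval_algHom_apply g.symm.toAlgHom θ (minpoly k θ)).trans (by rw [hroot, map_zero])
        · rw [(minpoly.monic hint).natDegree_map, Polynomial.natDegree_finsetProd_X_sub_C_eq_card,
            Finset.card_univ, hcard]
      have e1 : (((minpoly k θ).map (algebraMap k L)).map (ev l)).eval (ev l' θ) = 0 := by
        rw [Polynomial.map_map, Polynomial.eval_map,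
          show (ev l).comp (algebraMap k L) = (ev l').comp (algebraMap k L) from RingHom.ext hbase,
          ← Polynomial.hom_eval₂, ← Polynomial.aeval_def, hroot, map_zero]
      rw [hsplit, Polynomial.map_prod, Polynomial.eval_prod] at e1
      simpa [d] using e1
    classical
    let D : (L ≃ₐ[k] L) → T.left.Opens := fun g =>
      T.left.basicOpen (∏ g' ∈ Finset.univ.erase g, d g')
    refine ⟨Sieve.ofArrows (fun g => openOver T (D g)) (fun g => openIncl T (D g)),
      hJ _ (open_family_mem _ _ (fun g => inferInstanceAs (IsOpenImmersion (D g).ι)) fun x => ?_),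
      fun T' f hf => ?_⟩
    · let π : A →+* T.left.residueField x := (T.left.residue x).hom.comp (T.left.presheaf.Γgerm x).hom
      have hd : ∀ g g', π (d g) = 0 → π (d g') = 0 → g = g' := fun g g' e e' => by
        simp only [d, map_sub, sub_eq_zero] at e e'
        have hθ' : g.symm θ = g'.symm θ :=
          (π.comp (ev l)).injective ((e.symm.trans e' : π (ev l (g.symm θ)) = π (ev l (g'.symm θ))))
        have : g.symm.toAlgHom = g'.symm.toAlgHom :=
          algHom_ext_prim hθ hθ'
        exact AlgEquiv.symm_bijective.1 (AlgEquiv.ext fun y => DFunLike.congr_fun this y)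
      have h0 : ∏ g, π (d g) = 0 := by rw [← map_prod, hprod, map_zero]
      obtain ⟨g, -, hg⟩ := Finset.prod_eq_zero_iff.1 h0
      refine ⟨g, ⟨x, ?_⟩, rfl⟩
      change x ∈ T.left.basicOpen _
      rw [Scheme.mem_basicOpen_top]
      have : π (∏ g' ∈ Finset.univ.erase g, d g') ≠ 0 := by
        rw [map_prod, Finset.prod_ne_zero_iff]
        exact fun g' hg' e => (Finset.mem_erase.1 hg').1 (hd g' g e hg)
      by_contra hu
      exact this ((IsLocalRing.residue_eq_zero_iff _).2 ((IsLocalRing.mem_maximalIdeal _).2 hu))
    · obtain ⟨V, h', f', ⟨g⟩, rfl⟩ := hf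
      refine ⟨g, ?_⟩
      have key : openIncl T (D g) ≫ l ≫ (fieldAct k L sk g).hom = openIncl T (D g) ≫ l' := by
        refine Over.OverMorphism.ext ((ΓSpec.adjunction.homEquiv _ (Opposite.op (CommRingCat.of L))).symm.injective ?_)
        have hn : ∀ q : T.left ⟶ Spec (CommRingCat.of L),
            (ΓSpec.adjunction.homEquiv _ (Opposite.op (CommRingCat.of L))).symm ((D g).ι ≫ q) =
              (((ΓSpec.adjunction.homEquiv _ (Opposite.op (CommRingCat.of L))).symm q).unop ≫
                (D g).ι.appTop).op := fun q =>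
          ΓSpec.adjunction.homEquiv_naturality_left_symm (D g).ι q
        change (ΓSpec.adjunction.homEquiv _ (Opposite.op (CommRingCat.of L))).symm
            ((D g).ι ≫ (l.left ≫ Spec.map (CommRingCat.ofHom g.symm.toAlgHom.toRingHom))) =
          (ΓSpec.adjunction.homEquiv _ (Opposite.op (CommRingCat.of L))).symm ((D g).ι ≫ l'.left)
        rw [hn, hn]
        refine congrArg Quiver.Hom.op ?_
        have e1 : ((ΓSpec.adjunction.homEquiv _ (Opposite.op (CommRingCat.of L))).symm
            (l.left ≫ Spec.map (CommRingCat.ofHom g.symm.toAlgHom.toRingHom))).unop =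
            CommRingCat.ofHom g.symm.toAlgHom.toRingHom ≫ CommRingCat.ofHom (ev l) :=
          congrArg Quiver.Hom.unop
            (ΓSpec.adjunction.homEquiv_naturality_right_symm l.left (CommRingCat.ofHom g.symm.toAlgHom.toRingHom).op)
        rw [e1]
        let r : A →+* Γ((D g).toScheme, ⊤) := (D g).ι.appTop.hom
        let _ : Algebra k Γ((D g).toScheme, ⊤) := (r.comp ((ev l).comp (algebraMap k L))).toAlgebra
        let p₁ : L →ₐ[k] Γ((D g).toScheme, ⊤) :=
          { r.comp ((ev l).comp g.symm.toAlgHom.toRingHom) with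
            commutes' := fun c => congrArg (fun y => r (ev l y)) (g.symm.toAlgHom.commutes c) }
        let p₂ : L →ₐ[k] Γ((D g).toScheme, ⊤) :=
          { r.comp (ev l') with commutes' := fun c => congrArg r (hbase c).symm }
        have hθ'' : p₁ θ = p₂ θ := by
          have hu : IsUnit (r (∏ g' ∈ Finset.univ.erase g, d g')) := by
            have hh := T.left.toRingedSpace.isUnit_res_basicOpen (∏ g' ∈ Finset.univ.erase g, d g')
            have hle : (D g).ι ''ᵁ ⊤ ≤ T.left.basicOpen (∏ g' ∈ Finset.univ.erase g, d g') :=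
              (Scheme.Opens.ι_image_top (D g)).le
            have e : (D g).ι.appTop =
                T.left.presheaf.map (homOfLE (T.left.basicOpen_le _)).op ≫ T.left.presheaf.map (homOfLE hle).op := by
              rw [← Functor.map_comp]
              rfl
            have e' := congrArg (fun φ => φ.hom (∏ g' ∈ Finset.univ.erase g, d g')) e
            change IsUnit ((D g).ι.appTop.hom _)
            rw [e']
            exact hh.map (T.left.presheaf.map (homOfLE hle).op).hom
          have hz : r (∏ g' ∈ Finset.univ.erase g, d g') * r (d g) = 0 := by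
            rw [← map_mul, Finset.prod_erase_mul _ _ (Finset.mem_univ g), hprod, map_zero]
          have := hu.mul_right_eq_zero.1 hz
          simp only [d, map_sub, sub_eq_zero] at this
          exact this.symm
        have hp : p₁ = p₂ :=
          algHom_ext_prim hθ hθ''
        exact CommRingCat.hom_ext (RingHom.ext fun y => DFunLike.congr_fun hp y)
      simp only [Category.assoc]
      rw [key]

end Field

end Groth.Agent.AlgSt88
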