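import Groth.Agent.Fib44.Glue
import Mathlib.CategoryTheory.Endomorphism

/-!
Descent of objects and morphisms of a stack along a cover with a free group action.
-/

set_option autoImplicit false
set_option backward.isDefEq.respectTransparency false
set_option backward.isDefEq.respectTransparency.types false

universe w v₂ u₂ v u

open CategoryTheory CategoryTheory.Functor

namespace Groth.Agent.AlgSt88

variable {C : Type u} [Category.{v} C] {J : GrothendieckTopology C} {C' Z : C} {m : C' ⟶ Z}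
  {Γ : Type w} [Group Γ] {ρ : Γ →* Aut C'}

/-- The sieve generated by a morphism. -/
abbrev oneSieve (m : C' ⟶ Z) : Sieve Z := Sieve.generate (Presieve.singleton m)

/-- A cover which is a quotient by a free action, up to refinement by coverings. -/
structure GalCover (J : GrothendieckTopology C) (m : C' ⟶ Z) (ρ : Γ →* Aut C') : Prop where
  cover : oneSieve m ∈ J Z
  inv : ∀ g, (ρ g).hom ≫ m = m
  pairs : ∀ ⦃T : C⦄ (l l' : T ⟶ C'), l ≫ m = l' ≫ m →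
    ∃ Q ∈ J T, ∀ ⦃T' : C⦄ (f : T' ⟶ T), Q f → ∃ g, f ≫ l ≫ (ρ g).hom = f ≫ l'
  free : ∀ ⦃T : C⦄ (l : T ⟶ C') (g : Γ), g ≠ 1 → l ≫ (ρ g).hom = l → (⊥ : Sieve T) ∈ J T

theorem hom_mul (ρ : Γ →* Aut C') (g h : Γ) : (ρ h).hom ≫ (ρ g).hom = (ρ (g * h)).hom := by
  rw [map_mul, Aut.Aut_mul_def]; rfl

theorem hom_one (ρ : Γ →* Aut C') : (ρ 1).hom = 𝟙 C' := by rw [map_one]; rfl

variable {𝒳 : BasedCategory.{v₂, u₂} C}

/-- Morphisms agreeing on a covering are equal. -/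
theorem hom_ext_local (hst : Stk.IsStack J 𝒳) {T S' : C} {z w : 𝒳.obj} (f : T ⟶ S') (a b : z ⟶ w)
    [𝒳.p.IsHomLift f a] [𝒳.p.IsHomLift f b] {Q : Sieve T} (hQ : Q ∈ J T)
    (h : ∀ ⦃T' : C⦄ (g : T' ⟶ T) (z' : 𝒳.obj) (ψ : z' ⟶ z), Q g → 𝒳.p.IsHomLift g ψ → ψ ≫ a = ψ ≫ b) :
    a = b := by
  obtain ⟨hg, hglue⟩ := Fib44.isStack_iff.1 hst
  refine Fib44.hom_ext_of_lifts hg (hglue Q hQ).1 (IsHomLift.domain_eq 𝒳.p f a) f a b fun V g hgQ => ?_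
  obtain ⟨z', ψ, hψ⟩ := Fib44.exists_lift' 𝒳.p hg (IsHomLift.domain_eq 𝒳.p f a) g
  exact ⟨z', ψ, hψ, h g z' ψ hgQ hψ⟩

variable (𝒳 ρ) in
/-- An object over the cover with a compatible action. -/
structure GalDatum where
  obj : 𝒳.obj
  act : Γ → (obj ⟶ obj)
  lift : ∀ g, 𝒳.p.IsHomLift (ρ g).hom (act g)
  mul : ∀ g h, act h ≫ act g = act (g * h)

namespace GalDatum

variable (D : GalDatum ρ 𝒳)

theorem act_one (hst : Stk.IsStack J 𝒳) : D.act 1 = 𝟙 _ := by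
  obtain ⟨hg, -⟩ := Fib44.isStack_iff.1 hst
  have h := D.lift 1
  rw [hom_one] at h
  have := Fib44.isIso_of_fibGrpd 𝒳.p hg (𝟙 C') (D.act 1)
  rw [← cancel_epi (D.act 1), D.mul, one_mul, Category.comp_id]

/-- Two morphisms to the datum differ locally by the action. -/
def Compat {T : C} {z : 𝒳.obj} (l : T ⟶ C') (ψ : z ⟶ D.obj) (l' : T ⟶ C') (ψ' : z ⟶ D.obj) : Prop :=
  ∀ ⦃T' : C⦄ (f : T' ⟶ T) (z' : 𝒳.obj) (φ : z' ⟶ z) (g : Γ), 𝒳.p.IsHomLift f φ →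
    f ≫ l ≫ (ρ g).hom = f ≫ l' → φ ≫ ψ' = φ ≫ ψ ≫ D.act g

variable {D}
variable (hst : Stk.IsStack J 𝒳) (hm : GalCover J m ρ)
include hst hm

theorem indep {T : C} {z : 𝒳.obj} (l : T ⟶ C') (ψ : z ⟶ D.obj) [𝒳.p.IsHomLift l ψ] {g g' : Γ}
    (e : l ≫ (ρ g).hom = l ≫ (ρ g').hom) : ψ ≫ D.act g = ψ ≫ D.act g' := by
  by_cases hgg : g = g'
  · rw [hgg]
  have := D.lift g
  have := D.lift g'
  have h₁ : 𝒳.p.IsHomLift (l ≫ (ρ g).hom) (ψ ≫ D.act g) := inferInstance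
  have h₂ : 𝒳.p.IsHomLift (l ≫ (ρ g).hom) (ψ ≫ D.act g') := e.symm ▸ inferInstance
  refine hom_ext_local hst (l ≫ (ρ g).hom) _ _ (hm.free (l ≫ (ρ g').hom) (g * g'⁻¹) ?_ ?_) ?_
  · exact fun h => hgg (mul_inv_eq_one.1 h)
  · rw [Category.assoc, hom_mul, inv_mul_cancel_right, e]
  · exact fun T' f z' φ hf _ => (hf : False).elim

theorem compat_refl {T : C} {z : 𝒳.obj} (l : T ⟶ C') (ψ : z ⟶ D.obj) [𝒳.p.IsHomLift l ψ] :
    D.Compat l ψ l ψ := fun T' f z' φ g hφ e => by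
  have e' : (f ≫ l) ≫ (ρ 1).hom = (f ≫ l) ≫ (ρ g).hom := by
    rw [hom_one, Category.comp_id, Category.assoc, e]
  have := indep hst hm (D := D) (f ≫ l) (φ ≫ ψ) e'
  rwa [act_one D hst, Category.comp_id, Category.assoc] at this

theorem existsUnique_compat {T : C} {z : 𝒳.obj} (l : T ⟶ C') (ψ : z ⟶ D.obj) [𝒳.p.IsHomLift l ψ]
    (l' : T ⟶ C') (h : l ≫ m = l' ≫ m) :
    ∃! ψ' : z ⟶ D.obj, 𝒳.p.IsHomLift l' ψ' ∧ D.Compat l ψ l' ψ' := by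
  obtain ⟨Q, hQ, hQg⟩ := hm.pairs l l' h
  obtain ⟨hg, hglue⟩ := Fib44.isStack_iff.1 hst
  have hz : 𝒳.p.obj z = T := IsHomLift.domain_eq 𝒳.p l ψ
  have hX : 𝒳.p.obj D.obj = C' := IsHomLift.codomain_eq 𝒳.p l ψ
  obtain ⟨z₁, ψ₁, hψ₁⟩ := Fib44.exists_lift' 𝒳.p hg hX l'
  have := Fib44.isSC_of_fibGrpd 𝒳.p hg l' ψ₁
  have hex : ∀ ⦃z' : 𝒳.obj⦄ (φ : z' ⟶ z) (_ : Q (𝒳.p.map φ ≫ eqToHom hz)),
      ∃ θ : z' ⟶ z₁, 𝒳.p.IsHomLift (𝒳.p.map φ ≫ eqToHom hz) θ ∧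
        ∀ g, (𝒳.p.map φ ≫ eqToHom hz) ≫ l ≫ (ρ g).hom = (𝒳.p.map φ ≫ eqToHom hz) ≫ l' →
          θ ≫ ψ₁ = φ ≫ ψ ≫ D.act g := fun z' φ hφ => by
    let f := 𝒳.p.map φ ≫ eqToHom hz
    obtain ⟨g, hgf⟩ := hQg f hφ
    have : 𝒳.p.IsHomLift f φ := IsHomLift.of_fac' 𝒳.p _ φ rfl hz (by simp [f])
    have := D.lift g
    have hh : 𝒳.p.IsHomLift (f ≫ l') (φ ≫ ψ ≫ D.act g) := by
      rw [← hgf]; infer_instance
    refine ⟨IsStronglyCartesian.map 𝒳.p l' ψ₁ (g := f) rfl (φ ≫ ψ ≫ D.act g),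
      IsStronglyCartesian.map_isHomLift 𝒳.p l' ψ₁ (g := f) rfl (φ ≫ ψ ≫ D.act g), fun g' hg' => ?_⟩
    rw [IsStronglyCartesian.fac 𝒳.p l' ψ₁ (g := f) rfl (φ ≫ ψ ≫ D.act g)]
    have e0 : f ≫ l ≫ (ρ g).hom = f ≫ l ≫ (ρ g').hom := hgf.trans hg'.symm
    have e := indep hst hm (D := D) (f ≫ l) (φ ≫ ψ) (g := g) (g' := g') (by simpa only [Category.assoc, f] using e0)
    simpa only [Category.assoc] using e
  choose θ hθ hθf using hex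
  have hz₁ : 𝒳.p.obj z₁ = T := IsHomLift.domain_eq 𝒳.p l' ψ₁
  obtain ⟨k, ⟨hk, hkf⟩, -⟩ := (hglue Q hQ).1 hz hz₁ θ hθ fun z'' z' t φ h' h'' => by
    have := hθ φ h'
    have := hθ (t ≫ φ) h''
    obtain ⟨g, hgf⟩ := hQg _ h'
    have hw : 𝒳.p.map (t ≫ φ) ≫ eqToHom hz = 𝒳.p.map t ≫ 𝒳.p.map φ ≫ eqToHom hz := by simp
    have : 𝒳.p.IsHomLift (𝒳.p.map (t ≫ φ) ≫ eqToHom hz) (t ≫ θ φ h') := by
      rw [hw]
      have : 𝒳.p.IsHomLift (𝒳.p.map t) t := IsHomLift.map 𝒳.p t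
      infer_instance
    apply IsStronglyCartesian.ext 𝒳.p l' ψ₁ (𝒳.p.map (t ≫ φ) ≫ eqToHom hz)
    rw [Category.assoc, hθf φ h' g hgf, hθf (t ≫ φ) h'' g (by rw [hw]; simp only [Category.assoc] at hgf ⊢; rw [hgf]),
      Category.assoc]
  have hk' : 𝒳.p.IsHomLift l' (k ≫ ψ₁) := by
    have : 𝒳.p.IsHomLift (𝟙 T ≫ l') (k ≫ ψ₁) := inferInstance
    simpa using this
  have hc : D.Compat l ψ l' (k ≫ ψ₁) := fun T' f z' φ g hφ e => by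
    have := D.lift g
    have h₁ : 𝒳.p.IsHomLift (f ≫ l') (φ ≫ k ≫ ψ₁) := inferInstance
    have h₂ : 𝒳.p.IsHomLift (f ≫ l') (φ ≫ ψ ≫ D.act g) := by rw [← e]; infer_instance
    refine hom_ext_local hst (f ≫ l') _ _ (J.pullback_stable f hQ) fun T'' f' z'' φ' hf' hφ' => ?_
    have e' : 𝒳.p.map (φ' ≫ φ) ≫ eqToHom hz = eqToHom (IsHomLift.domain_eq 𝒳.p f' φ') ≫ f' ≫ f := by
      have : 𝒳.p.IsHomLift (f' ≫ f) (φ' ≫ φ) := inferInstance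
      rw [IsHomLift.fac' 𝒳.p (f' ≫ f) (φ' ≫ φ)]
      simp
    have hQ' : Q (𝒳.p.map (φ' ≫ φ) ≫ eqToHom hz) := by
      rw [e']; exact Q.downward_closed hf' _
    rw [← Category.assoc φ', ← Category.assoc (φ' ≫ φ), hkf (φ' ≫ φ) hQ', hθf (φ' ≫ φ) hQ' g, Category.assoc]
    rw [e']
    simp only [Category.assoc, e]
  refine ⟨k ≫ ψ₁, ⟨hk', hc⟩, fun ψ' ⟨hψ', hc'⟩ => ?_⟩
  refine hom_ext_local hst l' _ _ hQ fun T' f z' φ hf hφ => ?_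
  obtain ⟨g, hgf⟩ := hQg f hf
  rw [hc' f z' φ g hφ hgf, hc f z' φ g hφ hgf]

theorem compat_unique {T : C} {z : 𝒳.obj} (l : T ⟶ C') (ψ : z ⟶ D.obj) [𝒳.p.IsHomLift l ψ]
    (l' : T ⟶ C') (h : l ≫ m = l' ≫ m) {a b : z ⟶ D.obj} (ha : 𝒳.p.IsHomLift l' a) (hb : 𝒳.p.IsHomLift l' b)
    (ca : D.Compat l ψ l' a) (cb : D.Compat l ψ l' b) : a = b :=
  (existsUnique_compat hst hm l ψ l' h).unique ⟨ha, ca⟩ ⟨hb, cb⟩

theorem compat_trans {T : C} {z : 𝒳.obj} {l₁ l₂ l₃ : T ⟶ C'} {ψ₁ ψ₂ ψ₃ : z ⟶ D.obj}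
    [𝒳.p.IsHomLift l₁ ψ₁] [𝒳.p.IsHomLift l₃ ψ₃] (h : l₁ ≫ m = l₂ ≫ m)
    (c : D.Compat l₁ ψ₁ l₂ ψ₂) (c' : D.Compat l₂ ψ₂ l₃ ψ₃) : D.Compat l₁ ψ₁ l₃ ψ₃ := by
  intro T' f z' φ g hφ e
  obtain ⟨Q, hQ, hQg⟩ := hm.pairs l₁ l₂ h
  have := D.lift g
  have h₁ : 𝒳.p.IsHomLift (f ≫ l₃) (φ ≫ ψ₃) := inferInstance
  have h₂ : 𝒳.p.IsHomLift (f ≫ l₃) (φ ≫ ψ₁ ≫ D.act g) := by rw [← e]; infer_instance
  refine hom_ext_local hst (f ≫ l₃) _ _ (J.pullback_stable f hQ) fun T'' f' z'' φ' hf' hφ' => ?_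
  obtain ⟨a, ha⟩ := hQg (f' ≫ f) hf'
  have hl : 𝒳.p.IsHomLift (f' ≫ f) (φ' ≫ φ) := inferInstance
  have e₂ : (f' ≫ f) ≫ l₂ ≫ (ρ (g * a⁻¹)).hom = (f' ≫ f) ≫ l₃ := by
    rw [← Category.assoc (f' ≫ f) l₂, ← ha, Category.assoc, Category.assoc l₁, hom_mul, inv_mul_cancel_right,
      Category.assoc f', e]
    simp only [Category.assoc]
  have h₃ := c' (f' ≫ f) z'' (φ' ≫ φ) (g * a⁻¹) hl e₂
  have h₄ := c (f' ≫ f) z'' (φ' ≫ φ) a hl ha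
  simp only [← Category.assoc] at h₃ h₄ ⊢
  rw [h₃, h₄, Category.assoc _ (D.act a), D.mul, inv_mul_cancel_right]

omit hst hm in
theorem compat_restrict {T T₁ : C} {z z₁ : 𝒳.obj} {l l' : T ⟶ C'} {ψ ψ' : z ⟶ D.obj} (t : T₁ ⟶ T) (χ : z₁ ⟶ z)
    [𝒳.p.IsHomLift t χ] (c : D.Compat l ψ l' ψ') : D.Compat (t ≫ l) (χ ≫ ψ) (t ≫ l') (χ ≫ ψ') := by
  intro T' f z' φ g hφ e
  have := c (f ≫ t) z' (φ ≫ χ) g inferInstance (by simpa only [Category.assoc] using e)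
  simpa only [Category.assoc] using this

/-- Translates by the action are compatible. -/
theorem compat_act {T : C} {z : 𝒳.obj} (l : T ⟶ C') (ψ : z ⟶ D.obj) [𝒳.p.IsHomLift l ψ] (g : Γ) :
    D.Compat l ψ (l ≫ (ρ g).hom) (ψ ≫ D.act g) := fun T' f z' φ g' hφ e => by
  have h := indep hst hm (D := D) (f ≫ l) (φ ≫ ψ) (g := g) (g' := g')
    (by simpa only [Category.assoc] using e.symm)
  simpa only [Category.assoc] using h

/-- Descent of objects. -/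
theorem exists_descent (hX : 𝒳.p.obj D.obj = C') :
    ∃ (x : 𝒳.obj) (e : D.obj ⟶ x), 𝒳.p.IsHomLift m e ∧ ∀ g, D.act g ≫ e = e := by
  obtain ⟨hg, hglue⟩ := Fib44.isStack_iff.1 hst
  let R := oneSieve m
  have hR : ∀ a : R.arrows.category, ∃ l : a.obj.left ⟶ C', l ≫ m = a.obj.hom := fun a => by
    obtain ⟨W, l, f', hf', e⟩ := a.property
    cases hf'
    exact ⟨l, e⟩
  choose L hL using hR
  have hz := fun a => Fib44.exists_lift' 𝒳.p hg hX (L a)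
  choose G Ψ hΨ using hz
  have hmap : ∀ {a b : R.arrows.category} (t : a ⟶ b), ∃ χ : G a ⟶ G b, 𝒳.p.IsHomLift t.hom.left χ ∧
      D.Compat (L a) (Ψ a) (t.hom.left ≫ L b) (χ ≫ Ψ b) := fun {a b} t => by
    have := hΨ a
    have := hΨ b
    have := Fib44.isSC_of_fibGrpd 𝒳.p hg (L b) (Ψ b)
    obtain ⟨ψ', ⟨hψ', hc⟩, -⟩ := existsUnique_compat hst hm (D := D) (L a) (Ψ a) (t.hom.left ≫ L b)
      (by rw [Category.assoc, hL, hL]; exact (Over.w t.hom).symm)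
    refine ⟨IsStronglyCartesian.map 𝒳.p (L b) (Ψ b) (g := t.hom.left) rfl ψ',
      IsStronglyCartesian.map_isHomLift 𝒳.p (L b) (Ψ b) (g := t.hom.left) rfl ψ', ?_⟩
    rw [IsStronglyCartesian.fac 𝒳.p (L b) (Ψ b) (g := t.hom.left) rfl ψ']
    exact hc
  choose M hM hMc using @hmap
  have muniq : ∀ {a b : R.arrows.category} (t : a ⟶ b) (χ : G a ⟶ G b), 𝒳.p.IsHomLift t.hom.left χ →
      D.Compat (L a) (Ψ a) (t.hom.left ≫ L b) (χ ≫ Ψ b) → χ = M t := fun {a b} t χ hχ hc => by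
    have := hΨ a
    have := hΨ b
    have := hM t
    have := Fib44.isSC_of_fibGrpd 𝒳.p hg (L b) (Ψ b)
    apply IsStronglyCartesian.ext 𝒳.p (L b) (Ψ b) t.hom.left
    exact compat_unique hst hm (L a) (Ψ a) _ (by rw [Category.assoc, hL, hL]; exact (Over.w t.hom).symm)
      inferInstance inferInstance hc (hMc t)
  have hobj : ∀ a, 𝒳.p.obj (G a) = a.obj.left := fun a => have := hΨ a; IsHomLift.domain_eq 𝒳.p (L a) (Ψ a)
  let F : Stk.sieveCat R ⥤ᵇ 𝒳 :=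
    { obj := G
      map := fun f => M f
      map_id := fun a => (muniq (𝟙 a) (𝟙 (G a)) (IsHomLift.id (hobj a)) (by
        have := hΨ a
        have h := compat_refl hst hm (D := D) (L a) (Ψ a)
        show D.Compat (L a) (Ψ a) (𝟙 a.obj.left ≫ L a) (𝟙 (G a) ≫ Ψ a)
        rwa [Category.id_comp, Category.id_comp])).symm
      map_comp := fun {a b c} f g => (muniq (f ≫ g) (M f ≫ M g)
        (by
          have := hM f
          have := hM g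
          exact inferInstanceAs (𝒳.p.IsHomLift (f.hom.left ≫ g.hom.left) (M f ≫ M g))) (by
          have := hΨ a
          have := hΨ b
          have := hΨ c
          have := hM f
          have := hM g
          show D.Compat (L a) (Ψ a) ((f.hom.left ≫ g.hom.left) ≫ L c) ((M f ≫ M g) ≫ Ψ c)
          rw [Category.assoc, Category.assoc]
          exact compat_trans hst hm (by rw [Category.assoc, hL, hL]; exact (Over.w f.hom).symm)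
            (hMc f) (compat_restrict f.hom.left (M f) (hMc g)))).symm
      w := CategoryTheory.Functor.ext hobj fun a b f => by
        have := hM f
        exact IsHomLift.fac' 𝒳.p f.hom.left (M f) }
  obtain ⟨x, γ, hγ⟩ := (hglue R hm.cover).2 F
  let a₀ : R.arrows.category := Fib44.sObj R m ⟨C', 𝟙 _, m, ⟨⟩, Category.id_comp m⟩
  have := hΨ a₀
  have hL₀ : L a₀ ≫ m = 𝟙 C' ≫ m := (hL a₀).trans (Category.id_comp m).symm
  obtain ⟨ψ₁, ⟨hψ₁, hc₁⟩, -⟩ := existsUnique_compat hst hm (D := D) (L a₀) (Ψ a₀) (𝟙 C') hL₀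
  have := Fib44.isIso_of_fibGrpd 𝒳.p hg (𝟙 C') ψ₁
  have : 𝒳.p.IsHomLift m (γ a₀) := hγ.lift a₀
  refine ⟨x, inv ψ₁ ≫ γ a₀, ?_, fun g => ?_⟩
  · have : 𝒳.p.IsHomLift (𝟙 C') (inv ψ₁) := inferInstance
    have h : 𝒳.p.IsHomLift (𝟙 C' ≫ m) (inv ψ₁ ≫ γ a₀) := inferInstance
    simpa using h
  let t : a₀ ⟶ a₀ := Fib44.sHom R (ρ g).hom (hm.inv g)
  have : 𝒳.p.IsHomLift (ρ g).hom (M t) := hM t
  have := D.lift g
  have h₁ : 𝒳.p.IsHomLift (ρ g).hom (M t ≫ ψ₁) := by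
    have : 𝒳.p.IsHomLift ((ρ g).hom ≫ 𝟙 C') (M t ≫ ψ₁) := inferInstance
    simpa using this
  have h₂ : 𝒳.p.IsHomLift (ρ g).hom (ψ₁ ≫ D.act g) := by
    have : 𝒳.p.IsHomLift (𝟙 C' ≫ (ρ g).hom) (ψ₁ ≫ D.act g) := inferInstance
    simpa using this
  have key : M t ≫ ψ₁ = ψ₁ ≫ D.act g := by
    refine compat_unique hst hm (L a₀) (Ψ a₀) (ρ g).hom ?_ h₁ h₂ ?_ ?_
    · rw [hm.inv]; exact hL a₀
    · have hc := compat_restrict (ρ g).hom (M t) hc₁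
      rw [Category.comp_id] at hc
      exact compat_trans hst hm (by rw [Category.assoc, hL]; exact (hm.inv g).symm) (hMc t) hc
    · have hc := compat_act hst hm (D := D) (𝟙 C') ψ₁ g
      rw [Category.id_comp] at hc
      exact compat_trans hst hm hL₀ hc₁ hc
  have e : D.act g ≫ inv ψ₁ = inv ψ₁ ≫ M t := by
    rw [IsIso.comp_inv_eq, Category.assoc, key, IsIso.inv_hom_id_assoc]
  rw [← Category.assoc, e, Category.assoc]
  exact congrArg (inv ψ₁ ≫ ·) (hγ.nat t)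

/-- Descent of morphisms. -/
theorem exists_hom_descent {x y : 𝒳.obj} (e : D.obj ⟶ x) [𝒳.p.IsHomLift m e] (e' : D.obj ⟶ y)
    [𝒳.p.IsHomLift m e'] (he : ∀ g, D.act g ≫ e = e) (he' : ∀ g, D.act g ≫ e' = e') :
    ∃ k : x ⟶ y, 𝒳.p.IsHomLift (𝟙 Z) k ∧ e ≫ k = e' := by
  obtain ⟨hg, hglue⟩ := Fib44.isStack_iff.1 hst
  have hx : 𝒳.p.obj x = Z := IsHomLift.codomain_eq 𝒳.p m e
  have hy : 𝒳.p.obj y = Z := IsHomLift.codomain_eq 𝒳.p m e'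
  have := Fib44.isSC_of_fibGrpd 𝒳.p hg m e
  have hind : ∀ {T : C} {z : 𝒳.obj} (l l' : T ⟶ C') (a b : z ⟶ D.obj), 𝒳.p.IsHomLift l a →
      𝒳.p.IsHomLift l' b → a ≫ e = b ≫ e → a ≫ e' = b ≫ e' := fun {T z} l l' a b ha hb hab => by
    have h : l ≫ m = l' ≫ m :=
      (IsHomLift.fac 𝒳.p (l ≫ m) (a ≫ e)).trans (by
        rw [IsHomLift.fac 𝒳.p (l' ≫ m) (b ≫ e)]
        simp only [hab])
    obtain ⟨Q, hQ, hQg⟩ := hm.pairs l l' h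
    have h₁ : 𝒳.p.IsHomLift (l ≫ m) (a ≫ e') := inferInstance
    have h₂ : 𝒳.p.IsHomLift (l ≫ m) (b ≫ e') := h.symm ▸ inferInstance
    refine hom_ext_local hst (l ≫ m) _ _ hQ fun T' f z' φ hf hφ => ?_
    obtain ⟨g, hgf⟩ := hQg f hf
    have := D.lift g
    have : 𝒳.p.IsHomLift (f ≫ l') (φ ≫ a ≫ D.act g) := by rw [← hgf]; infer_instance
    have heq : φ ≫ b = φ ≫ a ≫ D.act g := by
      apply IsStronglyCartesian.ext 𝒳.p m e (f ≫ l')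
      simp only [Category.assoc, he, hab]
    rw [← Category.assoc φ b, heq, Category.assoc, Category.assoc, he']
  have hex : ∀ ⦃z : 𝒳.obj⦄ (φ : z ⟶ x) (_ : oneSieve m (𝒳.p.map φ ≫ eqToHom hx)),
      ∃ (l : 𝒳.p.obj z ⟶ C') (a : z ⟶ D.obj), 𝒳.p.IsHomLift l a ∧ a ≫ e = φ ∧
        l ≫ m = 𝒳.p.map φ ≫ eqToHom hx := fun z φ hφ => by
    obtain ⟨W, l, f', hf', hl⟩ := hφ
    cases hf'
    have : 𝒳.p.IsHomLift (l ≫ m) φ := IsHomLift.of_fac' 𝒳.p _ φ rfl hx (by simp [hl])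
    exact ⟨l, IsStronglyCartesian.map 𝒳.p m e (g := l) rfl φ,
      IsStronglyCartesian.map_isHomLift 𝒳.p m e (g := l) rfl φ,
      IsStronglyCartesian.fac 𝒳.p m e (g := l) rfl φ, hl⟩
  choose l a hl hae hlm using hex
  obtain ⟨k, ⟨hk, hkf⟩, -⟩ := (hglue _ hm.cover).1 hx hy (fun z φ h => a φ h ≫ e')
    (fun z φ h => by
      have := hl φ h
      rw [← hlm φ h]; infer_instance)
    (fun z' z t φ h h' => by
      have := hl φ h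
      have : 𝒳.p.IsHomLift (𝒳.p.map t) t := IsHomLift.map 𝒳.p t
      rw [← Category.assoc]
      exact hind (l (t ≫ φ) h') (𝒳.p.map t ≫ l φ h) _ _ (hl _ h') inferInstance
        (by rw [hae, Category.assoc, hae]))
  refine ⟨k, hk, ?_⟩
  have hm' : oneSieve m (𝒳.p.map e ≫ eqToHom hx) := by
    refine ⟨C', eqToHom (IsHomLift.domain_eq 𝒳.p m e), m, ⟨⟩, ?_⟩
    rw [IsHomLift.fac' 𝒳.p m e]; simp
  rw [hkf e hm']
  have h1 : 𝒳.p.IsHomLift (eqToHom (IsHomLift.domain_eq 𝒳.p m e)) (𝟙 D.obj) :=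
    IsHomLift.id_lift_eqToHom_codomain (p := 𝒳.p) (IsHomLift.domain_eq 𝒳.p m e) (IsHomLift.domain_eq 𝒳.p m e)
  exact (hind (l e hm') (eqToHom (IsHomLift.domain_eq 𝒳.p m e)) _ _ (hl e hm') h1
    (by rw [hae, Category.id_comp])).trans (Category.id_comp e')

end GalDatum

end Groth.Agent.AlgSt88
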