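import Groth.Agent.Fin57.GenericFinite
import Groth.Agent.S0414
import Groth.Agent.Unr55.UnrQF
import Mathlib.AlgebraicGeometry.Morphisms.FormallyUnramified
import Mathlib.AlgebraicGeometry.Morphisms.Etale
import Mathlib.AlgebraicGeometry.Morphisms.QuasiFinite
import Mathlib.AlgebraicGeometry.Noetherian

/-! An affine unramified morphism of finite type is finite étale over a nonempty open of a reduced base. -/

set_option autoImplicit false
set_option linter.style.haveILetI false
set_option backward.isDefEq.respectTransparency false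
set_option backward.isDefEq.respectTransparency.types false
universe u

open CategoryTheory CategoryTheory.Limits AlgebraicGeometry

namespace Groth.Agent.AlgSt88

theorem exists_open_finite_etale {I A : Scheme.{u}} (g : I ⟶ A) [IsAffine A] [IsReduced A] [Nonempty ↥A]
    [IsAffineHom g] [LocallyOfFiniteType g] [FormallyUnramified g] :
    ∃ D : A.Opens, (D : Set ↥A).Nonempty ∧ IsFinite (g ∣_ D) ∧ Etale (g ∣_ D) := by
  obtain ⟨U, hU, hfl, hfp⟩ := Groth.Agent.S0414.result g
  haveI := Unr55.locallyQuasiFinite_of_formallyUnramified g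
  obtain ⟨t⟩ : Nonempty ↥A := inferInstance
  obtain ⟨η, hη⟩ := QuasiSober.sober (isIrreducible_irreducibleComponent (x := t))
    (isClosed_irreducibleComponent (x := t))
  have hmax : Norm57.IsMax' η := by
    rw [Norm57.isMax'_iff, show closure ({η} : Set ↥A) = irreducibleComponent t from hη]
    exact irreducibleComponent_mem_irreducibleComponents t
  have htop : IsAffineOpen (⊤ : I.Opens) := by
    haveI := isAffine_of_isAffineHom g
    exact isAffineOpen_top I
  obtain ⟨D, -, hηD, -, -, hfin⟩ := Fin57.exists_isFinite_restrict g hmax (g.finite_preimage_singleton η)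
    (isAffineOpen_top A) (show η ∈ (⊤ : A.Opens) from trivial) htop le_top (Set.subset_univ _)
  haveI := hfin
  let D' := D ⊓ U
  haveI := hfl
  haveI := hfp
  have h1 : IsFinite (g ∣_ D') := by
    have hb : IsPullback (g ⁻¹ᵁ D').ι (g ∣_ D') g D'.ι := (isPullback_morphismRestrict g D').flip
    have hd : IsPullback (g ⁻¹ᵁ D).ι (g ∣_ D) g D.ι := (isPullback_morphismRestrict g D).flip
    have hsq : IsPullback (I.homOfLE (show g ⁻¹ᵁ D' ≤ g ⁻¹ᵁ D from fun x hx => hx.1)) (g ∣_ D') (g ∣_ D)
        (A.homOfLE (show D' ≤ D from inf_le_left)) := by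
      refine IsPullback.of_right ?_ ?_ hd
      · rw [Scheme.homOfLE_ι, Scheme.homOfLE_ι]; exact hb
      · rw [← cancel_mono D.ι, Category.assoc, morphismRestrict_ι, Category.assoc, Scheme.homOfLE_ι,
          morphismRestrict_ι, ← Category.assoc, Scheme.homOfLE_ι]
    exact MorphismProperty.of_isPullback hsq hfin
  have hsqU : IsPullback (I.homOfLE (show g ⁻¹ᵁ D' ≤ g ⁻¹ᵁ U from fun x hx => hx.2)) (g ∣_ D') (g ∣_ U)
      (A.homOfLE (show D' ≤ U from inf_le_right)) := by
    refine IsPullback.of_right ?_ ?_ (isPullback_morphismRestrict g U).flip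
    · rw [Scheme.homOfLE_ι, Scheme.homOfLE_ι]; exact (isPullback_morphismRestrict g D').flip
    · rw [← cancel_mono U.ι, Category.assoc, morphismRestrict_ι, Category.assoc, Scheme.homOfLE_ι,
        morphismRestrict_ι, ← Category.assoc, Scheme.homOfLE_ι]
  haveI : Flat (g ∣_ D') := MorphismProperty.of_isPullback hsqU hfl
  haveI : LocallyOfFinitePresentation (g ∣_ D') := MorphismProperty.of_isPullback hsqU hfp
  haveI : FormallyUnramified (g ∣_ D') :=
    MorphismProperty.of_isPullback (P := @FormallyUnramified) (isPullback_morphismRestrict g D').flip ‹_›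
  refine ⟨D', ?_, h1, Etale.of_formallyUnramified_of_flat _⟩
  obtain ⟨z, hz1, hz2⟩ := hU.inter_open_nonempty (D : Set ↥A) D.2 ⟨η, hηD⟩
  exact ⟨z, hz1, hz2⟩

end Groth.Agent.AlgSt88
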