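import Groth.Agent.AlgSt88.Inertia
import Groth.Agent.AlgSt88.Substack

/-! The inertia of a full substack. -/

set_option autoImplicit false
set_option linter.style.haveILetI false
set_option linter.unusedVariables false
set_option backward.isDefEq.respectTransparency false
set_option backward.isDefEq.respectTransparency.types false
universe u

open CategoryTheory CategoryTheory.Limits AlgebraicGeometry Opposite AlgSt FibCat

namespace Groth.Agent.AlgSt88

variable {S : Scheme.{u}} {𝒳 : AlgSt.Cat S}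

/-- Automorphisms in a full substack are automorphisms in the stack. -/
noncomputable def inertiaSubMap (Q : 𝒳.obj → Prop) :
    inertia (toSelf (fullSub 𝒳 Q)) ⥤ᵇ inertia (toSelf 𝒳) where
  toFunctor :=
    { obj := fun x => ⟨x.pt.obj, (subIncl 𝒳 Q).toFunctor.mapIso x.aut, x.map_aut⟩
      map := fun f => ⟨f.hom.hom, congrArg (fun t => t.hom) f.comm⟩
      map_id := fun x => InertiaObj.hom_ext rfl
      map_comp := fun f g => InertiaObj.hom_ext rfl }
  w := rfl

/-- The inertia of a full substack is the restriction of the inertia. -/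
noncomputable def inertiaSubFp (Q : 𝒳.obj → Prop) :
    inertia (toSelf (fullSub 𝒳 Q)) ⥤ᵇ fp (subIncl 𝒳 Q) (inertiaToBase (toSelf 𝒳)) :=
  fpLift (inertiaToBase (toSelf (fullSub 𝒳 Q))) (inertiaSubMap Q) (Iso.refl _)

theorem isEquivOver_inertiaSubFp (Q : 𝒳.obj → Prop) : IsEquivOver (inertiaSubFp Q) := by
  refine IsEquivData.isEquivOver ⟨fun {x y} f g e => InertiaObj.hom_ext (congrArg (fun t : (inertiaSubFp Q).obj x ⟶ (inertiaSubFp Q).obj y => t.hom.fst) e),
    fun {x y} k => ?_, fun z => ?_⟩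
  · have hw : k.hom.fst.hom ≫ 𝟙 _ = 𝟙 _ ≫ k.hom.snd.hom := k.hom.w
    rw [Category.comp_id, Category.id_comp] at hw
    refine ⟨⟨k.hom.fst, ObjectProperty.hom_ext _ ?_⟩, fpHom_ext rfl (InertiaObj.hom_ext hw)⟩
    change x.aut.hom.hom ≫ k.hom.fst.hom = k.hom.fst.hom ≫ y.aut.hom.hom
    rw [hw]
    exact k.hom.snd.comm
  · let i : z.obj.fst.obj ≅ z.obj.snd.pt := z.obj.iso
    let a : z.obj.fst ≅ z.obj.fst :=
      (ObjectProperty.fullyFaithfulι Q).preimageIso (i ≪≫ z.obj.snd.aut ≪≫ i.symm)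
    have ha : a.hom.hom = i.hom ≫ z.obj.snd.aut.hom ≫ i.inv :=
      (ObjectProperty.fullyFaithfulι Q).map_preimage (X := z.obj.fst) (Y := z.obj.fst) _
    have hmap : (toSelf (fullSub 𝒳 Q)).map a.hom = 𝟙 _ := by
      change 𝒳.p.map a.hom.hom = 𝟙 _
      have h : 𝒳.p.map z.obj.snd.aut.hom = 𝟙 _ := z.obj.snd.map_aut
      rw [ha, Functor.map_comp, Functor.map_comp, h]
      erw [Category.id_comp]
      rw [← Functor.map_comp, Iso.hom_inv_id]
      exact 𝒳.p.map_id _
    let x : InertiaObj (toSelf (fullSub 𝒳 Q)) := ⟨z.obj.fst, a, hmap⟩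
    have hc : a.hom.hom ≫ i.hom = i.hom ≫ z.obj.snd.aut.hom := by
      rw [ha, Category.assoc, Category.assoc, Iso.inv_hom_id, Category.comp_id]
    let e : (inertiaSubMap Q).obj x ≅ z.obj.snd :=
      { hom := ⟨i.hom, hc⟩
        inv := ⟨i.inv, by
          change z.obj.snd.aut.hom ≫ i.inv = i.inv ≫ a.hom.hom
          rw [ha, Iso.inv_hom_id_assoc]⟩
        hom_inv_id := InertiaObj.hom_ext i.hom_inv_id
        inv_hom_id := InertiaObj.hom_ext i.inv_hom_id }
    refine ⟨x, fpObjIso (Iso.refl _) e ?_, fp_isHomLift _ (IsHomLift.id rfl)⟩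
    change (subIncl 𝒳 Q).map (𝟙 _) ≫ i.hom = 𝟙 _ ≫ i.hom
    rw [(subIncl 𝒳 Q).map_id]
    rfl

end Groth.Agent.AlgSt88
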