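import Groth.Agent.AlgSt88.QuotAlg
import Groth.Agent.AlgSt88.DiagCover
import Groth.Agent.AlgSt88.ProdP
import Groth.Agent.SpPts86.AffineDescent
import Groth.Agent.SpPts86.Target
import Groth.Agent.SpPts86.Graph
import Groth.Agent.SpPts86.ImmDescent

/-! Affine diagonals of quotient stacks. -/

set_option autoImplicit false
set_option linter.style.haveILetI false
set_option backward.isDefEq.respectTransparency false
set_option backward.isDefEq.respectTransparency.types false
universe u

open CategoryTheory CategoryTheory.Limits AlgebraicGeometry Opposite AlgSt FibCat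

namespace Groth.Agent.AlgSt88

variable {S : Scheme.{u}} {𝒳 𝒴 : AlgSt.Cat S} {K : Precoverage Scheme.{u}}

/-- Representable with affine fibres. -/
abbrev RepAff : MorphismProperty (AlgSp.Sp S) := AlgSp.RepWith (@IsAffineHom : MorphismProperty Scheme.{u})

/-- The diagonal is representable with affine fibres. -/
abbrev DiagAff : MorphismProperty (AlgSp.Sp S) := MorphismProperty.diagonal RepAff

theorem respectsIso_repAff : (RepAff (S := S)).RespectsIso :=
  (AlgSp.repWith_isStableUnderBaseChange _).respectsIso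

theorem stableBC_repAff : StableBC (RepAff (S := S)) := fun _ _ _ _ _ _ _ _ a b a' b' sq h =>
  (AlgSp.repWith_isStableUnderBaseChange _).of_isPullback sq h

theorem cancels_repAff : CancelsAlong (RepAff (S := S)) DiagAff := fun _ _ _ _ _ _ _ _ hb hab =>
  SpPts86.repWith_of_comp hb hab

theorem isAffineMor_iff_repAff {F G : AlgSp.Sp S} (a : F ⟶ G) : AlgSp.IsAffineMor a ↔ RepAff a :=
  ⟨SpPts86.repWith_of_isAffineMor, SpPts86.isAffineMor_of_repWith⟩

theorem locLift_yon_map {W V : Over S} (p : W ⟶ V) (hp : SpFP87.fppfSurj p.left) :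
    SpFP87.LocLift ((AlgSp.yon S).map p) := by
  intro T g
  obtain ⟨g', rfl⟩ := (AlgSp.yon S).map_surjective g
  have h : IsPullback (pullback.fst p g') (pullback.snd p g') p g' := IsPullback.of_hasPullback p g'
  refine ⟨pullback p g', pullback.snd p g', (AlgSp.yon S).map (pullback.fst p g'), ?_, ?_⟩
  · exact MorphismProperty.of_isPullback (h.map (Over.forget S)) hp
  · rw [← Functor.map_comp, ← Functor.map_comp, h.w]

theorem repAff_descend {I J : AlgSp.Sp S} {W V : Over S} {a : I ⟶ (AlgSp.yon S).obj V} (p : W ⟶ V)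
    (hp : SpFP87.fppfSurj p.left) {fst : J ⟶ I} {snd : J ⟶ (AlgSp.yon S).obj W}
    (sq : IsPullback fst snd a ((AlgSp.yon S).map p)) (h : RepAff snd) : RepAff a := by
  haveI := SpPts86.isAffineHom_descends.{u}
  haveI := SpPts86.isLocalAtTarget_fppf.{u} (@IsAffineHom : MorphismProperty Scheme.{u})
  exact SpPts86.repWith_of_locLift _ (SpPts86.representable_of_locLift (locLift_yon_map p hp) sq h)
    (locLift_yon_map p hp) sq h

/-- An affine property may be checked after a surjective flat cover of the test scheme. -/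
theorem repOver_affine_of_cover (hX : IsFibGrpd 𝒳.p) (hY : IsFibGrpd 𝒴.p) {f : 𝒳 ⥤ᵇ 𝒴} (hf : RepByAlgSp1 f)
    {W V : Over S} (p : W ⟶ V) (hp : SpFP87.fppfSurj p.left) (z : overCat V ⥤ᵇ 𝒴)
    (h : RepOver RepAff (fpFst (BasedFunctor.comp (overMap p) z) f)) :
    RepOver RepAff (fpFst z f) := by
  let GV : AlgSp.Space S := ⟨(AlgSp.yon S).obj V, AlgSp.IsAlgSpace.yon_obj V⟩
  let m : ofSp GV.obj ⥤ᵇ 𝒴 := BasedFunctor.comp (toOverCat V) z
  obtain ⟨I, a, e, he, ⟨α⟩, -⟩ := exists_space_fp hX hY hf GV m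
  haveI := respectsIso_repAff (S := S)
  let ξ := (AlgSp.yon S).map p
  let w' : overCat W ⥤ᵇ ofSp GV.obj := BasedFunctor.comp (ofOverCat W) (ofSpMap ξ)
  obtain ⟨ι⟩ := overMap_iso p
  have h1 : RepOver (RepAff) (fpFst w' (fpFst m f)) :=
    RepOver.transport' h (isEquivOver_comp (isEquivOver_fpPaste w' m f)
      (isEquivOver_fpCongr (F := BasedFunctor.comp w' m) (F' := BasedFunctor.comp (overMap p) z)
        (bRight ι z) (Iso.refl f))) (Iso.refl _)
  have h2 : RepOver (RepAff) (fpFst w' (ofSpMap a)) :=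
    RepOver.transport' h1 (isEquivOver_comp (isEquivOver_fpCongr (F := w') (F' := w') (G := ofSpMap a) (Iso.refl _) α.symm)
      (isEquivOver_fpMapSnd w' (fpFst m f) e he)) (Iso.refl _)
  have sq := IsPullback.of_hasPullback a ξ
  have sq' := sq.map (sheafToPresheaf (QuotSh.J Scheme.fppfPrecoverage S) (Type (u + 1)))
  obtain ⟨e', he', ⟨β⟩⟩ := exists_pullback_equiv a.hom (Iso.refl _) sq'
  have hI'' : RepAff (pullback.snd a ξ) := by
    have := RepOver.any (P := RepAff) (F := pullback a ξ) h2 he'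
    rw [spMapOfOver_eq] at this
    rw [homOfBased_congr (F := pullback a ξ) (G := (AlgSp.yon S).obj W)
      (Φ := BasedFunctor.comp (BasedFunctor.comp e' (fpFst w' (ofSpMap a))) (ofOverCat W))
      (Ψ := ofSpMap (pullback.snd a ξ)) β, homOfBased_ofSpMap] at this
    exact this
  have hPa := repAff_descend p hp sq hI''
  refine ⟨I, BasedFunctor.comp e (fpMapFst z f (toOverCat V)),
    isEquivOver_comp he (isEquivOver_fpMapFst z f _ (isEquivOver_toOverCat V)), ?_⟩
  have hmap : spMapOfOver (BasedFunctor.comp (BasedFunctor.comp e (fpMapFst z f (toOverCat V))) (fpFst z f)) =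
      a ≫ spMapOfOver (toOverCat V) := by
    have h' := spMapOfOver_congr (bRight α (toOverCat V))
    rw [spMapOfOver_comp (ofSpMap a) (toOverCat V), homOfBased_ofSpMap] at h'
    exact h'
  rw [hmap, spMapOfOver_toOverCat V]
  erw [Category.comp_id]
  exact hPa


theorem diagAff_yon_map {X t : Over S} (f : X ⟶ t) (hX : IsAffineHom (pullback.diagonal f.left)) :
    DiagAff ((AlgSp.yon S).map f) := by
  have sqd : IsPullback (pullback.fst f f) (pullback.snd f f) f f := IsPullback.of_hasPullback f f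
  let d : X ⟶ pullback f f := pullback.diagonal f
  have hdl : IsAffineHom d.left := by
    have sql := sqd.map (Over.forget S)
    have : d.left = pullback.diagonal f.left ≫ sql.isoPullback.inv := by
      apply sql.hom_ext
      · rw [Category.assoc]
        erw [sql.isoPullback_inv_fst, pullback.diagonal_fst]
        exact congrArg (fun z => z.left) (pullback.diagonal_fst f)
      · rw [Category.assoc]
        erw [sql.isoPullback_inv_snd, pullback.diagonal_snd]
        exact congrArg (fun z => z.left) (pullback.diagonal_snd f)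
    rw [this]
    exact (MorphismProperty.cancel_right_of_respectsIso @IsAffineHom _ _).2 hX
  have sqy := sqd.map (AlgSp.yon S)
  have e : pullback.diagonal ((AlgSp.yon S).map f) = (AlgSp.yon S).map d ≫ sqy.isoPullback.hom := by
    apply pullback.hom_ext
    · rw [pullback.diagonal_fst, Category.assoc, sqy.isoPullback_hom_fst, ← Functor.map_comp,
        pullback.diagonal_fst, CategoryTheory.Functor.map_id]
    · rw [pullback.diagonal_snd, Category.assoc, sqy.isoPullback_hom_snd, ← Functor.map_comp,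
        pullback.diagonal_snd, CategoryTheory.Functor.map_id]
  change RepAff (pullback.diagonal ((AlgSp.yon S).map f))
  rw [e]
  exact (MorphismProperty.cancel_right_of_respectsIso (RepAff (S := S)) _ _).2
    ((AlgSp.repWith_yon_map_iff _ d).2 hdl)

theorem diagLike_aff_of_rep {U : Over S} (hUf : IsFibGrpd (overCat U).p) (hX : IsFibGrpd 𝒳.p) {u : overCat U ⥤ᵇ 𝒳}
    (hu : RepByAlgSpWith AlgSp.IsAffineMor u) : RepByAlgSpWith RepAff (diag u) := by
  haveI := respectsIso_repAff (S := S)
  refine repByAlgSpWith_diag_of_forall u fun T y => ?_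
  obtain ⟨F, e, he, hF⟩ := hu T y
  obtain ⟨α⟩ := nonempty_iso_ofPshMap (Q := ((AlgSp.yon S).obj T).obj)
    (BasedFunctor.comp (BasedFunctor.comp e (fpFst y u)) (ofOverCat T))
  let a : F.obj ⟶ (AlgSp.yon S).obj T := ObjectProperty.homMk (pshHom (Q := ((AlgSp.yon S).obj T).obj)
    (BasedFunctor.comp (BasedFunctor.comp e (fpFst y u)) (ofOverCat T)))
  have ha : RepAff a := by
    have h1 := (isAffineMor_iff_repAff _).1 hF
    rw [spMapOfOver_eq] at h1
    exact h1
  let β : BasedFunctor.comp (ofOverCat T) (toOverCat T) ≅ BasedFunctor.id (overCat T) :=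
    BasedNatIso.mkNatIso
      (NatIso.ofComponents (fun a => Iso.refl _)
        (fun {a b} f => Over.OverMorphism.ext ((Category.comp_id _).trans (Category.id_comp _).symm)))
      (fun a => IsHomLift.id rfl)
  have hda : RepAff (pullback.diagonal a) := by
    obtain ⟨W, i, fst, sq⟩ := ha.rep (𝟙 _)
    haveI : IsIso fst := sq.isIso_fst_of_isIso
    haveI : IsAffineHom i.left := ha.property _ _ _ sq
    have e1 : a = (asIso fst).inv ≫ (AlgSp.yon S).map i := by
      rw [Iso.eq_inv_comp]; exact sq.w.trans (Category.comp_id _)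
    have h2 : DiagAff ((AlgSp.yon S).map i) := diagAff_yon_map i inferInstance
    haveI := AlgSp.repWith_isStableUnderBaseChange (S := S) (@IsAffineHom : MorphismProperty Scheme.{u})
    haveI hri : (DiagAff (S := S)).RespectsIso :=
      MorphismProperty.IsStableUnderBaseChange.respectsIso
    change DiagAff a
    rw [e1]
    exact (MorphismProperty.cancel_left_of_respectsIso DiagAff _ _).2 h2
  exact (repByAlgSpWith_diag_precomp_equiv he).1
    (repByAlgSpWith_diag_of_iso ((bRight α (toOverCat T)).symm ≪≫ bLeft (BasedFunctor.comp e (fpFst y u)) β)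
      (repByAlgSpWith_diag_postcomp_equiv (isEquivOver_toOverCat T)
        (repByAlgSpWith_diag_ofSpMap a (repBySpWith_repWith_of _ hda))))

theorem spaceDescends_repAff : SpaceDescends (RepAff (S := S)) := by
  intro F G a ha
  refine SpPts86.repWith_of_isAffineMor fun Z hZ g => ?_
  obtain ⟨-, hp⟩ := (AlgSp.repBySpWith_hom_iff _ a).1 ha g _ _ (IsPullback.of_hasPullback a g)
  obtain ⟨W, i, fst, sq, hW⟩ := SpPts86.isAffineMor_of_repWith hp hZ (𝟙 _)
  refine ⟨W, i, fst ≫ pullback.fst a g, ?_, hW⟩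
  have := sq.paste_horiz (IsPullback.of_hasPullback a g)
  rwa [Category.id_comp] at this

theorem stableComp_repAff : StableComp (RepAff (S := S)) := fun _ _ _ _ _ _ a b ha hb =>
  (AlgSp.repWith_isMultiplicative (S := S) (@IsAffineHom : MorphismProperty Scheme.{u})).comp_mem a b ha hb

theorem repAff_diag_toSelf_of_affine_cover {U : Over S} (hX : IsFibGrpd 𝒳.p) {u : overCat U ⥤ᵇ 𝒳}
    (hu : RepByAlgSpWith AlgSp.IsAffineMor u) (hd : RepByAlgSpWith AlgSp.IsAffineMor (diag (toSelf 𝒳))) :
    RepByAlgSpWith RepAff (diag (toSelf (overCat U))) := by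
  have hUf := isFibGrpd_overCat (C := Over S) U
  haveI := respectsIso_repAff (S := S)
  refine repByAlgSpWith_diag_of_iso (selfIso (BasedFunctor.comp u (toSelf 𝒳)) _)
    (repByAlgSpWith_diag_comp hUf hX respectsIso_repAff spaceDescends_repAff stableComp_repAff ?_
      (repByAlgSpWith_mono (fun _ _ a ha => (isAffineMor_iff_repAff a).1 ha) hd))
  exact diagLike_aff_of_rep hUf hX hu

theorem repByAlgSpWith_diagAff_toSelf (X : Over S) (hX : IsAffineHom (pullback.diagonal X.hom)) :
    RepByAlgSpWith (DiagAff (S := S)) (toSelf (overCat X)) := by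
  haveI := AlgSp.repWith_isStableUnderBaseChange (S := S) (@IsAffineHom : MorphismProperty Scheme.{u})
  haveI hst : (DiagAff (S := S)).IsStableUnderBaseChange := inferInstance
  have hbc : StableBC (DiagAff (S := S)) := fun _ _ _ _ _ _ _ _ a b a' b' sq h => hst.of_isPullback sq h
  haveI hri : (DiagAff (S := S)).RespectsIso := hst.respectsIso
  let t : Over S := Over.mk (𝟙 S)
  let f : X ⟶ t := Over.homMk X.hom (by simp [t])
  have hf : DiagAff ((AlgSp.yon S).map f) := by
    exact diagAff_yon_map f (by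
      have : IsAffineHom (pullback.diagonal f.left) := hX
      exact this)
  obtain ⟨ι⟩ := overMap_iso f
  refine repByAlgSpWith_of_iso (f := BasedFunctor.comp (overMap f) (toSelf (overCat t))) (selfIso _ _)
    ((repByAlgSpWith_postcomp_equiv isEquivOver_toSelf_terminal).2 ?_)
  exact repByAlgSpWith_of_iso ι ((repByAlgSpWith_postcomp_equiv (isEquivOver_toOverCat t)).2
    ((repByAlgSpWith_precomp_equiv (isEquivOver_ofOverCat X)).2
      (repByAlgSpWith_ofSpMap hbc hri (F := ⟨_, AlgSp.IsAlgSpace.yon_obj X⟩)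
        (G := ⟨_, AlgSp.IsAlgSpace.yon_obj t⟩) _ hf)))

theorem affine_diag_of_cover (hX : IsFibGrpd 𝒳.p) (hdiag : RepByAlgSp1 (diag (toSelf 𝒳))) {U : Over S} {u : overCat U ⥤ᵇ 𝒳}
    (hu : RepByAlgSpWith (AlgSp.LocP (@Flat ⊓ @LocallyOfFinitePresentation)) u)
    (hus : RepByAlgSpWith AlgSp.IsSurjectiveMor u) (huA : RepByAlgSpWith AlgSp.IsAffineMor u)
    (hd : IsAffineHom (pullback.diagonal U.hom)) :
    RepByAlgSpWith AlgSp.IsAffineMor (diag (toSelf 𝒳)) := by
  have hUf := isFibGrpd_overCat (C := Over S) U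
  have hXX := isFibGrpd_fp hX hX isFibGrpd_selfOver (toSelf 𝒳) (toSelf 𝒳)
  let h' := prodMap u u
  have hh : RepByAlgSpWith (AlgSp.LocP (@Flat ⊓ @LocallyOfFinitePresentation)) h' :=
    repByAlgSpWith_prodFun hUf hUf hX hX (respectsIso_locP _) (spaceDescends_locP _) (stableComp_locP _) hu hu _
  have hhs : RepByAlgSpWith AlgSp.IsSurjectiveMor h' :=
    repByAlgSpWith_prodFun hUf hUf hX hX respectsIso_surj spaceDescends_surj
      (fun _ _ _ _ _ _ a b ha hb y => by
        obtain ⟨y', rfl⟩ := hb y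
        obtain ⟨x, rfl⟩ := ha y'
        exact ⟨x, AlgSp.Points.map_comp a b x⟩) hus hus _
  have hR : RepByAlgSpWith RepAff (fpFst h' (diag (toSelf 𝒳))) := by
    refine (repByAlgSpWith_precomp_equiv (isEquivOver_fpToDiag u u)).1 (repByAlgSpWith_of_comp (h := fpToProd u u)
      (c := fpFst (toSelf (overCat U)) (toSelf (overCat U))) stableBC_repAff respectsIso_repAff cancels_repAff
      (repByAlgSpWith_fpFst _ (repByAlgSpWith_diagAff_toSelf U hd)) ?_)
    exact repByAlgSpWith_of_iso (f := fpFst u u) (Iso.refl _) (repByAlgSpWith_fpFst u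
      (repByAlgSpWith_mono (fun _ _ a ha => (isAffineMor_iff_repAff a).1 ha) huA))
  refine repByAlgSpWith_mono (fun _ _ a ha => (isAffineMor_iff_repAff a).2 ha) ?_
  intro V z
  haveI := respectsIso_locP (S := S) (@Flat ⊓ @LocallyOfFinitePresentation : MorphismProperty Scheme.{u})
  obtain ⟨G, e, he, hb⟩ := (repByAlgSpWith_inf hh hhs) V z
  obtain ⟨W, c, hc, hcs⟩ := G.property.atlas
  let Φ : ofSp ((AlgSp.yon S).obj W) ⥤ᵇ overCat V :=
    BasedFunctor.comp (ofSpMap c) (BasedFunctor.comp e (fpFst z h'))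
  obtain ⟨p, hp⟩ := (AlgSp.yon S).map_surjective (spMapOfOver Φ)
  have hp' : (AlgSp.yon S).map p = c ≫ spMapOfOver (BasedFunctor.comp e (fpFst z h')) := by
    rw [hp, spMapOfOver_comp (ofSpMap c) (BasedFunctor.comp e (fpFst z h')), homOfBased_ofSpMap]
  have hsm : (@Flat ⊓ @LocallyOfFinitePresentation : MorphismProperty Scheme.{u}) p.left := hb.1 c (𝟙 _) p hc (AlgSp.repWith_id @Etale V)
    (by rw [Category.comp_id, hp'])
  have hsu : Surjective p.left := ⟨fun v => by
    obtain ⟨x, hx⟩ := hb.2 (AlgSp.Points.ofScheme V v)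
    obtain ⟨y, rfl⟩ := SpPts86.isSurjectiveMor_of_repWith hcs x
    rw [← AlgSp.Points.map_comp, ← hp'] at hx
    obtain ⟨t, rfl⟩ := (AlgSp.Points.schemeHomeo W).surjective y
    rw [AlgSp.Points.map_yon_map_apply] at hx
    exact ⟨t, (AlgSp.Points.schemeHomeo V).injective hx⟩⟩
  let w : overCat W ⥤ᵇ fp z h' := BasedFunctor.comp (ofOverCat W) (BasedFunctor.comp (ofSpMap c) e)
  obtain ⟨ι⟩ := overMap_iso p
  obtain ⟨α⟩ := nonempty_iso_ofPshMap (Q := ((AlgSp.yon S).obj V).obj) (BasedFunctor.comp Φ (ofOverCat V))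
  have hα : (ObjectProperty.homMk (pshHom (Q := ((AlgSp.yon S).obj V).obj) (BasedFunctor.comp Φ (ofOverCat V))) :
      (AlgSp.yon S).obj W ⟶ (AlgSp.yon S).obj V) = (AlgSp.yon S).map p := by
    rw [hp, spMapOfOver_eq]
    refine (homOfBased_ofSpMap _).symm.trans (homOfBased_congr (F := (AlgSp.yon S).obj W)
      (G := (AlgSp.yon S).obj V) α.symm)
  have α' : BasedFunctor.comp Φ (ofOverCat V) ≅ ofSpMap ((AlgSp.yon S).map p) := hα ▸ α
  let β : BasedFunctor.comp (ofOverCat V) (toOverCat V) ≅ BasedFunctor.id (overCat V) :=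
    BasedNatIso.mkNatIso
      (NatIso.ofComponents (fun a => Iso.refl _)
        (fun {a b} f => Over.OverMorphism.ext ((Category.comp_id _).trans (Category.id_comp _).symm)))
      (fun a => IsHomLift.id rfl)
  let γ : BasedFunctor.comp w (fpFst z h') ≅ overMap p :=
    bLeft (ofOverCat W) ((bLeft Φ β).symm ≪≫ bRight α' (toOverCat V)) ≪≫ ι
  let δ : BasedFunctor.comp (BasedFunctor.comp w (fpSnd z h')) h' ≅ BasedFunctor.comp (overMap p) z :=
    (bLeft w (fpIso z h')).symm ≪≫ bRight γ z
  refine repOver_affine_of_cover hX hXX hdiag p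
    ((SpFP87.fppfSurj_iff _).2 ⟨hsu, hsm.1, hsm.2⟩) z ?_
  exact RepOver.transport (hR W (BasedFunctor.comp w (fpSnd z h')))
    (isEquivOver_comp (isEquivOver_fpPaste (BasedFunctor.comp w (fpSnd z h')) h' (diag (toSelf 𝒳)))
      (isEquivOver_fpCongr δ (Iso.refl _))) (Iso.refl _)

theorem affine_diag_quotSt {G X : Over S} [GrpObj G] (a : AlgGrp.Action G X) [Flat G.hom]
    [LocallyOfFinitePresentation G.hom] [IsAffineHom G.hom] (hd : IsAffineHom (pullback.diagonal X.hom)) :
    RepByAlgSpWith AlgSp.IsAffineMor (diag (toSelf (QuotSt Scheme.fppfPrecoverage G a))) := by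
  refine affine_diag_of_cover (isStack_quotSt Scheme.fppfPrecoverage_le_fpqcPrecoverage ‹_› a).1
    (repByAlgSp1_diag_quotSt a) (u := BasedFunctor.comp (ofOverCat X) (quotMap Scheme.fppfPrecoverage G a)) ?_ ?_ ?_ hd
  · exact repByAlgSpWith_locP_quotMap a (@Flat ⊓ @LocallyOfFinitePresentation)
      (fun A => ⟨flat_π ‹_› A, lfp_π ‹_› A⟩) (fun f hf => (SpFP87.locP_yon_map_iff f).2 hf)
  · exact repByAlgSpWith_surj_quotMap a
  · exact repByAlgSpWith_affine_quotMap a

theorem repBySpWith_diag_of_ofSpMap {P : MorphismProperty (AlgSp.Sp S)} [P.RespectsIso] {F G : AlgSp.Sp S} (a : F ⟶ G)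
    (h : RepByAlgSpWith P (diag (ofSpMap a))) : AlgSp.RepBySpWith P (pullback.diagonal a).hom := by
  have sq := (IsPullback.of_hasPullback a a).map
    (sheafToPresheaf (QuotSh.J Scheme.fppfPrecoverage S) (Type (u + 1)))
  refine (repByAlgSpWith_ofPshMap_iff P (pullback.diagonal a).hom).2
    ((repByAlgSpWith_postcomp_equiv (isEquivOver_pshFpLift sq)).1 (repByAlgSpWith_of_iso ?_ h))
  exact (fpNatIso (Φ := BasedFunctor.comp (Stk.ofPshMap (pullback.diagonal a).hom) (pshFpLift sq.w))
    (Ψ := diag (ofSpMap a))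
    (ofPshMapCompIso _ _ (𝟙 F.obj) (congrArg (fun t : F ⟶ F => t.hom) (pullback.diagonal_fst a)) ≪≫ ofPshMapIdIso F.obj)
    (ofPshMapCompIso _ _ (𝟙 F.obj) (congrArg (fun t : F ⟶ F => t.hom) (pullback.diagonal_snd a)) ≪≫ ofPshMapIdIso F.obj)
    (fun x => Stk.EltObj.hom_ext rfl)).symm

theorem isAffineHom_diag_of_repAff (X : Over S) (h : RepByAlgSpWith (RepAff (S := S)) (diag (toSelf (overCat X)))) :
    IsAffineHom (pullback.diagonal X.hom) := by
  haveI := respectsIso_repAff (S := S)
  let t : Over S := Over.mk (𝟙 S)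
  let f : X ⟶ t := Over.homMk X.hom (by simp [t])
  obtain ⟨ι⟩ := overMap_iso f
  have h1 : RepByAlgSpWith (RepAff (S := S))
      (diag (BasedFunctor.comp (overMap f) (toSelf (overCat t)))) := repByAlgSpWith_diag_of_iso (selfIso _ _) h
  have h2 : RepByAlgSpWith (RepAff (S := S)) (diag (overMap f)) :=
    (repByAlgSpWith_postcomp_equiv (isEquivOver_fpPost _ _ _ isEquivOver_toSelf_terminal)).1
      (repByAlgSpWith_of_iso (diagCompIso _ _).symm h1)
  have h3 := repByAlgSpWith_diag_of_iso ι.symm h2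
  have h4 : RepByAlgSpWith (RepAff (S := S)) (diag (BasedFunctor.comp (ofOverCat X) (ofSpMap ((AlgSp.yon S).map f)))) :=
    (repByAlgSpWith_postcomp_equiv (isEquivOver_fpPost _ _ _ (isEquivOver_toOverCat t))).1
      (repByAlgSpWith_of_iso (diagCompIso _ _).symm h3)
  have h5 := repBySpWith_diag_of_ofSpMap _ ((repByAlgSpWith_diag_precomp_equiv (isEquivOver_ofOverCat X)).1 h4)
  have sqd : IsPullback (pullback.fst f f) (pullback.snd f f) f f := IsPullback.of_hasPullback f f
  have sqy := sqd.map (AlgSp.yon S)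
  have h6 : RepAff (pullback.diagonal ((AlgSp.yon S).map f)) := spaceDescends_repAff ⟨_, AlgSp.IsAlgSpace.yon_obj X⟩
    ⟨_, (AlgSp.IsAlgSpace.yon_obj (pullback f f)).of_iso sqy.isoPullback⟩ _ h5
  have e : pullback.diagonal ((AlgSp.yon S).map f) = (AlgSp.yon S).map (pullback.diagonal f) ≫ sqy.isoPullback.hom := by
    apply pullback.hom_ext
    · rw [pullback.diagonal_fst, Category.assoc, sqy.isoPullback_hom_fst, ← Functor.map_comp,
        pullback.diagonal_fst, CategoryTheory.Functor.map_id]
    · rw [pullback.diagonal_snd, Category.assoc, sqy.isoPullback_hom_snd, ← Functor.map_comp,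
        pullback.diagonal_snd, CategoryTheory.Functor.map_id]
  rw [e] at h6
  have h7 : IsAffineHom (pullback.diagonal f).left := (AlgSp.repWith_yon_map_iff _ _).1
    ((MorphismProperty.cancel_right_of_respectsIso (RepAff (S := S)) _ _).1 h6)
  have sql := sqd.map (Over.forget S)
  have e2 : (pullback.diagonal f).left ≫ sql.isoPullback.hom = pullback.diagonal X.hom := by
    apply pullback.hom_ext
    · rw [Category.assoc]
      erw [sql.isoPullback_hom_fst, pullback.diagonal_fst]
      exact congrArg (fun z => z.left) (pullback.diagonal_fst f)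
    · rw [Category.assoc]
      erw [sql.isoPullback_hom_snd, pullback.diagonal_snd]
      exact congrArg (fun z => z.left) (pullback.diagonal_snd f)
  rw [← e2]
  exact (MorphismProperty.cancel_right_of_respectsIso @IsAffineHom _ _).2 h7

end Groth.Agent.AlgSt88
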