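import Groth.Agent.AlgSt88.SpQProps
import Groth.Agent.AlgSt88.SmoothLocalInst
import Groth.Agent.AlgSt88.DiagLifts

/-!
Smooth charts of a stack smooth over the base are smooth over the base.
-/

set_option autoImplicit false
set_option backward.isDefEq.respectTransparency false
set_option backward.isDefEq.respectTransparency.types false
universe u

open CategoryTheory CategoryTheory.Limits AlgebraicGeometry Opposite AlgSt FibCat

namespace Groth.Agent.AlgSt88

variable {S : Scheme.{u}} {𝒵 : AlgSt.Cat S}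

theorem smooth_hom_of_chart (hX : IsFibGrpd 𝒵.p) (h : LocQ (AlgSp.LocP @Smooth) (toSelf 𝒵)) {Z : Over S}
    (p : overCat Z ⥤ᵇ 𝒵) (hp : Sm p) : Smooth Z.hom := by
  let T₁ : Over S := Over.mk (𝟙 S)
  let Zs : AlgSp.Space S := ⟨(AlgSp.yon S).obj Z, AlgSp.IsAlgSpace.yon_obj Z⟩
  let Ts : AlgSp.Space S := ⟨(AlgSp.yon S).obj T₁, AlgSp.IsAlgSpace.yon_obj T₁⟩
  let t : Z ⟶ T₁ := Over.homMk Z.hom (Category.comp_id _)
  let y : ofSp Ts.obj ⥤ᵇ selfOver (Over S) := toSelf (ofSp ((AlgSp.yon S).obj T₁))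
  have hy : IsEquivOver y := isEquivOver_toSelf_ofSp_terminal
  let x : ofSp Zs.obj ⥤ᵇ 𝒵 := BasedFunctor.comp (toOverCat Z) p
  have hx : Sm x := (repByAlgSpWith_precomp_equiv (isEquivOver_toOverCat Z)).2 hp
  let l : ofSp Zs.obj ⥤ᵇ fp (toSelf 𝒵) y :=
    fpLift x (ofSpMap ((AlgSp.yon S).map t)) (selfIso _ _)
  have hl : Sm l := by
    refine (repByAlgSpWith_postcomp_equiv (isEquivOver_fpFst (toSelf 𝒵) hy)).1 ?_
    exact hx
  have hh := (spQ_of_locQ h).prop smoothLocal_smooth hX isFibGrpd_selfOver (U := Zs) (V := Ts) y l (sm_equiv hy) hl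
  have hh' : AlgSp.LocP @Smooth ((AlgSp.yon S).map t) := by
    rw [show BasedFunctor.comp l (fpSnd (toSelf 𝒵) y) = ofSpMap ((AlgSp.yon S).map t) from rfl,
      homOfBased_ofSpMap] at hh
    exact hh
  exact (SpFP87.locP_yon_map_iff (P := @Smooth) t).1 hh'

end Groth.Agent.AlgSt88
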