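import Groth.Agent.AlgSt88.Substack
import Groth.Agent.AlgSt88.QC
import Groth.Agent.Fib44.Descent
import Groth.Agent.SpFP87.Covers
import Groth.Agent.SpFP87.LocPRep

/-! Coverings by open substacks. -/

set_option autoImplicit false
set_option maxHeartbeats 1000000
set_option linter.style.haveILetI false
set_option backward.isDefEq.respectTransparency false
set_option backward.isDefEq.respectTransparency.types false
universe w u

open CategoryTheory CategoryTheory.Limits AlgebraicGeometry Opposite AlgSt FibCat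

namespace Groth.Agent.AlgSt88

variable {S : Scheme.{u}} {𝒳 : AlgSt.Cat S}

/-- A stack covered by open substacks which are algebraic spaces is an algebraic space. -/
theorem repByAlgSp_of_substack_cover (h𝒳 : IsAlgStack Scheme.fppfPrecoverage 𝒳) {ι : Type w}
    (Q : ι → 𝒳.obj → Prop) (hQ : ∀ i, IsOpenSubstack 𝒳 (Q i) Scheme.fppfPrecoverage)
    (hcov : ⋃ i, Set.range (Points.map (subIncl 𝒳 (Q i))) = Set.univ)
    (hsp : ∀ i, RepByAlgSp (fullSub 𝒳 (Q i))) : RepByAlgSp 𝒳 := by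
  have hX := h𝒳.isStack.1
  have key : ∀ (x : 𝒳.obj) (φ : x ⟶ x), 𝒳.p.map φ = 𝟙 _ → φ = 𝟙 x := by
    intro x φ hφ
    let T := 𝒳.p.obj x
    let c : overCat T ⥤ᵇ 𝒳 := classify hX x rfl
    obtain ⟨ε, hε⟩ := classify_mk_id hX x rfl
    have hidx : ∀ t : ↥T.left, ∃ i, Points.ofChart c t ∈ Set.range (Points.map (subIncl 𝒳 (Q i))) := fun t => by
      have := hcov ▸ Set.mem_univ (Points.ofChart c t)
      exact Set.mem_iUnion.1 this
    choose i hi using hidx
    let O : ↥T.left → T.left.Opens := fun t =>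
      ⟨Points.ofChart c ⁻¹' Set.range (Points.map (subIncl 𝒳 (Q (i t)))),
        (isOpen_range_substack h𝒳 (hQ (i t))).preimage (continuous_ofChart h𝒳 c)⟩
    let V : ↥T.left → Over S := fun t => Over.mk ((O t).ι ≫ T.hom)
    let j : ∀ t, V t ⟶ T := fun t => Over.homMk (O t).ι rfl
    have hR : Sieve.ofArrows V j ∈ (QuotSh.J Scheme.fppfPrecoverage S) T :=
      SpFP87.ofArrows_mem_of_fppf V j
        (fun t => ⟨inferInstanceAs (Flat (O t).ι), inferInstanceAs (LocallyOfFinitePresentation (O t).ι)⟩)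
        (fun t => ⟨t, by
          change t ∈ Set.range (O t).ι
          rw [Scheme.Opens.range_ι]
          exact hi t⟩)
    have hfix : ∀ ⦃z : 𝒳.obj⦄ (ψ : z ⟶ x), (Sieve.ofArrows V j) (𝒳.p.map ψ ≫ eqToHom rfl) → ψ ≫ φ = ψ := by
      intro z ψ hz
      obtain ⟨-, h, _, ⟨t⟩, ht⟩ := hz
      have hz' : Q (i t) z := by
        rw [openSubstack_eq_inPts h𝒳 (hQ (i t))]
        intro p g
        rw [mk_eq_ofChart hX c (Over.mk (𝟙 T)) p (g ≫ ψ ≫ ε.inv)]
        haveI := hε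
        haveI : 𝒳.p.IsHomLift (𝟙 T) ε.inv := IsHomLift.lift_id_inv 𝒳.p T ε
        have e : 𝒳.p.map ψ = h ≫ j t := by simpa using ht.symm
        have e2 : ((eqToHom p.lies.symm ≫ 𝒳.p.map (g ≫ ψ ≫ ε.inv) ≫ eqToHom (c.w_obj (Over.mk (𝟙 T)))) ≫
            (Over.mk (𝟙 T)).hom) = (eqToHom p.lies.symm ≫ 𝒳.p.map g ≫ h) ≫ j t := by
          simp only [Functor.map_comp, IsHomLift.fac' 𝒳.p (𝟙 T) ε.inv, e]
          simp [T]
          exact congrArg (fun v => eqToHom p.lies.symm ≫ 𝒳.p.map g ≫ h ≫ v) (Category.comp_id (j t))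
        refine (congrArg (fun v : Over.mk p.str ⟶ T =>
          Points.ofChart c (v.left (IsLocalRing.closedPoint p.K))) e2).symm ▸ ?_
        exact ((eqToHom p.lies.symm ≫ 𝒳.p.map g ≫ h).left (IsLocalRing.closedPoint p.K)).property
      obtain ⟨χ, h1, h2⟩ := fg_exists_fac hX ψ (ψ ≫ φ) (𝟙 _) (by
        rw [Category.id_comp, Functor.map_comp, hφ]
        exact (Category.comp_id _).symm)
      let o : (fullSub 𝒳 (Q (i t))).obj := ⟨z, hz'⟩
      let χ' : o ⟶ o := ObjectProperty.homMk χ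
      have h3 : χ' = 𝟙 o := hom_ext_of_repByAlgSp (hsp (i t)) (by
        change 𝒳.p.map χ = (fullSub 𝒳 (Q (i t))).p.map (𝟙 o)
        rw [h1]
        exact ((fullSub 𝒳 (Q (i t))).p.map_id o).symm)
      have h4 : χ = 𝟙 z := congrArg (fun s => s.hom) h3
      rw [← h2, h4, Category.id_comp]
    obtain ⟨k, -, huniq⟩ := Fib44.morGlue_of_isPrestackFor hX
      ((Fib44.isPrestack_of_isStack h𝒳.isStack).2 _ hR) (x := x) (y := x) rfl rfl (fun z ψ _ => ψ)
      (fun z ψ _ => IsHomLift.of_fac' _ _ _ rfl rfl (by simp [T])) (fun _ _ _ _ _ _ => rfl)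
    exact (huniq φ ⟨IsHomLift.of_fac' _ _ _ rfl rfl (by simp [T, hφ]), fun z ψ hz => hfix ψ hz⟩).trans
      (huniq (𝟙 x) ⟨IsHomLift.id rfl, fun z ψ _ => Category.comp_id ψ⟩).symm
  refine repByAlgSp_of_setoid_chart h𝒳.isStack (fun {x y} f g e => ?_) h𝒳.atlas
  obtain ⟨χ, h1, h2⟩ := fg_exists_fac hX g f (𝟙 _) ((Category.id_comp _).trans e.symm)
  rw [← h2, key x χ h1, Category.id_comp]

/-- The open substack image of an open subspace of a chart. -/
theorem exists_openImm_image (h𝒳 : IsAlgStack Scheme.fppfPrecoverage 𝒳) {U V : AlgSp.Space S}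
    (u : ofSp U.obj ⥤ᵇ 𝒳) (hu : Sm u) (j : V ⟶ U) (hj : AlgSp.RepWith @IsOpenImmersion j.hom) :
    ∃ (𝒴 : AlgSt.Cat S) (i : 𝒴 ⥤ᵇ 𝒳) (g : ofSp V.obj ⥤ᵇ 𝒴),
      IsAlgStack Scheme.fppfPrecoverage 𝒴 ∧ IsOpenImm i ∧ Sm g ∧ Sj g ∧
        Nonempty (BasedFunctor.comp g i ≅ BasedFunctor.comp (ofSpMap j.hom) u) := by
  have hX := h𝒳.isStack.1
  have hj' : AlgSp.LocP @Smooth j.hom :=
    SpFP87.locP_of_repWith V.property.diag U.property (MorphismProperty.relative_monotone (fun _ _ f hf => by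
      haveI : IsOpenImmersion f.left := hf; exact (inferInstance : Smooth f.left)) _ hj)
  let v : ofSp V.obj ⥤ᵇ 𝒳 := BasedFunctor.comp (ofSpMap j.hom) u
  have hv : Sm v := sm_comp (Stk.isFibGrpd_ofPsh _) (Stk.isFibGrpd_ofPsh _)
    (repByAlgSpWith_ofSpMap (stableBC_locP _) (respectsIso_locP _) (F := V) (G := U) j.hom hj') hu
  let W := Set.range (Points.map v)
  have hW : IsOpen W := (isOpenMap_of_flat_lfp hX v (rep_flat_of_sm hv) (rep_lfp_of_sm hv)).isOpen_range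
  have hS := isOpenSubstack_inPts h𝒳 hW
  have hY := hS.2.1.isStack.1
  have hVg : IsFibGrpd (ofSp V.obj).p := Stk.isFibGrpd_ofPsh _
  have hmem : ∀ a : (ofSp V.obj).obj, InPts W (v.obj a) := fun a p g => by
    obtain ⟨a', ha', φ, hφ⟩ := fg_exists_lift hVg (x := a)
      (eqToHom p.lies.symm ≫ 𝒳.p.map g ≫ eqToHom (v.w_obj a))
    refine ⟨Points.mk { K := p.K, str := p.str, obj := a', lies := ha' }, ?_⟩
    obtain ⟨χ, -, -⟩ := fg_exists_fac hX g (v.map φ) (eqToHom ((v.w_obj a').trans (ha'.trans p.lies.symm))) (by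
      rw [p_map_eq, hφ]; simp)
    exact Points.sound ⟨{ K := p.K, str := p.str, obj := v.obj a', lies := (v.w_obj a').trans ha' }, 𝟙 _, χ, trivial⟩
  let g : ofSp V.obj ⥤ᵇ fullSub 𝒳 (InPts W) :=
    { toFunctor :=
        { obj := fun a => ⟨v.obj a, hmem a⟩
          map := fun f => ObjectProperty.homMk (v.map f)
          map_id := fun a => ObjectProperty.hom_ext _ (v.map_id a)
          map_comp := fun f f' => ObjectProperty.hom_ext _ (v.map_comp f f') }
      w := v.w }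
  let Φ : ofSp V.obj ⥤ᵇ fp (subIncl 𝒳 (InPts W)) v :=
    fpLift g (BasedFunctor.id _) (Iso.refl _)
  have hΦ : IsEquivOver Φ := by
    refine IsEquivData.isEquivOver ⟨?_, ?_, ?_⟩
    · intro a b f f' h
      exact congrArg (fun t => t.hom.snd) h
    · intro a b k
      have hw : k.hom.fst.hom ≫ 𝟙 _ = 𝟙 _ ≫ v.map k.hom.snd := k.hom.w
      rw [Category.comp_id, Category.id_comp] at hw
      exact ⟨k.hom.snd, fpHom_ext (ObjectProperty.hom_ext _ hw.symm) rfl⟩
    · intro z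
      let e₁ : g.obj z.obj.snd ≅ z.obj.fst :=
        (ObjectProperty.fullyFaithfulι _).preimageIso z.obj.iso.symm
      have he₁ : e₁.hom.hom = z.obj.iso.inv :=
        (ObjectProperty.fullyFaithfulι (InPts W)).map_preimage (X := g.obj z.obj.snd) (Y := z.obj.fst)
          z.obj.iso.inv
      refine ⟨z.obj.snd, fpObjIso e₁ (Iso.refl _) ?_, fp_isHomLift _ ((fullSub_isHomLift_iff _ e₁.hom).2 ?_)⟩
      · change e₁.hom.hom ≫ z.obj.iso.hom = 𝟙 _ ≫ v.map (𝟙 _)
        rw [he₁, Iso.inv_hom_id]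
        exact ((Category.id_comp _).trans (v.map_id _)).symm
      · rw [he₁]
        haveI h0 : 𝒳.p.IsHomLift (𝟙 ((fp (subIncl 𝒳 (InPts W)) v).p.obj z)) z.obj.iso.hom := z.property
        exact @IsHomLift.lift_id_inv _ _ _ _ 𝒳.p _ _ _ z.obj.iso h0
  have hg : ∀ {P : MorphismProperty (AlgSp.Sp S)}, RepByAlgSpWith P v → RepByAlgSpWith P g := fun h =>
    repByAlgSpWith_of_iso (f := BasedFunctor.comp Φ (fpFst (subIncl 𝒳 (InPts W)) v)) (Iso.refl _)
      ((repByAlgSpWith_precomp_equiv hΦ).2 (repByAlgSpWith_fpFst _ h))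
  refine ⟨fullSub 𝒳 (InPts W), subIncl 𝒳 (InPts W), g, hS.2.1, hS.2.2, hg hv,
    sj_of_isSurjective hVg hY (repByAlgSp1_of_with (hg hv)) fun y => ?_, ⟨Iso.refl _⟩⟩
  obtain ⟨q, rfl⟩ := Points.mk_surjective y
  obtain ⟨a, ha⟩ := q.obj.property (q.map (subIncl 𝒳 (InPts W))) (𝟙 _)
  haveI : (subIncl 𝒳 (InPts W)).toFunctor.Full := (ObjectProperty.fullyFaithfulι _).full
  exact ⟨a, points_map_injective hY hX (subIncl 𝒳 (InPts W)) ((points_map_comp g _ a).symm.trans ha)⟩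

end Groth.Agent.AlgSt88
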