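import Groth.Agent.AlgSt88.DvrRealize
import Groth.Agent.AlgSt88.QCMorSt

/-! Topology of charts of stacks for any topology, and closedness of base changes. -/

set_option autoImplicit false
set_option maxHeartbeats 1000000
set_option linter.style.haveILetI false
set_option linter.unusedVariables false
set_option backward.isDefEq.respectTransparency false
set_option backward.isDefEq.respectTransparency.types false
universe u

open CategoryTheory CategoryTheory.Limits AlgebraicGeometry Opposite AlgSt FibCat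

namespace Groth.Agent.AlgSt88

variable {S : Scheme.{u}} {𝒳 𝒴 𝒵 : AlgSt.Cat S} {K : Precoverage Scheme.{u}}

theorem continuous_ofChart' (h𝒳 : IsAlgStack K 𝒳) {T : Over S} (x : overCat T ⥤ᵇ 𝒳) :
    Continuous (Points.ofChart x) := by
  rw [continuous_def]
  intro W hW
  obtain ⟨V, v, hv, hv'⟩ := h𝒳.atlas
  have hX := h𝒳.isStack.1
  let v' : ofSch V ⥤ᵇ 𝒳 := BasedFunctor.comp (toOverCat V) v
  let x' : ofSch T ⥤ᵇ 𝒳 := BasedFunctor.comp (toOverCat T) x
  have hv₁ : Sm v' := (repByAlgSpWith_precomp_equiv (isEquivOver_toOverCat V)).2 hv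
  have hv₂ : Sj v' := (repByAlgSpWith_precomp_equiv (isEquivOver_toOverCat V)).2 hv'
  obtain ⟨F, p, q, hpq, -, hQ⟩ := exists_space_pair hX (T := ⟨_, AlgSp.IsAlgSpace.yon_obj T⟩)
    (U := ⟨_, AlgSp.IsAlgSpace.yon_obj V⟩) x' v' (repByAlgSp1_of_with hv₁)
  have hp := hQ _ (respectsIso_locP _) (spaceDescends_locP _) hv₁
  have hps := hQ _ respectsIso_surj spaceDescends_surj hv₂
  let AT : Set (AlgSp.Points ((AlgSp.yon S).obj T)) := {τ | Points.map x' (stPt _ τ) ∈ W}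
  let AV : Set (AlgSp.Points ((AlgSp.yon S).obj V)) := {υ | Points.map v' (stPt _ υ) ∈ W}
  have hAV : IsOpen AV := (AlgSp.Points.schemeHomeo V).isOpen_preimage.1 (hW V v hv)
  have e : AT = AlgSp.Points.map p '' (AlgSp.Points.map q ⁻¹' AV) := by
    ext τ
    constructor
    · intro hτ
      obtain ⟨φ, rfl⟩ := hps τ
      refine ⟨φ, ?_, rfl⟩
      show Points.map v' (stPt _ _) ∈ W
      rw [← hpq φ]
      exact hτ
    · rintro ⟨φ, hφ, rfl⟩
      show Points.map x' (stPt _ _) ∈ W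
      rw [hpq φ]
      exact hφ
  have hAT : IsOpen AT := e ▸ isOpenMap_of_smooth (F := F) (G := ⟨_, AlgSp.IsAlgSpace.yon_obj T⟩) hp _
    (hAV.preimage (AlgSp.Points.continuous_map q))
  exact (AlgSp.Points.schemeHomeo T).isOpen_preimage.2 hAT

theorem continuous_map' (h𝒴 : IsAlgStack K 𝒴) (f : 𝒳 ⥤ᵇ 𝒴) : Continuous (Points.map f) := by
  rw [continuous_def]
  exact fun W hW U x hx => (continuous_ofChart' h𝒴 (BasedFunctor.comp x f)).isOpen_preimage W hW

theorem chPt_eq_ofChart {V : Over S} (y : ofSch V ⥤ᵇ 𝒳) :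
    chPt y = Points.ofChart (BasedFunctor.comp (ofOverCat V) y) := by
  funext v
  obtain ⟨ω⟩ := isEquivOver_toOverCat_ofOverCat V
  rw [ofChart_eq]
  exact (points_map_congr (bRight ω y) _).symm

theorem continuous_chPt (h𝒳 : IsAlgStack K 𝒳) {V : Over S} (y : ofSch V ⥤ᵇ 𝒳) : Continuous (chPt y) := by
  rw [chPt_eq_ofChart]
  exact continuous_ofChart' h𝒳 _

theorem isOpenMap_chPt (hX : IsFibGrpd 𝒳.p) {V : Over S} (y : ofSch V ⥤ᵇ 𝒳) (hy : Sm y) : IsOpenMap (chPt y) :=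
  fun W hW => by
    have := isOpenMap_of_flat_lfp hX (U := spY V) y (rep_flat_of_sm hy) (rep_lfp_of_sm hy) _
      ((isHomeomorph_stPt (spY V)).isOpenMap _ ((AlgSp.Points.schemeHomeo V).isOpenMap _ hW))
    rw [Set.image_image, Set.image_image] at this
    exact this

theorem surjective_chPt (hX : IsFibGrpd 𝒳.p) {V : Over S} (y : ofSch V ⥤ᵇ 𝒳) (hy : Sj y) :
    Function.Surjective (chPt y) := fun x => by
  obtain ⟨p, rfl⟩ := isSurjective_of_sj hX hy x
  obtain ⟨τ, rfl⟩ := stPt_bijective.2 p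
  obtain ⟨v, rfl⟩ := (AlgSp.Points.schemeHomeo V).surjective τ
  exact ⟨v, rfl⟩

theorem isClosed_of_preimage_chPt (hX : IsFibGrpd 𝒳.p) {V : Over S} (y : ofSch V ⥤ᵇ 𝒳) (hy : Sm y) (hy' : Sj y)
    {I : Set (Points 𝒳)} (h : IsClosed (chPt y ⁻¹' I)) : IsClosed I := by
  rw [← isOpen_compl_iff] at h ⊢
  rw [← Set.image_preimage_eq Iᶜ (surjective_chPt hX y hy'), Set.preimage_compl]
  exact isOpenMap_chPt hX y hy _ h

/-- Closedness of a base change descends along smooth surjective charts. -/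
theorem isClosedMap_descend (h𝒵 : IsAlgStack K 𝒵) (h𝒳 : IsAlgStack K 𝒳) (h𝒴 : IsAlgStack K 𝒴) (f : 𝒳 ⥤ᵇ 𝒴)
    (g : 𝒵 ⥤ᵇ 𝒴) {V : Over S} (v : ofSch V ⥤ᵇ 𝒵) (hv : Sm v) (hv' : Sj v)
    (H : IsClosedMap (Points.map (fpFst (BasedFunctor.comp v g) f))) : IsClosedMap (Points.map (fpFst g f)) := by
  intro C hC
  have hZ := h𝒵.isStack.1
  have hV : IsFibGrpd (ofSch V).p := Stk.isFibGrpd_ofPsh _
  have hP : IsFibGrpd (fp g f).p := isFibGrpd_fp hZ h𝒳.isStack.1 h𝒴.isStack.1 g f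
  refine isClosed_of_preimage_chPt hZ v hv hv' ?_
  let M := fpMapFst g f v
  have hM : Continuous (Points.map M) := continuous_map' (isAlgStack_fp h𝒴.isStack h𝒴.diag h𝒵 h𝒳 g f) M
  obtain ⟨σ⟩ := nonempty_fpPaste_mapFst_iso g f v
  have e : chPt v ⁻¹' (Points.map (fpFst g f) '' C) =
      (fun z => stPt _ (AlgSp.Points.ofScheme V z)) ⁻¹'
        (Points.map (fpFst (BasedFunctor.comp v g) f) '' (Points.map M ⁻¹' C)) := by
    ext z
    constructor
    · rintro ⟨c, hc, hcz⟩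
      obtain ⟨w, hw₁, hw₂⟩ := exists_points_fp hZ hP hV (fpFst g f) v (stPt _ (AlgSp.Points.ofScheme V z)) c hcz.symm
      refine ⟨Points.map (fpPaste v g f) w, ?_, ?_⟩
      · rw [Set.mem_preimage, ← points_map_comp, points_map_congr σ]
        exact hw₂ ▸ hc
      · rw [← points_map_comp]
        exact hw₁
    · rintro ⟨d, hd, hdz⟩
      refine ⟨Points.map M d, hd, ?_⟩
      rw [← points_map_comp]
      show Points.map (BasedFunctor.comp (fpFst (BasedFunctor.comp v g) f) v) d = _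
      rw [points_map_comp, hdz]
  rw [e]
  exact (H _ (hC.preimage hM)).preimage
    ((isHomeomorph_stPt (spY V)).continuous.comp (AlgSp.Points.schemeHomeo V).continuous)

theorem isClosedMap_congr {g g' : 𝒵 ⥤ᵇ 𝒴} (α : g' ≅ g) (f : 𝒳 ⥤ᵇ 𝒴) (h𝒳 : IsAlgStack K 𝒳)
    (h𝒴 : IsAlgStack K 𝒴) (h𝒵 : IsAlgStack K 𝒵) (H : IsClosedMap (Points.map (fpFst g f))) :
    IsClosedMap (Points.map (fpFst g' f)) := by
  intro C hC
  let E := fpCongr α (Iso.refl f)
  obtain ⟨G, -, ⟨a⟩, ⟨b⟩⟩ := isEquivOver_inverse (isEquivOver_fpCongr α (Iso.refl f))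
  have hG : Continuous (Points.map G) := continuous_map' (isAlgStack_fp h𝒴.isStack h𝒴.diag h𝒵 h𝒳 g' f) G
  have e : Points.map E '' C = Points.map G ⁻¹' C := by
    refine congrFun (Set.image_eq_preimage_of_inverse (f := Points.map E) (g := Points.map G) (fun x => ?_) (fun x => ?_)) C
    · rw [← points_map_comp, points_map_congr a, points_map_id]
    · rw [← points_map_comp, points_map_congr b, points_map_id]
  have : Points.map (fpFst g' f) '' C = Points.map (fpFst g f) '' (Points.map E '' C) := by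
    rw [Set.image_image]
    refine Set.image_congr fun x _ => ?_
    rw [← points_map_comp]
    rfl
  rw [this, e]
  exact H _ (hC.preimage hG)

theorem isOpenMap_of_equiv {e : 𝒳 ⥤ᵇ 𝒴} (he : IsEquivOver e) (h : IsAlgStack K 𝒴) (W : Set (Points 𝒳)) (hW : IsOpen W) :
    IsOpen (Points.map e '' W) := by
  obtain ⟨G, hG, ⟨a⟩, ⟨b⟩⟩ := isEquivOver_inverse he
  have e' : Points.map e '' W = Points.map G ⁻¹' W :=
    congrFun (Set.image_eq_preimage_of_inverse (f := Points.map e) (g := Points.map G)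
      (fun x => by rw [← points_map_comp, points_map_congr a, points_map_id])
      (fun x => by rw [← points_map_comp, points_map_congr b, points_map_id])) W
  rw [e']
  intro U x hx
  rw [← Set.preimage_comp]
  have : Points.map G ∘ Points.ofChart x = Points.ofChart (BasedFunctor.comp x G) := funext fun t => by
    rw [Function.comp_apply, ofChart_eq, ofChart_eq, ← points_map_comp]; rfl
  rw [this]
  exact hW U (BasedFunctor.comp x G) ((repByAlgSpWith_postcomp_equiv hG).2 hx)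

theorem nonempty_overMap_ofOverCat' {T' T : Over S} (h : T' ⟶ T) (m : ofSch T ⥤ᵇ 𝒳) :
    Nonempty (BasedFunctor.comp (overMap h) (BasedFunctor.comp (ofOverCat T) m) ≅
      BasedFunctor.comp (ofOverCat T') (BasedFunctor.comp (ofSpMap ((AlgSp.yon S).map h)) m)) := by
  obtain ⟨j'⟩ := toOver_overMap h
  obtain ⟨u'⟩ := nonempty_ofOverCat_toOverCat T'
  obtain ⟨ω⟩ := isEquivOver_toOverCat_ofOverCat T
  exact ⟨(bLeft (ofOverCat T') (bLeft (ofSpMap ((AlgSp.yon S).map h)) (bRight ω.symm m) ≪≫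
    bRight j'.symm (BasedFunctor.comp (ofOverCat T) m)) ≪≫
    bRight u' (BasedFunctor.comp (overMap h) (BasedFunctor.comp (ofOverCat T) m))).symm⟩

/-- Two functors into a fibre product over a space are isomorphic as soon as their components are. -/
noncomputable def spFpNatIso {𝒜 ℬ 𝒲 : AlgSt.Cat S} {X : AlgSp.Sp S} {F : 𝒜 ⥤ᵇ ofSp X} {G : ℬ ⥤ᵇ ofSp X}
    {A B : 𝒲 ⥤ᵇ fp F G} (θ₁ : BasedFunctor.comp A (fpFst F G) ≅ BasedFunctor.comp B (fpFst F G))
    (θ₂ : BasedFunctor.comp A (fpSnd F G) ≅ BasedFunctor.comp B (fpSnd F G)) : A ≅ B :=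
  fpNatIso θ₁ θ₂ (fun z => by
    have hA : (ofSp X).p.IsHomLift (𝟙 (𝒲.p.obj z)) ((A.obj z).obj.iso.hom) := by
      have h : (ofSp X).p.IsHomLift (𝟙 (𝒜.p.obj (A.obj z).obj.fst)) (A.obj z).obj.iso.hom := (A.obj z).property
      rwa [show 𝒜.p.obj (A.obj z).obj.fst = 𝒲.p.obj z from A.w_obj z] at h
    have hB : (ofSp X).p.IsHomLift (𝟙 (𝒲.p.obj z)) ((B.obj z).obj.iso.hom) := by
      have h : (ofSp X).p.IsHomLift (𝟙 (𝒜.p.obj (B.obj z).obj.fst)) (B.obj z).obj.iso.hom := (B.obj z).property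
      rwa [show 𝒜.p.obj (B.obj z).obj.fst = 𝒲.p.obj z from B.w_obj z] at h
    have hl : (ofSp X).p.IsHomLift (𝟙 (𝒲.p.obj z))
        (F.map (θ₁.hom.toNatTrans.app z) ≫ (B.obj z).obj.iso.hom) :=
      @IsHomLift.comp_of_lift_id _ _ _ _ (ofSp X).p _ _ _ _ _ _
        (F.preserves_isHomLift (𝟙 _) (θ₁.hom.toNatTrans.app z)) hB
    have hr : (ofSp X).p.IsHomLift (𝟙 (𝒲.p.obj z))
        ((A.obj z).obj.iso.hom ≫ G.map (θ₂.hom.toNatTrans.app z)) :=
      @IsHomLift.comp_of_lift_id _ _ _ _ (ofSp X).p _ _ _ _ _ _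
        hA (G.preserves_isHomLift (𝟙 _) (θ₂.hom.toNatTrans.app z))
    exact Stk.EltObj.hom_ext ((@IsHomLift.fac' _ _ _ _ (ofSp X).p _ _ _ _ _ _ hl).trans
      (@IsHomLift.fac' _ _ _ _ (ofSp X).p _ _ _ _ _ _ hr).symm))

end Groth.Agent.AlgSt88
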