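import Groth.Agent.AlgSt88.QuotDiag
import Groth.Agent.AlgSt88.DiagDescent
import Groth.Agent.AlgSt88.QC
import Groth.Agent.AlgSt88.QCMorSt
import Groth.Agent.AlgSt88.PointsCmp
import Groth.Agent.SpFP87.RepDescProps
import Groth.Agent.SpFP87.EtLocInst
import Groth.Agent.S10271
import Groth.Prelude.Def_W4stkstmodspWNA

/-! Well-nigh affine stacks have finite diagonal. -/

set_option autoImplicit false
set_option maxHeartbeats 1000000
set_option linter.style.haveILetI false
set_option backward.isDefEq.respectTransparency false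
set_option backward.isDefEq.respectTransparency.types false
universe u

open CategoryTheory CategoryTheory.Limits AlgebraicGeometry Opposite AlgSt FibCat

namespace Groth.Agent.AlgSt88

variable {S : Scheme.{u}} {𝒳 : AlgSt.Cat S} (Q : MorphismProperty Scheme.{u})

/-- The diagonal is representable with fibres in `Q`. -/
abbrev DiagW : MorphismProperty (AlgSp.Sp S) := MorphismProperty.diagonal (AlgSp.RepWith Q)

theorem diagW_yon_map [Q.IsStableUnderBaseChange] {X t : Over S} (f : X ⟶ t) (hX : Q (pullback.diagonal f.left)) :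
    DiagW Q ((AlgSp.yon S).map f) := by
  have sqd : IsPullback (pullback.fst f f) (pullback.snd f f) f f := IsPullback.of_hasPullback f f
  let d : X ⟶ pullback f f := pullback.diagonal f
  have hdl : Q d.left := by
    have sql := sqd.map (Over.forget S)
    have : d.left = pullback.diagonal f.left ≫ sql.isoPullback.inv := by
      apply sql.hom_ext
      · rw [Category.assoc]
        erw [sql.isoPullback_inv_fst, pullback.diagonal_fst]
        exact congrArg (fun z => z.left) (pullback.diagonal_fst f)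
      · rw [Category.assoc]
        erw [sql.isoPullback_inv_snd, pullback.diagonal_snd]
        exact congrArg (fun z => z.left) (pullback.diagonal_snd f)
    rw [this]
    exact (MorphismProperty.cancel_right_of_respectsIso Q _ _).2 hX
  have sqy := sqd.map (AlgSp.yon S)
  have e : pullback.diagonal ((AlgSp.yon S).map f) = (AlgSp.yon S).map d ≫ sqy.isoPullback.hom := by
    apply pullback.hom_ext
    · rw [pullback.diagonal_fst, Category.assoc, sqy.isoPullback_hom_fst, ← Functor.map_comp,
        pullback.diagonal_fst, CategoryTheory.Functor.map_id]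
    · rw [pullback.diagonal_snd, Category.assoc, sqy.isoPullback_hom_snd, ← Functor.map_comp,
        pullback.diagonal_snd, CategoryTheory.Functor.map_id]
  change AlgSp.RepWith Q (pullback.diagonal ((AlgSp.yon S).map f))
  rw [e]
  haveI := (AlgSp.repWith_isStableUnderBaseChange (S := S) Q).respectsIso
  exact (MorphismProperty.cancel_right_of_respectsIso (AlgSp.RepWith Q) _ _).2
    ((AlgSp.repWith_yon_map_iff _ d).2 hdl)

theorem repByAlgSpWith_diagW_toSelf [Q.IsStableUnderBaseChange] (X : Over S) (hX : Q (pullback.diagonal X.hom)) :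
    RepByAlgSpWith (DiagW (S := S) Q) (toSelf (overCat X)) := by
  haveI := AlgSp.repWith_isStableUnderBaseChange (S := S) Q
  haveI hst : (DiagW (S := S) Q).IsStableUnderBaseChange := inferInstance
  have hbc : StableBC (DiagW (S := S) Q) := fun _ _ _ _ _ _ _ _ a b a' b' sq h => hst.of_isPullback sq h
  haveI hri : (DiagW (S := S) Q).RespectsIso := hst.respectsIso
  let t : Over S := Over.mk (𝟙 S)
  let f : X ⟶ t := Over.homMk X.hom (by simp [t])
  have hf : DiagW Q ((AlgSp.yon S).map f) :=
    diagW_yon_map Q f (by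
      have : Q (pullback.diagonal f.left) := hX
      exact this)
  obtain ⟨ι⟩ := overMap_iso f
  refine repByAlgSpWith_of_iso (f := BasedFunctor.comp (overMap f) (toSelf (overCat t))) (selfIso _ _)
    ((repByAlgSpWith_postcomp_equiv isEquivOver_toSelf_terminal).2 ?_)
  exact repByAlgSpWith_of_iso ι ((repByAlgSpWith_postcomp_equiv (isEquivOver_toOverCat t)).2
    ((repByAlgSpWith_precomp_equiv (isEquivOver_ofOverCat X)).2
      (repByAlgSpWith_ofSpMap hbc hri (F := ⟨_, AlgSp.IsAlgSpace.yon_obj X⟩)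
        (G := ⟨_, AlgSp.IsAlgSpace.yon_obj t⟩) _ hf)))

theorem cancels_repWith [Q.IsStableUnderBaseChange] [Q.IsStableUnderComposition] :
    CancelsAlong (AlgSp.RepWith (S := S) Q) (DiagW Q) :=
  fun _ _ _ _ _ _ _ _ hb hab => SpPts86.repWith_of_comp hb hab

theorem stableBC_repWith : StableBC (AlgSp.RepWith (S := S) Q) := fun _ _ _ _ _ _ _ _ _ _ _ _ sq h =>
  (AlgSp.repWith_isStableUnderBaseChange _).of_isPullback sq h

/-- A property of representable morphisms passes from a flat cover to the diagonal. -/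
theorem repWith_diag_of_cover [Q.IsStableUnderBaseChange] [Q.IsStableUnderComposition]
    (hloc : AlgSp.IsLocalOnBase (AlgSp.IsFppfCover (S := S)) (AlgSp.RepWith Q))
    (hX : IsFibGrpd 𝒳.p) (hdiag : RepByAlgSp1 (diag (toSelf 𝒳))) {U : Over S} {u : overCat U ⥤ᵇ 𝒳}
    (hu₁ : RepByAlgSpWith (AlgSp.LocP @Flat) u) (hu₂ : RepByAlgSpWith (AlgSp.LocP @LocallyOfFinitePresentation) u)
    (hus : RepByAlgSpWith AlgSp.IsSurjectiveMor u) (huQ : RepByAlgSpWith (AlgSp.RepWith Q) u)
    (hd : Q (pullback.diagonal U.hom)) :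
    RepByAlgSpWith (AlgSp.RepWith Q) (diag (toSelf 𝒳)) := by
  have hUf := isFibGrpd_overCat (C := Over S) U
  have hXX := isFibGrpd_fp hX hX isFibGrpd_selfOver (toSelf 𝒳) (toSelf 𝒳)
  have hUU := isFibGrpd_fp hUf hUf isFibGrpd_selfOver (toSelf (overCat U)) (toSelf (overCat U))
  let h' := prodMap u u
  have hh₁ : RepByAlgSpWith (AlgSp.LocP @Flat) h' :=
    repByAlgSpWith_prodFun hUf hUf hX hX (respectsIso_locP _) (spaceDescends_locP _) (stableComp_locP _) hu₁ hu₁ _
  have hh₂ : RepByAlgSpWith (AlgSp.LocP @LocallyOfFinitePresentation) h' :=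
    repByAlgSpWith_prodFun hUf hUf hX hX (respectsIso_locP _) (spaceDescends_locP _) (stableComp_locP _) hu₂ hu₂ _
  have hhs : RepByAlgSpWith AlgSp.IsSurjectiveMor h' :=
    repByAlgSpWith_prodFun hUf hUf hX hX respectsIso_surj spaceDescends_surj
      (fun _ _ _ _ _ _ a b ha hb y => by
        obtain ⟨y', rfl⟩ := hb y
        obtain ⟨x, rfl⟩ := ha y'
        exact ⟨x, AlgSp.Points.map_comp a b x⟩) hus hus _
  have hR : RepByAlgSpWith (AlgSp.RepWith Q) (fpFst h' (diag (toSelf 𝒳))) := by
    refine (repByAlgSpWith_precomp_equiv (isEquivOver_fpToDiag u u)).1 (repByAlgSpWith_of_comp (h := fpToProd u u)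
      (c := fpFst (toSelf (overCat U)) (toSelf (overCat U))) (stableBC_repWith Q)
      (AlgSp.repWith_isStableUnderBaseChange _).respectsIso (cancels_repWith Q)
      (repByAlgSpWith_fpFst _ (repByAlgSpWith_diagW_toSelf Q U hd)) ?_)
    exact repByAlgSpWith_of_iso (f := fpFst u u) (Iso.refl _) (repByAlgSpWith_fpFst u huQ)
  exact repByAlgSpWith_of_fpFst hX hXX hUU (stableBC_repWith Q) hloc hdiag h' hh₁ hh₂ hhs hR

/-- The diagonal of a well-nigh affine stack is finite. -/
theorem finite_diag_of_wellNighAffine (h𝒳 : IsAlgStack Scheme.fppfPrecoverage 𝒳) (hw : IsWellNighAffine 𝒳) :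
    RepByAlgSpWith (AlgSp.RepWith @IsFinite) (diag (toSelf 𝒳)) := by
  obtain ⟨U, u, hU, hu⟩ := hw
  haveI := hU
  haveI : IsSeparated U.hom := inferInstance
  exact repWith_diag_of_cover (@IsFinite)
    (fppf_local_of_fpqc (SpFP87.isLocalOnBase_fpqc_repWith Unr55.isFinite
      (fun _ _ k (_ : IsFinite k) => SpFP87.isIndQuasiAffineHom_of_isAffineHom k)))
    h𝒳.isStack.1 h𝒳.diag (repByAlgSpWith_mono (fun _ _ _ h => h.1.1.2) hu)
    (repByAlgSpWith_mono (fun _ _ _ h => h.2) hu) (repByAlgSpWith_mono (fun _ _ _ h => h.1.1.1) hu)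
    (repByAlgSpWith_mono_spaces (fun _ _ hA hB a ha => (SpFP87.repWith_isFinite_iff a hA hB).2 ha)
      (repByAlgSpWith_mono (fun _ _ _ h => h.1.2) hu))
    (inferInstanceAs (IsFinite (pullback.diagonal U.hom)))

theorem isProperMor_of_repWith_finite {F G : AlgSp.Sp S} (hF : AlgSp.IsAlgSpace F) (hG : AlgSp.IsAlgSpace G)
    (f : F ⟶ G) (h : AlgSp.RepWith @IsFinite f) : AlgSp.IsProperMor f :=
  ((S10271.result (X := ⟨F, hF⟩) (Y := ⟨G, hG⟩) ⟨f⟩).1 ((SpFP87.repWith_isFinite_iff f hF hG).1 h)).2

theorem props_of_wellNighAffine (h𝒳 : IsAlgStack Scheme.fppfPrecoverage 𝒳) (hw : IsWellNighAffine 𝒳) :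
    IsQuasiCompact 𝒳 ∧ IsQuasiDMOver 𝒳 ∧ IsSeparatedOver 𝒳 := by
  have hd := finite_diag_of_wellNighAffine h𝒳 hw
  refine ⟨?_, ?_, ?_⟩
  · obtain ⟨U, u, hU, hu⟩ := hw
    haveI := hU
    exact isQuasiCompact_of_surjective h𝒳 (isAlgStack_overCat U) u
      (isSurjective_of_sj h𝒳.isStack.1 (repByAlgSpWith_mono (fun _ _ _ h => h.1.1.1) hu))
      (isQuasiCompact_overCat U)
  · exact repByAlgSpWith_mono_spaces (fun A B hA hB a ha =>
      SpFP87.locP_of_repWith hA.diag hB (SpPts86.repWith_mono
        (fun _ _ f (hf : IsFinite f) => ⟨inferInstance, inferInstance⟩) ha)) hd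
  · exact repByAlgSpWith_mono_spaces (fun A B hA hB a ha => isProperMor_of_repWith_finite hA hB a ha) hd

end Groth.Agent.AlgSt88
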