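import Groth.Agent.AlgSt88.GenericFiniteEtale
import Groth.Agent.AlgSt88.InertiaSub
import Groth.Agent.AlgSt88.UCTop
import Groth.Agent.AlgSt88.SubstackCover
import Groth.Agent.AlgSt88.SmoothBase
import Groth.Agent.AlgSt88.KerTrivial
import Groth.Agent.AlgSt88.QuotDiag
import Groth.Agent.AlgSt88.EtaleSliceStack
import Groth.Agent.AlgSt88.WellNigh
import Groth.Agent.SpPts86.EtaleMor
import Groth.Agent.SpPts86.FiniteCrit

/-! The inertia of a reduced Deligne–Mumford stack is generically finite étale. -/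

set_option autoImplicit false
set_option maxHeartbeats 1000000
set_option linter.style.haveILetI false
set_option linter.unusedVariables false
set_option backward.isDefEq.respectTransparency false
set_option backward.isDefEq.respectTransparency.types false
universe u

open CategoryTheory CategoryTheory.Limits AlgebraicGeometry Opposite AlgSt FibCat

namespace Groth.Agent.AlgSt88

variable {S : Scheme.{u}} {𝒳 : AlgSt.Cat S}

/-- A chart of a stack locally of finite type over the base is locally of finite type over the base. -/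
theorem lft_hom_of_chart (hX : IsFibGrpd 𝒳.p) (h : LocQ (AlgSp.LocP @LocallyOfFiniteType) (toSelf 𝒳)) {Z : Over S}
    (p : overCat Z ⥤ᵇ 𝒳) (hp : Sm p) : LocallyOfFiniteType Z.hom := by
  let T₁ : Over S := Over.mk (𝟙 S)
  let Zs : AlgSp.Space S := ⟨(AlgSp.yon S).obj Z, AlgSp.IsAlgSpace.yon_obj Z⟩
  let Ts : AlgSp.Space S := ⟨(AlgSp.yon S).obj T₁, AlgSp.IsAlgSpace.yon_obj T₁⟩
  let t : Z ⟶ T₁ := Over.homMk Z.hom (Category.comp_id _)
  let y : ofSp Ts.obj ⥤ᵇ selfOver (Over S) := toSelf (ofSp ((AlgSp.yon S).obj T₁))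
  have hy : IsEquivOver y := isEquivOver_toSelf_ofSp_terminal
  let x : ofSp Zs.obj ⥤ᵇ 𝒳 := BasedFunctor.comp (toOverCat Z) p
  have hx : Sm x := (repByAlgSpWith_precomp_equiv (isEquivOver_toOverCat Z)).2 hp
  let l : ofSp Zs.obj ⥤ᵇ fp (toSelf 𝒳) y :=
    fpLift x (ofSpMap ((AlgSp.yon S).map t)) (selfIso _ _)
  have hl : Sm l := by
    refine (repByAlgSpWith_postcomp_equiv (isEquivOver_fpFst (toSelf 𝒳) hy)).1 ?_
    exact hx
  have hh := (spQ_of_locQ h).prop smoothLocal_lft hX isFibGrpd_selfOver (U := Zs) (V := Ts) y l (sm_equiv hy) hl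
  have hh' : AlgSp.LocP @LocallyOfFiniteType ((AlgSp.yon S).map t) := by
    rw [show BasedFunctor.comp l (fpSnd (toSelf 𝒳) y) = ofSpMap ((AlgSp.yon S).map t) from rfl,
      homOfBased_ofSpMap] at hh
    exact hh
  exact (SpFP87.locP_yon_map_iff (P := @LocallyOfFiniteType) t).1 hh'

/-- A smooth chart lifts to the substack of the objects with points in its image, surjectively. -/
theorem exists_lift_inPts (hX : IsFibGrpd 𝒳.p) {V : AlgSp.Space S} (v : ofSp V.obj ⥤ᵇ 𝒳) (hv : Sm v) :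
    ∃ g : ofSp V.obj ⥤ᵇ fullSub 𝒳 (InPts (Set.range (Points.map v))),
      Sm g ∧ Sj g ∧ Nonempty (BasedFunctor.comp g (subIncl 𝒳 (InPts (Set.range (Points.map v)))) ≅ v) := by
  let W := Set.range (Points.map v)
  have hY : IsFibGrpd (fullSub 𝒳 (InPts W)).p := isFibGrpd_fullSub hX fun g h => inPts_of_hom g h
  have hVg : IsFibGrpd (ofSp V.obj).p := Stk.isFibGrpd_ofPsh _
  have hmem : ∀ a : (ofSp V.obj).obj, InPts W (v.obj a) := fun a p g => by
    obtain ⟨a', ha', φ, hφ⟩ := fg_exists_lift hVg (x := a)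
      (eqToHom p.lies.symm ≫ 𝒳.p.map g ≫ eqToHom (v.w_obj a))
    refine ⟨Points.mk { K := p.K, str := p.str, obj := a', lies := ha' }, ?_⟩
    obtain ⟨χ, -, -⟩ := fg_exists_fac hX g (v.map φ) (eqToHom ((v.w_obj a').trans (ha'.trans p.lies.symm))) (by
      rw [p_map_eq, hφ]; simp)
    exact Points.sound ⟨{ K := p.K, str := p.str, obj := v.obj a', lies := (v.w_obj a').trans ha' }, 𝟙 _, χ, trivial⟩
  let g : ofSp V.obj ⥤ᵇ fullSub 𝒳 (InPts W) :=
    { toFunctor :=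
        { obj := fun a => ⟨v.obj a, hmem a⟩
          map := fun f => ObjectProperty.homMk (v.map f)
          map_id := fun a => ObjectProperty.hom_ext _ (v.map_id a)
          map_comp := fun f f' => ObjectProperty.hom_ext _ (v.map_comp f f') }
      w := v.w }
  let Φ : ofSp V.obj ⥤ᵇ fp (subIncl 𝒳 (InPts W)) v :=
    fpLift g (BasedFunctor.id _) (Iso.refl _)
  have hΦ : IsEquivOver Φ := by
    refine IsEquivData.isEquivOver ⟨?_, ?_, ?_⟩
    · intro a b f f' h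
      exact congrArg (fun t => t.hom.snd) h
    · intro a b k
      have hw : k.hom.fst.hom ≫ 𝟙 _ = 𝟙 _ ≫ v.map k.hom.snd := k.hom.w
      rw [Category.comp_id, Category.id_comp] at hw
      exact ⟨k.hom.snd, fpHom_ext (ObjectProperty.hom_ext _ hw.symm) rfl⟩
    · intro z
      let e₁ : g.obj z.obj.snd ≅ z.obj.fst :=
        (ObjectProperty.fullyFaithfulι _).preimageIso z.obj.iso.symm
      have he₁ : e₁.hom.hom = z.obj.iso.inv :=
        (ObjectProperty.fullyFaithfulι (InPts W)).map_preimage (X := g.obj z.obj.snd) (Y := z.obj.fst)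
          z.obj.iso.inv
      refine ⟨z.obj.snd, fpObjIso e₁ (Iso.refl _) ?_, fp_isHomLift _ ((fullSub_isHomLift_iff _ e₁.hom).2 ?_)⟩
      · change e₁.hom.hom ≫ z.obj.iso.hom = 𝟙 _ ≫ v.map (𝟙 _)
        rw [he₁, Iso.inv_hom_id]
        exact ((Category.id_comp _).trans (v.map_id _)).symm
      · rw [he₁]
        haveI h0 : 𝒳.p.IsHomLift (𝟙 ((fp (subIncl 𝒳 (InPts W)) v).p.obj z)) z.obj.iso.hom := z.property
        exact @IsHomLift.lift_id_inv _ _ _ _ 𝒳.p _ _ _ z.obj.iso h0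
  have hg : Sm g :=
    repByAlgSpWith_of_iso (f := BasedFunctor.comp Φ (fpFst (subIncl 𝒳 (InPts W)) v)) (Iso.refl _)
      ((repByAlgSpWith_precomp_equiv hΦ).2 (repByAlgSpWith_fpFst _ hv))
  refine ⟨g, hg, sj_of_isSurjective hVg hY (repByAlgSp1_of_with hg) fun y => ?_, ⟨Iso.refl _⟩⟩
  obtain ⟨q, rfl⟩ := Points.mk_surjective y
  obtain ⟨a, ha⟩ := q.obj.property (q.map (subIncl 𝒳 (InPts W))) (𝟙 _)
  haveI : (subIncl 𝒳 (InPts W)).toFunctor.Full := (ObjectProperty.fullyFaithfulι _).full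
  exact ⟨a, points_map_injective hY hX (subIncl 𝒳 (InPts W)) ((points_map_comp g _ a).symm.trans ha)⟩

theorem stableBC_finiteMor : StableBC (S := S) AlgSp.IsFiniteMor :=
  fun _ _ _ _ h1 h2 h3 h4 a b a' b' sq h =>
    (SpPts86.isFiniteMor_iff a').2 (stableBC_repWith (Q := @IsFinite) h1 h2 h3 h4 a b a' b' sq ((SpPts86.isFiniteMor_iff a).1 h))

/-- **Generic finiteness of inertia**: a reduced nonempty Deligne–Mumford stack of finite type with affine
diagonal over a Noetherian base has finite étale inertia over a nonempty open substack. -/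
theorem exists_openImm_finite_etale_inertia {K : Precoverage Scheme.{u}} [IsLocallyNoetherian S]
    (h𝒳 : IsDM K 𝒳) (hft : LocQ (AlgSp.LocP @LocallyOfFiniteType) (toSelf 𝒳))
    (hΔ : RepByAlgSpWith AlgSp.IsAffineMor (FibCat.diag (toSelf 𝒳)))
    (hred : SmoothLocally (fun T => IsReduced T) 𝒳) (hne : Nonempty (Points 𝒳)) :
    ∃ (𝒰 : AlgSt.Cat S) (j : 𝒰 ⥤ᵇ 𝒳), IsOpenImm j ∧ Nonempty (Points 𝒰) ∧
      RepByAlgSpWith (AlgSp.IsFiniteMor ⊓ AlgSp.IsEtaleMor) (inertiaToBase (toSelf 𝒰)) := by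
  have hA := h𝒳.1
  have hX := hA.isStack.1
  obtain ⟨U, x, hx, hxs⟩ := hA.atlas
  haveI := lft_hom_of_chart hX hft x hx
  haveI : IsLocallyNoetherian U.left := LocallyOfFiniteType.isLocallyNoetherian U.hom
  haveI : IsReduced U.left := hred U x hx
  let x' : ofSch U ⥤ᵇ 𝒳 := BasedFunctor.comp (toOverCat U) x
  have hx' : Sm x' := (repByAlgSpWith_precomp_equiv (isEquivOver_toOverCat U)).2 hx
  have hxs' : Sj x' := (repByAlgSpWith_precomp_equiv (isEquivOver_toOverCat U)).2 hxs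
  obtain ⟨p₀⟩ := hne
  obtain ⟨q₀, -⟩ := isSurjective_of_sj hX hxs' p₀
  obtain ⟨q₁, -⟩ := stPt_bijective.2 q₀
  obtain ⟨u₀, -⟩ := (AlgSp.Points.schemeHomeo U).surjective q₁
  obtain ⟨A, hA', hu₀, -⟩ := exists_isAffineOpen_mem_and_subset (x := u₀) (U := ⊤) trivial
  haveI : IsAffine A.toScheme := hA'
  haveI : Nonempty ↥A.toScheme := ⟨⟨u₀, hu₀⟩⟩
  haveI : IsReduced A.toScheme := isReduced_of_isOpenImmersion A.ι
  let A' : Over S := Over.mk (A.ι ≫ U.hom)
  let jA : A' ⟶ U := Over.homMk A.ι rfl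
  let y : ofSch A' ⥤ᵇ 𝒳 := BasedFunctor.comp (ofSpMap ((AlgSp.yon S).map jA)) x'
  let SA : AlgSp.Space S := ⟨(AlgSp.yon S).obj A', AlgSp.IsAlgSpace.yon_obj A'⟩
  have hy : Sm y := sm_comp (Stk.isFibGrpd_ofPsh _) (Stk.isFibGrpd_ofPsh _)
    (repByAlgSpWith_ofSpMap (stableBC_locP _) (respectsIso_locP _) (F := SA)
      (G := ⟨_, AlgSp.IsAlgSpace.yon_obj U⟩) _
      ((SpFP87.locP_yon_map_iff (P := @Smooth) jA).2 (inferInstanceAs (Smooth A.ι)))) hx'
  -- the inertia over the chart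
  haveI := Groth.Agent.SpPts86.lft_descends.{u}
  haveI := Groth.Agent.SpPts86.formallyUnramified_descends.{u}
  have hIa : RepByAlgSpWith AlgSp.IsAffineMor (inertiaToBase (toSelf 𝒳)) :=
    repByAlgSpWith_inertiaToBase hX (toSelf 𝒳) hΔ
  have hIu : RepByAlgSpWith (AlgSp.LocP (@LocallyOfFiniteType ⊓ @FormallyUnramified)) (inertiaToBase (toSelf 𝒳)) :=
    repByAlgSpWith_inertiaToBase hX (toSelf 𝒳) (isDMOver_of_isDM h𝒳)
  have hIn : IsFibGrpd (inertia (toSelf 𝒳)).p := isFibGrpd_inertia hX isFibGrpd_selfOver (toSelf 𝒳)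
  obtain ⟨F, a, e, he, ⟨α⟩, hQ⟩ := exists_space_fp hIn hX (repByAlgSp1_of_with hIa) SA y
  have ha₁ := isAffineMor_iff_repAff a |>.1 (spaceDescends_affine F SA a (hQ _ respectsIso_affine hIa))
  have ha₂ : AlgSp.LocP (@LocallyOfFiniteType ⊓ @FormallyUnramified) a :=
    spaceDescends_locP _ F SA a (hQ _ (respectsIso_locP _) hIu)
  obtain ⟨Wi, g, fst, sq⟩ := ha₁.1 (𝟙 ((AlgSp.yon S).obj A'))
  haveI : IsAffineHom g.left := ha₁.2 _ _ _ sq
  haveI : IsIso fst := sq.isIso_fst_of_isIso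
  have hfac : fst ≫ a = (AlgSp.yon S).map g := sq.w.trans (Category.comp_id _)
  have hg₂ : (@LocallyOfFiniteType ⊓ @FormallyUnramified : MorphismProperty Scheme.{u}) g.left := by
    haveI := respectsIso_locP (S := S) (@LocallyOfFiniteType ⊓ @FormallyUnramified)
    refine (SpFP87.locP_yon_map_iff (P := @LocallyOfFiniteType ⊓ @FormallyUnramified) g).1 ?_
    rw [← hfac]
    exact (MorphismProperty.cancel_left_of_respectsIso _ fst a).2 ha₂
  haveI := hg₂.1
  haveI := hg₂.2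
  haveI : IsAffine A'.left := hA'
  haveI : IsReduced A'.left := inferInstanceAs (IsReduced A.toScheme)
  haveI : Nonempty ↥A'.left := inferInstanceAs (Nonempty ↥A.toScheme)
  obtain ⟨D, hDne, hfin, het⟩ := exists_open_finite_etale g.left
  let D' : Over S := Over.mk (D.ι ≫ A'.hom)
  let jD : D' ⟶ A' := Over.homMk D.ι rfl
  let SD : AlgSp.Space S := ⟨(AlgSp.yon S).obj D', AlgSp.IsAlgSpace.yon_obj D'⟩
  let yD : ofSp SD.obj ⥤ᵇ 𝒳 := BasedFunctor.comp (ofSpMap ((AlgSp.yon S).map jD)) y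
  have hyD : Sm yD := sm_comp (Stk.isFibGrpd_ofPsh _) (Stk.isFibGrpd_ofPsh _)
    (repByAlgSpWith_ofSpMap (stableBC_locP _) (respectsIso_locP _) (F := SD) (G := SA) _
      ((SpFP87.locP_yon_map_iff (P := @Smooth) jD).2 (inferInstanceAs (Smooth D.ι)))) hy
  let W := Set.range (Points.map yD)
  have hW : IsOpen W :=
    (isOpenMap_of_flat_lfp hX yD (rep_flat_of_sm hyD) (rep_lfp_of_sm hyD)).isOpen_range
  have hj : IsOpenImm (subIncl 𝒳 (InPts W)) :=
    rep_inPts_of_continuous hX (fun z => continuous_ofChart' hA z) hW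
  obtain ⟨gD, hgD, hgDs, ⟨ι₀⟩⟩ := exists_lift_inPts hX yD hyD
  refine ⟨fullSub 𝒳 (InPts W), subIncl 𝒳 (InPts W), hj, ?_, ?_⟩
  · obtain ⟨t, ht⟩ := hDne
    exact ⟨Points.map gD (stPt _ (AlgSp.Points.schemeHomeo D' ⟨t, ht⟩))⟩
  -- the inertia over the open piece of the chart
  have hY : IsFibGrpd (fullSub 𝒳 (InPts W)).p := isFibGrpd_fullSub hX fun g h => inPts_of_hom g h
  have hInW : IsFibGrpd (inertia (toSelf (fullSub 𝒳 (InPts W)))).p :=
    isFibGrpd_inertia hY isFibGrpd_selfOver _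
  obtain ⟨F', a', e', he', ⟨α'⟩, -⟩ := exists_space_fp hIn hX (repByAlgSp1_of_with hIa) SD yD
  obtain ⟨γ, sqD, -⟩ := exists_bc (inertiaToBase (toSelf 𝒳)) (V := SA) (G := SD) y e he a α
    (ofSpMap ((AlgSp.yon S).map jD)) ((AlgSp.yon S).map jD) (Iso.refl _) yD (Iso.refl _) e' he' a' α'
  let Pr : Over S := Over.mk ((g.left ⁻¹ᵁ D).ι ≫ Wi.hom)
  let iP : Pr ⟶ Wi := Over.homMk (g.left ⁻¹ᵁ D).ι rfl
  let gP : Pr ⟶ D' := Over.homMk (g.left ∣_ D) (by
    change (g.left ∣_ D) ≫ D.ι ≫ A'.hom = (g.left ⁻¹ᵁ D).ι ≫ Wi.hom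
    rw [morphismRestrict_ι_assoc, Over.w g])
  have sqO : IsPullback iP gP g jD :=
    IsPullback.of_map (Over.forget S) (Over.OverMorphism.ext (morphismRestrict_ι g.left D).symm)
      (isPullback_morphismRestrict g.left D).flip
  have sqY := sqO.map (AlgSp.yon S)
  have sqD' : IsPullback ((AlgSp.yon S).map iP ≫ fst) ((AlgSp.yon S).map gP) a ((AlgSp.yon S).map jD) :=
    IsPullback.of_iso sqY (Iso.refl _) (asIso fst) (Iso.refl _) (Iso.refl _) (by simp) (by simp)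
      (by simp [hfac]) (by simp)
  have he₁ : (sqD.isoIsPullback _ _ sqD').hom ≫ (AlgSp.yon S).map gP = a' :=
    IsPullback.isoIsPullback_hom_snd _ _ _ _
  have hfin' : AlgSp.IsFiniteMor a' := by
    haveI := respectsIso_finite (S := S)
    rw [← he₁]
    refine (MorphismProperty.cancel_left_of_respectsIso _ _ _).2 ((SpPts86.isFiniteMor_iff _).2 ?_)
    exact (AlgSp.repWith_yon_map_iff _ gP).2 hfin
  have het' : AlgSp.LocP @Etale a' := by
    haveI := respectsIso_locP (S := S) @Etale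
    rw [← he₁]
    refine (MorphismProperty.cancel_left_of_respectsIso _ _ _).2 ?_
    exact (SpFP87.locP_yon_map_iff (P := @Etale) gP).2 het
  let Θ : fp gD (inertiaToBase (toSelf (fullSub 𝒳 (InPts W)))) ⥤ᵇ fp yD (inertiaToBase (toSelf 𝒳)) :=
    BasedFunctor.comp (fpMapSnd gD (fpFst (subIncl 𝒳 (InPts W)) (inertiaToBase (toSelf 𝒳))) (inertiaSubFp (InPts W)))
      (BasedFunctor.comp (fpPaste gD (subIncl 𝒳 (InPts W)) (inertiaToBase (toSelf 𝒳)))
        (fpCongr ι₀ (Iso.refl (inertiaToBase (toSelf 𝒳)))))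
  have hΘ : IsEquivOver Θ :=
    isEquivOver_comp (isEquivOver_fpMapSnd _ _ _ (isEquivOver_inertiaSubFp _))
      (isEquivOver_comp (isEquivOver_fpPaste _ _ _) (isEquivOver_fpCongr _ _))
  obtain ⟨Θ', hΘ', -, ⟨η⟩⟩ := isEquivOver_inverse hΘ
  have hrep : ∀ (P : MorphismProperty (AlgSp.Sp S)), P a' → RepSp P (fpFst gD (inertiaToBase (toSelf (fullSub 𝒳 (InPts W))))) :=
    fun P hP => RepSp.transport (q := fpFst yD (inertiaToBase (toSelf 𝒳)))
      ⟨F', e', he', by rw [homOfBased_congr α', homOfBased_ofSpMap]; exact hP⟩ hΘ'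
      (bRight η (fpFst yD (inertiaToBase (toSelf 𝒳))) : BasedFunctor.comp Θ' (fpFst gD _) ≅ _)
  have hr1 : RepByAlgSp1 (inertiaToBase (toSelf (fullSub 𝒳 (InPts W)))) :=
    repByAlgSpWith_top_iff.1 (repByAlgSpWith_of_iso
      (f := BasedFunctor.comp (inertiaSubFp (InPts W)) (fpFst (subIncl 𝒳 (InPts W)) (inertiaToBase (toSelf 𝒳)))) (Iso.refl _)
      ((repByAlgSpWith_precomp_equiv (isEquivOver_inertiaSubFp _)).2
        (repByAlgSpWith_fpFst _ (repByAlgSpWith_top_iff.2 (repByAlgSp1_of_with hIa)))))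
  have h1 : RepByAlgSpWith AlgSp.IsFiniteMor (inertiaToBase (toSelf (fullSub 𝒳 (InPts W)))) :=
    repByAlgSpWith_of_repSp_cover hInW hY stableBC_finiteMor (fppf_local_of_fpqc SpFP87.isLocalOnBase_fpqc_finite)
      hr1 SD gD (rep_flat_of_sm hgD) (rep_lfp_of_sm hgD) hgDs (hrep _ hfin')
  have h2 : RepByAlgSpWith (AlgSp.LocP @Etale) (inertiaToBase (toSelf (fullSub 𝒳 (InPts W)))) :=
    repByAlgSpWith_of_repSp_cover hInW hY (stableBC_locP _) fppf_local_etale
      hr1 SD gD (rep_flat_of_sm hgD) (rep_lfp_of_sm hgD) hgDs (hrep _ het')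
  haveI := respectsIso_finite (S := S)
  intro T z
  obtain ⟨G, eG, heG, hG₁, hG₂⟩ := repByAlgSpWith_inf h1 h2 T z
  exact ⟨G, eG, heG, hG₁, SpPts86.isEtaleMor_of_locP_etale (AlgSp.IsAlgSpace.yon_obj T) hG₂⟩

end Groth.Agent.AlgSt88
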