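import Groth.Agent.AlgSt88.PLocus
import Groth.Agent.SpFP87.ThickOpen
import Groth.Agent.AlgSt88.RepCrit

/-!
The largest open substack on which a representable morphism has a property, and its base change.
-/

set_option autoImplicit false
set_option maxHeartbeats 1000000
set_option linter.style.haveILetI false
set_option backward.isDefEq.respectTransparency false
set_option backward.isDefEq.respectTransparency.types false
universe u

open CategoryTheory CategoryTheory.Limits AlgebraicGeometry Opposite AlgSt FibCat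

namespace Groth.Agent.AlgSt88

variable {S : Scheme.{u}} {𝒳 𝒴 𝒵 : AlgSt.Cat S} {P Q R : MorphismProperty (AlgSp.Sp S)}

/-- The largest open subspace on which a morphism has a property. -/
abbrev IsLargest (P : MorphismProperty (AlgSp.Sp S)) {X Y : AlgSp.Space S} (f : X ⟶ Y) (W : AlgSp.Space S)
    (w : W ⟶ X) : Prop :=
  AlgSp.RepWith @IsOpenImmersion w.hom ∧ P (w ≫ f).hom ∧
    ∀ (W₁ : AlgSp.Space S) (w₁ : W₁ ⟶ X), AlgSp.RepWith @IsOpenImmersion w₁.hom → P (w₁ ≫ f).hom →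
      ∃ k : W₁ ⟶ W, k ≫ w = w₁

/-- Properties behaving as in the statement. -/
structure GoodLocus (P Q R : MorphismProperty (AlgSp.Sp S)) : Prop where
  pB : StableBC P
  qB : StableBC Q
  pL : AlgSp.IsLocalOnBase AlgSp.IsFppfCover P
  qL : AlgSp.IsLocalOnBase AlgSp.IsFppfCover Q
  rB : StableBC R
  rL : AlgSp.IsLocalOnBase AlgSp.IsFppfCover R
  rSmooth : ∀ (X Y : AlgSp.Space S) (g : X ⟶ Y), AlgSp.LocP @Smooth g.hom → R g.hom
  exists_largest : ∀ (X Y : AlgSp.Space S) (f : X ⟶ Y), Q f.hom →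
    ∃ (W : AlgSp.Space S) (w : W ⟶ X), IsLargest P f W w
  largest_bc : ∀ (X Y X' Y' : AlgSp.Space S) (f : X ⟶ Y) (g : Y' ⟶ Y) (f' : X' ⟶ Y') (g' : X' ⟶ X),
    IsPullback g'.hom f'.hom f.hom g.hom → Q f.hom → R g.hom →
    ∀ (W : AlgSp.Space S) (w : W ⟶ X), IsLargest P f W w →
      ∀ (W' : AlgSp.Space S) (w' : W' ⟶ X') (k : W' ⟶ W), IsPullback k.hom w'.hom w.hom g'.hom → IsLargest P f' W' w'

theorem prop_of_rep (hX : IsFibGrpd 𝒳.p) (hY : IsFibGrpd 𝒴.p) (hB : StableBC P)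
    (hL : AlgSp.IsLocalOnBase AlgSp.IsFppfCover P) {f : 𝒳 ⥤ᵇ 𝒴} (h : RepByAlgSpWith P f)
    {G F : AlgSp.Space S} (m : ofSp G.obj ⥤ᵇ 𝒴) {e : ofSp F.obj ⥤ᵇ fp m f} (he : IsEquivOver e)
    {a : F.obj ⟶ G.obj} (α : BasedFunctor.comp e (fpFst m f) ≅ ofSpMap a) : P a := by
  haveI := onSpaces_respectsIso hL
  have := ((repSp_onSpaces_iff.2 ((repByAlgSpWith_iff_repSp hX hY hB hL).1 h G m)).any he).2.2
  rwa [homOfBased_congr α, homOfBased_ofSpMap] at this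

theorem repSp_of_equiv {G F : AlgSp.Space S} {𝒞 : AlgSt.Cat S} {q : 𝒞 ⥤ᵇ ofSp G.obj} {E : ofSp F.obj ⥤ᵇ 𝒞}
    (hE : IsEquivOver E) {a : F.obj ⟶ G.obj} (α : BasedFunctor.comp E q ≅ ofSpMap a) (h : P a) : RepSp P q :=
  ⟨F, E, hE, by rw [homOfBased_congr α, homOfBased_ofSpMap]; exact h⟩

/-- The inverse image of an open substack in a chart of a base change. -/
theorem exists_sub_space (hX : IsFibGrpd 𝒳.p) (hY : IsFibGrpd 𝒴.p) (f : 𝒳 ⥤ᵇ 𝒴) {V F : AlgSp.Space S}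
    (y : ofSp V.obj ⥤ᵇ 𝒴) (e : ofSp F.obj ⥤ᵇ fp y f) (he : IsEquivOver e) (a : F.obj ⟶ V.obj)
    (α : BasedFunctor.comp e (fpFst y f) ≅ ofSpMap a) {Q₁ : 𝒳.obj → Prop}
    (hQ₁ : IsOpenSubstack 𝒳 Q₁ Scheme.fppfPrecoverage) :
    ∃ (W : AlgSp.Space S) (π : W.obj ⟶ F.obj) (E : ofSp W.obj ⥤ᵇ fp y (BasedFunctor.comp (subIncl 𝒳 Q₁) f)),
      IsEquivOver E ∧ AlgSp.RepWith @IsOpenImmersion π ∧
      Nonempty (BasedFunctor.comp E (fpFst y (BasedFunctor.comp (subIncl 𝒳 Q₁) f)) ≅ ofSpMap (π ≫ a)) ∧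
      ∀ τ, τ ∈ Set.range (AlgSp.Points.map π) ↔
        Points.map (BasedFunctor.comp e (fpSnd y f)) (stPt _ τ) ∈ Set.range (Points.map (subIncl 𝒳 Q₁)) := by
  let ι₀ := subIncl 𝒳 Q₁
  let m := fpMapSnd y f ι₀
  have hFQ : IsFibGrpd (fullSub 𝒳 Q₁).p := hQ₁.2.1.isStack.1
  have hV := Stk.isFibGrpd_ofPsh V.obj.obj
  have hF := Stk.isFibGrpd_ofPsh F.obj.obj
  have hC : IsFibGrpd (fp y f).p := isFibGrpd_fp hV hX hY y f
  have hD : IsFibGrpd (fp y (BasedFunctor.comp ι₀ f)).p := isFibGrpd_fp hV hFQ hY _ _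
  have hm : RepByAlgSpWith (AlgSp.RepWith @IsOpenImmersion) m := repByAlgSpWith_fpMapSnd y f hQ₁.2.2
  obtain ⟨W, π, E₀, hE₀, ⟨απ⟩, hπ⟩ := exists_space_fp hD hC (repByAlgSp1_of_with hm) F e
  have hπo : AlgSp.RepWith @IsOpenImmersion π :=
    spaceDescends_repWith _ W F π (hπ _ inferInstance hm)
  have hsnd : IsEquivOver (fpSnd e m) :=
    isEquivOver_of_iso (F := BasedFunctor.comp (fpSwap e m) (fpFst m e)) (Iso.refl _)
      (isEquivOver_comp isEquivOver_fpSwap (isEquivOver_fpFst m he))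
  have key : BasedFunctor.comp (ofSpMap π) e ≅ BasedFunctor.comp (BasedFunctor.comp E₀ (fpSnd e m)) m :=
    bRight απ.symm e ≪≫ bLeft E₀ (fpIso e m)
  obtain ⟨c⟩ := nonempty_ofSpMap_comp π a
  refine ⟨W, π, BasedFunctor.comp E₀ (fpSnd e m), isEquivOver_comp hE₀ hsnd, hπo,
    ⟨bRight key.symm (fpFst y f) ≪≫ bLeft (ofSpMap π) α ≪≫ c.symm⟩, fun τ => ⟨?_, ?_⟩⟩
  · rintro ⟨ψ, rfl⟩
    rw [← stPt_natural π, ← points_map_comp]
    refine (congrArg (· ∈ _) (points_map_congr (bRight key (fpSnd y f)) _)).mpr ?_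
    exact ⟨Points.map (BasedFunctor.comp (BasedFunctor.comp E₀ (fpSnd e m)) (fpSnd y (BasedFunctor.comp ι₀ f)))
      (stPt _ ψ), (points_map_comp _ _ _).symm⟩
  · rintro ⟨z, hz⟩
    let π₀ := fpSnd y f
    rw [points_map_comp] at hz
    obtain ⟨u, hu₁, -⟩ := exists_points_fp hX hFQ hC ι₀ π₀ (Points.map e (stPt _ τ)) z hz.symm
    let T : fp π₀ ι₀ ⥤ᵇ fp y (BasedFunctor.comp ι₀ f) :=
      fpLift (BasedFunctor.comp (fpFst π₀ ι₀) (fpFst y f)) (fpSnd π₀ ι₀)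
        (bLeft (fpFst π₀ ι₀) (fpIso y f) ≪≫ bRight (fpIso π₀ ι₀) f)
    have σ : BasedFunctor.comp T m ≅ fpFst π₀ ι₀ :=
      fpNatIso (Φ := BasedFunctor.comp T m) (Ψ := fpFst π₀ ι₀) (Iso.refl _) (fpIso π₀ ι₀).symm (fun x => by
        change y.map (𝟙 _) ≫ x.obj.fst.obj.iso.hom =
          (x.obj.fst.obj.iso.hom ≫ f.map x.obj.iso.hom) ≫ f.map x.obj.iso.inv
        rw [map_id', Category.id_comp, Category.assoc, ← f.toFunctor.map_comp, Iso.hom_inv_id, f.toFunctor.map_id,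
          Category.comp_id])
    have hw : Points.map m (Points.map T u) = Points.map e (stPt _ τ) := by
      rw [← points_map_comp, points_map_congr σ]
      exact hu₁
    obtain ⟨v, hv, -⟩ := exists_points_fp hC hD hF m e _ _ hw.symm
    obtain ⟨v', rfl⟩ := (points_map_bijective hE₀).2 v
    obtain ⟨ψ, rfl⟩ := stPt_bijective.2 v'
    refine ⟨ψ, stPt_bijective.1 ?_⟩
    rw [← stPt_natural π, ← points_map_congr απ, points_map_comp]
    exact hv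

/-- The inverse image of a subspace. -/
theorem exists_preimage {X X' W : AlgSp.Space S} (w : W ⟶ X) (g : X'.obj ⟶ X.obj) :
    ∃ (W' : AlgSp.Space S) (w' : W' ⟶ X') (k : W' ⟶ W), IsPullback k.hom w'.hom w.hom g ∧
      ∀ τ, τ ∈ Set.range (AlgSp.Points.map w'.hom) ↔
        AlgSp.Points.map g τ ∈ Set.range (AlgSp.Points.map w.hom) := by
  have sq := IsPullback.of_hasPullback w.hom g
  refine ⟨⟨pullback w.hom g, SpFP87.isAlgSpace_of_isPullback sq W.property X'.property X.property.diag⟩,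
    ObjectProperty.homMk (pullback.snd w.hom g), ObjectProperty.homMk (pullback.fst w.hom g), sq, fun τ => ⟨?_, ?_⟩⟩
  · rintro ⟨z, rfl⟩
    refine ⟨AlgSp.Points.map (pullback.fst w.hom g) z, ?_⟩
    show _ = AlgSp.Points.map g (AlgSp.Points.map (pullback.snd w.hom g) z)
    rw [← AlgSp.Points.map_comp, ← AlgSp.Points.map_comp, sq.w]
  · rintro ⟨x, hx⟩
    obtain ⟨z, -, hz⟩ := SpPts86.exists_of_isPullback sq x τ hx
    exact ⟨z, hz⟩

theorem range_subset_of_largest {X Y W W₁ : AlgSp.Space S} {f : X ⟶ Y} {w : W ⟶ X} (h : IsLargest P f W w)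
    {w₁ : W₁ ⟶ X} (ho : AlgSp.RepWith @IsOpenImmersion w₁.hom) (hp : P (w₁ ≫ f).hom) :
    Set.range (AlgSp.Points.map w₁.hom) ⊆ Set.range (AlgSp.Points.map w.hom) := by
  obtain ⟨k, hk⟩ := h.2.2 W₁ w₁ ho hp
  rintro _ ⟨z, rfl⟩
  exact ⟨AlgSp.Points.map k.hom z, by rw [← AlgSp.Points.map_comp, ← hk]; rfl⟩

variable (h : GoodLocus P Q R) (h𝒳 : IsAlgStack Scheme.fppfPrecoverage 𝒳) (h𝒴 : IsAlgStack Scheme.fppfPrecoverage 𝒴)
  (f : 𝒳 ⥤ᵇ 𝒴) (hf : RepByAlgSpWith Q f) {V : Over S} (y : ofSch V ⥤ᵇ 𝒴) (hy : Sm y)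
  {F : AlgSp.Space S} (a : F ⟶ spY V) (e : ofSp F.obj ⥤ᵇ fp y f) (he : IsEquivOver e)
  (α : BasedFunctor.comp e (fpFst y f) ≅ ofSpMap a.hom) {W : AlgSp.Space S} (w : W ⟶ F) (hW : IsLargest P a W w)

include h h𝒳 h𝒴 hf hy he α hW in
theorem saturated (φ₁ φ₂ : AlgSp.Points F.obj)
    (hq : Points.map (BasedFunctor.comp e (fpSnd y f)) (stPt _ φ₁) =
      Points.map (BasedFunctor.comp e (fpSnd y f)) (stPt _ φ₂))
    (h₁ : φ₁ ∈ Set.range (AlgSp.Points.map w.hom)) : φ₂ ∈ Set.range (AlgSp.Points.map w.hom) := by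
  have hX := h𝒳.isStack.1
  have hY := h𝒴.isStack.1
  have hV : IsFibGrpd (ofSch V).p := Stk.isFibGrpd_ofPsh _
  obtain ⟨V₂, b₁, e₂, he₂, ⟨γ₁⟩⟩ := exists_space_fp_chart hV hY (rep1_ofSch h𝒴 y) (spY V) y
  obtain ⟨γ₂⟩ := exists_hom_iso (BasedFunctor.comp e₂ (fpSnd y y))
  let b₂ := homOfBased (BasedFunctor.comp e₂ (fpSnd y y))
  have hs₁ : AlgSp.LocP @Smooth b₁ :=
    prop_of_rep hV hY (stableBC_locP _) (fppf_local_of_fpqc (S10542.result S)) hy (G := spY V) y he₂ γ₁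
  have hs₂ : AlgSp.LocP @Smooth b₂ :=
    prop_of_rep hV hY (stableBC_locP _) (fppf_local_of_fpqc (S10542.result S)) hy (G := spY V) y
      (e := BasedFunctor.comp e₂ (fpSwap y y)) (isEquivOver_comp he₂ isEquivOver_fpSwap) γ₂
  let Φ₁ := BasedFunctor.comp e₂ (fpFst y y)
  let Φ₂ := BasedFunctor.comp e₂ (fpSnd y y)
  let β₂ : BasedFunctor.comp Φ₁ y ≅ BasedFunctor.comp Φ₂ y := bLeft e₂ (fpIso y y)
  obtain ⟨F', a', e', he', ⟨α'⟩⟩ := exists_space_fp_chart hX hY (repByAlgSp1_of_with hf) V₂ (BasedFunctor.comp Φ₁ y)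
  obtain ⟨g₁, sq₁, ⟨c₁⟩⟩ := exists_bc f (V := spY V) y e he a.hom α Φ₁ b₁ γ₁ (BasedFunctor.comp Φ₁ y)
    (Iso.refl _) e' he' a' α'
  obtain ⟨g₂, sq₂, ⟨c₂⟩⟩ := exists_bc f (V := spY V) y e he a.hom α Φ₂ b₂ γ₂ (BasedFunctor.comp Φ₁ y)
    β₂ e' he' a' α'
  have hQa : Q a.hom := prop_of_rep hX hY h.qB h.qL hf (G := spY V) y he α
  obtain ⟨W₁, w₁, k₁, s₁, r₁⟩ := exists_preimage w g₁
  obtain ⟨W₂, w₂, k₂, s₂, r₂⟩ := exists_preimage w g₂
  have L₁ : IsLargest P (ObjectProperty.homMk a' : F' ⟶ V₂) W₁ w₁ :=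
    h.largest_bc F (spY V) F' V₂ a (ObjectProperty.homMk b₁) _ (ObjectProperty.homMk g₁) sq₁ hQa
      (h.rSmooth V₂ (spY V) (ObjectProperty.homMk b₁) hs₁) W w hW W₁ w₁ k₁ s₁
  have L₂ : IsLargest P (ObjectProperty.homMk a' : F' ⟶ V₂) W₂ w₂ :=
    h.largest_bc F (spY V) F' V₂ a (ObjectProperty.homMk b₂) _ (ObjectProperty.homMk g₂) sq₂ hQa
      (h.rSmooth V₂ (spY V) (ObjectProperty.homMk b₂) hs₂) W w hW W₂ w₂ k₂ s₂
  have hsub := range_subset_of_largest L₂ L₁.1 L₁.2.1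
  obtain ⟨z, hz₁, hz₂⟩ := exists_pair_point hX hV hY f y (Points.map e (stPt _ φ₁)) (Points.map e (stPt _ φ₂))
    (by rw [← points_map_comp, ← points_map_comp]; exact hq)
  obtain ⟨z', rfl⟩ := (points_map_bijective
    (isEquivOver_fpMapFst (BasedFunctor.comp (fpFst y y) y) f e₂ he₂)).2 z
  obtain ⟨v, rfl⟩ := (points_map_bijective he').2 z'
  obtain ⟨r, rfl⟩ := stPt_bijective.2 v
  let M := fpMapFst (BasedFunctor.comp (fpFst y y) y) f e₂
  have σ₁ : BasedFunctor.comp (fpCongr (Iso.refl (BasedFunctor.comp Φ₁ y)) (Iso.refl f)) (fpMapFst y f Φ₁) ≅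
      BasedFunctor.comp M (fpMapFst y f (fpFst y y)) :=
    fpNatIso (Φ := BasedFunctor.comp (fpCongr (Iso.refl (BasedFunctor.comp Φ₁ y)) (Iso.refl f)) (fpMapFst y f Φ₁))
      (Ψ := BasedFunctor.comp M (fpMapFst y f (fpFst y y))) (Iso.refl _) (Iso.refl _) (fun x => by
        change y.map (𝟙 _) ≫ x.obj.iso.hom = (𝟙 _ ≫ x.obj.iso.hom ≫ 𝟙 _) ≫ f.map (𝟙 _)
        rw [map_id', map_id']
        simp)
  have σ₂ : BasedFunctor.comp (fpCongr β₂ (Iso.refl f)) (fpMapFst y f Φ₂) ≅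
      BasedFunctor.comp (BasedFunctor.comp M (fpCongr (fpIso y y) (Iso.refl f))) (fpMapFst y f (fpSnd y y)) :=
    fpNatIso (Φ := BasedFunctor.comp (fpCongr β₂ (Iso.refl f)) (fpMapFst y f Φ₂))
      (Ψ := BasedFunctor.comp (BasedFunctor.comp M (fpCongr (fpIso y y) (Iso.refl f))) (fpMapFst y f (fpSnd y y)))
      (Iso.refl _) (Iso.refl _) (fun x => by
        change y.map (𝟙 _) ≫ ((e₂.obj x.obj.fst).obj.iso.inv ≫ x.obj.iso.hom ≫ 𝟙 _) =
          ((e₂.obj x.obj.fst).obj.iso.inv ≫ x.obj.iso.hom ≫ 𝟙 _) ≫ f.map (𝟙 _)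
        rw [map_id', map_id']
        simp)
  have e₁' : AlgSp.Points.map g₁ r = φ₁ := stPt_bijective.1 ((points_map_bijective he).1 (by
    rw [← stPt_natural g₁, ← points_map_comp, points_map_congr (c₁ ≪≫ bLeft e' σ₁), points_map_comp,
      points_map_comp]
    exact hz₁))
  have e₂' : AlgSp.Points.map g₂ r = φ₂ := stPt_bijective.1 ((points_map_bijective he).1 (by
    rw [← stPt_natural g₂, ← points_map_comp, points_map_congr (c₂ ≪≫ bLeft e' σ₂), points_map_comp,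
      points_map_comp, points_map_comp]
    exact hz₂))
  rw [← e₂']
  exact (r₂ r).1 (hsub ((r₁ r).2 (e₁'.symm ▸ h₁)))

include h h𝒳 h𝒴 hf hy he α hW in
theorem largest_substack (hy' : Sj y) :
    ∃ Q₀ : 𝒳.obj → Prop, IsOpenSubstack 𝒳 Q₀ Scheme.fppfPrecoverage ∧
      RepByAlgSpWith P (BasedFunctor.comp (subIncl 𝒳 Q₀) f) ∧
      (∀ τ, Points.map (BasedFunctor.comp e (fpSnd y f)) (stPt _ τ) ∈ Set.range (Points.map (subIncl 𝒳 Q₀)) ↔
        τ ∈ Set.range (AlgSp.Points.map w.hom)) ∧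
      ∀ Q₁ : 𝒳.obj → Prop, IsOpenSubstack 𝒳 Q₁ Scheme.fppfPrecoverage →
        RepByAlgSpWith P (BasedFunctor.comp (subIncl 𝒳 Q₁) f) → ∀ x, Q₁ x → Q₀ x := by
  have hX := h𝒳.isStack.1
  have hY := h𝒴.isStack.1
  have hV : IsFibGrpd (ofSch V).p := Stk.isFibGrpd_ofPsh _
  let q := BasedFunctor.comp e (fpSnd y f)
  have hq : Sm q := (repByAlgSpWith_precomp_equiv he).2 (repByAlgSpWith_fpSnd f hy)
  have hq' : Sj q := (repByAlgSpWith_precomp_equiv he).2 (repByAlgSpWith_fpSnd f hy')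
  let A : Set (Points 𝒳) := Points.map q '' (stPt _ '' Set.range (AlgSp.Points.map w.hom))
  have hA : IsOpen A := by
    refine isOpenMap_of_flat_lfp hX q (rep_flat_of_sm hq) (rep_lfp_of_sm hq) _ ?_
    exact (isHomeomorph_stPt F).isOpenMap _
      (isOpenMap_of_smooth (openImm_smooth W.property F.property hW.1)).isOpen_range
  have hQ := isOpenSubstack_inPts h𝒳 hA
  have hsat : ∀ τ, Points.map q (stPt _ τ) ∈ A ↔ τ ∈ Set.range (AlgSp.Points.map w.hom) := by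
    refine fun τ => ⟨?_, fun hτ => ⟨_, ⟨τ, hτ, rfl⟩, rfl⟩⟩
    rintro ⟨_, ⟨τ', hτ', rfl⟩, e'⟩
    exact saturated h h𝒳 h𝒴 f hf y hy a e he α w hW τ' τ e' hτ'
  refine ⟨InPts A, hQ, ?_, fun τ => by rw [range_subIncl_inPts]; exact hsat τ, fun Q₁ hQ₁ hP₁ => ?_⟩
  · haveI := faithful_of_repByAlgSp1 hX hY (repByAlgSp1_of_with hf)
    haveI : (BasedFunctor.comp (subIncl 𝒳 (InPts A)) f).toFunctor.Faithful :=
      inferInstanceAs (ObjectProperty.ι (InPts A) ⋙ f.toFunctor).Faithful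
    refine repByAlgSpWith_of_repSp_cover hQ.2.1.isStack.1 hY h.pB h.pL (repByAlgSp1_of_faithful hQ.2.1 h𝒴)
      (spY V) y (rep_flat_of_sm hy) (rep_lfp_of_sm hy) hy' ?_
    obtain ⟨W', π, E, hE, hπ, ⟨β⟩, hr⟩ := exists_sub_space hX hY f (V := spY V) y e he a.hom α hQ
    obtain ⟨i, hi⟩ := SpFP87.exists_iso_of_range_eq hπ hW.1 (Set.ext fun τ => by
      rw [hr, range_subIncl_inPts]; exact hsat τ)
    refine repSp_of_equiv hE β ?_
    haveI := onSpaces_respectsIso h.pL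
    have : onSpaces P ((w ≫ a).hom) := ⟨W.property, AlgSp.IsAlgSpace.yon_obj V, hW.2.1⟩
    have := (MorphismProperty.RespectsIso.precomp (onSpaces P) i.hom _ this).2.2
    rwa [show i.hom ≫ (w ≫ a).hom = π ≫ a.hom from by rw [← hi, Category.assoc]; rfl] at this
  · refine (substack_le_iff h𝒳 hQ₁ hQ).2 fun x hx => ?_
    rw [range_subIncl_inPts]
    obtain ⟨v, rfl⟩ := isSurjective_of_sj hX hq' x
    obtain ⟨τ, rfl⟩ := stPt_bijective.2 v
    obtain ⟨W', π, E, hE, hπ, ⟨β⟩, hr⟩ := exists_sub_space hX hY f (V := spY V) y e he a.hom α hQ₁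
    have hp : P (π ≫ a.hom) := prop_of_rep hQ₁.2.1.isStack.1 hY h.pB h.pL hP₁ (G := spY V) y hE β
    exact (hsat τ).2 (range_subset_of_largest hW (w₁ := (ObjectProperty.homMk π : W' ⟶ F)) hπ hp ((hr τ).2 hx))

include h h𝒳 h𝒴 hf in
/-- There is a largest open substack with the property. -/
theorem exists_largest_substack :
    ∃ Q₀ : 𝒳.obj → Prop, IsOpenSubstack 𝒳 Q₀ Scheme.fppfPrecoverage ∧
      RepByAlgSpWith P (BasedFunctor.comp (subIncl 𝒳 Q₀) f) ∧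
      ∀ Q₁ : 𝒳.obj → Prop, IsOpenSubstack 𝒳 Q₁ Scheme.fppfPrecoverage →
        RepByAlgSpWith P (BasedFunctor.comp (subIncl 𝒳 Q₁) f) → ∀ x, Q₁ x → Q₀ x := by
  have hX := h𝒳.isStack.1
  have hY := h𝒴.isStack.1
  obtain ⟨V, y, hy, hy'⟩ := exists_space_atlas h𝒴
  obtain ⟨F, a, e, he, ⟨α⟩⟩ := exists_space_fp_chart hX hY (repByAlgSp1_of_with hf) (spY V) y
  obtain ⟨W, w, hW⟩ := h.exists_largest F (spY V) (ObjectProperty.homMk a)
    (prop_of_rep hX hY h.qB h.qL hf (G := spY V) y he α)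
  obtain ⟨Q₀, h₀, h₁, -, h₂⟩ := largest_substack h h𝒳 h𝒴 f hf y hy (ObjectProperty.homMk a) e he α w hW hy'
  exact ⟨Q₀, h₀, h₁, h₂⟩

end Groth.Agent.AlgSt88
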