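import Groth.Agent.AlgSt88.DiagCover
import Groth.Agent.AlgSt88.EquivCrit
import Groth.Agent.AlgSt88.RepSp

/-! The product over the base of two representable categories. -/

set_option autoImplicit false
set_option linter.style.haveILetI false
set_option backward.isDefEq.respectTransparency false
set_option backward.isDefEq.respectTransparency.types false
universe u

open CategoryTheory CategoryTheory.Limits AlgebraicGeometry Opposite AlgSt FibCat

namespace Groth.Agent.AlgSt88

variable {S : Scheme.{u}}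

/-- The product over `S`. -/
noncomputable abbrev overProd (A B : Over S) : Over S := Over.mk (pullback.fst A.hom B.hom ≫ A.hom)

noncomputable abbrev overProdFst (A B : Over S) : overProd A B ⟶ A := Over.homMk (pullback.fst _ _) rfl

noncomputable abbrev overProdSnd (A B : Over S) : overProd A B ⟶ B :=
  Over.homMk (pullback.snd _ _) pullback.condition.symm

noncomputable abbrev toProdOfSch (A B : Over S) :
    ofSch (overProd A B) ⥤ᵇ fp (toSelf (ofSch A)) (toSelf (ofSch B)) :=
  fpLift (ofSpMap ((AlgSp.yon S).map (overProdFst A B))) (ofSpMap ((AlgSp.yon S).map (overProdSnd A B))) (selfIso _ _)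

theorem isEquivOver_toProdOfSch (A B : Over S) : IsEquivOver (toProdOfSch A B) := by
  refine IsEquivData.isEquivOver ⟨fun f g h => ?_, fun {x x'} g => ?_, fun y => ?_⟩
  · exact Stk.EltObj.hom_ext (congrArg (fun q => q.hom) (congrArg (fun q => q.hom.fst) h) : f.hom = g.hom)
  · let f₀ : x.base ⟶ x'.base := g.hom.fst.hom
    have h1 : f₀ ≫ x'.sec.down ≫ overProdFst A B = x.sec.down ≫ overProdFst A B :=
      congrArg ULift.down g.hom.fst.map_sec
    have hsnd : g.hom.snd.hom = f₀ := by
      have h := g.hom.w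
      change f₀ ≫ 𝟙 _ = 𝟙 _ ≫ g.hom.snd.hom at h
      rw [Category.comp_id, Category.id_comp] at h
      exact h.symm
    have h2 : f₀ ≫ x'.sec.down ≫ overProdSnd A B = x.sec.down ≫ overProdSnd A B := by
      rw [← hsnd]
      exact congrArg ULift.down g.hom.snd.map_sec
    have h0 : f₀ ≫ x'.sec.down = x.sec.down := by
      apply Over.OverMorphism.ext
      apply pullback.hom_ext
      · have := congrArg CommaMorphism.left h1
        simpa using this
      · have := congrArg CommaMorphism.left h2
        simpa using this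
    refine ⟨⟨f₀, congrArg ULift.up h0⟩, ?_⟩
    apply ObjectProperty.hom_ext
    exact CategoricalPullback.hom_ext (Stk.EltObj.hom_ext rfl) (Stk.EltObj.hom_ext hsnd.symm)
  · obtain ⟨⟨⟨T, ⟨a⟩⟩, ⟨T', ⟨b⟩⟩, i⟩, hi⟩ := y
    change (selfOver (Over S)).p.IsHomLift (𝟙 T) i.hom at hi
    obtain rfl : T = T' := (@IsHomLift.codomain_eq _ _ _ _ (selfOver (Over S)).p _ _ _ _ _ _ hi).symm
    have hid : i.hom = 𝟙 T := by
      have := @IsHomLift.fac' _ _ _ _ (selfOver (Over S)).p _ _ _ _ _ _ hi
      exact this.trans (by simp; rfl)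
    let c : T ⟶ overProd A B := Over.homMk (pullback.lift a.left b.left ((Over.w a).trans (Over.w b).symm)) (by
      show _ ≫ pullback.fst _ _ ≫ A.hom = _
      rw [pullback.lift_fst_assoc]; exact Over.w a)
    have hc₁ : c ≫ overProdFst A B = a := Over.OverMorphism.ext (pullback.lift_fst _ _ _)
    have hc₂ : c ≫ overProdSnd A B = b := Over.OverMorphism.ext (pullback.lift_snd _ _ _)
    let x : (ofSch (overProd A B)).obj := ⟨T, ⟨c⟩⟩
    let e₁ : ((toProdOfSch A B).obj x).obj.fst ≅ ⟨T, ⟨a⟩⟩ :=
      { hom := ⟨𝟙 T, congrArg ULift.up ((Category.id_comp a).trans hc₁.symm)⟩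
        inv := ⟨𝟙 T, congrArg ULift.up ((Category.id_comp _).trans hc₁)⟩
        hom_inv_id := Stk.EltObj.hom_ext (Category.id_comp _)
        inv_hom_id := Stk.EltObj.hom_ext (Category.id_comp _) }
    let e₂ : ((toProdOfSch A B).obj x).obj.snd ≅ ⟨T, ⟨b⟩⟩ :=
      { hom := ⟨𝟙 T, congrArg ULift.up ((Category.id_comp b).trans hc₂.symm)⟩
        inv := ⟨𝟙 T, congrArg ULift.up ((Category.id_comp _).trans hc₂)⟩
        hom_inv_id := Stk.EltObj.hom_ext (Category.id_comp _)
        inv_hom_id := Stk.EltObj.hom_ext (Category.id_comp _) }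
    refine ⟨x, (fpProp _ _).isoMk (CategoricalPullback.mkIso e₁ e₂ ?_), ?_⟩
    · change 𝟙 T ≫ i.hom = 𝟙 T ≫ 𝟙 T
      rw [hid]
    · exact IsHomLift.of_fac' _ _ _ rfl rfl (by
        change 𝟙 T = eqToHom _ ≫ 𝟙 T ≫ eqToHom _
        simp)

end Groth.Agent.AlgSt88
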