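import Groth.Agent.AlgSt88.DenseLiftSt
import Groth.Agent.AlgSt88.DiagCover
import Groth.Agent.AlgSt88.ProdOver
import Groth.Agent.AlgSt88.PLocusMain
import Groth.Agent.AlgSt88.LocalProps
import Groth.Agent.SpPts86.QCQS

/-! Quasi-compactness of the diagonal from quasi-compact automorphisms and generic isomorphisms. -/

set_option autoImplicit false
set_option maxHeartbeats 1000000
set_option linter.style.haveILetI false
set_option linter.unusedVariables false
set_option backward.isDefEq.respectTransparency false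
set_option backward.isDefEq.respectTransparency.types false
universe u

open CategoryTheory CategoryTheory.Limits AlgebraicGeometry Opposite AlgSt FibCat TopologicalSpace

namespace Groth.Agent.AlgSt88

variable {S : Scheme.{u}} {𝒳 : AlgSt.Cat S}

/-- Two functors to a product over the base. -/
noncomputable def toProdNatIso {𝒲 : AlgSt.Cat S} {A B : 𝒲 ⥤ᵇ fp (toSelf 𝒳) (toSelf 𝒳)}
    (θ₁ : BasedFunctor.comp A (fpFst (toSelf 𝒳) (toSelf 𝒳)) ≅ BasedFunctor.comp B (fpFst (toSelf 𝒳) (toSelf 𝒳)))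
    (θ₂ : BasedFunctor.comp A (fpSnd (toSelf 𝒳) (toSelf 𝒳)) ≅ BasedFunctor.comp B (fpSnd (toSelf 𝒳) (toSelf 𝒳))) :
    A ≅ B :=
  fpNatIso θ₁ θ₂ (fun z => by
    refine self_hom_ext (𝟙 (𝒲.p.obj z)) ?_ ?_
    · exact @IsHomLift.comp_of_lift_id _ _ _ _ (selfOver (Over S)).p _ _ _ _ _ _
        ((toSelf 𝒳).preserves_isHomLift (𝟙 _) (θ₁.hom.toNatTrans.app z))
        (by
          have h : (selfOver (Over S)).p.IsHomLift (𝟙 (𝒳.p.obj (B.obj z).obj.fst)) (B.obj z).obj.iso.hom :=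
            (B.obj z).property
          rwa [show 𝒳.p.obj (B.obj z).obj.fst = 𝒲.p.obj z from B.w_obj z] at h)
    · exact @IsHomLift.comp_of_lift_id _ _ _ _ (selfOver (Over S)).p _ _ _ _ _ _
        (by
          have h : (selfOver (Over S)).p.IsHomLift (𝟙 (𝒳.p.obj (A.obj z).obj.fst)) (A.obj z).obj.iso.hom :=
            (A.obj z).property
          rwa [show 𝒳.p.obj (A.obj z).obj.fst = 𝒲.p.obj z from A.w_obj z] at h)
        ((toSelf 𝒳).preserves_isHomLift (𝟙 _) (θ₂.hom.toNatTrans.app z)))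

/-- An affine chart whose image in a scheme is compact pulls back to a compact space of points. -/
theorem isQuasiCompactMor_of_affine_preimage {U : Over S} [QuasiSeparatedSpace ↥U.left] {F : AlgSp.Space S}
    (a : F.obj ⟶ (AlgSp.yon S).obj U)
    (h : ∀ V : U.left.Opens, IsAffineOpen V →
      IsCompact {p | AlgSp.Points.map a p ∈ AlgSp.Points.schemeHomeo U '' (V : Set ↥U.left)}) :
    AlgSp.IsQuasiCompactMor a := by
  refine SpPts86.isQuasiCompactMor_of_affine F.property (AlgSp.IsAlgSpace.yon_obj U) fun T hT g Q fT sT sq => ?_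
  haveI := hT
  obtain ⟨g₀, rfl⟩ := (AlgSp.yon S).map_surjective g
  choose V hV hmem using fun u : ↥U.left =>
    exists_isAffineOpen_mem_and_subset (U := (⊤ : U.left.Opens)) (x := u) trivial
  obtain ⟨s, hs⟩ := (isCompact_range g₀.left.continuous).elim_finite_subcover (fun u => (V u : Set ↥U.left))
    (fun u => (V u).2) (fun u _ => Set.mem_iUnion.2 ⟨u, (hmem u).1⟩)
  let K := ⋃ u ∈ s, {p | AlgSp.Points.map a p ∈ AlgSp.Points.schemeHomeo U '' (V u : Set ↥U.left)}
  have hK : IsCompact K := s.finite_toSet.isCompact_biUnion fun u _ => h _ (hV u)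
  obtain ⟨R', π, hπ, hπs⟩ := F.property.atlas
  choose r hr using fun p => SpPts86.surjective_ofPt hπs p
  choose W hW hWmem using fun x : ↥R'.left =>
    exists_isAffineOpen_mem_and_subset (U := (⊤ : R'.left.Opens)) (x := x) trivial
  obtain ⟨t, ht⟩ := hK.elim_finite_subcover
    (fun x => AlgSp.Points.ofPt π '' (W x : Set ↥R'.left)) (fun x => SpPts86.isOpenMap_ofPt hπ _ (W x).2)
    (fun p _ => Set.mem_iUnion.2 ⟨r p, r p, (hWmem (r p)).1, hr p⟩)
  let O : R'.left.Opens := ⨆ x ∈ t, W x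
  have hOmem : ∀ {z}, z ∈ O ↔ ∃ x ∈ t, z ∈ W x := by
    intro z
    simp only [O, TopologicalSpace.Opens.mem_iSup, exists_prop]
  have hOc : IsCompact (O : Set ↥R'.left) := by
    rw [show (O : Set ↥R'.left) = ⋃ x ∈ t, (W x : Set ↥R'.left) by ext z; simp [hOmem]]
    exact t.finite_toSet.isCompact_biUnion fun x _ => (hW x).isCompact
  let O' : Over S := Over.mk (O.ι ≫ R'.hom)
  haveI : CompactSpace ↥O'.left := isCompact_iff_compactSpace.1 hOc
  let i : O' ⟶ R' := Over.homMk O.ι rfl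
  obtain ⟨m, hm⟩ := (AlgSp.yon S).map_surjective ((AlgSp.yon S).map i ≫ π ≫ a)
  haveI : QuasiCompact m.left := quasiCompact_of_compactSpace _
  have sqY := (IsPullback.of_hasPullback m g₀).map (AlgSp.yon S)
  rw [hm, ← Category.assoc] at sqY
  have sq2 := IsPullback.of_hasPullback fT ((AlgSp.yon S).map i ≫ π)
  have big := sq2.flip.paste_vert sq
  haveI : CompactSpace ↥(pullback m g₀).left := by
    haveI : QuasiCompact (pullback.snd m g₀).left :=
      MorphismProperty.of_isPullback (P := @QuasiCompact) ((IsPullback.of_hasPullback m g₀).map (Over.forget S))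
        ‹QuasiCompact m.left›
    exact QuasiCompact.compactSpace_of_compactSpace (pullback.snd m g₀).left
  haveI := SpPts86.compactSpace_points_yon (pullback m g₀)
  let j := sqY.isoIsPullback _ _ big
  refine SpPts86.compactSpace_of_surjectiveMor (f := j.hom ≫ pullback.fst fT ((AlgSp.yon S).map i ≫ π)) fun x => ?_
  obtain ⟨z, hz⟩ := (AlgSp.Points.schemeHomeo T).surjective (AlgSp.Points.map sT x)
  have hfx : AlgSp.Points.map a (AlgSp.Points.map fT x) = AlgSp.Points.schemeHomeo U (g₀.left z) := by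
    rw [← AlgSp.Points.map_comp, sq.w, AlgSp.Points.map_comp, ← hz]
    exact AlgSp.Points.map_yon_map_apply g₀ z
  obtain ⟨u, hu, huz⟩ := Set.mem_iUnion₂.1 (hs ⟨z, rfl⟩)
  obtain ⟨w, hw, o, ho, e⟩ := Set.mem_iUnion₂.1 (ht (Set.mem_iUnion₂.2 ⟨u, hu, ⟨_, huz, hfx.symm⟩⟩))
  obtain ⟨q, hq, -⟩ := SpPts86.exists_of_isPullback sq2 x
    (AlgSp.Points.schemeHomeo O' ⟨o, hOmem.2 ⟨w, hw, ho⟩⟩) (by
      rw [AlgSp.Points.map_comp, ← e, AlgSp.Points.ofPt_eq_map_ofScheme]
      exact congrArg (AlgSp.Points.map π) (AlgSp.Points.map_yon_map_apply i (⟨o, hOmem.2 ⟨w, hw, ho⟩⟩ : O.toScheme)).symm)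
  refine ⟨AlgSp.Points.map j.inv q, ?_⟩
  rw [AlgSp.Points.map_comp, ← AlgSp.Points.map_comp j.inv, Iso.inv_hom_id, AlgSp.Points.map_id, hq]

variable {U : Over S} (w : ofSch U ⥤ᵇ fp (toSelf 𝒳) (toSelf 𝒳))

/-- The first object of a pair. -/
abbrev pairFst : ofSch U ⥤ᵇ 𝒳 := BasedFunctor.comp w (fpFst (toSelf 𝒳) (toSelf 𝒳))
/-- The second object of a pair. -/
abbrev pairSnd : ofSch U ⥤ᵇ 𝒳 := BasedFunctor.comp w (fpSnd (toSelf 𝒳) (toSelf 𝒳))

variable {w} {F : AlgSp.Space S} {e : ofSp F.obj ⥤ᵇ fp w (diag (toSelf 𝒳))} {a : F.obj ⟶ (AlgSp.yon S).obj U}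
  (α : BasedFunctor.comp e (fpFst w (diag (toSelf 𝒳))) ≅ ofSpMap a)

include α in
/-- A point of the space of isomorphisms gives an isomorphism over a field. -/
theorem exists_field_iso (p : AlgSp.Points F.obj) :
    ∃ (L : Type u) (_ : Field L) (g : Spec (CommRingCat.of L) ⟶ U.left),
      (∀ z, AlgSp.Points.schemeHomeo U (g z) = AlgSp.Points.map a p) ∧
      Nonempty (BasedFunctor.comp (ofSpMap ((AlgSp.yon S).map (Over.homMk g rfl : Over.mk (g ≫ U.hom) ⟶ U)))
          (pairFst w) ≅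
        BasedFunctor.comp (ofSpMap ((AlgSp.yon S).map (Over.homMk g rfl : Over.mk (g ≫ U.hom) ⟶ U)))
          (pairSnd w)) := by
  obtain ⟨R', π, hπ, hπs⟩ := F.property.atlas
  obtain ⟨r, rfl⟩ := SpPts86.surjective_ofPt hπs p
  obtain ⟨m, hm⟩ := (AlgSp.yon S).map_surjective (π ≫ a)
  refine ⟨R'.left.residueField r, inferInstance, R'.left.fromSpecResidueField r ≫ m.left, fun z => ?_, ?_⟩
  · rw [AlgSp.Points.ofPt_eq_map_ofScheme, ← AlgSp.Points.map_comp, ← hm, Scheme.Hom.comp_apply]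
    exact (congrArg (fun y => AlgSp.Points.schemeHomeo U (m.left y)) (Scheme.fromSpecResidueField_apply r z)).trans
      (AlgSp.Points.map_yon_map_apply m r).symm
  · let T : Over S := Over.mk ((R'.left.fromSpecResidueField r ≫ m.left) ≫ U.hom)
    let i : T ⟶ R' := Over.homMk (R'.left.fromSpecResidueField r) (by
      show _ = (_ ≫ _) ≫ _
      rw [Category.assoc, Over.w m])
    let g : T ⟶ U := Over.homMk (R'.left.fromSpecResidueField r ≫ m.left) rfl
    have hg : ((AlgSp.yon S).map i ≫ π) ≫ a = (AlgSp.yon S).map g := by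
      rw [Category.assoc, ← hm, ← (AlgSp.yon S).map_comp]
      exact congrArg _ (Over.OverMorphism.ext rfl)
    obtain ⟨c⟩ := nonempty_ofSpMap_comp ((AlgSp.yon S).map i ≫ π) a
    rw [hg] at c
    let L := BasedFunctor.comp (ofSpMap ((AlgSp.yon S).map i ≫ π)) e
    let θ : BasedFunctor.comp (BasedFunctor.comp L (fpFst w (diag (toSelf 𝒳)))) w ≅
        BasedFunctor.comp (ofSpMap ((AlgSp.yon S).map g)) w :=
      bRight (bLeft (ofSpMap ((AlgSp.yon S).map i ≫ π)) α ≪≫ c.symm) w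
    let η := bLeft L (fpIso w (diag (toSelf 𝒳)))
    exact ⟨bRight θ.symm (fpFst (toSelf 𝒳) (toSelf 𝒳)) ≪≫ bRight η (fpFst (toSelf 𝒳) (toSelf 𝒳)) ≪≫
      (bRight η (fpSnd (toSelf 𝒳) (toSelf 𝒳))).symm ≪≫ bRight θ (fpSnd (toSelf 𝒳) (toSelf 𝒳))⟩

end Groth.Agent.AlgSt88
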