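import Groth.Agent.AlgSt88.GenericIsom
import Groth.Agent.AlgSt88.ValWitness
import Groth.Agent.AlgSt88.DiagDescent
import Groth.Agent.SpFP87.FpqcRep

/-! Quasi-compactness of the diagonal from quasi-compact automorphisms and generic isomorphisms. -/

set_option autoImplicit false
set_option maxHeartbeats 1000000
set_option linter.style.haveILetI false
set_option linter.unusedVariables false
set_option backward.isDefEq.respectTransparency false
set_option backward.isDefEq.respectTransparency.types false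
universe u

open CategoryTheory CategoryTheory.Limits AlgebraicGeometry Opposite AlgSt FibCat TopologicalSpace

namespace Groth.Agent.AlgSt88

variable {S : Scheme.{u}} {𝒳 : AlgSt.Cat S}

theorem nonempty_overMap_ofOverCat {T' T : Over S} (h : T' ⟶ T) (m : ofSch T ⥤ᵇ 𝒳) :
    Nonempty (BasedFunctor.comp (overMap h) (BasedFunctor.comp (ofOverCat T) m) ≅
      BasedFunctor.comp (ofOverCat T') (BasedFunctor.comp (ofSpMap ((AlgSp.yon S).map h)) m)) := by
  obtain ⟨j'⟩ := toOver_overMap h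
  obtain ⟨u'⟩ := nonempty_ofOverCat_toOverCat T'
  obtain ⟨ω⟩ := isEquivOver_toOverCat_ofOverCat T
  exact ⟨(bLeft (ofOverCat T') (bLeft (ofSpMap ((AlgSp.yon S).map h)) (bRight ω.symm m) ≪≫
    bRight j'.symm (BasedFunctor.comp (ofOverCat T) m)) ≪≫
    bRight u' (BasedFunctor.comp (overMap h) (BasedFunctor.comp (ofOverCat T) m))).symm⟩

theorem nonempty_overMap_ofSpMap {T' T U : Over S} (h : T' ⟶ T) (k : T ⟶ U) (m : ofSch U ⥤ᵇ 𝒳) :
    Nonempty (BasedFunctor.comp (overMap h)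
        (BasedFunctor.comp (ofOverCat T) (BasedFunctor.comp (ofSpMap ((AlgSp.yon S).map k)) m)) ≅
      BasedFunctor.comp (ofOverCat T') (BasedFunctor.comp (ofSpMap ((AlgSp.yon S).map (h ≫ k))) m)) := by
  obtain ⟨j⟩ := nonempty_overMap_ofOverCat h (BasedFunctor.comp (ofSpMap ((AlgSp.yon S).map k)) m)
  obtain ⟨c⟩ := nonempty_ofSpMap_comp ((AlgSp.yon S).map h) ((AlgSp.yon S).map k)
  rw [← (AlgSp.yon S).map_comp] at c
  exact ⟨j ≪≫ bLeft (ofOverCat T') (bRight c.symm m)⟩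

theorem compactSpace_fibre_of_isom
    (hi : ∀ (U : Over S), IsAffine U.left → ∀ (x : overCat U ⥤ᵇ 𝒳),
      ∃ (F : AlgSp.Space S) (e : ofSp F.obj ⥤ᵇ fp (fpLift x x (Iso.refl _)) (diag (toSelf 𝒳))),
        IsEquivOver e ∧ AlgSp.IsQuasiCompactMor (spMapOfOver (BasedFunctor.comp e (fpFst _ _))))
    {U : Over S} {w : ofSch U ⥤ᵇ fp (toSelf 𝒳) (toSelf 𝒳)} {F : AlgSp.Space S}
    {e : ofSp F.obj ⥤ᵇ fp w (diag (toSelf 𝒳))} (he : IsEquivOver e) {a : F.obj ⟶ (AlgSp.yon S).obj U}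
    (α : BasedFunctor.comp e (fpFst w (diag (toSelf 𝒳))) ≅ ofSpMap a)
    {T' : Over S} [IsAffine T'.left] (k' : T' ⟶ U)
    (θ : BasedFunctor.comp (ofOverCat T') (BasedFunctor.comp (ofSpMap ((AlgSp.yon S).map k')) (pairFst w)) ≅
      BasedFunctor.comp (ofOverCat T') (BasedFunctor.comp (ofSpMap ((AlgSp.yon S).map k')) (pairSnd w))) :
    IsCompact {p | AlgSp.Points.map a p ∈ AlgSp.Points.schemeHomeo U '' Set.range k'.left} := by
  let x' := BasedFunctor.comp (ofOverCat T') (BasedFunctor.comp (ofSpMap ((AlgSp.yon S).map k')) (pairFst w))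
  obtain ⟨G, eG, heG, hb⟩ := hi T' inferInstance x'
  let c := fpLift x' x' (Iso.refl (BasedFunctor.comp x' (toSelf 𝒳)))
  haveI : CompactSpace ↥T'.left := isCompact_univ_iff.1 (isAffineOpen_top T'.left).isCompact
  haveI := SpPts86.compactSpace_points_yon T'
  haveI : CompactSpace (AlgSp.Points G.obj) := SpPts86.compactSpace_points_of_isQuasiCompactSp
    (hb (AlgSp.IsAlgSpace.yon_obj T') (SpPts86.isQuasiCompactSp_yon T') (𝟙 _) (𝟙 _)
      (spMapOfOver (BasedFunctor.comp eG (fpFst c (diag (toSelf 𝒳))))) (IsPullback.of_horiz_isIso ⟨(Category.id_comp _).trans (Category.comp_id _).symm⟩))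
  let m : ofSch T' ⥤ᵇ fp (toSelf 𝒳) (toSelf 𝒳) := BasedFunctor.comp (ofSpMap ((AlgSp.yon S).map k')) w
  let γ : c ≅ BasedFunctor.comp (ofOverCat T') m :=
    toProdNatIso (A := c) (B := BasedFunctor.comp (ofOverCat T') m) (Iso.refl x') θ
  let e' : ofSp G.obj ⥤ᵇ fp m (diag (toSelf 𝒳)) :=
    BasedFunctor.comp (BasedFunctor.comp eG (fpCongr γ (Iso.refl _))) (fpMapFst m (diag (toSelf 𝒳)) (ofOverCat T'))
  have he' : IsEquivOver e' := isEquivOver_comp (isEquivOver_comp heG (isEquivOver_fpCongr _ _))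
    (isEquivOver_fpMapFst _ _ _ (isEquivOver_ofOverCat T'))
  obtain ⟨α'⟩ := exists_hom_iso (BasedFunctor.comp e' (fpFst m (diag (toSelf 𝒳))))
  obtain ⟨g, sq, -⟩ := exists_bc (diag (toSelf 𝒳)) (V := spY U) (G := spY T') (F := F) (F' := G) w e he a α
    (ofSpMap ((AlgSp.yon S).map k')) ((AlgSp.yon S).map k') (Iso.refl _) m (Iso.refl _) e' he' _ α'
  have : Set.range (AlgSp.Points.map g) =
      {p | AlgSp.Points.map a p ∈ AlgSp.Points.schemeHomeo U '' Set.range k'.left} := by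
    ext p
    constructor
    · rintro ⟨q, rfl⟩
      obtain ⟨z, hz⟩ := (AlgSp.Points.schemeHomeo T').surjective
        (AlgSp.Points.map (homOfBased (BasedFunctor.comp e' (fpFst m (diag (toSelf 𝒳))))) q)
      refine ⟨k'.left z, ⟨z, rfl⟩, ?_⟩
      rw [← AlgSp.Points.map_comp, sq.w, AlgSp.Points.map_comp, ← hz]
      exact (AlgSp.Points.map_yon_map_apply k' z).symm
    · rintro ⟨_, ⟨z, rfl⟩, hz⟩
      obtain ⟨q, hq, -⟩ := SpPts86.exists_of_isPullback sq p (AlgSp.Points.schemeHomeo T' z)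
        (hz.symm.trans (AlgSp.Points.map_yon_map_apply k' z).symm)
      exact ⟨q, hq⟩
  rw [← this]
  exact isCompact_range (AlgSp.Points.continuous_map g)

theorem isQuasiCompactMor_pair
    (hi : ∀ (U : Over S), IsAffine U.left → ∀ (x : overCat U ⥤ᵇ 𝒳),
      ∃ (F : AlgSp.Space S) (e : ofSp F.obj ⥤ᵇ fp (fpLift x x (Iso.refl _)) (diag (toSelf 𝒳))),
        IsEquivOver e ∧ AlgSp.IsQuasiCompactMor (spMapOfOver (BasedFunctor.comp e (fpFst _ _))))
    (hii : ∀ (U : Over S), IsAffine U.left → IsIntegral U.left → ∀ (x y : overCat U ⥤ᵇ 𝒳)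
      (D : Set ↥U.left), Dense D →
      (∀ t ∈ D, ∃ (L : Type u) (_ : Field L) (g : Spec (CommRingCat.of L) ⟶ U.left), Set.range g.base = {t} ∧
        Nonempty (BasedFunctor.comp (overMap (Over.homMk g rfl : Over.mk (g ≫ U.hom) ⟶ U)) x ≅
          BasedFunctor.comp (overMap (Over.homMk g rfl : Over.mk (g ≫ U.hom) ⟶ U)) y)) →
      ∃ V : U.left.Opens, Dense (V : Set ↥U.left) ∧
        Nonempty (BasedFunctor.comp (overMap (Over.homMk V.ι rfl : Over.mk (V.ι ≫ U.hom) ⟶ U)) x ≅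
          BasedFunctor.comp (overMap (Over.homMk V.ι rfl : Over.mk (V.ι ≫ U.hom) ⟶ U)) y))
    {U : Over S} [IsLocallyNoetherian U.left] {w : ofSch U ⥤ᵇ fp (toSelf 𝒳) (toSelf 𝒳)} {F : AlgSp.Space S}
    {e : ofSp F.obj ⥤ᵇ fp w (diag (toSelf 𝒳))} (he : IsEquivOver e) {a : F.obj ⟶ (AlgSp.yon S).obj U}
    (α : BasedFunctor.comp e (fpFst w (diag (toSelf 𝒳))) ≅ ofSpMap a) : AlgSp.IsQuasiCompactMor a := by
  refine isQuasiCompactMor_of_affine_preimage a fun V hV => ?_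
  haveI : IsNoetherianRing Γ(U.left, V) := IsLocallyNoetherian.component_noetherian ⟨V, hV⟩
  let W := {p | AlgSp.Points.map a p ∈ AlgSp.Points.schemeHomeo U '' (V : Set ↥U.left)}
  have hex : ∀ p : ↥W, ∃ v : ↥(Spec Γ(U.left, V)), AlgSp.Points.schemeHomeo U (hV.fromSpec v) = AlgSp.Points.map a p := by
    rintro ⟨p, u, hu, hp⟩
    obtain ⟨v, hv⟩ : u ∈ Set.range hV.fromSpec := by rw [IsAffineOpen.range_fromSpec]; exact hu
    exact ⟨v, by rw [hv]; exact hp⟩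
  choose f hf using hex
  refine isCompact_iff_compactSpace.2 ?_
  show CompactSpace ↥W
  haveI : NoetherianSpace ↥(Spec Γ(U.left, V)) := PrimeSpectrum.instNoetherianSpace (R := Γ(U.left, V))
  refine DenseLiftQC.compactSpace_of_forall_closed f fun Z hZ hirr => ?_
  let I : Ideal Γ(U.left, V) := PrimeSpectrum.vanishingIdeal Z
  haveI : I.IsPrime := (PrimeSpectrum.isIrreducible_iff_vanishingIdeal_isPrime (s := Z)).1 hirr
  let A : CommRingCat.{u} := CommRingCat.of (Γ(U.left, V) ⧸ I)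
  let q : Spec A ⟶ Spec Γ(U.left, V) := Spec.map (CommRingCat.ofHom (Ideal.Quotient.mk I))
  have hq : Topology.IsClosedEmbedding q :=
    PrimeSpectrum.isClosedEmbedding_comap_of_surjective _ (Ideal.Quotient.mk I) Ideal.Quotient.mk_surjective
  have hrange : Set.range q = Z := by
    refine (_root_.range_comap_of_surjective _ (Ideal.Quotient.mk I) Ideal.Quotient.mk_surjective).trans ?_
    rw [Ideal.mk_ker]
    exact (PrimeSpectrum.zeroLocus_vanishingIdeal_eq_closure Z).trans hZ.closure_eq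
  let ιA : Spec A ⟶ U.left := q ≫ hV.fromSpec
  let D : Set ↥(Spec A) := {t | ∃ p, AlgSp.Points.map a p = AlgSp.Points.schemeHomeo U (ιA t)}
  by_cases hD : Dense D
  · let T : Over S := Over.mk (ιA ≫ U.hom)
    let kT : T ⟶ U := Over.homMk ιA rfl
    haveI : IsIntegral T.left := inferInstanceAs (IsIntegral (Spec A))
    haveI : IsAffine T.left := inferInstanceAs (IsAffine (Spec A))
    let x := BasedFunctor.comp (ofOverCat T) (BasedFunctor.comp (ofSpMap ((AlgSp.yon S).map kT)) (pairFst w))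
    let y := BasedFunctor.comp (ofOverCat T) (BasedFunctor.comp (ofSpMap ((AlgSp.yon S).map kT)) (pairSnd w))
    obtain ⟨Ω₀, hΩ₀, ⟨θ₀⟩⟩ := hii T ‹_› ‹_› x y D hD fun t ht => by
      obtain ⟨p, hp⟩ := ht
      obtain ⟨L, _, g, hg, ⟨θ⟩⟩ := exists_field_iso α p
      obtain ⟨z, hz₁, hz₂⟩ := Scheme.Pullback.exists_preimage_pullback (f := g) (g := ιA) default t
        ((AlgSp.Points.schemeHomeo U).injective ((hg _).trans hp))
      let g₂ : Spec ((pullback g ιA).residueField z) ⟶ Spec A :=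
        (pullback g ιA).fromSpecResidueField z ≫ pullback.snd g ιA
      refine ⟨(pullback g ιA).residueField z, inferInstance, g₂, ?_, ?_⟩
      · refine Set.eq_singleton_iff_unique_mem.2 ⟨⟨default, ?_⟩, ?_⟩
        · exact ((congrArg (pullback.snd g ιA) (Scheme.fromSpecResidueField_apply z default)).trans hz₂ : _)
        · rintro _ ⟨z', rfl⟩
          exact ((congrArg (pullback.snd g ιA) (Scheme.fromSpecResidueField_apply z z')).trans hz₂ : _)
      · let T₂ : Over S := Over.mk (g₂ ≫ T.hom)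
        let h₂ : T₂ ⟶ T := Over.homMk g₂ rfl
        let h₁ : T₂ ⟶ Over.mk (g ≫ U.hom) :=
          Over.homMk ((pullback g ιA).fromSpecResidueField z ≫ pullback.fst g ιA) (by
            show (_ ≫ pullback.fst g ιA) ≫ g ≫ U.hom = (_ ≫ pullback.snd g ιA) ≫ ιA ≫ U.hom
            simp only [Category.assoc, pullback.condition_assoc])
        have e₂ : h₁ ≫ (Over.homMk g rfl : Over.mk (g ≫ U.hom) ⟶ U) = h₂ ≫ kT := by
          apply Over.OverMorphism.ext
          show (_ ≫ pullback.fst g ιA) ≫ g = (_ ≫ pullback.snd g ιA) ≫ ιA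
          rw [Category.assoc, Category.assoc, pullback.condition]
        obtain ⟨j₁⟩ := nonempty_overMap_ofSpMap h₂ kT (pairFst w)
        obtain ⟨j₂⟩ := nonempty_overMap_ofSpMap h₂ kT (pairSnd w)
        obtain ⟨c⟩ := nonempty_ofSpMap_comp ((AlgSp.yon S).map h₁)
          ((AlgSp.yon S).map (Over.homMk g rfl : Over.mk (g ≫ U.hom) ⟶ U))
        rw [← (AlgSp.yon S).map_comp, e₂] at c
        exact ⟨j₁ ≪≫ bLeft (ofOverCat T₂) (bRight c (pairFst w) ≪≫ bLeft (ofSpMap ((AlgSp.yon S).map h₁)) θ ≪≫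
          bRight c.symm (pairSnd w)) ≪≫ j₂.symm⟩
    obtain ⟨t₀, ht₀⟩ := hΩ₀.nonempty
    obtain ⟨Ω, hΩ, htΩ, hle⟩ := exists_isAffineOpen_mem_and_subset (U := Ω₀) (x := t₀) ht₀
    haveI : IsAffine (Ω : Scheme.{u}) := hΩ
    let T₁ : Over S := Over.mk (Ω.ι ≫ T.hom)
    haveI : IsAffine T₁.left := hΩ
    let h₁ : T₁ ⟶ Over.mk (Ω₀.ι ≫ T.hom) := Over.homMk (T.left.homOfLE hle) (by
      show T.left.homOfLE hle ≫ Ω₀.ι ≫ T.hom = Ω.ι ≫ T.hom
      rw [Scheme.homOfLE_ι_assoc])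
    let h₀ : Over.mk (Ω₀.ι ≫ T.hom) ⟶ T := Over.homMk Ω₀.ι rfl
    let hΩT : T₁ ⟶ T := Over.homMk Ω.ι rfl
    have e₁ : h₁ ≫ h₀ = hΩT := Over.OverMorphism.ext (T.left.homOfLE_ι hle)
    obtain ⟨j⟩ := overMapCompIso h₁ h₀
    rw [e₁] at j
    obtain ⟨j₁⟩ := nonempty_overMap_ofSpMap hΩT kT (pairFst w)
    obtain ⟨j₂⟩ := nonempty_overMap_ofSpMap hΩT kT (pairSnd w)
    have hc := compactSpace_fibre_of_isom hi he α (hΩT ≫ kT)
      (j₁.symm ≪≫ bRight j.symm x ≪≫ bLeft (overMap h₁) θ₀ ≪≫ bRight j y ≪≫ j₂)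
    obtain ⟨V', hV', hV''⟩ := hq.isInducing.isOpen_iff.1 Ω.2
    have hZV : Z ∩ V' = q '' (Ω : Set ↥T.left) := by
      refine Eq.trans ?_ (congrArg (q '' ·) hV'')
      rw [Set.image_preimage_eq_range_inter, hrange]
    refine ⟨V', hV', by rw [hZV]; exact ⟨q t₀, t₀, htΩ, rfl⟩, ?_⟩
    refine Topology.IsInducing.subtypeVal.isCompact_iff.2 ?_
    convert hc using 1
    ext p
    constructor
    · rintro ⟨⟨p, hpW⟩, hp', rfl⟩
      rw [Set.mem_preimage, hZV] at hp'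
      obtain ⟨t, ht, e'⟩ := hp'
      refine ⟨ιA t, ⟨⟨t, ht⟩, rfl⟩, ?_⟩
      rw [show ιA t = hV.fromSpec (q t) from rfl, e', hf]
    · rintro ⟨_, ⟨⟨t, ht⟩, rfl⟩, hp⟩
      have hpW : p ∈ W := ⟨hV.fromSpec (q t), (hV.range_fromSpec).le ⟨_, rfl⟩, hp⟩
      refine ⟨⟨p, hpW⟩, ?_, rfl⟩
      rw [Set.mem_preimage, hZV]
      exact ⟨t, ht, hV.fromSpec.isOpenEmbedding.injective
        ((AlgSp.Points.schemeHomeo U).injective (hp.trans (hf ⟨p, hpW⟩).symm))⟩
  · rw [dense_iff_inter_open] at hD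
    push Not at hD
    obtain ⟨Ω, hΩ, ⟨t₀, ht₀⟩, hΩD⟩ := hD
    obtain ⟨V', hV', hV''⟩ := hq.isInducing.isOpen_iff.1 hΩ
    refine ⟨V', hV', ⟨q t₀, hrange ▸ ⟨t₀, rfl⟩, ?_⟩, ?_⟩
    · rw [← hV''] at ht₀
      exact ht₀
    · convert isCompact_empty
      rw [Set.eq_empty_iff_forall_notMem]
      rintro p ⟨hpZ, hpV⟩
      rw [← hrange] at hpZ
      obtain ⟨t, ht⟩ := hpZ
      have : t ∈ Ω ∩ D := ⟨hV'' ▸ (show q t ∈ V' by rw [ht]; exact hpV), p.1, by
        rw [show ιA t = hV.fromSpec (q t) from rfl, ht, hf]⟩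
      rw [hΩD] at this
      exact this

theorem repByAlgSpWith_qc_diag_of_generic_isom [IsLocallyNoetherian S]
    (h𝒳 : IsAlgStack Scheme.fppfPrecoverage 𝒳)
    (hlfp : ∀ (U : Over S) (x : overCat U ⥤ᵇ 𝒳),
      RepByAlgSpWith (AlgSp.LocP @Smooth) x → LocallyOfFinitePresentation U.hom)
    (hi : ∀ (U : Over S), IsAffine U.left → ∀ (x : overCat U ⥤ᵇ 𝒳),
      ∃ (F : AlgSp.Space S) (e : ofSp F.obj ⥤ᵇ fp (fpLift x x (Iso.refl _)) (diag (toSelf 𝒳))),
        IsEquivOver e ∧ AlgSp.IsQuasiCompactMor (spMapOfOver (BasedFunctor.comp e (fpFst _ _))))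
    (hii : ∀ (U : Over S), IsAffine U.left → IsIntegral U.left → ∀ (x y : overCat U ⥤ᵇ 𝒳)
      (D : Set ↥U.left), Dense D →
      (∀ t ∈ D, ∃ (L : Type u) (_ : Field L) (g : Spec (CommRingCat.of L) ⟶ U.left), Set.range g.base = {t} ∧
        Nonempty (BasedFunctor.comp (overMap (Over.homMk g rfl : Over.mk (g ≫ U.hom) ⟶ U)) x ≅
          BasedFunctor.comp (overMap (Over.homMk g rfl : Over.mk (g ≫ U.hom) ⟶ U)) y)) →
      ∃ V : U.left.Opens, Dense (V : Set ↥U.left) ∧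
        Nonempty (BasedFunctor.comp (overMap (Over.homMk V.ι rfl : Over.mk (V.ι ≫ U.hom) ⟶ U)) x ≅
          BasedFunctor.comp (overMap (Over.homMk V.ι rfl : Over.mk (V.ι ≫ U.hom) ⟶ U)) y)) :
    RepByAlgSpWith AlgSp.IsQuasiCompactMor (diag (toSelf 𝒳)) := by
  have hX := h𝒳.isStack.1
  obtain ⟨U₀, u₀, hu, hus⟩ := h𝒳.atlas
  haveI := hlfp U₀ u₀ hu
  let P := overProd U₀ U₀
  haveI : IsLocallyNoetherian P.left := by
    haveI : LocallyOfFiniteType P.hom :=
      inferInstanceAs (LocallyOfFiniteType (pullback.fst U₀.hom U₀.hom ≫ U₀.hom))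
    exact LocallyOfFiniteType.isLocallyNoetherian P.hom
  let y₀ := BasedFunctor.comp (toOverCat U₀) u₀
  let w₀ : ofSch P ⥤ᵇ fp (toSelf 𝒳) (toSelf 𝒳) :=
    BasedFunctor.comp (BasedFunctor.comp (toOverCat P) (BasedFunctor.comp (ofOverCat P) (toProdOfSch U₀ U₀)))
      (prodMap y₀ y₀)
  have hz : IsEquivOver (BasedFunctor.comp (toOverCat P) (BasedFunctor.comp (ofOverCat P) (toProdOfSch U₀ U₀))) :=
    isEquivOver_comp (isEquivOver_toOverCat P)
      (isEquivOver_comp (isEquivOver_ofOverCat P) (isEquivOver_toProdOfSch U₀ U₀))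
  have hy₀ : Sm y₀ := (repByAlgSpWith_precomp_equiv (isEquivOver_toOverCat U₀)).2 hu
  have hy₀s : Sj y₀ := (repByAlgSpWith_precomp_equiv (isEquivOver_toOverCat U₀)).2 hus
  have hUf : IsFibGrpd (ofSch U₀).p := Stk.isFibGrpd_ofPsh _
  have hm : ∀ {Q : MorphismProperty (AlgSp.Sp S)}, Q.RespectsIso → SpaceDescends Q →
      (∀ ⦃X Y Z : AlgSp.Sp S⦄, AlgSp.IsAlgSpace X → AlgSp.IsAlgSpace Y → AlgSp.IsAlgSpace Z →
        ∀ (a : X ⟶ Y) (b : Y ⟶ Z), Q a → Q b → Q (a ≫ b)) →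
      RepByAlgSpWith Q y₀ → RepByAlgSpWith Q w₀ := fun h1 h2 h3 h4 =>
    (repByAlgSpWith_precomp_equiv hz).2 (repByAlgSpWith_prodFun hUf hUf hX hX h1 h2 h3 h4 h4 _)
  have hw₁ : Sm w₀ := hm (respectsIso_locP _) (spaceDescends_locP _) (stableComp_locP _) hy₀
  have hw₃ : Sj w₀ := hm respectsIso_surj spaceDescends_surj
    (fun _ _ _ _ _ _ a b ha hb y => by
      obtain ⟨y', rfl⟩ := hb y
      obtain ⟨x, rfl⟩ := ha y'
      exact ⟨x, AlgSp.Points.map_comp a b x⟩) hy₀s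
  have hXX := isFibGrpd_fp hX hX isFibGrpd_selfOver (toSelf 𝒳) (toSelf 𝒳)
  obtain ⟨F, a, e, he, ⟨α⟩⟩ := exists_space_fp_chart hX hXX h𝒳.diag (spY P) w₀
  exact repByAlgSpWith_of_repSp_cover hX hXX stableBC_quasiCompact
    (fppf_local_of_fpqc SpFP87.isLocalOnBase_fpqc_quasiCompact) h𝒳.diag (spY P) w₀ (rep_flat_of_sm hw₁) (rep_lfp_of_sm hw₁) hw₃
    (repSp_of_equiv (G := spY P) he α (isQuasiCompactMor_pair hi hii he α))

end Groth.Agent.AlgSt88
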