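import Groth.Agent.AlgSt88.HenselLift

/-!
One etale chart lifting all points with values in quotients of a henselian local ring.
-/

universe u

set_option autoImplicit false

open CategoryTheory CategoryTheory.Limits AlgebraicGeometry
open AlgSp Groth.Agent.SpFP87

namespace Groth.Agent.AlgSt88

variable {S : Scheme.{u}}

/-- A chart lifting all residue field points lifts all points over the henselian ring. -/
theorem exists_lift_of_residue_lifts {F : Sp S} {Z : Over S} {P : (yon S).obj Z ⟶ F}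
    (hP : RepWith @Smooth P) {A : Type u} [CommRing A] [HenselianLocalRing A] {K : Type u} [Field K]
    (π : A →+* K) (hπ : Function.Surjective π) (strA : Spec (CommRingCat.of A) ⟶ S)
    (strK : Spec (CommRingCat.of K) ⟶ S) (h : Spec.map (CommRingCat.ofHom π) ≫ strA = strK)
    (hK : ∀ y : (yon S).obj (Over.mk strK) ⟶ F, ∃ g : Over.mk strK ⟶ Z, (yon S).map g ≫ P = y)
    (x : (yon S).obj (Over.mk strA) ⟶ F) :
    ∃ l : Over.mk strA ⟶ Z, (yon S).map l ≫ P = x := by
  subst h
  let ι₀ : Over.mk (Spec.map (CommRingCat.ofHom π) ≫ strA) ⟶ Over.mk strA :=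
    Over.homMk (Spec.map (CommRingCat.ofHom π)) rfl
  obtain ⟨g₀, hg₀⟩ := hK ((yon S).map ι₀ ≫ x)
  obtain ⟨l, hl, -⟩ := exists_lift_henselian hP π hπ x ι₀ rfl g₀ hg₀
  exact ⟨l, hl⟩

/-- A union of affine charts through all residue field points lifts all quotient points. -/
theorem exists_chart_quotient_points {F : Sp S} (hF : IsAlgSpace F) {R : Type u} [CommRing R]
    [HenselianLocalRing R] (str : Spec (CommRingCat.of R) ⟶ S) {ι : Type u}
    (e : ι ≃ ((yon S).obj (Over.mk (Spec.map (CommRingCat.ofHom (IsLocalRing.residue R)) ≫ str)) ⟶ F)) :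
    ∃ (Z : ι → Over S) (P : (yon S).obj (SpPts86.sigmaOver Z) ⟶ F),
      (∀ i, IsAffine (Z i).left) ∧ RepWith @Etale P ∧
      ∀ (a : Ideal R)
        (x : (yon S).obj (Over.mk (Spec.map (CommRingCat.ofHom (Ideal.Quotient.mk a)) ≫ str)) ⟶ F),
        ∃ g : Over.mk (Spec.map (CommRingCat.ofHom (Ideal.Quotient.mk a)) ≫ str) ⟶ SpPts86.sigmaOver Z,
          (yon S).map g ≫ P = x := by
  choose Z p g hZ hp hg using fun i : ι => exists_affine_chart_fieldPoint hF (e i)
  obtain ⟨P, hP, hPi⟩ := exists_sigma_chart hF Z p hp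
  refine ⟨Z, P, hZ, hP, fun a x => ?_⟩
  by_cases ha : a = ⊤
  · have : IsEmpty ↥(Spec (CommRingCat.of (R ⧸ a))) := by
      have : Subsingleton (R ⧸ a) := Ideal.Quotient.subsingleton_iff.2 ha
      exact inferInstanceAs (IsEmpty (PrimeSpectrum (R ⧸ a)))
    let T : Over S := Over.mk (Spec.map (CommRingCat.ofHom (Ideal.Quotient.mk a)) ≫ str)
    have : IsEmpty ↥T.left := this
    exact ⟨Over.homMk ((isInitialOfIsEmpty (X := T.left)).to _) (isInitialOfIsEmpty.hom_ext _ _),
      SpPts86.hom_ext_of_isEmpty⟩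
  · have ha' : a ≤ IsLocalRing.maximalIdeal R := IsLocalRing.le_maximalIdeal ha
    have : Nontrivial (R ⧸ a) := Ideal.Quotient.nontrivial_iff.2 ha
    have : HenselianLocalRing (R ⧸ a) :=
      Henz21.henselianLocalRing_of_surjective _ Ideal.Quotient.mk_surjective
    let π : R ⧸ a →+* IsLocalRing.ResidueField R :=
      Ideal.Quotient.lift a (IsLocalRing.residue R) fun y hy =>
        (IsLocalRing.residue_eq_zero_iff y).2 (ha' hy)
    have hπ : Function.Surjective π := fun y => by
      obtain ⟨r, rfl⟩ := IsLocalRing.residue_surjective y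
      exact ⟨Ideal.Quotient.mk a r, Ideal.Quotient.lift_mk _ _ _⟩
    have hstr : Spec.map (CommRingCat.ofHom π) ≫ Spec.map (CommRingCat.ofHom (Ideal.Quotient.mk a)) ≫ str =
        Spec.map (CommRingCat.ofHom (IsLocalRing.residue R)) ≫ str := by
      rw [← Category.assoc, ← Spec.map_comp, ← CommRingCat.ofHom_comp]
      exact congrArg (fun f => Spec.map (CommRingCat.ofHom f) ≫ str)
        (Ideal.Quotient.lift_comp_mk _ _ _)
    refine exists_lift_of_residue_lifts (repWith_smooth_of_etale hP) π hπ _ _ hstr (fun y => ?_) x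
    obtain ⟨i, rfl⟩ := e.surjective y
    exact ⟨g i ≫ SpPts86.sigmaIn Z i, by rw [Functor.map_comp, Category.assoc, hPi, hg]⟩

end Groth.Agent.AlgSt88
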