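import Groth.Agent.AlgSt88.FieldChart
import Groth.Agent.SpPts86.SigmaSep
import Groth.Agent.SpFP87.LocPRep
import Groth.Agent.Hensel20.SmoothSection
import Groth.Agent.Henz21.Quotient
import Groth.Agent.SpPts86.GeomLift

/-!
Lifting points with values in henselian local rings through smooth charts.
-/

universe u

set_option autoImplicit false

open CategoryTheory CategoryTheory.Limits AlgebraicGeometry
open AlgSp Groth.Agent.SpFP87
open Groth.Agent.SpPts86 (openOver openIncl)

namespace Groth.Agent.AlgSt88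

variable {S : Scheme.{u}}

/-- A point with values in a henselian local ring lifts through a smooth representable map as soon as
its restriction to the residue field does. -/
theorem exists_lift_henselian {F : Sp S} {Z : Over S} {p : (yon S).obj Z ⟶ F} (hp : RepWith @Smooth p)
    {A : Type u} [CommRing A] [HenselianLocalRing A] {K : Type u} [Field K] (π : A →+* K)
    (hπ : Function.Surjective π) {str : Spec (CommRingCat.of A) ⟶ S}
    (z : (yon S).obj (Over.mk str) ⟶ F) (ι : Over.mk (Spec.map (CommRingCat.ofHom π) ≫ str) ⟶ Over.mk str)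
    (hι : ι.left = Spec.map (CommRingCat.ofHom π))
    (g₀ : Over.mk (Spec.map (CommRingCat.ofHom π) ≫ str) ⟶ Z)
    (w : (yon S).map g₀ ≫ p = (yon S).map ι ≫ z) :
    ∃ g : Over.mk str ⟶ Z, (yon S).map g ≫ p = z ∧ ι ≫ g = g₀ := by
  obtain ⟨W, w₂, w₁', sq⟩ := hp.rep z
  have : Smooth w₂.left := hp.property z w₁' w₂ sq
  obtain ⟨w₁, rfl⟩ := (yon S).map_surjective w₁'
  obtain ⟨l, hl⟩ := (yon S).map_surjective (sq.lift _ _ w)
  have hl₁ : l ≫ w₁ = g₀ := (yon S).map_injective (by rw [Functor.map_comp, hl, sq.lift_fst])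
  have hl₂ : l ≫ w₂ = ι := (yon S).map_injective (by rw [Functor.map_comp, hl, sq.lift_snd])
  have hker : RingHom.ker π = IsLocalRing.maximalIdeal A :=
    IsLocalRing.eq_maximalIdeal (RingHom.ker_isMaximal_of_surjective π hπ)
  have hres : Function.Surjective (IsLocalRing.residue A) := IsLocalRing.residue_surjective
  let φ : IsLocalRing.ResidueField A →+* K :=
    (IsLocalRing.residue A).liftOfSurjective hres
      ⟨π, by rw [IsLocalRing.ker_residue, hker]⟩
  let ψ : K →+* IsLocalRing.ResidueField A :=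
    π.liftOfSurjective hπ ⟨IsLocalRing.residue A, by rw [IsLocalRing.ker_residue, hker]⟩
  have hφ : φ.comp (IsLocalRing.residue A) = π := RingHom.liftOfRightInverse_comp _ _ _ _
  have hψ : ψ.comp π = IsLocalRing.residue A := RingHom.liftOfRightInverse_comp _ _ _ _
  have hφψ : φ.comp ψ = RingHom.id K := RingHom.ext fun c => by
    obtain ⟨a, rfl⟩ := hπ c
    exact (congrArg φ (DFunLike.congr_fun hψ a)).trans (DFunLike.congr_fun hφ a)
  have h₀ : (Spec.map (CommRingCat.ofHom ψ) ≫ l.left) ≫ w₂.left =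
      Spec.map (CommRingCat.ofHom (IsLocalRing.residue A)) := by
    have : l.left ≫ w₂.left = Spec.map (CommRingCat.ofHom π) := (congrArg CommaMorphism.left hl₂).trans hι
    rw [Category.assoc]
    refine (congrArg (Spec.map (CommRingCat.ofHom ψ) ≫ ·) this).trans ?_
    rw [← Spec.map_comp, ← CommRingCat.ofHom_comp, hψ]
  obtain ⟨v, hv₁, hv₂⟩ := Hensel20.exists_section_of_smooth A
    (show W.left ⟶ Spec (CommRingCat.of A) from w₂.left) (Spec.map (CommRingCat.ofHom ψ) ≫ l.left) h₀
  let σ : Over.mk str ⟶ W := Over.homMk v (by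
    rw [← Over.w w₂, ← Category.assoc]
    exact (congrArg (· ≫ str) hv₁).trans (Category.id_comp _))
  have hσ : σ ≫ w₂ = 𝟙 _ := Over.OverMorphism.ext hv₁
  refine ⟨σ ≫ w₁, ?_, ?_⟩
  · rw [Functor.map_comp, Category.assoc, sq.w, ← Category.assoc, ← Functor.map_comp, hσ,
      CategoryTheory.Functor.map_id, Category.id_comp]
  · rw [← hl₁, ← Category.assoc]
    congr 1
    refine Over.OverMorphism.ext ?_
    change ι.left ≫ v = l.left
    have e : Spec.map (CommRingCat.ofHom π) =
        Spec.map (CommRingCat.ofHom φ) ≫ Spec.map (CommRingCat.ofHom (IsLocalRing.residue A)) := by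
      rw [← Spec.map_comp, ← CommRingCat.ofHom_comp, hφ]
    refine (congrArg (· ≫ v) (hι.trans e)).trans ?_
    refine (Category.assoc _ _ _).trans ((congrArg (Spec.map (CommRingCat.ofHom φ) ≫ ·) hv₂).trans ?_)
    rw [← Category.assoc, ← Spec.map_comp, ← CommRingCat.ofHom_comp, hφψ]
    exact (congrArg (· ≫ l.left) (Spec.map_id _)).trans (Category.id_comp _)

theorem repWith_smooth_of_etale {F G : Sp S} {p : F ⟶ G} (hp : RepWith @Etale p) : RepWith @Smooth p :=
  ⟨hp.rep, fun _ _ g a b c => have : Etale b.left := hp.property g a b c; show Smooth b.left from inferInstance⟩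

/-- A family of etale charts gives an etale chart on the disjoint union. -/
theorem exists_sigma_chart {F : Sp S} (hF : IsAlgSpace F) {ι : Type u} (Z : ι → Over S)
    (p : ∀ i, (yon S).obj (Z i) ⟶ F) (hp : ∀ i, RepWith @Etale (p i)) :
    ∃ P : (yon S).obj (SpPts86.sigmaOver Z) ⟶ F, RepWith @Etale P ∧
      ∀ i, (yon S).map (SpPts86.sigmaIn Z i) ≫ P = p i := by
  obtain ⟨P, hP⟩ := SpPts86.sigma_glue Z p
  refine ⟨P, repWith_of_locP hF (hF.representable_from_yon P) fun U V a b h ha hb e => ?_, hP⟩
  obtain ⟨a', rfl⟩ := (yon S).map_surjective a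
  have ha' : Etale a'.left := (repWith_yon_map_iff _ _).1 ha
  have hoi : ∀ i, IsOpenImmersion (SpPts86.sigmaIn Z i).left := fun i =>
    inferInstanceAs (IsOpenImmersion (Sigma.ι (fun i => (Z i).left) i))
  let O : ι → U.left.Opens := fun i => a'.left ⁻¹ᵁ (SpPts86.sigmaIn Z i).left.opensRange
  have hcov : (⨆ i, O i) = ⊤ := eq_top_iff.2 fun x _ => by
    obtain ⟨⟨i, v⟩, hv⟩ := (sigmaMk (fun i => (Z i).left)).surjective (a'.left x)
    exact TopologicalSpace.Opens.mem_iSup.2 ⟨i, v, by rw [← hv, sigmaMk_mk]; rfl⟩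
  refine (IsZariskiLocalAtSource.iff_of_openCover (P := @Etale)
    (U.left.openCoverOfIsOpenCover O hcov)).2 fun i => ?_
  have := hoi i
  let j : openOver U (O i) ⟶ U := openIncl U (O i)
  have hr : Set.range (j ≫ a').left ⊆ Set.range (SpPts86.sigmaIn Z i).left := by
    rintro _ ⟨y, rfl⟩; exact y.2
  let a'' : openOver U (O i) ⟶ Z i := Over.homMk (IsOpenImmersion.lift (SpPts86.sigmaIn Z i).left (j ≫ a').left hr) (by
    rw [← Over.w (SpPts86.sigmaIn Z i), ← Category.assoc, IsOpenImmersion.lift_fac, Over.w])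
  have ha2 : a'' ≫ SpPts86.sigmaIn Z i = j ≫ a' := Over.OverMorphism.ext (IsOpenImmersion.lift_fac _ _ _)
  have : Etale a''.left := by
    have h2 : Etale (a''.left ≫ (SpPts86.sigmaIn Z i).left) := by
      have : Etale (j ≫ a').left := inferInstanceAs (Etale ((O i).ι ≫ a'.left))
      rw [← Over.comp_left, ha2]; exact this
    exact Etale.of_comp a''.left (SpPts86.sigmaIn Z i).left
  exact SpPts86.etale_of_comm (a := (yon S).map a'' ≫ p i) (b := b) (h := j ≫ h)
    (SpPts86.repWith_etale_comp a'' (hp i)) hb (by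
      rw [← hP i, ← Category.assoc, ← Functor.map_comp, ha2, Functor.map_comp, Functor.map_comp,
        Category.assoc, Category.assoc, e])

/-- An algebraic space has a small set of points with values in a field. -/
theorem small_fieldPoints {F : Sp S} (hF : IsAlgSpace F) {k : Type u} [Field k]
    (str : Spec (CommRingCat.of k) ⟶ S) : Small.{u} ((yon S).obj (Over.mk str) ⟶ F) := by
  classical
  obtain ⟨U, q, hq, hqs⟩ := hF.atlas
  let Ω := AlgebraicClosure k
  let T : IntermediateField k Ω → Over S := fun L =>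
    Over.mk (Spec.map (CommRingCat.ofHom (algebraMap k L)) ≫ str)
  let τ : ∀ L, T L ⟶ Over.mk str := fun L => Over.homMk (Spec.map (CommRingCat.ofHom (algebraMap k L))) rfl
  let Rel : ((Σ L : IntermediateField k Ω, T L ⟶ U)) → ((yon S).obj (Over.mk str) ⟶ F) → Prop :=
    fun d x => FiniteDimensional k d.1 ∧ (yon S).map d.2 ≫ q = (yon S).map (τ d.1) ≫ x
  have huniq : ∀ d x x', Rel d x → Rel d x' → x = x' := fun d x x' ⟨hd, h⟩ ⟨_, h'⟩ =>
    cover_hom_ext (τ d.1) ((fppfSurj_iff _).2
      ⟨⟨fun y => ⟨(IsLocalRing.closedPoint ↥d.1 : _), Subsingleton.elim (α := PrimeSpectrum k) _ _⟩⟩,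
        Flat.SpecMap_iff.2 (RingHom.Flat.of_isField (Field.toIsField _) _),
        (HasRingHomProperty.Spec_iff (P := @LocallyOfFinitePresentation)).2
          (RingHom.finitePresentation_algebraMap.2
            (Algebra.FinitePresentation.of_finiteType.1 (inferInstance : Algebra.FiniteType k d.1)))⟩)
      (h.symm.trans h')
  have hex : ∀ x, ∃ d, Rel d x := fun x => by
    obtain ⟨u₀, hu₀⟩ := SpPts86.surjective_ofPt hqs (Points.ofPt x (IsLocalRing.closedPoint k))
    obtain ⟨P, a, b, sq⟩ := exists_isPullback_yon hF.diag q x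
    have : Etale b.left := etale_snd_of_isPullback sq hq
    obtain ⟨p₀, -, -⟩ := SpPts86.exists_pt_common_chart sq u₀ (IsLocalRing.closedPoint k) hu₀
    obtain ⟨A, _, _, _, j, hj, hp₀, hjb⟩ :=
      exists_etale_algebra_nhd (show P.left ⟶ Spec (CommRingCat.of k) from b.left) p₀
    have : Nontrivial A := by
      obtain ⟨z, -⟩ := hp₀
      exact PrimeSpectrum.nonempty_iff_nontrivial.1 ⟨z⟩
    have := Algebra.FormallyUnramified.finite_of_free k A
    obtain ⟨l₀⟩ := nonempty_algHom_sepClosure k A
    let l : A →ₐ[k] Ω := ((separableClosure k Ω).val).comp l₀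
    have hfd : FiniteDimensional k l.range :=
      inferInstanceAs (Module.Finite k (LinearMap.range l.toLinearMap))
    let L : IntermediateField k Ω :=
      l.range.toIntermediateField' (isField_of_isIntegral_of_isField' (Field.toIsField k))
    let lL : A →ₐ[k] L := l.rangeRestrict
    have hb' : (Spec.map (CommRingCat.ofHom lL.toRingHom) ≫ j) ≫ b.left =
        Spec.map (CommRingCat.ofHom (algebraMap k L)) := by
      rw [Category.assoc]
      refine (congrArg (Spec.map (CommRingCat.ofHom lL.toRingHom) ≫ ·) hjb).trans ?_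
      rw [← Spec.map_comp, ← CommRingCat.ofHom_comp]
      exact congrArg (fun f => Spec.map (CommRingCat.ofHom f)) lL.comp_algebraMap
    let e : T L ⟶ P := Over.homMk (Spec.map (CommRingCat.ofHom lL.toRingHom) ≫ j) (by
      rw [← Over.w b, ← Category.assoc, hb']; rfl)
    refine ⟨⟨L, e ≫ a⟩, hfd, ?_⟩
    rw [Functor.map_comp, Category.assoc, sq.w, ← Category.assoc, ← Functor.map_comp]
    exact congrArg (fun f => (yon S).map f ≫ x) (Over.OverMorphism.ext hb')
  choose d hd using hex
  exact small_of_injective (f := d) fun x x' e => huniq _ _ _ (hd x) (e ▸ hd x')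

end Groth.Agent.AlgSt88
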