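import Groth.Agent.AlgSt88.HenselSpLift
import Groth.Agent.AlgSt88.DiagLifts

/-!
Lifting points over henselian local rings along representable smooth maps to stacks.
-/

set_option autoImplicit false
set_option backward.isDefEq.respectTransparency false
set_option backward.isDefEq.respectTransparency.types false
universe u

open CategoryTheory CategoryTheory.Limits AlgebraicGeometry Opposite AlgSt FibCat

namespace Groth.Agent.AlgSt88

variable {S : Scheme.{u}}

theorem homOfBased_overMap {V U : Over S} (c : V ⟶ U) :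
    homOfBased (F := (AlgSp.yon S).obj V) (G := (AlgSp.yon S).obj U)
      (BasedFunctor.comp (BasedFunctor.comp (toOverCat V) (overMap c)) (ofOverCat U)) = (AlgSp.yon S).map c := by
  obtain ⟨ι⟩ := overMap_iso c
  obtain ⟨β⟩ : Nonempty (BasedFunctor.comp (toOverCat V) (ofOverCat V) ≅ BasedFunctor.id (ofSch V)) :=
    ⟨BasedNatIso.mkNatIso
      (NatIso.ofComponents (fun a => Iso.refl _)
        (fun f => Stk.EltObj.hom_ext ((Category.comp_id _).trans (Category.id_comp _).symm)))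
      (fun a => IsHomLift.id rfl)⟩
  have h2 : spMapOfOver (F := (AlgSp.yon S).obj V) (BasedFunctor.comp (toOverCat V) (overMap c)) =
      spMapOfOver (F := (AlgSp.yon S).obj V)
        (BasedFunctor.comp (ofSpMap ((AlgSp.yon S).map c)) (toOverCat U)) :=
    spMapOfOver_congr (bLeft (toOverCat V) ι.symm ≪≫
      bRight (bRight β (ofSpMap ((AlgSp.yon S).map c))) (toOverCat U))
  rw [← spMapOfOver_eq, h2, spMapOfOver_comp (ofSpMap ((AlgSp.yon S).map c)) (toOverCat U),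
    homOfBased_ofSpMap, spMapOfOver_toOverCat]
  exact Category.comp_id _

theorem exists_lift_stack_henselian {𝒵 : AlgSt.Cat S} (Z : AlgSp.Space S) (f : ofSp Z.obj ⥤ᵇ 𝒵)
    (hf : RepByAlgSpWith (AlgSp.LocP @Smooth) f)
    {A : Type u} [CommRing A] [HenselianLocalRing A] {K : Type u} [Field K] (π : A →+* K)
    (hπ : Function.Surjective π) {str : Spec (CommRingCat.of A) ⟶ S}
    (z : overCat (Over.mk str) ⥤ᵇ 𝒵) (ι : Over.mk (Spec.map (CommRingCat.ofHom π) ≫ str) ⟶ Over.mk str)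
    (hι : ι.left = Spec.map (CommRingCat.ofHom π))
    (z₀ : (AlgSp.yon S).obj (Over.mk (Spec.map (CommRingCat.ofHom π) ≫ str)) ⟶ Z.obj)
    (w : BasedFunctor.comp (BasedFunctor.comp (ofOverCat (Over.mk (Spec.map (CommRingCat.ofHom π) ≫ str))) (ofSpMap z₀)) f ≅
      BasedFunctor.comp (overMap ι) z) :
    ∃ z' : (AlgSp.yon S).obj (Over.mk str) ⟶ Z.obj, (AlgSp.yon S).map ι ≫ z' = z₀ ∧
      Nonempty (BasedFunctor.comp (BasedFunctor.comp (ofOverCat (Over.mk str)) (ofSpMap z')) f ≅ z) := by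
  let T : Over S := Over.mk str
  let T₀ : Over S := Over.mk (Spec.map (CommRingCat.ofHom π) ≫ str)
  obtain ⟨F, e, he, ha⟩ := hf T z
  obtain ⟨e', -, -, ⟨εe⟩⟩ := isEquivOver_inverse he
  let Φa : ofSp F.obj ⥤ᵇ ofSp ((AlgSp.yon S).obj T) :=
    BasedFunctor.comp (BasedFunctor.comp e (fpFst z f)) (ofOverCat T)
  let Φb : ofSp F.obj ⥤ᵇ ofSp Z.obj := BasedFunctor.comp e (fpSnd z f)
  let φ₀ : overCat T₀ ⥤ᵇ fp z f :=
    fpLift (overMap ι) (BasedFunctor.comp (ofOverCat T₀) (ofSpMap z₀)) w.symm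
  let Φ₀ : ofSp ((AlgSp.yon S).obj T₀) ⥤ᵇ ofSp F.obj :=
    BasedFunctor.comp (BasedFunctor.comp (toOverCat T₀) φ₀) e'
  have h1 : homOfBased Φ₀ ≫ homOfBased Φa = (AlgSp.yon S).map ι := by
    rw [← homOfBased_comp, ← homOfBased_overMap]
    exact homOfBased_congr (bLeft (BasedFunctor.comp (toOverCat T₀) φ₀)
      (bRight εe (BasedFunctor.comp (fpFst z f) (ofOverCat T))))
  have h2 : homOfBased Φ₀ ≫ homOfBased Φb = z₀ := by
    rw [← homOfBased_comp]
    refine (homOfBased_congr (Ψ := BasedFunctor.comp (BasedFunctor.comp (toOverCat T₀) (ofOverCat T₀)) (ofSpMap z₀))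
      (bLeft (BasedFunctor.comp (toOverCat T₀) φ₀) (bRight εe (fpSnd z f)))).trans ?_
    rw [homOfBased_comp, homOfBased_ofSpMap, ← spMapOfOver_eq, spMapOfOver_toOverCat]
    exact Category.id_comp _
  have hsm : AlgSp.LocP @Smooth (homOfBased Φa) := by
    have := ha
    rwa [spMapOfOver_eq] at this
  obtain ⟨ζ, hζ, hιζ⟩ := exists_lift_smooth_henselian F.property (AlgSp.IsAlgSpace.yon_obj T) hsm π hπ
    (𝟙 _) ι hι (homOfBased Φ₀) (h1.trans (Category.comp_id _).symm)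
  refine ⟨ζ ≫ homOfBased Φb, by rw [← Category.assoc, hιζ, h2], ?_⟩
  let Φ : ofSp ((AlgSp.yon S).obj T) ⥤ᵇ overCat T :=
    BasedFunctor.comp (ofSpMap ζ) (BasedFunctor.comp e (fpFst z f))
  have hh : homOfBased (F := (AlgSp.yon S).obj T) (G := (AlgSp.yon S).obj T)
      (BasedFunctor.comp Φ (ofOverCat T)) = 𝟙 _ :=
    ((homOfBased_comp (ofSpMap ζ) Φa).trans (by rw [homOfBased_ofSpMap])).trans hζ
  obtain ⟨α⟩ := exists_hom_iso (F := (AlgSp.yon S).obj T) (G := (AlgSp.yon S).obj T)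
    (BasedFunctor.comp Φ (ofOverCat T))
  have α' : BasedFunctor.comp Φ (ofOverCat T) ≅ ofSpMap (𝟙 ((AlgSp.yon S).obj T)) := hh ▸ α
  obtain ⟨γ₁⟩ : Nonempty (BasedFunctor.comp (BasedFunctor.comp (ofOverCat T) (ofSpMap (𝟙 ((AlgSp.yon S).obj T))))
      (toOverCat T) ≅ BasedFunctor.id (overCat T)) :=
    nonempty_iso_of_app_id (isFibGrpd_overCat T) (Iso.refl _) (IsHomLift.id rfl)
  let β : BasedFunctor.comp (ofOverCat T) (toOverCat T) ≅ BasedFunctor.id (overCat T) :=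
    BasedNatIso.mkNatIso
      (NatIso.ofComponents (fun a => Iso.refl _)
        (fun {a b} f => Over.OverMorphism.ext ((Category.comp_id _).trans (Category.id_comp _).symm)))
      (fun a => IsHomLift.id rfl)
  let k : overCat T ⥤ᵇ fp z f := BasedFunctor.comp (ofOverCat T) (BasedFunctor.comp (ofSpMap ζ) e)
  let γ : BasedFunctor.comp k (fpFst z f) ≅ BasedFunctor.id (overCat T) :=
    bLeft (ofOverCat T) ((bLeft Φ β).symm ≪≫ bRight α' (toOverCat T)) ≪≫ γ₁
  obtain ⟨δ⟩ := exists_hom_iso (BasedFunctor.comp (ofSpMap ζ) Φb)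
  have δ' : BasedFunctor.comp (ofSpMap ζ) Φb ≅ ofSpMap (ζ ≫ homOfBased Φb) :=
    ((homOfBased_comp (ofSpMap ζ) Φb).trans (by rw [homOfBased_ofSpMap])) ▸ δ
  exact ⟨bRight (bLeft (ofOverCat T) δ'.symm) f ≪≫ (bLeft k (fpIso z f)).symm ≪≫ bRight γ z⟩

end Groth.Agent.AlgSt88
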