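import Groth.Agent.AlgSt88.PowDatum
import Groth.Agent.AlgSt88.PointsRel
import Groth.Agent.AlgSt88.SpQ
import Groth.Agent.AlgSt88.Top

/-!
Smoothness of a chart is local for jointly surjective smooth families of schemes over the chart.
-/

set_option autoImplicit false
set_option linter.style.haveILetI false
set_option backward.isDefEq.respectTransparency false
set_option backward.isDefEq.respectTransparency.types false
universe u

open CategoryTheory CategoryTheory.Limits AlgebraicGeometry Opposite AlgSt FibCat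

namespace Groth.Agent.AlgSt88

variable {S : Scheme.{u}} {𝒵 : AlgSt.Cat S}

theorem sm_of_sm_family (hZ : IsFibGrpd 𝒵.p) (hΔ : RepByAlgSp1 (diag (toSelf 𝒵))) {M : Over S} {ι : Type u}
    (W : ι → Over S) (c : ∀ i, W i ⟶ M) (hc : ∀ i, Smooth (c i).left)
    (hs : ∀ t : ↥M.left, ∃ i, t ∈ Set.range (c i).left) (p : overCat M ⥤ᵇ 𝒵)
    (h : ∀ i, Sm (BasedFunctor.comp (overMap (c i)) p)) : Sm p := by
  classical
  have hy : RepByAlgSp1 p := fun T y =>
    repByAlgSp1_of_diag hZ hΔ (isFibGrpd_overCat M) (repByAlgSp_overCat T) (repByAlgSp_overCat M) y p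
  intro U w₀
  obtain ⟨G, e, he⟩ := hy U w₀
  let q : fp p w₀ ⥤ᵇ overCat M := fpFst p w₀
  let e' : ofSp G.obj ⥤ᵇ fp p w₀ := BasedFunctor.comp e (fpSwap w₀ p)
  have he' : IsEquivOver e' := isEquivOver_comp he isEquivOver_fpSwap
  have hx : ∀ i, Sm (overMap (c i)) := fun i => sm_overMap (c i) (hc i)
  choose F a ψ hψ α hQ using fun i =>
    exists_space_fp (isFibGrpd_overCat (W i)) (isFibGrpd_overCat M) (repByAlgSp1_of_with (hx i)) G
      (BasedFunctor.comp e' q)
  haveI := onSpaces_respectsIso_of_bc (stableBC_locP (S := S) @Smooth)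
  haveI := respectsIso_locP (S := S) @Smooth
  refine ⟨G, e, he, ?_⟩
  have hab : ∀ i, AlgSp.LocP @Smooth (a i ≫ spMapOfOver (BasedFunctor.comp e (fpFst w₀ p))) := fun i => by
    let χ : fp (BasedFunctor.comp e' q) (overMap (c i)) ⥤ᵇ fp w₀ (BasedFunctor.comp (overMap (c i)) p) :=
      BasedFunctor.comp (fpMapFst q (overMap (c i)) e') (BasedFunctor.comp (fpSwap q (overMap (c i)))
        (BasedFunctor.comp (fpPaste (overMap (c i)) p w₀) (fpSwap (BasedFunctor.comp (overMap (c i)) p) w₀)))
    have hχ : IsEquivOver χ :=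
      isEquivOver_comp (isEquivOver_fpMapFst q (overMap (c i)) e' he') (isEquivOver_comp isEquivOver_fpSwap
        (isEquivOver_comp (isEquivOver_fpPaste (overMap (c i)) p w₀) isEquivOver_fpSwap))
    have h1 := RepOver.any (P := onSpaces (AlgSp.LocP @Smooth)) (repByAlgSpWith_onSpaces_iff.2 (h i) U w₀)
      (isEquivOver_comp (hψ i) hχ)
    obtain ⟨αi⟩ := α i
    have hmap : spMapOfOver (BasedFunctor.comp (BasedFunctor.comp (ψ i) χ)
        (fpFst w₀ (BasedFunctor.comp (overMap (c i)) p))) =
        a i ≫ spMapOfOver (BasedFunctor.comp e (fpFst w₀ p)) := by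
      have h' := spMapOfOver_congr (bRight αi (BasedFunctor.comp e (fpFst w₀ p)))
      rw [spMapOfOver_comp (ofSpMap (a i)) (BasedFunctor.comp e (fpFst w₀ p)), homOfBased_ofSpMap] at h'
      exact h'
    rw [hmap] at h1
    exact h1.2.2
  refine ((S10553.result S) (fun i => (F i).obj) a G.property (fun i => (F i).property) ⟨fun i => ?_, fun x => ?_⟩
    _ (AlgSp.IsAlgSpace.yon_obj U)).2 hab
  · exact spaceDescends_locP @Smooth (F i) G (a i) (hQ i _ (respectsIso_locP _) (hx i))
  · let z : Points (ofSp G.obj) := stPt _ x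
    obtain ⟨y, hy'⟩ := (points_map_bijective (isEquivOver_toOverCat M)).2 (Points.map (BasedFunctor.comp e' q) z)
    obtain ⟨τ, rfl⟩ := stPt_bijective.2 y
    obtain ⟨t, rfl⟩ := (AlgSp.Points.schemeHomeo M).surjective τ
    obtain ⟨i, v, rfl⟩ := hs t
    let xv : Points (overCat (W i)) := Points.map (toOverCat (W i)) (stPt _ (AlgSp.Points.schemeHomeo (W i) v))
    have hxv : Points.map (BasedFunctor.comp e' q) z = Points.map (overMap (c i)) xv := by
      obtain ⟨j⟩ := toOver_overMap (c i)
      rw [← hy']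
      show _ = Points.map (overMap (c i)) (Points.map (toOverCat (W i)) _)
      rw [← points_map_comp (toOverCat (W i)) (overMap (c i)), points_map_congr j, points_map_comp, stPt_natural,
        AlgSp.Points.map_yon_map_apply]
    obtain ⟨w, hw₁, -⟩ := exists_points_fp (isFibGrpd_overCat M) (isFibGrpd_overCat (W i))
      (Stk.isFibGrpd_ofPsh G.obj.obj) (overMap (c i)) (BasedFunctor.comp e' q) z xv hxv
    obtain ⟨w', rfl⟩ := (points_map_bijective (hψ i)).2 w
    obtain ⟨τ', rfl⟩ := stPt_bijective.2 w'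
    refine ⟨i, τ', stPt_bijective.1 ?_⟩
    obtain ⟨αi⟩ := α i
    rw [← stPt_natural, ← points_map_congr αi, points_map_comp]
    exact hw₁

end Groth.Agent.AlgSt88
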