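import Groth.Agent.AlgSt88.StackFieldSmall
import Groth.Agent.AlgSt88.SmoothFamily
import Groth.Agent.AlgSt88.DisjointGlue
import Groth.Agent.AlgSt88.HenselStLift
import Groth.Agent.SpPts86.SigmaSep
import Groth.Agent.Henz21.Quotient

/-!
One separated chart receives all points over the quotients of a henselian local ring.
-/

set_option autoImplicit false
set_option linter.style.haveILetI false
set_option backward.isDefEq.respectTransparency false
set_option backward.isDefEq.respectTransparency.types false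
universe u

open CategoryTheory CategoryTheory.Limits AlgebraicGeometry Opposite AlgSt FibCat

namespace Groth.Agent.AlgSt88

variable {S : Scheme.{u}} {𝒵 : AlgSt.Cat S}

theorem overMap_comp_iso {A B C : Over S} (a : A ⟶ B) (b : B ⟶ C) :
    Nonempty (BasedFunctor.comp (overMap a) (overMap b) ≅ overMap (a ≫ b)) :=
  nonempty_iso_of_app_id (isFibGrpd_overCat C)
    (Over.isoMk (Iso.refl _) (by
      show 𝟙 A ≫ 𝟙 A ≫ a ≫ b = (𝟙 A ≫ a) ≫ b
      simp))
    (IsHomLift.of_fac' _ _ _ rfl rfl (by simp [FibCat.overCat]; rfl))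

theorem comp_overMap_id (A : Over S) (y : overCat A ⥤ᵇ 𝒵) :
    Nonempty (BasedFunctor.comp (overMap (𝟙 A)) y ≅ y) := by
  obtain ⟨j⟩ : Nonempty (overMap (𝟙 A) ≅ BasedFunctor.id (overCat A)) :=
    nonempty_iso_of_app_id (isFibGrpd_overCat A)
      (Over.isoMk (Iso.refl _) (by
        show 𝟙 A ≫ 𝟙 A = 𝟙 A ≫ 𝟙 A
        rfl))
      (IsHomLift.of_fac' _ _ _ rfl rfl (by simp [FibCat.overCat]; rfl))
  exact ⟨bRight j y⟩

theorem comp_overMap {A B : Over S} {C : Over S} (a : A ⟶ B) (b : B ⟶ C) (y : overCat C ⥤ᵇ 𝒵) :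
    Nonempty (BasedFunctor.comp (overMap a) (BasedFunctor.comp (overMap b) y) ≅
      BasedFunctor.comp (overMap (a ≫ b)) y) := by
  obtain ⟨j⟩ := overMap_comp_iso a b
  exact ⟨bRight j y⟩

theorem nonempty_iso_of_isEmpty {K : Precoverage Scheme.{u}}
    (hK : QuotSh.J Scheme.etalePrecoverage S ≤ QuotSh.J K S) (hst : Stk.IsStack (QuotSh.J K S) 𝒵)
    {T : Over S} [IsEmpty ↥T.left] (x y : overCat T ⥤ᵇ 𝒵) : Nonempty (x ≅ y) := by
  obtain ⟨k, hk, -⟩ := existsUnique_of_bot hst (hK _ bot_mem_of_isEmpty) (𝟙 T)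
    (Fib44.obj_idObj x) (Fib44.obj_idObj y)
  haveI := Fib44.isIso_of_fibGrpd 𝒵.p hst.1 (𝟙 T) k
  exact nonempty_iso_of_app_id hst.1 (asIso k) hk

theorem disjCover_sigma {J : GrothendieckTopology (Over S)} (hJ : QuotSh.J Scheme.etalePrecoverage S ≤ J)
    {ι : Type u} (Z : ι → Over S) : DisjCover J (SpPts86.sigmaIn Z) where
  cover := by
    refine hJ _ (open_family_mem Z _ (fun i => inferInstanceAs (IsOpenImmersion (Sigma.ι (fun i => (Z i).left) i)))
      fun t => ?_)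
    obtain ⟨⟨i, v⟩, hv⟩ := (sigmaMk (fun i => (Z i).left)).surjective t
    exact ⟨i, v, by rw [← hv, sigmaMk_mk]; rfl⟩
  mono i := (Over.forget S).mono_of_mono_map
    (inferInstanceAs (Mono (Sigma.ι (fun i => (Z i).left) i)))
  disj T i j l l' hij e := by
    have : IsEmpty ↥T.left := ⟨fun x => hij (by
      have h : (SpPts86.sigmaIn Z i).left (l.left x) = (SpPts86.sigmaIn Z j).left (l'.left x) := by
        rw [← Scheme.Hom.comp_apply, ← Over.comp_left, e, Over.comp_left, Scheme.Hom.comp_apply]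
      have h1 : sigmaMk (fun i => (Z i).left) ⟨i, l.left x⟩ = sigmaMk (fun i => (Z i).left) ⟨j, l'.left x⟩ := by
        rw [sigmaMk_mk, sigmaMk_mk]; exact h
      exact congrArg Sigma.fst ((sigmaMk (fun i => (Z i).left)).injective h1))⟩
    exact hJ _ bot_mem_of_isEmpty

theorem exists_lift_of_residue_charts {Zc : Over S} (P : overCat Zc ⥤ᵇ 𝒵)
    (hP : RepByAlgSpWith (AlgSp.LocP @Smooth) P) {A : Type u} [CommRing A] [HenselianLocalRing A]
    {k : Type u} [Field k] (π : A →+* k) (hπ : Function.Surjective π) {str : Spec (CommRingCat.of A) ⟶ S}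
    {sk : Spec (CommRingCat.of k) ⟶ S} (hsk : Spec.map (CommRingCat.ofHom π) ≫ str = sk)
    (hcov : ∀ y₀ : overCat (Over.mk sk) ⥤ᵇ 𝒵,
      ∃ g : Over.mk sk ⟶ Zc, Nonempty (BasedFunctor.comp (overMap g) P ≅ y₀))
    (y : overCat (Over.mk str) ⥤ᵇ 𝒵) :
    ∃ g : Over.mk str ⟶ Zc, Nonempty (BasedFunctor.comp (AlgSt.overMap g) P ≅ y) := by
  subst hsk
  let T₀ : Over S := Over.mk (Spec.map (CommRingCat.ofHom π) ≫ str)
  let ιa : T₀ ⟶ Over.mk str := Over.homMk (Spec.map (CommRingCat.ofHom π)) rfl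
  obtain ⟨g₀, ⟨jy⟩⟩ := hcov (BasedFunctor.comp (overMap ιa) y)
  let Zs : AlgSp.Space S := ⟨(AlgSp.yon S).obj Zc, AlgSp.IsAlgSpace.yon_obj Zc⟩
  let f : AlgSt.ofSp Zs.obj ⥤ᵇ 𝒵 := BasedFunctor.comp (AlgSt.toOverCat Zc) P
  have hf : AlgSt.RepByAlgSpWith (AlgSp.LocP @Smooth) f :=
    (repByAlgSpWith_precomp_equiv (isEquivOver_toOverCat Zc)).2 hP
  obtain ⟨j₀⟩ := overMap_iso g₀
  obtain ⟨z', -, ⟨e'⟩⟩ := exists_lift_stack_henselian Zs f hf π hπ y ιa rfl ((AlgSp.yon S).map g₀)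
    (bRight j₀ P ≪≫ jy)
  obtain ⟨g, hg⟩ := (AlgSp.yon S).map_surjective z'
  subst hg
  obtain ⟨j⟩ := overMap_iso g
  exact ⟨g, ⟨(bRight j P).symm ≪≫ e'⟩⟩

theorem exists_separated_chart_henselian (h𝒵 : IsAlgStack Scheme.fppfPrecoverage 𝒵)
    (R : Type u) [CommRing R] [HenselianLocalRing R] (str : Spec (CommRingCat.of R) ⟶ S) :
    ∃ (Z : Over S) (p : overCat Z ⥤ᵇ 𝒵), IsSeparated Z.hom ∧ RepByAlgSpWith (AlgSp.LocP @Smooth) p ∧
      ∀ (a : Ideal R) (x : overCat (Over.mk (Spec.map (CommRingCat.ofHom (Ideal.Quotient.mk a)) ≫ str)) ⥤ᵇ 𝒵),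
        ∃ g : Over.mk (Spec.map (CommRingCat.ofHom (Ideal.Quotient.mk a)) ≫ str) ⟶ Z,
          Nonempty (BasedFunctor.comp (AlgSt.overMap g) p ≅ x) := by
  classical
  have hst := h𝒵.isStack
  have hZ : IsFibGrpd 𝒵.p := hst.1
  have hK := etale_le_fppf_gc (S := S)
  let k : Type u := IsLocalRing.ResidueField R
  let sk : Spec (CommRingCat.of k) ⟶ S := Spec.map (CommRingCat.ofHom (IsLocalRing.residue R)) ≫ str
  obtain ⟨ι, X, hX⟩ := exists_small_fieldPoints hK h𝒵 k sk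
  choose Z hZaff p u hp hpu using fun i => exists_affine_chart_stack_fieldPoint hK h𝒵 (X i)
  let Sg : Over S := SpPts86.sigmaOver Z
  let c : ∀ i, Z i ⟶ Sg := SpPts86.sigmaIn Z
  obtain ⟨x, hx, hxe⟩ := (disjCover_sigma hK Z).exists_glue hst (fun i => (p i).obj (Fib44.idObj (Z i)))
    (fun i => Fib44.obj_idObj (p i))
  let P : overCat Sg ⥤ᵇ 𝒵 := classify hZ x hx
  obtain ⟨ε, hε⟩ := classify_mk_id hZ x hx
  haveI := hε
  have hiso : ∀ i, Nonempty (BasedFunctor.comp (overMap (c i)) P ≅ p i) := fun i => by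
    obtain ⟨e, he⟩ := hxe i
    haveI := he
    let b : Z i ⟶ Sg := 𝟙 (Z i) ≫ c i
    let φ : P.obj (Over.mk b : Over Sg) ⟶ x := P.map (Fib44.toId (Over.mk b)) ≫ ε.hom
    haveI hφ : 𝒵.p.IsHomLift (c i) φ := by
      haveI h₁ : 𝒵.p.IsHomLift b (P.map (Fib44.toId (Over.mk b))) := Fib44.isHomLift_toId P (Over.mk b : Over Sg)
      have : 𝒵.p.IsHomLift (b ≫ 𝟙 Sg) φ :=
        inferInstanceAs (𝒵.p.IsHomLift (b ≫ 𝟙 Sg) (P.map (Fib44.toId (Over.mk b)) ≫ ε.hom))
      exact isHomLift_congr ((Category.comp_id _).trans (Category.id_comp _)) _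
    obtain ⟨j, hj, -⟩ := exists_iso_of_lifts hZ (c i) φ e
    exact nonempty_iso_of_app_id hZ (y := BasedFunctor.comp (overMap (c i)) P) (y' := p i) j hj
  have hPsm : RepByAlgSpWith (AlgSp.LocP @Smooth) P := by
    refine sm_of_sm_family hZ h𝒵.diag Z c
      (fun i => haveI : IsOpenImmersion (c i).left := inferInstanceAs (IsOpenImmersion (Sigma.ι (fun i => (Z i).left) i))
        inferInstance) (fun t => ?_) P fun i => ?_
    · obtain ⟨⟨i, v⟩, hv⟩ := (sigmaMk (fun i => (Z i).left)).surjective t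
      exact ⟨i, v, by rw [← hv, sigmaMk_mk]; rfl⟩
    · obtain ⟨j⟩ := hiso i
      exact repByAlgSpWith_of_iso j.symm (hp i)
  have hsep : IsSeparated Sg.hom := by
    haveI : ∀ i, IsAffine ((fun i => (Z i).left) i) := hZaff
    haveI : Sg.left.IsSeparated := SpPts86.isSeparated_sigma (fun i => (Z i).left)
    have : IsSeparated (Sg.hom ≫ terminal.from S) := by
      rw [terminal.comp_from]; infer_instance
    exact IsSeparated.of_comp Sg.hom (terminal.from S)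
  have hcov : ∀ y₀ : overCat (Over.mk sk) ⥤ᵇ 𝒵,
      ∃ g : Over.mk sk ⟶ Sg, Nonempty (BasedFunctor.comp (overMap g) P ≅ y₀) := fun y₀ => by
    obtain ⟨i, ⟨j₁⟩⟩ := hX y₀
    obtain ⟨j₂⟩ := hiso i
    obtain ⟨j₃⟩ := hpu i
    obtain ⟨j₆⟩ := comp_overMap (u i) (c i) P
    exact ⟨u i ≫ c i, ⟨j₆.symm ≪≫ bLeft (overMap (u i)) j₂ ≪≫ j₃ ≪≫ j₁⟩⟩
  refine ⟨Sg, P, hsep, hPsm, fun a y => ?_⟩
  let Ta : Over S := Over.mk (Spec.map (CommRingCat.ofHom (Ideal.Quotient.mk a)) ≫ str)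
  rcases eq_or_ne a ⊤ with ha | ha
  · have : Subsingleton (R ⧸ a) := Ideal.Quotient.subsingleton_iff.2 ha
    haveI he : IsEmpty ↥(Spec (CommRingCat.of (R ⧸ a))) := inferInstanceAs (IsEmpty (PrimeSpectrum (R ⧸ a)))
    haveI : IsEmpty ↥Ta.left := he
    exact ⟨Over.homMk ((isInitialOfIsEmpty : IsInitial Ta.left).to Sg.left)
      ((isInitialOfIsEmpty : IsInitial Ta.left).hom_ext _ _), nonempty_iso_of_isEmpty hK hst _ _⟩
  · have : Nontrivial (R ⧸ a) := Ideal.Quotient.nontrivial_iff.2 ha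
    have : HenselianLocalRing (R ⧸ a) :=
      Henz21.henselianLocalRing_of_surjective _ Ideal.Quotient.mk_surjective
    let π : R ⧸ a →+* k := Ideal.Quotient.lift a (IsLocalRing.residue R)
      fun r hr => Ideal.Quotient.eq_zero_iff_mem.2 (IsLocalRing.le_maximalIdeal ha hr)
    have hπs : Function.Surjective π := fun t => by
      obtain ⟨r, rfl⟩ := IsLocalRing.residue_surjective t
      exact ⟨Ideal.Quotient.mk a r, rfl⟩
    refine exists_lift_of_residue_charts P hPsm π hπs (sk := sk) ?_ hcov y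
    rw [← Category.assoc, ← Spec.map_comp]
    rfl

end Groth.Agent.AlgSt88
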