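import Groth.Agent.AlgSt88.HenselCharts
import Groth.Agent.SpPts86.Props

/-!
Infinitesimal and henselian lifting along smooth morphisms of algebraic spaces.
-/

universe u

set_option autoImplicit false

open CategoryTheory CategoryTheory.Limits AlgebraicGeometry
open AlgSp Groth.Agent.SpFP87

namespace Groth.Agent.AlgSt88

variable {S : Scheme.{u}}

/-- Points over a henselian local ring lift along a smooth morphism of algebraic spaces once they do
over the residue field. -/
theorem exists_lift_smooth_henselian {Z X : Sp S} (hZ : IsAlgSpace Z) (hX : IsAlgSpace X) {f : Z ⟶ X}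
    (hf : LocP @Smooth f) {A : Type u} [CommRing A] [HenselianLocalRing A] {K : Type u} [Field K]
    (π : A →+* K) (hπ : Function.Surjective π) {str : Spec (CommRingCat.of A) ⟶ S}
    (z : (yon S).obj (Over.mk str) ⟶ X) (ι : Over.mk (Spec.map (CommRingCat.ofHom π) ≫ str) ⟶ Over.mk str)
    (hι : ι.left = Spec.map (CommRingCat.ofHom π))
    (z₀ : (yon S).obj (Over.mk (Spec.map (CommRingCat.ofHom π) ≫ str)) ⟶ Z)
    (w : z₀ ≫ f = (yon S).map ι ≫ z) :
    ∃ z' : (yon S).obj (Over.mk str) ⟶ Z, z' ≫ f = z ∧ (yon S).map ι ≫ z' = z₀ := by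
  obtain ⟨V, q, g₀, -, hq, hg₀⟩ := exists_affine_chart_fieldPoint hZ z₀
  have : MorphismProperty.DescendsAlong (@Smooth : MorphismProperty Scheme.{u}) fppfSurj :=
    SpPts86.smooth_descends
  have hp : RepWith @Smooth (q ≫ f) :=
    repWith_of_locP hX (hX.representable_from_yon _) (locP_comp (IsAlgSpace.yon_obj V) hZ hX
      (locP_of_repWith (IsAlgSpace.yon_obj V).diag hZ (repWith_smooth_of_etale hq)) hf)
  obtain ⟨g, hg, hιg⟩ := exists_lift_henselian hp π hπ z ι hι g₀ (by rw [← Category.assoc, hg₀, w])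
  exact ⟨(yon S).map g ≫ q, by rw [Category.assoc]; exact hg,
    by rw [← Category.assoc, ← Functor.map_comp, hιg, hg₀]⟩

end Groth.Agent.AlgSt88
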