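import Groth.Agent.AlgSt88.MonoFull
import Groth.Agent.AlgSt88.CompP
import Groth.Agent.AlgSt88.Invar

/-! The substack image of a monomorphism. -/

set_option autoImplicit false
set_option linter.style.haveILetI false
set_option backward.isDefEq.respectTransparency false
set_option backward.isDefEq.respectTransparency.types false
universe u

open CategoryTheory AlgebraicGeometry Opposite AlgSt FibCat

namespace Groth.Agent.AlgSt88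

variable {S : Scheme.{u}} {𝒵 𝒳 : AlgSt.Cat S}

/-- The essential image of a functor. -/
def EssIm (i : 𝒵 ⥤ᵇ 𝒳) (x : 𝒳.obj) : Prop := ∃ z, Nonempty (i.obj z ≅ x)

/-- The corestriction to the essential image. -/
def toEssIm (i : 𝒵 ⥤ᵇ 𝒳) : 𝒵 ⥤ᵇ fullSub 𝒳 (EssIm i) where
  toFunctor :=
    { obj := fun z => ⟨i.obj z, z, ⟨Iso.refl _⟩⟩
      map := fun k => ObjectProperty.homMk (i.map k)
      map_id := fun z => ObjectProperty.hom_ext _ (i.map_id z)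
      map_comp := fun k k' => ObjectProperty.hom_ext _ (i.map_comp k k') }
  w := i.w

theorem exists_iso_over (hZ : IsFibGrpd 𝒵.p) (hX : IsFibGrpd 𝒳.p) (i : 𝒵 ⥤ᵇ 𝒳) {x : 𝒳.obj}
    (h : EssIm i x) : ∃ (z : 𝒵.obj) (e : i.obj z ≅ x), 𝒳.p.IsHomLift (𝟙 (𝒳.p.obj x)) e.hom := by
  obtain ⟨z, ⟨ι⟩⟩ := h
  obtain ⟨z', hz', ψ, hψ⟩ := fg_exists_lift hZ (x := z) (𝒳.p.map ι.inv ≫ eqToHom (i.w_obj z))
  haveI : IsIso (𝒵.p.map ψ) := by rw [hψ]; infer_instance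
  haveI := fg_isIso_of_isIso_map hZ ψ
  refine ⟨z', (i.toFunctor.mapIso (asIso ψ)) ≪≫ ι, IsHomLift.of_fac' 𝒳.p (𝟙 (𝒳.p.obj x)) _
    ((i.w_obj z').trans hz') rfl ?_⟩
  simp only [Iso.trans_hom, Functor.mapIso_hom, asIso_hom]
  rw [Functor.map_comp, p_map_eq, hψ]
  simp [← Functor.map_comp]

theorem isEquivOver_toEssIm (hZ : IsFibGrpd 𝒵.p) (hX : IsFibGrpd 𝒳.p) (i : 𝒵 ⥤ᵇ 𝒳)
    [i.toFunctor.Full] [i.toFunctor.Faithful] : IsEquivOver (toEssIm i) := by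
  refine IsEquivData.isEquivOver ⟨fun k k' e => i.toFunctor.map_injective (congrArg (fun t => t.hom) e),
    fun {a b} g => ⟨i.toFunctor.preimage g.hom, ObjectProperty.hom_ext _ (i.toFunctor.map_preimage g.hom)⟩,
    fun x => ?_⟩
  obtain ⟨z, e, he⟩ := exists_iso_over hZ hX i x.property
  refine ⟨z, ObjectProperty.isoMk _ e, ?_⟩
  exact IsHomLift.of_fac' (fullSub 𝒳 (EssIm i)).p (𝟙 (𝒳.p.obj x.obj)) _
    (IsHomLift.domain_eq 𝒳.p (𝟙 (𝒳.p.obj x.obj)) e.hom) rfl (IsHomLift.fac' 𝒳.p (𝟙 (𝒳.p.obj x.obj)) e.hom)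

theorem exists_unique_image (h𝒵 : IsAlgStack Scheme.fppfPrecoverage 𝒵) (h𝒳 : IsAlgStack Scheme.fppfPrecoverage 𝒳)
    (i : 𝒵 ⥤ᵇ 𝒳) (hi : IsImm i) :
    ∃ Q : 𝒳.obj → Prop,
      (IsLocClosedSubstack 𝒳 Q Scheme.fppfPrecoverage ∧
        (∃ i' : 𝒵 ⥤ᵇ fullSub 𝒳 Q, IsEquivOver i' ∧ Nonempty (BasedFunctor.comp i' (subIncl 𝒳 Q) ≅ i)) ∧
        (IsClosedImm i → IsClosedSubstack 𝒳 Q Scheme.fppfPrecoverage) ∧
        (IsOpenImm i → IsOpenSubstack 𝒳 Q Scheme.fppfPrecoverage)) ∧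
      ∀ Q' : 𝒳.obj → Prop, IsLocClosedSubstack 𝒳 Q' Scheme.fppfPrecoverage →
        (∃ i' : 𝒵 ⥤ᵇ fullSub 𝒳 Q', IsEquivOver i' ∧ Nonempty (BasedFunctor.comp i' (subIncl 𝒳 Q') ≅ i)) → Q' = Q := by
  have hZ := h𝒵.isStack.1
  have hX := h𝒳.isStack.1
  haveI := full_of_isMono hZ hX (isMono_of_isImm hi)
  haveI := faithful_of_isMono hZ hX (isMono_of_isImm hi)
  have he := isEquivOver_toEssIm hZ hX i
  have hc : ObjectProperty.IsClosedUnderIsomorphisms (EssIm i) :=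
    ⟨fun e ⟨z, ⟨ι⟩⟩ => ⟨z, ⟨ι ≪≫ e⟩⟩⟩
  have ha := isAlgStack_of_equiv he h𝒵
  have hr : ∀ {P : MorphismProperty (AlgSp.Sp S)}, RepByAlgSpWith P i → RepByAlgSpWith P (subIncl 𝒳 (EssIm i)) :=
    fun h => (repByAlgSpWith_precomp_equiv he).1 (repByAlgSpWith_of_iso (f := i) (Iso.refl _) h)
  refine ⟨EssIm i, ⟨⟨hc, ha, hr hi⟩, ⟨toEssIm i, he, ⟨Iso.refl _⟩⟩, fun h => ⟨hc, ha, hr h⟩,
    fun h => ⟨hc, ha, hr h⟩⟩, ?_⟩
  rintro Q' ⟨hQ', -, -⟩ ⟨i', hi', ⟨α⟩⟩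
  funext x
  let α' := (BasedNatTrans.forgetful _ _).mapIso α
  refine propext ⟨fun hx => ?_, fun ⟨z, ⟨ι⟩⟩ => hQ'.of_iso (α'.app z ≪≫ ι) (i'.obj z).property⟩
  obtain ⟨z, e, -⟩ := (isEquivData_of_isEquivOver hi').essSurj ⟨x, hx⟩
  exact ⟨z, ⟨(α'.app z).symm ≪≫ (ObjectProperty.ι Q').mapIso e⟩⟩

end Groth.Agent.AlgSt88
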