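import Groth.Agent.S12842
import Groth.Agent.AlgSt88.CompP
import Groth.Agent.AlgSt88.SpaceDM
import Groth.Agent.AlgSt88.DiagDescent
import Groth.Agent.S10531
import Groth.Agent.S10534
import Groth.Agent.S10547

/-! Properties of the form `RepWith Q` are tested on one flat cover of the target. -/

set_option autoImplicit false
set_option backward.isDefEq.respectTransparency false
set_option backward.isDefEq.respectTransparency.types false
universe u

open CategoryTheory CategoryTheory.Limits AlgebraicGeometry Opposite AlgSt FibCat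

namespace Groth.Agent.AlgSt88

variable {S : Scheme.{u}} {𝒳 𝒴 : AlgSt.Cat S}

theorem repWith_cover_criterion (Q : MorphismProperty Scheme.{u}) [Q.IsStableUnderBaseChange]
    (hloc : AlgSp.IsLocalOnBase (AlgSp.IsFppfCover (S := S)) (AlgSp.RepWith Q))
    (h𝒳 : IsAlgStack Scheme.fppfPrecoverage 𝒳) (h𝒴 : IsAlgStack Scheme.fppfPrecoverage 𝒴) (f : 𝒳 ⥤ᵇ 𝒴)
    (W : AlgSp.Space S) (w : ofSp W.obj ⥤ᵇ 𝒴) (hw₁ : RepByAlgSpWith (AlgSp.LocP @Flat) w)
    (hw₂ : RepByAlgSpWith (AlgSp.LocP @LocallyOfFinitePresentation) w)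
    (hw₃ : RepByAlgSpWith AlgSp.IsSurjectiveMor w) :
    RepByAlgSpWith (AlgSp.RepWith Q) f ↔
      ∃ (V : AlgSp.Space S) (a : V ⟶ W) (e : ofSp V.obj ⥤ᵇ fp w f),
        IsEquivOver e ∧ Nonempty (BasedFunctor.comp e (fpFst w f) ≅ ofSpMap a.hom) ∧ AlgSp.RepWith Q a.hom := by
  have hX := h𝒳.isStack.1
  have hY := h𝒴.isStack.1
  have hi : (AlgSp.RepWith (S := S) Q).RespectsIso := inferInstance
  constructor
  · intro hf
    obtain ⟨F, a, e, he, hα, hQ⟩ := exists_space_fp hX hY (repByAlgSp1_of_with hf) W w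
    exact ⟨F, ObjectProperty.homMk a, e, he, hα, spaceDescends_repWith Q F W a (hQ _ hi hf)⟩
  · rintro ⟨V, a, e, he, ⟨α⟩, ha⟩
    have hrep := S12842.result h𝒳 h𝒴 f W w hw₁ hw₂ hw₃ (repByAlgSp_of_equiv (repByAlgSp_ofSp V) he)
    exact repByAlgSpWith_of_fpFst hX hY (Stk.isFibGrpd_ofPsh W.obj.obj)
      (fun _ _ _ _ _ _ _ _ _ _ _ _ sq h => MorphismProperty.of_isPullback sq h) hloc hrep w hw₁ hw₂ hw₃
      ((repByAlgSpWith_precomp_equiv he).1 (repByAlgSpWith_of_iso α.symm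
        ((repByAlgSpWith_ofPshMap_iff _ a.hom.hom).1 (repBySpWith_repWith_of a.hom ha))))

end Groth.Agent.AlgSt88
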