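import Groth.Agent.AlgSt88.SpQDescend
import Groth.Agent.AlgSt88.QC
import Groth.Agent.SpFP87.SourceLocal
import Groth.Agent.SpFP87.NoethDesc

/-! Smooth-local properties of stacks. -/

set_option autoImplicit false
set_option maxHeartbeats 1000000
set_option linter.style.haveILetI false
set_option linter.unusedVariables false
set_option backward.isDefEq.respectTransparency false
set_option backward.isDefEq.respectTransparency.types false
universe u

open CategoryTheory CategoryTheory.Limits AlgebraicGeometry Opposite AlgSt FibCat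

namespace Groth.Agent.AlgSt88

variable {S : Scheme.{u}} {𝒳 : AlgSt.Cat S}

/-- An etale scheme chart of a space, composed with a smooth morphism of the space. -/
theorem surjective_left_of_map {A B : Over S} (r : A ⟶ B) (h : AlgSp.IsSurjectiveMor ((AlgSp.yon S).map r)) :
    Surjective r.left :=
  ⟨fun t => by
    obtain ⟨y, hy⟩ := h (AlgSp.Points.schemeHomeo B t)
    obtain ⟨v, rfl⟩ := (AlgSp.Points.schemeHomeo A).surjective y
    rw [AlgSp.Points.map_yon_map_apply] at hy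
    exact ⟨v, (AlgSp.Points.schemeHomeo B).injective hy⟩⟩

theorem smooth_left_comp {A : Over S} {F : AlgSp.Space S} {B : Over S} {a : (AlgSp.yon S).obj A ⟶ F.obj}
    (ha : AlgSp.RepWith @Etale a) {p : F.obj ⟶ (AlgSp.yon S).obj B} (hp : AlgSp.LocP @Smooth p) {r : A ⟶ B}
    (hr : (AlgSp.yon S).map r = a ≫ p) : Smooth r.left := by
  have h := SpFP87.locP_comp (AlgSp.IsAlgSpace.yon_obj A) F.property (AlgSp.IsAlgSpace.yon_obj B)
    (SpFP87.LocP.of_le (fun _ _ f hf => by haveI : Etale f := hf; exact (inferInstance : Smooth f))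
      (SpFP87.locP_of_repWith (P := @Etale) (AlgSp.IsAlgSpace.yon_obj A).diag F.property ha)) hp
  exact (SpFP87.locP_yon_map_iff (P := @Smooth) r).1 ((congrArg (fun t => AlgSp.LocP @Smooth t) hr).mpr h)

/-- Two smooth charts have a common refinement. -/
theorem exists_common_chart_st (hX : IsFibGrpd 𝒳.p) {U₀ T : Over S} (x₀ : ofSch U₀ ⥤ᵇ 𝒳) (x : ofSch T ⥤ᵇ 𝒳)
    (h₀ : Sm x₀) (h₀' : Sj x₀) (hx : Sm x) :
    ∃ (G : Over S) (r : G ⟶ T) (s : G ⟶ U₀), Smooth r.left ∧ Surjective r.left ∧ Smooth s.left := by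
  obtain ⟨F, p, e, he, -, hQ⟩ := exists_space_fp (Stk.isFibGrpd_ofPsh _) hX (repByAlgSp1_of_with h₀) (spY T) x
  let q : F.obj ⟶ (AlgSp.yon S).obj U₀ := homOfBased (BasedFunctor.comp e (fpSnd x x₀))
  have hp := spaceDescends_locP @Smooth F (spY T) p (hQ _ (respectsIso_locP _) h₀)
  have hps := spaceDescends_surj F (spY T) p (hQ _ respectsIso_surj h₀')
  have hq : AlgSp.LocP @Smooth q := prop_homOfBased (G := spY U₀) (respectsIso_locP _) (spaceDescends_locP _)
    ((repByAlgSpWith_precomp_equiv he).2 (repByAlgSpWith_fpSnd x₀ hx))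
  obtain ⟨G, a, ha, has⟩ := F.property.atlas
  obtain ⟨r, hr⟩ := (AlgSp.yon S).map_surjective (a ≫ p)
  obtain ⟨s, hs⟩ := (AlgSp.yon S).map_surjective (a ≫ q)
  refine ⟨G, r, s, smooth_left_comp ha hp hr, surjective_left_of_map r ?_, smooth_left_comp ha hq hs⟩
  rw [hr]
  intro x
  obtain ⟨x', rfl⟩ := hps x
  obtain ⟨x'', rfl⟩ := SpPts86.isSurjectiveMor_of_repWith has x'
  exact ⟨x'', AlgSp.Points.map_comp _ _ _⟩

variable {P : Scheme.{u} → Prop}

theorem of_smooth_maps (hP : ∀ (U : Scheme.{u}) (R : Presieve U), R ∈ Scheme.precoverage @Smooth U →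
      (P U ↔ ∀ ⦃V : Scheme.{u}⦄ (g : V ⟶ U), R g → P V)) {G T U₀ : Scheme.{u}} (r : G ⟶ T) (s : G ⟶ U₀)
    (hr : Smooth r) (hrs : Surjective r) (hs : Smooth s) (h : P U₀) : P T := by
  haveI : MorphismProperty.ContainsIdentities (@Smooth.{u} : MorphismProperty Scheme.{u}) :=
    ⟨fun _ => inferInstanceAs (Smooth (𝟙 _))⟩
  obtain ⟨R, hR, hRs⟩ := SpFP87.exists_mem_of_precoverage (Q := @Smooth) s hs
  have hG : P G := (hP _ R hR).1 h s hRs
  exact (hP _ _ (SpFP87.singleton_mem_precoverage_of_le (Q := @Smooth) r hr hrs)).2 fun V g hg => by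
    cases hg; exact hG

theorem smoothLocally_of_chart (hX : IsFibGrpd 𝒳.p) (hP : ∀ (U : Scheme.{u}) (R : Presieve U),
      R ∈ Scheme.precoverage @Smooth U → (P U ↔ ∀ ⦃V : Scheme.{u}⦄ (g : V ⟶ U), R g → P V))
    {U₀ : Over S} (x₀ : ofSch U₀ ⥤ᵇ 𝒳) (h₀ : Sm x₀) (h₀' : Sj x₀) (h : P U₀.left) : SmoothLocally P 𝒳 := by
  intro T x hx
  obtain ⟨G, r, s, hr, hrs, hs⟩ := exists_common_chart_st hX x₀ (BasedFunctor.comp (toOverCat T) x) h₀ h₀'
    ((repByAlgSpWith_precomp_equiv (isEquivOver_toOverCat T)).2 hx)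
  exact of_smooth_maps hP r.left s.left hr hrs hs h

theorem of_ofSch {T : Over S} (h : SmoothLocally P 𝒳) (x : ofSch T ⥤ᵇ 𝒳) (hx : Sm x) : P T.left :=
  h T (BasedFunctor.comp (ofOverCat T) x) ((repByAlgSpWith_precomp_equiv (isEquivOver_ofOverCat T)).2 hx)

/-- A smooth morphism from a space, composed with an etale chart of the space. -/
theorem chart_comp (hX : IsFibGrpd 𝒳.p) {U : AlgSp.Space S} {x : ofSp U.obj ⥤ᵇ 𝒳} (hx : Sm x) {T : Over S}
    {p : (AlgSp.yon S).obj T ⟶ U.obj} (hp : AlgSp.RepWith @Etale p) (hps : AlgSp.RepWith @Surjective p) :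
    Sm (BasedFunctor.comp (ofSpMap p) x) ∧ (Sj x → Sj (BasedFunctor.comp (ofSpMap p) x)) := by
  have hm : Sm (ofSpMap p) := repByAlgSpWith_ofSpMap (stableBC_locP _) (respectsIso_locP _) (F := spY T) (G := U) p
    (SpFP87.LocP.of_le (fun _ _ f hf => by haveI : Etale f := hf; exact (inferInstance : Smooth f))
      (SpFP87.locP_of_repWith (P := @Etale) (AlgSp.IsAlgSpace.yon_obj T).diag U.property hp))
  have hU := Stk.isFibGrpd_ofPsh U.obj.obj
  have hT := Stk.isFibGrpd_ofPsh ((AlgSp.yon S).obj T).obj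
  refine ⟨sm_comp hT hU hm hx, fun hs => repByAlgSpWith_surj_comp hT hU (sj_of_isSurjective hT hU
    (repByAlgSp1_of_with hm) ((surjective_points_iff _).2 ?_)) hs⟩
  rw [homOfBased_ofSpMap]
  exact SpPts86.isSurjectiveMor_of_repWith hps

theorem noetherian_of_chart (hX : IsFibGrpd 𝒳.p) {U₀ T : Over S} (x₀ : ofSch U₀ ⥤ᵇ 𝒳) (x : ofSch T ⥤ᵇ 𝒳)
    (h₀ : Sm x₀) (h₀' : Sj x₀) (hx : Sm x) [IsLocallyNoetherian U₀.left] : IsLocallyNoetherian T.left := by
  obtain ⟨G, r, s, hr, hrs, hs⟩ := exists_common_chart_st hX x₀ x h₀ h₀' hx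
  haveI := hr
  haveI := hrs
  haveI := hs
  haveI := LocallyOfFiniteType.isLocallyNoetherian s.left
  exact SpFP87.isLocallyNoetherian_of_flat_lfp_surjective r.left

end Groth.Agent.AlgSt88
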