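import Groth.Agent.AlgSt88.QCMorSt
import Groth.Agent.AlgSt88.SpQDescend
import Groth.Agent.S12998
import Groth.Agent.S10519
import Groth.Agent.AlgSt88.DiagDescent
import Groth.Agent.AlgSt88.SepRep

/-! Immersions into locally Noetherian stacks. -/

set_option autoImplicit false
set_option linter.style.haveILetI false
set_option linter.unusedVariables false
set_option backward.isDefEq.respectTransparency false
set_option backward.isDefEq.respectTransparency.types false
universe u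

open CategoryTheory CategoryTheory.Limits AlgebraicGeometry TopologicalSpace Opposite AlgSt FibCat

namespace Groth.Agent.AlgSt88

variable {S : Scheme.{u}} {𝒳 𝒴 : AlgSt.Cat S}

theorem quasiCompact_of_isImmersion {X Y : Scheme.{u}} (f : X ⟶ Y) [IsImmersion f] [IsLocallyNoetherian Y] :
    QuasiCompact f := by
  rw [quasiCompact_iff_forall_isAffineOpen]
  intro U hU
  haveI := IsLocallyNoetherian.component_noetherian (X := Y) ⟨U, hU⟩
  haveI : NoetherianSpace (U : Set Y) := noetherianSpace_of_isAffineOpen U hU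
  rw [f.isEmbedding.isInducing.isCompact_iff]
  exact (noetherianSpace_set_iff _).1 inferInstance _ (Set.image_preimage_subset _ _)

theorem noetherian_qc_of_isImm (h𝒳 : IsAlgStack Scheme.fppfPrecoverage 𝒳) (h𝒴 : IsAlgStack Scheme.fppfPrecoverage 𝒴)
    (j : 𝒳 ⥤ᵇ 𝒴) (hj : IsImm j) (hN : SmoothLocally (fun T ↦ IsLocallyNoetherian T) 𝒴) :
    SmoothLocally (fun T ↦ IsLocallyNoetherian T) 𝒳 ∧ IsQuasiCompactMor Scheme.fppfPrecoverage j := by
  have hX := h𝒳.isStack.1
  have hY := h𝒴.isStack.1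
  obtain ⟨V, y, hy, hy'⟩ := exists_space_atlas h𝒴
  haveI : IsLocallyNoetherian V.left := of_ofSch hN y hy
  obtain ⟨F, a, e, he, ⟨α⟩, hQ⟩ := exists_space_fp hX hY (repByAlgSp1_of_with hj) (spY V) y
  have hi : AlgSp.RepWith @IsImmersion a :=
    spaceDescends_repWith _ F (spY V) a (hQ _ inferInstance hj)
  have hl : AlgSp.LocP @LocallyOfFiniteType a := SpFP87.locP_of_repWith F.property.diag (spY V).property
    (SpPts86.repWith_mono (fun _ _ f (_ : IsImmersion f) => inferInstance) hi)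
  have hl' : IsEquivOver (BasedFunctor.comp e (fpSwap y j)) := isEquivOver_comp he isEquivOver_fpSwap
  constructor
  · refine S12998.result S 𝒳 𝒴 h𝒳 h𝒴 j ((locQ_iff_spQ smoothLocal_lft h𝒳 h𝒴).2 ?_) hN
    refine spQ_mk (U := F) (V := spY V) (y := y) (l := BasedFunctor.comp e (fpSwap y j)) hX hY hy hy'
      (sm_equiv (𝒳 := ofSp F.obj) hl') (sj_equiv (𝒳 := ofSp F.obj) hl') ?_
    rw [show homOfBased (BasedFunctor.comp (BasedFunctor.comp e (fpSwap y j)) (fpSnd j y)) = a from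
      (homOfBased_congr α).trans (homOfBased_ofSpMap a)]
    exact hl
  · refine (repByAlgSpWith_quasiCompact_iff h𝒳 h𝒴 (repByAlgSp1_of_with hj)).1 ?_
    refine repByAlgSpWith_of_repSp_cover hX hY
      (fun _ _ _ _ _ _ _ _ _ _ _ _ sq h => SpPts86.isQuasiCompactMor_baseChange h sq)
      (fppf_local_of_fpqc (S10519.result S)) (repByAlgSp1_of_with hj) (spY V) y
      (rep_flat_of_sm hy) (rep_lfp_of_sm hy) hy' ⟨F, e, he, ?_⟩
    rw [homOfBased_congr α, homOfBased_ofSpMap]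
    refine SpPts86.isQuasiCompactMor_of_repWith (spY V).property ?_
    obtain ⟨W, q, fst, sq⟩ := hi.rep (𝟙 _)
    haveI : IsImmersion q.left := hi.property (𝟙 _) fst q sq
    haveI := quasiCompact_of_isImmersion q.left
    haveI : IsIso fst := sq.isIso_fst_of_isIso
    exact (MorphismProperty.cancel_left_of_respectsIso (AlgSp.RepWith @QuasiCompact) fst a).1
      (by rw [show fst ≫ a = (AlgSp.yon S).map q from sq.w.trans (Category.comp_id _)]
          exact (AlgSp.repWith_yon_map_iff _ q).2 inferInstance)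

theorem mono_le_of_isImmersion : (@IsImmersion : MorphismProperty Scheme.{u}) ≤ MorphismProperty.monomorphisms _ :=
  fun _ _ f (_ : IsImmersion f) => (inferInstance : Mono f)

theorem isQuasiSeparatedMor_of_isImm (h𝒳 : IsAlgStack Scheme.fppfPrecoverage 𝒳)
    (h𝒴 : IsAlgStack Scheme.fppfPrecoverage 𝒴) {j : 𝒳 ⥤ᵇ 𝒴} (hj : IsImm j) : AlgSt.IsQuasiSeparatedMor j := by
  have hX := h𝒳.isStack.1
  have hY := h𝒴.isStack.1
  haveI := respectsIso_qc (S := S)
  have h : RepByAlgSpWith AlgSp.IsQuasiSeparatedMor j := repByAlgSpWith_mono (fun _ _ a ha => by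
    haveI := SpPts86.mono_of_repWith_le mono_le_of_isImmersion ha
    exact SpPts86.repWith_mono (fun _ _ k (hk : IsClosedImmersion k) => (inferInstance : QuasiCompact k))
      (isSeparatedMor_of_mono a)) hj
  exact repByAlgSpWith_inf (qc_diag_of_qs hX hY h) (qs_diag hX hY (repByAlgSp1_of_with hj))

theorem noetherian_of_isImm (h𝒳 : IsAlgStack Scheme.fppfPrecoverage 𝒳) (h𝒴 : IsAlgStack Scheme.fppfPrecoverage 𝒴)
    (j : 𝒳 ⥤ᵇ 𝒴) (hj : IsImm j) (hqc : IsQuasiCompact 𝒴) (hqs : IsQuasiSeparatedOver 𝒴)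
    (hN : SmoothLocally (fun T ↦ IsLocallyNoetherian T) 𝒴) :
    IsQuasiCompact 𝒳 ∧ IsQuasiSeparatedOver 𝒳 ∧ SmoothLocally (fun T ↦ IsLocallyNoetherian T) 𝒳 := by
  obtain ⟨hNX, hq⟩ := noetherian_qc_of_isImm h𝒳 h𝒴 j hj hN
  have hfp := isAlgStack_fp h𝒴.isStack h𝒴.diag h𝒴 h𝒳 (BasedFunctor.id 𝒴) j
  haveI := compactSpace_points_of_isQuasiCompact hfp (hq 𝒴 h𝒴 hqc (BasedFunctor.id 𝒴))
  haveI := compactSpace_of_surjective h𝒳 (fpSnd (BasedFunctor.id 𝒴) j) (fun x => by
    obtain ⟨w, -, hw⟩ := exists_points_fp h𝒴.isStack.1 h𝒳.isStack.1 h𝒴.isStack.1 j (BasedFunctor.id 𝒴)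
      (Points.map j x) x (points_map_id _)
    exact ⟨w, hw⟩)
  refine ⟨isQuasiCompact_of_compactSpace h𝒳, ?_, hNX⟩
  exact repByAlgSpWith_diag_of_iso (selfIso (BasedFunctor.comp j (toSelf 𝒴)) (toSelf 𝒳))
    (repByAlgSpWith_diag_comp h𝒳.isStack.1 h𝒴.isStack.1 respectsIso_qcqs spaceDescends_qcqs stableComp_qcqs
      (isQuasiSeparatedMor_of_isImm h𝒳 h𝒴 hj) hqs)

end Groth.Agent.AlgSt88
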