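import Groth.Agent.AlgSt88.QuotDiag
import Groth.Agent.SpFP87.RepDescQA
import Groth.Agent.SpFP87.Covers
import Groth.Agent.AlgSt88.LocalBase
import Groth.Agent.Amp73.QA

/-! Quasi-affine diagonals of quotient stacks. -/

set_option autoImplicit false
set_option linter.style.haveILetI false
set_option backward.isDefEq.respectTransparency false
set_option backward.isDefEq.respectTransparency.types false
universe u

open CategoryTheory CategoryTheory.Limits AlgebraicGeometry Opposite AlgSt FibCat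

namespace Groth.Agent.AlgSt88

variable {S : Scheme.{u}} {𝒳 𝒴 : AlgSt.Cat S} {K : Precoverage Scheme.{u}}

open SpFP87 (qaMor)

/-- Representable with quasi-affine fibres. -/
abbrev RepQA : MorphismProperty (AlgSp.Sp S) := AlgSp.RepWith qaMor.{u}

/-- The diagonal is representable with quasi-affine fibres. -/
abbrev DiagQA : MorphismProperty (AlgSp.Sp S) := MorphismProperty.diagonal RepQA

instance qaMor_isStableUnderComposition : qaMor.{u}.IsStableUnderComposition :=
  ⟨fun _ _ hf hg => Amp73.isQuasiAffine_comp hf hg⟩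

theorem respectsIso_repQA : (RepQA (S := S)).RespectsIso :=
  (AlgSp.repWith_isStableUnderBaseChange _).respectsIso

theorem stableBC_repQA : StableBC (RepQA (S := S)) := fun _ _ _ _ _ _ _ _ _ _ _ _ sq h =>
  (AlgSp.repWith_isStableUnderBaseChange _).of_isPullback sq h

theorem cancels_repQA : CancelsAlong (RepQA (S := S)) DiagQA := fun _ _ _ _ _ _ _ _ hb hab =>
  SpPts86.repWith_of_comp hb hab

theorem repQA_descend {I J : AlgSp.Sp S} (hI : AlgSp.IsAlgSpace I) {W V : Over S} {a : I ⟶ (AlgSp.yon S).obj V}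
    (p : W ⟶ V) (hp : SpFP87.fppfSurj p.left) {fst : J ⟶ I} {snd : J ⟶ (AlgSp.yon S).obj W}
    (sq : IsPullback fst snd a ((AlgSp.yon S).map p)) (h : RepQA snd) : RepQA a := by
  obtain ⟨h1, h2, h3⟩ := (SpFP87.fppfSurj_iff _).1 hp
  have hW := AlgSp.IsAlgSpace.yon_obj (S := S) W
  have hV := AlgSp.IsAlgSpace.yon_obj (S := S) V
  have hc := isFppfCover_single ((AlgSp.yon S).map p) ((SpFP87.locP_yon_map_iff p).2 h2)
    ((SpFP87.locP_yon_map_iff p).2 h3)
    (SpPts86.isSurjectiveMor_of_repWith ((AlgSp.repWith_yon_map_iff (@Surjective : MorphismProperty Scheme.{u}) p).2 h1))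
  exact (SpFP87.isLocalOnBase_fpqc_repWith (P := qaMor) Desc59.descendsAlong_quasiAffine SpFP87.qaMor_le_indQA
    (fun _ : PUnit.{u+1} => (AlgSp.yon S).obj W) (fun _ => (AlgSp.yon S).map p) hV (fun _ => hW)
    (SpFP87.isFpqcCover_of_isFppfCover _ _ hV (fun _ => hW) hc) a hI (fun _ => J) (fun _ => snd) (fun _ => fst)
    (fun _ => SpFP87.isAlgSpace_of_isPullback sq hI hW hV.diag) (fun _ => sq)).2 (fun _ => h)

theorem repOver_qa_of_cover (hX : IsFibGrpd 𝒳.p) (hY : IsFibGrpd 𝒴.p) {f : 𝒳 ⥤ᵇ 𝒴} (hf : RepByAlgSp1 f)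
    {W V : Over S} (p : W ⟶ V) (hp : SpFP87.fppfSurj p.left) (z : overCat V ⥤ᵇ 𝒴)
    (h : RepOver RepQA (fpFst (BasedFunctor.comp (overMap p) z) f)) :
    RepOver RepQA (fpFst z f) := by
  let GV : AlgSp.Space S := ⟨(AlgSp.yon S).obj V, AlgSp.IsAlgSpace.yon_obj V⟩
  let m : ofSp GV.obj ⥤ᵇ 𝒴 := BasedFunctor.comp (toOverCat V) z
  obtain ⟨I, a, e, he, ⟨α⟩, -⟩ := exists_space_fp hX hY hf GV m
  haveI := respectsIso_repQA (S := S)
  let ξ := (AlgSp.yon S).map p
  let w' : overCat W ⥤ᵇ ofSp GV.obj := BasedFunctor.comp (ofOverCat W) (ofSpMap ξ)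
  obtain ⟨ι⟩ := overMap_iso p
  have h1 : RepOver (RepQA) (fpFst w' (fpFst m f)) :=
    RepOver.transport' h (isEquivOver_comp (isEquivOver_fpPaste w' m f)
      (isEquivOver_fpCongr (F := BasedFunctor.comp w' m) (F' := BasedFunctor.comp (overMap p) z)
        (bRight ι z) (Iso.refl f))) (Iso.refl _)
  have h2 : RepOver (RepQA) (fpFst w' (ofSpMap a)) :=
    RepOver.transport' h1 (isEquivOver_comp (isEquivOver_fpCongr (F := w') (F' := w') (G := ofSpMap a) (Iso.refl _) α.symm)
      (isEquivOver_fpMapSnd w' (fpFst m f) e he)) (Iso.refl _)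
  have sq := IsPullback.of_hasPullback a ξ
  have sq' := sq.map (sheafToPresheaf (QuotSh.J Scheme.fppfPrecoverage S) (Type (u + 1)))
  obtain ⟨e', he', ⟨β⟩⟩ := exists_pullback_equiv a.hom (Iso.refl _) sq'
  have hI'' : RepQA (pullback.snd a ξ) := by
    have := RepOver.any (P := RepQA) (F := pullback a ξ) h2 he'
    rw [spMapOfOver_eq] at this
    rw [homOfBased_congr (F := pullback a ξ) (G := (AlgSp.yon S).obj W)
      (Φ := BasedFunctor.comp (BasedFunctor.comp e' (fpFst w' (ofSpMap a))) (ofOverCat W))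
      (Ψ := ofSpMap (pullback.snd a ξ)) β, homOfBased_ofSpMap] at this
    exact this
  have hPa := repQA_descend I.property p hp sq hI''
  refine ⟨I, BasedFunctor.comp e (fpMapFst z f (toOverCat V)),
    isEquivOver_comp he (isEquivOver_fpMapFst z f _ (isEquivOver_toOverCat V)), ?_⟩
  have hmap : spMapOfOver (BasedFunctor.comp (BasedFunctor.comp e (fpMapFst z f (toOverCat V))) (fpFst z f)) =
      a ≫ spMapOfOver (toOverCat V) := by
    have h' := spMapOfOver_congr (bRight α (toOverCat V))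
    rw [spMapOfOver_comp (ofSpMap a) (toOverCat V), homOfBased_ofSpMap] at h'
    exact h'
  rw [hmap, spMapOfOver_toOverCat V]
  erw [Category.comp_id]
  exact hPa


theorem diagQA_yon_map {X t : Over S} (f : X ⟶ t) (hX : qaMor (pullback.diagonal f.left)) :
    DiagQA ((AlgSp.yon S).map f) := by
  have sqd : IsPullback (pullback.fst f f) (pullback.snd f f) f f := IsPullback.of_hasPullback f f
  let d : X ⟶ pullback f f := pullback.diagonal f
  have hdl : qaMor d.left := by
    have sql := sqd.map (Over.forget S)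
    have : d.left = pullback.diagonal f.left ≫ sql.isoPullback.inv := by
      apply sql.hom_ext
      · rw [Category.assoc]
        erw [sql.isoPullback_inv_fst, pullback.diagonal_fst]
        exact congrArg (fun z => z.left) (pullback.diagonal_fst f)
      · rw [Category.assoc]
        erw [sql.isoPullback_inv_snd, pullback.diagonal_snd]
        exact congrArg (fun z => z.left) (pullback.diagonal_snd f)
    rw [this]
    exact (MorphismProperty.cancel_right_of_respectsIso qaMor _ _).2 hX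
  have sqy := sqd.map (AlgSp.yon S)
  have e : pullback.diagonal ((AlgSp.yon S).map f) = (AlgSp.yon S).map d ≫ sqy.isoPullback.hom := by
    apply pullback.hom_ext
    · rw [pullback.diagonal_fst, Category.assoc, sqy.isoPullback_hom_fst, ← Functor.map_comp,
        pullback.diagonal_fst, CategoryTheory.Functor.map_id]
    · rw [pullback.diagonal_snd, Category.assoc, sqy.isoPullback_hom_snd, ← Functor.map_comp,
        pullback.diagonal_snd, CategoryTheory.Functor.map_id]
  change RepQA (pullback.diagonal ((AlgSp.yon S).map f))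
  rw [e]
  exact (MorphismProperty.cancel_right_of_respectsIso (RepQA (S := S)) _ _).2
    ((AlgSp.repWith_yon_map_iff _ d).2 hdl)

theorem repByAlgSpWith_diagQA_toSelf (X : Over S) (hX : qaMor (pullback.diagonal X.hom)) :
    RepByAlgSpWith (DiagQA (S := S)) (toSelf (overCat X)) := by
  haveI := AlgSp.repWith_isStableUnderBaseChange (S := S) qaMor.{u}
  haveI hst : (DiagQA (S := S)).IsStableUnderBaseChange := inferInstance
  have hbc : StableBC (DiagQA (S := S)) := fun _ _ _ _ _ _ _ _ a b a' b' sq h => hst.of_isPullback sq h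
  haveI hri : (DiagQA (S := S)).RespectsIso := hst.respectsIso
  let t : Over S := Over.mk (𝟙 S)
  let f : X ⟶ t := Over.homMk X.hom (by simp [t])
  have hf : DiagQA ((AlgSp.yon S).map f) := by
    exact diagQA_yon_map f (by
      have : qaMor (pullback.diagonal f.left) := hX
      exact this)
  obtain ⟨ι⟩ := overMap_iso f
  refine repByAlgSpWith_of_iso (f := BasedFunctor.comp (overMap f) (toSelf (overCat t))) (selfIso _ _)
    ((repByAlgSpWith_postcomp_equiv isEquivOver_toSelf_terminal).2 ?_)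
  exact repByAlgSpWith_of_iso ι ((repByAlgSpWith_postcomp_equiv (isEquivOver_toOverCat t)).2
    ((repByAlgSpWith_precomp_equiv (isEquivOver_ofOverCat X)).2
      (repByAlgSpWith_ofSpMap hbc hri (F := ⟨_, AlgSp.IsAlgSpace.yon_obj X⟩)
        (G := ⟨_, AlgSp.IsAlgSpace.yon_obj t⟩) _ hf)))

theorem qa_diag_of_cover (hX : IsFibGrpd 𝒳.p) (hdiag : RepByAlgSp1 (diag (toSelf 𝒳))) {U : Over S} {u : overCat U ⥤ᵇ 𝒳}
    (hu : RepByAlgSpWith (AlgSp.LocP (@Flat ⊓ @LocallyOfFinitePresentation)) u)
    (hus : RepByAlgSpWith AlgSp.IsSurjectiveMor u) (huA : RepByAlgSpWith AlgSp.IsQuasiAffineMor u)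
    (hd : qaMor (pullback.diagonal U.hom)) :
    RepByAlgSpWith AlgSp.IsQuasiAffineMor (diag (toSelf 𝒳)) := by
  have hUf := isFibGrpd_overCat (C := Over S) U
  have hXX := isFibGrpd_fp hX hX isFibGrpd_selfOver (toSelf 𝒳) (toSelf 𝒳)
  let h' := prodMap u u
  have hh : RepByAlgSpWith (AlgSp.LocP (@Flat ⊓ @LocallyOfFinitePresentation)) h' :=
    repByAlgSpWith_prodFun hUf hUf hX hX (respectsIso_locP _) (spaceDescends_locP _) (stableComp_locP _) hu hu _
  have hhs : RepByAlgSpWith AlgSp.IsSurjectiveMor h' :=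
    repByAlgSpWith_prodFun hUf hUf hX hX respectsIso_surj spaceDescends_surj
      (fun _ _ _ _ _ _ a b ha hb y => by
        obtain ⟨y', rfl⟩ := hb y
        obtain ⟨x, rfl⟩ := ha y'
        exact ⟨x, AlgSp.Points.map_comp a b x⟩) hus hus _
  have hR : RepByAlgSpWith RepQA (fpFst h' (diag (toSelf 𝒳))) := by
    refine (repByAlgSpWith_precomp_equiv (isEquivOver_fpToDiag u u)).1 (repByAlgSpWith_of_comp (h := fpToProd u u)
      (c := fpFst (toSelf (overCat U)) (toSelf (overCat U))) stableBC_repQA respectsIso_repQA cancels_repQA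
      (repByAlgSpWith_fpFst _ (repByAlgSpWith_diagQA_toSelf U hd)) ?_)
    exact repByAlgSpWith_of_iso (f := fpFst u u) (Iso.refl _) (repByAlgSpWith_fpFst u
      (repByAlgSpWith_mono_spaces (fun _ _ hA hB a ha => (SpFP87.repWith_qaMor_iff a hA hB).2 ha) huA))
  refine repByAlgSpWith_mono_spaces (fun _ _ hA hB a ha => (SpFP87.repWith_qaMor_iff a hA hB).1 ha) ?_
  intro V z
  haveI := respectsIso_locP (S := S) (@Flat ⊓ @LocallyOfFinitePresentation : MorphismProperty Scheme.{u})
  obtain ⟨G, e, he, hb⟩ := (repByAlgSpWith_inf hh hhs) V z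
  obtain ⟨W, c, hc, hcs⟩ := G.property.atlas
  let Φ : ofSp ((AlgSp.yon S).obj W) ⥤ᵇ overCat V :=
    BasedFunctor.comp (ofSpMap c) (BasedFunctor.comp e (fpFst z h'))
  obtain ⟨p, hp⟩ := (AlgSp.yon S).map_surjective (spMapOfOver Φ)
  have hp' : (AlgSp.yon S).map p = c ≫ spMapOfOver (BasedFunctor.comp e (fpFst z h')) := by
    rw [hp, spMapOfOver_comp (ofSpMap c) (BasedFunctor.comp e (fpFst z h')), homOfBased_ofSpMap]
  have hsm : (@Flat ⊓ @LocallyOfFinitePresentation : MorphismProperty Scheme.{u}) p.left := hb.1 c (𝟙 _) p hc (AlgSp.repWith_id @Etale V)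
    (by rw [Category.comp_id, hp'])
  have hsu : Surjective p.left := ⟨fun v => by
    obtain ⟨x, hx⟩ := hb.2 (AlgSp.Points.ofScheme V v)
    obtain ⟨y, rfl⟩ := SpPts86.isSurjectiveMor_of_repWith hcs x
    rw [← AlgSp.Points.map_comp, ← hp'] at hx
    obtain ⟨t, rfl⟩ := (AlgSp.Points.schemeHomeo W).surjective y
    rw [AlgSp.Points.map_yon_map_apply] at hx
    exact ⟨t, (AlgSp.Points.schemeHomeo V).injective hx⟩⟩
  let w : overCat W ⥤ᵇ fp z h' := BasedFunctor.comp (ofOverCat W) (BasedFunctor.comp (ofSpMap c) e)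
  obtain ⟨ι⟩ := overMap_iso p
  obtain ⟨α⟩ := nonempty_iso_ofPshMap (Q := ((AlgSp.yon S).obj V).obj) (BasedFunctor.comp Φ (ofOverCat V))
  have hα : (ObjectProperty.homMk (pshHom (Q := ((AlgSp.yon S).obj V).obj) (BasedFunctor.comp Φ (ofOverCat V))) :
      (AlgSp.yon S).obj W ⟶ (AlgSp.yon S).obj V) = (AlgSp.yon S).map p := by
    rw [hp, spMapOfOver_eq]
    refine (homOfBased_ofSpMap _).symm.trans (homOfBased_congr (F := (AlgSp.yon S).obj W)
      (G := (AlgSp.yon S).obj V) α.symm)
  have α' : BasedFunctor.comp Φ (ofOverCat V) ≅ ofSpMap ((AlgSp.yon S).map p) := hα ▸ α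
  let β : BasedFunctor.comp (ofOverCat V) (toOverCat V) ≅ BasedFunctor.id (overCat V) :=
    BasedNatIso.mkNatIso
      (NatIso.ofComponents (fun a => Iso.refl _)
        (fun {a b} f => Over.OverMorphism.ext ((Category.comp_id _).trans (Category.id_comp _).symm)))
      (fun a => IsHomLift.id rfl)
  let γ : BasedFunctor.comp w (fpFst z h') ≅ overMap p :=
    bLeft (ofOverCat W) ((bLeft Φ β).symm ≪≫ bRight α' (toOverCat V)) ≪≫ ι
  let δ : BasedFunctor.comp (BasedFunctor.comp w (fpSnd z h')) h' ≅ BasedFunctor.comp (overMap p) z :=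
    (bLeft w (fpIso z h')).symm ≪≫ bRight γ z
  refine repOver_qa_of_cover hX hXX hdiag p
    ((SpFP87.fppfSurj_iff _).2 ⟨hsu, hsm.1, hsm.2⟩) z ?_
  exact RepOver.transport (hR W (BasedFunctor.comp w (fpSnd z h')))
    (isEquivOver_comp (isEquivOver_fpPaste (BasedFunctor.comp w (fpSnd z h')) h' (diag (toSelf 𝒳)))
      (isEquivOver_fpCongr δ (Iso.refl _))) (Iso.refl _)

theorem qa_diag_quotSt {G X : Over S} [GrpObj G] (a : AlgGrp.Action G X) [Flat G.hom]
    [LocallyOfFinitePresentation G.hom] [IsAffineHom G.hom] [QuasiSeparated X.hom] :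
    RepByAlgSpWith AlgSp.IsQuasiAffineMor (diag (toSelf (QuotSt Scheme.fppfPrecoverage G a))) := by
  refine qa_diag_of_cover (isStack_quotSt Scheme.fppfPrecoverage_le_fpqcPrecoverage ‹_› a).1
    (repByAlgSp1_diag_quotSt a) (u := BasedFunctor.comp (ofOverCat X) (quotMap Scheme.fppfPrecoverage G a)) ?_ ?_ ?_ ?_
  · exact repByAlgSpWith_locP_quotMap a (@Flat ⊓ @LocallyOfFinitePresentation)
      (fun A => ⟨flat_π ‹_› A, lfp_π ‹_› A⟩) (fun f hf => (SpFP87.locP_yon_map_iff f).2 hf)
  · exact repByAlgSpWith_surj_quotMap a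
  · refine repByAlgSpWith_mono_spaces (fun _ _ hA hB a ha => ?_) (repByAlgSpWith_affine_quotMap a)
    exact (SpFP87.repWith_qaMor_iff a hA hB).1 (SpPts86.repWith_mono (S := S)
      (fun _ _ k (_ : IsAffineHom k) => Amp73.isQuasiAffine_of_isAffineHom k) (SpPts86.repWith_of_isAffineMor ha))
  · exact Amp73.isQuasiAffine_of_isEmbedding _ (pullback.diagonal X.hom).isEmbedding

end Groth.Agent.AlgSt88
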