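import Groth.Agent.AlgSt88.DiagCalc
import Groth.Agent.AlgSt88.LocPSt
import Groth.Agent.SpPts86.Proper
import Groth.Agent.SpPts86.ProperCrit
import Groth.Agent.SpPts86.QCMor
import Groth.Agent.SpPts86.Separation
import Groth.Agent.S9919
import Groth.Agent.S9923

/-! Separated and quasi-separated morphisms of stacks under composition. -/

set_option autoImplicit false
set_option linter.unusedVariables false
set_option linter.style.haveILetI false
set_option backward.isDefEq.respectTransparency false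
set_option backward.isDefEq.respectTransparency.types false
universe u

open CategoryTheory CategoryTheory.Limits AlgebraicGeometry Opposite AlgSt FibCat

namespace Groth.Agent.AlgSt88

variable {S : Scheme.{u}}

theorem respectsIso_of_bc {P : MorphismProperty (AlgSp.Sp S)}
    (h : ∀ ⦃X Y Z W : AlgSp.Sp S⦄ (a : X ⟶ Y) (g : Z ⟶ Y) (fst : W ⟶ X) (snd : W ⟶ Z),
      IsIso fst → IsIso g → IsPullback fst snd a g → P a → P snd) : P.RespectsIso :=
  MorphismProperty.RespectsIso.mk _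
    (fun e f hf => h f (𝟙 _) e.hom (e.hom ≫ f) inferInstance inferInstance
      (IsPullback.of_horiz_isIso ⟨by simp⟩) hf)
    (fun e f hf => h f e.inv (𝟙 _) (f ≫ e.hom) inferInstance inferInstance
      (IsPullback.of_horiz_isIso ⟨by simp⟩) hf)

theorem repWith_diag_baseChange (Q : MorphismProperty Scheme.{u}) [Q.IsStableUnderBaseChange]
    {X Y Z W : AlgSp.Sp S} {a : X ⟶ Y} {g : Z ⟶ Y} {fst : W ⟶ X} {snd : W ⟶ Z} (sq : IsPullback fst snd a g)
    (h : AlgSp.RepWith Q (pullback.diagonal a)) : AlgSp.RepWith Q (pullback.diagonal snd) :=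
  (AlgSp.repWith_isStableUnderBaseChange Q).of_isPullback (SpPts86.isPullback_diagonal_baseChange sq) h

theorem mono_mapDesc {X Y Z : AlgSp.Sp S} (a : X ⟶ Y) (b : Y ⟶ Z) : Mono (pullback.mapDesc a a b) := by
  constructor
  intro W u v e
  have h1 := congrArg (fun z => z ≫ pullback.fst (a ≫ b) (a ≫ b)) e
  have h2 := congrArg (fun z => z ≫ pullback.snd (a ≫ b) (a ≫ b)) e
  simp only [pullback.mapDesc, pullback.map, Category.assoc, pullback.lift_fst, pullback.lift_snd,
    Category.comp_id] at h1 h2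
  exact pullback.hom_ext h1 h2

theorem repWith_diag_cancel (Q : MorphismProperty Scheme.{u}) [Q.IsStableUnderBaseChange] {X Y Z : AlgSp.Sp S}
    (a : X ⟶ Y) (b : Y ⟶ Z) (h : AlgSp.RepWith Q (pullback.diagonal (a ≫ b))) :
    AlgSp.RepWith Q (pullback.diagonal a) := by
  haveI := mono_mapDesc a b
  have sq : IsPullback (𝟙 X) (pullback.diagonal a) (pullback.diagonal (a ≫ b)) (pullback.mapDesc a a b) := by
    refine ⟨⟨by rw [Category.id_comp, SpPts86.diagonal_comp_eq]⟩, ⟨PullbackCone.IsLimit.mk _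
      (fun c => c.fst) (fun c => Category.comp_id _) (fun c => ?_) (fun c m h1 _ => by simpa using h1)⟩⟩
    rw [← cancel_mono (pullback.mapDesc a a b), Category.assoc, ← SpPts86.diagonal_comp_eq]
    exact c.condition
  exact (AlgSp.repWith_isStableUnderBaseChange Q).of_isPullback sq h

theorem isQuasiSeparatedMor_comp' {X Y Z : AlgSp.Sp S} {a : X ⟶ Y} {b : Y ⟶ Z}
    (ha : AlgSp.IsQuasiSeparatedMor a) (hb : AlgSp.IsQuasiSeparatedMor b) : AlgSp.IsQuasiSeparatedMor (a ≫ b) := by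
  change AlgSp.RepWith @QuasiCompact (pullback.diagonal (a ≫ b))
  rw [SpPts86.diagonal_comp_eq]
  exact MorphismProperty.comp_mem (W := AlgSp.RepWith (@QuasiCompact : MorphismProperty Scheme.{u})) _ _
    ha (SpPts86.repWith_mapDesc a a b hb)

theorem respectsIso_proper : (AlgSp.IsProperMor (S := S)).RespectsIso :=
  MorphismProperty.RespectsIso.mk _
    (fun e f hf => ⟨repWith_diag_baseChange _ (IsPullback.of_horiz_isIso ⟨by simp⟩ : IsPullback e.hom (e.hom ≫ f) f (𝟙 _)) hf.1,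
      ⟨(by haveI := respectsIso_locP (S := S) @LocallyOfFiniteType; exact MorphismProperty.RespectsIso.precomp _ e.hom f hf.2.1.1),
        SpPts86.isQuasiCompactMor_baseChange hf.2.1.2 (IsPullback.of_horiz_isIso ⟨by simp⟩ : IsPullback e.hom (e.hom ≫ f) f (𝟙 _))⟩,
      SpPts86.univSp_baseChange' hf.2.2 (IsPullback.of_horiz_isIso ⟨by simp⟩ : IsPullback e.hom (e.hom ≫ f) f (𝟙 _))⟩)
    (fun e f hf => ⟨repWith_diag_baseChange _ (IsPullback.of_horiz_isIso ⟨by simp⟩ : IsPullback (𝟙 _) (f ≫ e.hom) f e.inv) hf.1,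
      ⟨(by haveI := respectsIso_locP (S := S) @LocallyOfFiniteType; exact MorphismProperty.RespectsIso.postcomp _ e.hom f hf.2.1.1),
        SpPts86.isQuasiCompactMor_baseChange hf.2.1.2 (IsPullback.of_horiz_isIso ⟨by simp⟩ : IsPullback (𝟙 _) (f ≫ e.hom) f e.inv)⟩,
      SpPts86.univSp_baseChange' hf.2.2 (IsPullback.of_horiz_isIso ⟨by simp⟩ : IsPullback (𝟙 _) (f ≫ e.hom) f e.inv)⟩)

theorem respectsIso_qcqs : (AlgSp.IsQuasiCompactMor (S := S) ⊓ AlgSp.IsQuasiSeparatedMor).RespectsIso :=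
  respectsIso_of_bc fun X Y Z W a g fst snd _ _ sq hf =>
    ⟨SpPts86.isQuasiCompactMor_baseChange hf.1 sq, repWith_diag_baseChange _ sq hf.2⟩

theorem spaceDescends_proper : SpaceDescends (S := S) AlgSp.IsProperMor := by
  intro F G a ha
  have key : ∀ {T : Over S} (g : (AlgSp.yon S).obj T ⟶ G.obj) {Q : AlgSp.Sp S} {fst : Q ⟶ F.obj} {snd : Q ⟶ (AlgSp.yon S).obj T},
      IsPullback fst snd a g → AlgSp.IsProperMor snd :=
    fun {T} g {Q fst snd} sq => ((AlgSp.repBySpWith_hom_iff _ a).1 ha g fst snd sq).2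
  exact ⟨SpPts86.repWith_diagonal_of_affine _ F.property.diag a fun T _ g Q fst snd sq => (key g sq).1,
    SpPts86.isFiniteTypeMor_of_affine F.property G.property fun T _ g Q fst snd sq => (key g sq).2.1,
    (S9923.result (X := F) (Y := G) ⟨a⟩).2 fun T _ g Q fst snd sq =>
      (key g sq).2.2 (AlgSp.IsAlgSpace.yon_obj T) (𝟙 _) (𝟙 Q) snd (IsPullback.of_horiz_isIso ⟨by simp⟩)⟩

theorem spaceDescends_qcqs : SpaceDescends (S := S) (AlgSp.IsQuasiCompactMor ⊓ AlgSp.IsQuasiSeparatedMor) := by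
  intro F G a ha
  have key : ∀ {T : Over S} (g : (AlgSp.yon S).obj T ⟶ G.obj) {Q : AlgSp.Sp S} {fst : Q ⟶ F.obj} {snd : Q ⟶ (AlgSp.yon S).obj T},
      IsPullback fst snd a g → (AlgSp.IsQuasiCompactMor ⊓ AlgSp.IsQuasiSeparatedMor) snd :=
    fun {T} g {Q fst snd} sq => ((AlgSp.repBySpWith_hom_iff _ a).1 ha g fst snd sq).2
  exact ⟨SpPts86.isQuasiCompactMor_of_affine F.property G.property fun T hT g Q fst snd sq => by
      haveI := hT
      haveI := SpPts86.compactSpace_points_yon T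
      exact SpPts86.compactSpace_of_isQuasiCompactMor (key g sq).1 (AlgSp.IsAlgSpace.yon_obj T)
        (IsPullback.of_horiz_isIso ⟨by simp⟩ : IsPullback (𝟙 Q) snd snd (𝟙 _)),
    SpPts86.repWith_diagonal_of_affine _ F.property.diag a fun T _ g Q fst snd sq => (key g sq).2⟩

theorem stableBC_proper : StableBC (S := S) AlgSp.IsProperMor :=
  fun _ _ _ _ hX₁ hY₁ hX₂ hY₂ a b a' b' sq ha => SpPts86.isProperMor_baseChange hX₁ hY₁ hY₂ ha sq

theorem stableBC_qcqs : StableBC (S := S) (AlgSp.IsQuasiCompactMor ⊓ AlgSp.IsQuasiSeparatedMor) :=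
  fun _ _ _ _ hX₁ hY₁ hX₂ hY₂ a b a' b' sq ha =>
    ⟨SpPts86.isQuasiCompactMor_baseChange ha.1 sq, repWith_diag_baseChange _ sq ha.2⟩

theorem stableComp_proper : StableComp (S := S) AlgSp.IsProperMor :=
  fun _ _ _ hX hY hZ a b ha hb => SpPts86.isProperMor_comp hX hY hZ ha hb

theorem stableComp_qcqs : StableComp (S := S) (AlgSp.IsQuasiCompactMor ⊓ AlgSp.IsQuasiSeparatedMor) :=
  fun _ _ _ hX hY hZ a b ha hb =>
    ⟨SpPts86.isQuasiCompactMor_comp hY hZ ha.1 hb.1, isQuasiSeparatedMor_comp' ha.2 hb.2⟩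

theorem cancels_proper : CancelsAlong (S := S) AlgSp.IsProperMor AlgSp.IsSeparatedMor :=
  fun _ _ _ hX hY hZ a b hb hab => SpPts86.proper_over_separated hX hY hZ rfl hb hab

theorem cancels_qcqs :
    CancelsAlong (S := S) (AlgSp.IsQuasiCompactMor ⊓ AlgSp.IsQuasiSeparatedMor) AlgSp.IsQuasiSeparatedMor :=
  fun X Y Z hX hY hZ a b hb hab =>
    ⟨S9919.result (X := ⟨X, hX⟩) (Y := ⟨Y, hY⟩) (Z := ⟨Z, hZ⟩) ⟨a⟩ ⟨b⟩ hab.1 hb,
      repWith_diag_cancel _ a b hab.2⟩

end Groth.Agent.AlgSt88
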