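import Groth.Agent.AlgSt88.Inertia
import Groth.Agent.SpFP87.NormZMT
import Groth.Agent.AlgSt88.QuotDiagQA
import Groth.Agent.AlgSt88.SepQs
import Groth.Agent.SpPts86.FiniteCrit
import Groth.Agent.AlgSt88.LocPSt

/-! Inertia relative to an algebraic space. -/

set_option autoImplicit false
set_option linter.style.haveILetI false
set_option linter.unusedVariables false
set_option backward.isDefEq.respectTransparency false
set_option backward.isDefEq.respectTransparency.types false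
universe u

open CategoryTheory CategoryTheory.Limits AlgebraicGeometry Opposite AlgSt FibCat

namespace Groth.Agent.AlgSt88

variable {S : Scheme.{u}} {𝒳 : AlgSt.Cat S}

/-- A proper locally quasi-finite morphism of algebraic spaces is finite. -/
theorem isFiniteMor_of_proper_lqf {X Y : AlgSp.Sp S} {f : X ⟶ Y} (hX : AlgSp.IsAlgSpace X) (hY : AlgSp.IsAlgSpace Y)
    (hp : AlgSp.IsProperMor f) (hqf : AlgSp.LocP (@LocallyQuasiFinite ⊓ @LocallyOfFiniteType) f) :
    AlgSp.IsFiniteMor f := by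
  obtain ⟨hs, hft, huc⟩ := hp
  have hqa := SpFP87.isQuasiAffineMor_of_lqf_separated hX hY hqf hft.2 hs
  have hr : AlgSp.Representable f := ((SpFP87.repWith_qaMor_iff f hX hY).2 hqa).1
  have huc' := (Groth.Agent.S9922.result (X := ⟨X, hX⟩) (Y := ⟨Y, hY⟩) ⟨f⟩ hr).2 huc
  refine (SpPts86.isFiniteMor_iff f).2 ⟨hr, fun V W v a g sq => ?_⟩
  obtain ⟨W', a', g', sq', _, _, _, _⟩ := SpFP87.exists_scheme_baseChange hX hY hqf hft.2 hs v
  haveI : UniversallyClosed g'.left := huc'.2 v a' g' sq'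
  haveI : IsProper g'.left := ⟨⟩
  obtain ⟨k, hk⟩ := (AlgSp.yon S).map_surjective (sq.isoIsPullback _ _ sq').hom
  haveI : IsIso ((AlgSp.yon S).map k) := hk ▸ inferInstance
  haveI : IsIso k := isIso_of_fully_faithful (AlgSp.yon S) k
  haveI : IsIso k.left := inferInstanceAs (IsIso ((Over.forget S).map k))
  have e : g = k ≫ g' := (AlgSp.yon S).map_injective (by
    rw [Functor.map_comp, hk, sq.isoIsPullback_hom_snd])
  haveI : IsFinite g'.left := IsFinite.of_isProper_of_locallyQuasiFinite g'.left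
  rw [e]
  change IsFinite (k.left ≫ g'.left)
  infer_instance

/-- An automorphism over the identity maps to the identity of a setoid. -/
noncomputable def inertiaOfSelf {M : AlgSp.Sp S} (π : 𝒳 ⥤ᵇ AlgSt.ofSp M) : inertia (toSelf 𝒳) ⥤ᵇ inertia π where
  toFunctor :=
    { obj := fun x => ⟨x.pt, x.aut, Stk.EltObj.hom_ext (by
          have h1 : (AlgSt.ofSp M).p.map (π.map x.aut.hom) = eqToHom (π.w_obj x.pt) ≫ 𝒳.p.map x.aut.hom ≫ eqToHom (π.w_obj x.pt).symm :=
            Functor.congr_hom π.w x.aut.hom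
          have h2 : 𝒳.p.map x.aut.hom = 𝟙 _ := x.map_aut
          rw [h2, Category.id_comp, eqToHom_trans, eqToHom_refl] at h1
          exact h1)⟩
      map := fun f => ⟨f.hom, f.comm⟩
      map_id := fun x => InertiaObj.hom_ext rfl
      map_comp := fun f g => InertiaObj.hom_ext rfl }
  w := rfl

theorem isEquivOver_inertiaOfSelf {M : AlgSp.Sp S} (π : 𝒳 ⥤ᵇ AlgSt.ofSp M) : IsEquivOver (inertiaOfSelf π) := by
  refine IsEquivData.isEquivOver ⟨fun a b e => InertiaObj.hom_ext (congrArg (fun t : _ ⟶ _ => InertiaObj.Hom.hom t) e),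
    fun {x y} g => ⟨⟨g.hom, g.comm⟩, InertiaObj.hom_ext rfl⟩, fun z => ?_⟩
  have hz : (toSelf 𝒳).map z.aut.hom = 𝟙 _ := by
    haveI := aut_isHomLift z
    have := IsHomLift.fac' 𝒳.p (𝟙 (𝒳.p.obj z.pt)) z.aut.hom
    simp only [Category.id_comp, eqToHom_trans, eqToHom_refl] at this
    exact this
  let x : InertiaObj (toSelf 𝒳) := ⟨z.pt, z.aut, hz⟩
  exact ⟨x, Iso.refl _, IsHomLift.id rfl⟩

/-- Separatedness over a coarse space and quasi-finite diagonal give finite inertia. -/
theorem finite_inertia_of_sep_to_space (hX : IsFibGrpd 𝒳.p) {M : AlgSp.Sp S} (π : 𝒳 ⥤ᵇ AlgSt.ofSp M)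
    (hsep : AlgSt.IsSeparatedMor π) (hqf : AlgSt.IsQuasiDMOver 𝒳) :
    RepByAlgSpWith AlgSp.IsFiniteMor (inertiaToBase (toSelf 𝒳)) := by
  have h1 : RepByAlgSpWith AlgSp.IsProperMor (inertiaToBase (toSelf 𝒳)) :=
    repByAlgSpWith_of_iso (f := BasedFunctor.comp (inertiaOfSelf π) (inertiaToBase π)) (Iso.refl _)
      ((repByAlgSpWith_precomp_equiv (isEquivOver_inertiaOfSelf π)).2 (repByAlgSpWith_inertiaToBase hX π hsep))
  have h2 := repByAlgSpWith_inertiaToBase hX (toSelf 𝒳) hqf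
  intro U y
  haveI := respectsIso_proper (S := S)
  haveI := respectsIso_locP (S := S) (@LocallyQuasiFinite ⊓ @LocallyOfFiniteType)
  obtain ⟨F, e, he, hp, hl⟩ := RepOver.inf (h1 U y) (h2 U y)
  exact ⟨F, e, he, isFiniteMor_of_proper_lqf F.property (AlgSp.IsAlgSpace.yon_obj U) hp hl⟩

end Groth.Agent.AlgSt88
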