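import Groth.Agent.AlgSt88.Invar
import Groth.Agent.AlgSt88.Compose
import Groth.Agent.Fib44.Repr1

/-! Cancellation, products and diagonals of 2-fibre products. -/

set_option autoImplicit false
set_option backward.isDefEq.respectTransparency false
set_option backward.isDefEq.respectTransparency.types false
universe u

open CategoryTheory CategoryTheory.Limits AlgebraicGeometry Opposite AlgSt FibCat

namespace Groth.Agent.AlgSt88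

variable {S : Scheme.{u}} {𝒳 𝒴 𝒵 : AlgSt.Cat S}

/-- If `c` and `h ⋙ c` are representable by algebraic spaces then so is `h`. -/
theorem repByAlgSp1_of_comp (hX : IsFibGrpd 𝒳.p) (hY : IsFibGrpd 𝒴.p) (hZ : IsFibGrpd 𝒵.p)
    {h : 𝒳 ⥤ᵇ 𝒴} {c : 𝒴 ⥤ᵇ 𝒵} (hc : RepByAlgSp1 c) (hhc : RepByAlgSp1 (BasedFunctor.comp h c)) :
    RepByAlgSp1 h := by
  intro U y
  let G : overCat U ⥤ᵇ 𝒵 := BasedFunctor.comp y c
  let π : fp c G ⥤ᵇ 𝒴 := fpFst c G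
  have hQ : RepByAlgSp (fp c G) := repByAlgSp_of_equiv (hc U G) isEquivOver_fpSwap
  have hF : RepByAlgSp (fp π h) :=
    repByAlgSp_of_equiv (repByAlgSp_of_equiv' (repByAlgSp_of_equiv (hhc U G) isEquivOver_fpSwap)
      (isEquivOver_fpPaste h c G)) isEquivOver_fpSwap
  let y' : overCat U ⥤ᵇ fp c G := fpLift y (BasedFunctor.id _) (Iso.refl _)
  exact repByAlgSp_of_equiv (repByAlgSp1_of_repByAlgSp hF hQ (fpFst π h) U y') (isEquivOver_fpPaste y' π h)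

theorem repByAlgSp1_prodFun {𝒳₁ 𝒳₂ 𝒴₁ 𝒴₂ : AlgSt.Cat S} (hX₂ : IsFibGrpd 𝒳₂.p) (hY₂ : IsFibGrpd 𝒴₂.p)
    {f₁ : 𝒳₁ ⥤ᵇ 𝒴₁} {f₂ : 𝒳₂ ⥤ᵇ 𝒴₂}
    (e : BasedFunctor.comp (BasedFunctor.comp (fpFst (toSelf 𝒳₁) (toSelf 𝒳₂)) f₁) (toSelf 𝒴₁) ≅
      BasedFunctor.comp (BasedFunctor.comp (fpSnd (toSelf 𝒳₁) (toSelf 𝒳₂)) f₂) (toSelf 𝒴₂))
    (h₁ : RepByAlgSp1 f₁) (h₂ : RepByAlgSp1 f₂) : RepByAlgSp1 (Fib44.prodFun f₁ f₂ e) := fun U G =>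
  repByAlgSp_of_equiv (repByAlgSp_fp hX₂ hY₂ (Fib44.prodG₂ f₁ G) h₂ (h₁ U (BasedFunctor.comp G (fpFst _ _))))
    (Fib44.prodCmp_isEquivOver f₁ f₂ G e)

theorem self_comp_map_id {𝒲 : AlgSt.Cat S} (x : 𝒲.obj) : (toSelf 𝒲).map (𝟙 x) = 𝟙 _ := (toSelf 𝒲).map_id x

/-- Every functor from a scheme to a product is representable by algebraic spaces, if this holds for the factors. -/
theorem repByAlgSp1_toProd (hX : IsFibGrpd 𝒳.p) (hY : IsFibGrpd 𝒴.p)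
    (h₁ : ∀ (U : Over S) (x : overCat U ⥤ᵇ 𝒳), RepByAlgSp1 x)
    (h₂ : ∀ (U : Over S) (x : overCat U ⥤ᵇ 𝒴), RepByAlgSp1 x)
    (U : Over S) (z : overCat U ⥤ᵇ fp (toSelf 𝒳) (toSelf 𝒴)) : RepByAlgSp1 z := by
  let a := BasedFunctor.comp z (fpFst (toSelf 𝒳) (toSelf 𝒴))
  let b := BasedFunctor.comp z (fpSnd (toSelf 𝒳) (toSelf 𝒴))
  let δ : overCat U ⥤ᵇ fp (toSelf (overCat U)) (toSelf (overCat U)) :=
    fpLift (BasedFunctor.id _) (BasedFunctor.id _) (selfIso _ _)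
  let pr := Fib44.prodFun a b (selfIso _ _)
  let α : BasedFunctor.comp δ pr ≅ z := fpNatIso
    (Φ := BasedFunctor.comp δ pr) (Ψ := z) (Iso.refl _) (Iso.refl _) (fun x => by
      refine self_hom_ext (𝟙 ((fp (toSelf 𝒳) (toSelf 𝒴)).p.obj (z.obj x))) ?_ ?_
      · change (selfOver _).p.IsHomLift _ ((toSelf 𝒳).map (𝟙 _) ≫ _)
        rw [(toSelf 𝒳).map_id, Category.id_comp]
        exact (z.obj x).property
      · change (selfOver _).p.IsHomLift _ (_ ≫ (toSelf 𝒴).map (𝟙 _))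
        rw [(toSelf 𝒴).map_id, Category.comp_id]
        exact ((BasedFunctor.comp δ pr).obj x).property)
  have hδ : RepByAlgSp1 δ := repByAlgSp1_of_repByAlgSp (repByAlgSp_overCat U)
    (repByAlgSp_prod (isFibGrpd_overCat U) (repByAlgSp_overCat U) (repByAlgSp_overCat U)) δ
  exact repByAlgSp1_of_iso α (repByAlgSp1_comp (isFibGrpd_overCat U)
    (isFibGrpd_fp (isFibGrpd_overCat U) (isFibGrpd_overCat U) isFibGrpd_selfOver _ _) hδ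
    (repByAlgSp1_prodFun (isFibGrpd_overCat U) hY _ (h₁ U a) (h₂ U b)))

/-- The map from a 2-fibre product to the product. -/
def fpToProd2 (f : 𝒳 ⥤ᵇ 𝒵) (g : 𝒴 ⥤ᵇ 𝒵) : fp f g ⥤ᵇ fp (toSelf 𝒳) (toSelf 𝒴) := fpToProd f g

theorem repByAlgSp1_fpToProd (hZ : RepByAlgSp1 (diag (toSelf 𝒵))) (f : 𝒳 ⥤ᵇ 𝒵) (g : 𝒴 ⥤ᵇ 𝒵) :
    RepByAlgSp1 (fpToProd f g) :=
  repByAlgSpWith_top_iff.1 ((repByAlgSpWith_precomp_equiv (f := fpFst (prodMap f g) (diag (toSelf 𝒵)))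
    (isEquivOver_fpToDiag f g)).2 (repByAlgSpWith_top_iff.2 (repByAlgSp1_fpFst (prodMap f g) hZ)))

/-- The diagonal of a 2-fibre product. -/
theorem repByAlgSp1_diag_fp (hX : IsFibGrpd 𝒳.p) (hY : IsFibGrpd 𝒴.p) (hZ : IsFibGrpd 𝒵.p)
    (dX : RepByAlgSp1 (diag (toSelf 𝒳))) (dY : RepByAlgSp1 (diag (toSelf 𝒴)))
    (dZ : RepByAlgSp1 (diag (toSelf 𝒵))) (f : 𝒳 ⥤ᵇ 𝒵) (g : 𝒴 ⥤ᵇ 𝒵) :
    RepByAlgSp1 (diag (toSelf (fp f g))) := by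
  have hW := isFibGrpd_fp hX hY hZ f g
  refine (diag_iff hW).2 fun U x => repByAlgSp1_of_comp (isFibGrpd_overCat U) hW
    (isFibGrpd_fp hX hY isFibGrpd_selfOver _ _) (repByAlgSp1_fpToProd dZ f g) ?_
  exact repByAlgSp1_toProd hX hY ((diag_iff hX).1 dX) ((diag_iff hY).1 dY) U _

end Groth.Agent.AlgSt88
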