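import Groth.Agent.AlgSt88.InertiaCoarse
import Groth.Agent.AlgSt88.GenericInertia
import Groth.Agent.AlgSt88.ProdRep
import Groth.Agent.SpPts86.ProperCrit
import Groth.Prelude.Def_StGerb2

/-! Finiteness of the inertia from étale neighbourhoods inducing surjections on stabilisers. -/

set_option autoImplicit false
set_option maxHeartbeats 1000000
set_option linter.style.haveILetI false
set_option linter.unusedVariables false
set_option backward.isDefEq.respectTransparency false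
set_option backward.isDefEq.respectTransparency.types false
universe u

open CategoryTheory CategoryTheory.Limits AlgebraicGeometry Opposite AlgSt FibCat

namespace Groth.Agent.AlgSt88

variable {S : Scheme.{u}} {𝒳 𝒰 𝒴 𝒵 : AlgSt.Cat S}

/-- The map on inertia induced by a functor. -/
def inertiaMapBased (h : 𝒰 ⥤ᵇ 𝒳) : inertia (toSelf 𝒰) ⥤ᵇ inertia (toSelf 𝒳) where
  toFunctor :=
    { obj := fun x => ⟨h.obj x.pt, h.toFunctor.mapIso x.aut, by
        change 𝒳.p.map (h.map x.aut.hom) = 𝟙 _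
        have h1 : 𝒰.p.map x.aut.hom = 𝟙 _ := x.map_aut
        rw [p_map_eq, h1]
        erw [Category.id_comp, eqToHom_trans, eqToHom_refl]⟩
      map := fun f => ⟨h.map f.hom, by
        change h.map _ ≫ h.map f.hom = h.map f.hom ≫ h.map _
        rw [← h.map_comp, ← h.map_comp, f.comm]⟩
      map_id := fun x => InertiaObj.hom_ext (h.map_id _)
      map_comp := fun f g => InertiaObj.hom_ext (h.map_comp _ _) }
  w := CategoryTheory.Functor.ext (fun x => h.w_obj (InertiaObj.pt x)) (fun x y f => p_map_eq h (InertiaObj.Hom.hom f))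

/-- The inertia of the source mapped to the restricted inertia of the target. -/
def inertiaToRestr (h : 𝒰 ⥤ᵇ 𝒳) : inertia (toSelf 𝒰) ⥤ᵇ fp h (inertiaToBase (toSelf 𝒳)) :=
  fpLift (inertiaToBase (toSelf 𝒰)) (inertiaMapBased h) (Iso.refl _)

theorem isSurjective_inertiaToRestr (hX : IsFibGrpd 𝒳.p) (hU : IsFibGrpd 𝒰.p) (h : 𝒰 ⥤ᵇ 𝒳)
    (hs : ∀ (Ω : Type u) [Field Ω] [IsAlgClosed Ω] (t : Spec (CommRingCat.of Ω) ⟶ S) (u : 𝒰.p.Fiber (Over.mk t)),
      Function.Surjective (Gerb.autMap h u.1)) : IsSurjective (inertiaToRestr h) := by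
  intro z
  obtain ⟨p, rfl⟩ := Points.mk_surjective z
  let Ω := AlgebraicClosure p.K
  let t : Spec (CommRingCat.of Ω) ⟶ S := Spec.map (CommRingCat.ofHom (algebraMap p.K Ω)) ≫ p.str
  let d : Over.mk t ⟶ Over.mk p.str :=
    Over.homMk (Spec.map (CommRingCat.ofHom (algebraMap p.K Ω))) rfl
  have hIn : IsFibGrpd (inertia (toSelf 𝒳)).p := isFibGrpd_inertia hX isFibGrpd_selfOver (toSelf 𝒳)
  have hF := isFibGrpd_fp hU hIn hX h (inertiaToBase (toSelf 𝒳))
  obtain ⟨z', hz', φ, -⟩ := fg_exists_lift hF (x := p.obj) (d ≫ eqToHom p.lies.symm)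
  let u : 𝒰.p.Fiber (Over.mk t) := ⟨z'.obj.fst, hz'⟩
  let γ : h.obj z'.obj.fst ≅ z'.obj.snd.pt := z'.obj.iso
  let b : h.obj z'.obj.fst ≅ h.obj z'.obj.fst := γ ≪≫ z'.obj.snd.aut ≪≫ γ.symm
  have hb : 𝒳.p.map b.hom = 𝟙 _ := by
    have h1 : 𝒳.p.map z'.obj.snd.aut.hom = 𝟙 _ := z'.obj.snd.map_aut
    simp only [b, Iso.trans_hom, Iso.symm_hom, Functor.map_comp, h1]
    erw [Category.id_comp]
    rw [← Functor.map_comp, Iso.hom_inv_id, 𝒳.p.map_id]
  have hb' : 𝒳.p.map b.inv = 𝟙 _ := by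
    calc 𝒳.p.map b.inv = 𝒳.p.map b.hom ≫ 𝒳.p.map b.inv := by rw [hb]; exact (Category.id_comp _).symm
      _ = 𝟙 _ := by rw [← Functor.map_comp, Iso.hom_inv_id, 𝒳.p.map_id]
  let β : Gerb.AutO (h.obj u.1) :=
    { hom := ⟨b.hom, IsHomLift.of_fac' 𝒳.p _ _ rfl rfl (by rw [hb]; simp; rfl)⟩
      inv := ⟨b.inv, IsHomLift.of_fac' 𝒳.p _ _ rfl rfl (by rw [hb']; simp; rfl)⟩
      hom_inv_id := Functor.Fiber.hom_ext b.hom_inv_id
      inv_hom_id := Functor.Fiber.hom_ext b.inv_hom_id }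
  obtain ⟨α, hα⟩ := hs Ω t u β
  have hαb : h.map α.hom.1 = b.hom := congrArg (fun e => e.hom.1) hα
  have hα1 : 𝒰.p.map α.hom.1 = 𝟙 _ := by
    haveI := α.hom.2
    have := IsHomLift.fac' 𝒰.p (𝟙 (𝒰.p.obj u.1)) α.hom.1
    simp only [Category.id_comp, eqToHom_trans, eqToHom_refl] at this
    exact this
  let x : InertiaObj (toSelf 𝒰) :=
    ⟨z'.obj.fst, { hom := α.hom.1
                   inv := α.inv.1
                   hom_inv_id := congrArg (fun e => e.1) α.hom_inv_id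
                   inv_hom_id := congrArg (fun e => e.1) α.inv_hom_id }, hα1⟩
  let k₂ : (inertiaMapBased h).obj x ⟶ z'.obj.snd := ⟨γ.hom, by
    change h.map α.hom.1 ≫ γ.hom = γ.hom ≫ z'.obj.snd.aut.hom
    rw [hαb]
    simp only [b, Iso.trans_hom, Iso.symm_hom, Category.assoc, Iso.inv_hom_id, Category.comp_id]⟩
  let k : (inertiaToRestr h).obj x ⟶ z' := fpHom (𝟙 _) k₂ (by
    change h.map (𝟙 _) ≫ γ.hom = 𝟙 _ ≫ γ.hom
    rw [h.map_id])
  let o : FPt (inertia (toSelf 𝒰)) := { K := Ω, str := t, obj := x, lies := hz' }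
  exact ⟨Points.mk o, Points.sound ⟨o.map (inertiaToRestr h), 𝟙 _, k ≫ φ, trivial⟩⟩

/-- Universal closedness passes along surjections, so properness does for separated quasi-compact targets. -/
theorem repByAlgSpWith_proper_of_surj (hX : IsFibGrpd 𝒳.p) (hY : IsFibGrpd 𝒴.p)
    {f : 𝒳 ⥤ᵇ 𝒴} {g : 𝒴 ⥤ᵇ 𝒵} (hf : RepByAlgSp1 f) (hfs : IsSurjective f)
    (hg : RepByAlgSpWith (AlgSp.IsSeparatedMor ⊓ AlgSp.IsQuasiCompactMor ⊓
      AlgSp.LocP (@LocallyQuasiFinite ⊓ @LocallyOfFiniteType)) g)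
    (hfg : RepByAlgSpWith AlgSp.IsProperMor (BasedFunctor.comp f g)) : RepByAlgSpWith AlgSp.IsFiniteMor g := by
  have hsj : Sj f := sj_of_isSurjective hX hY hf hfs
  intro U y
  haveI := respectsIso_proper (S := S)
  obtain ⟨G, e, he, ⟨hb₁, hb₂⟩, hb₃⟩ := hg U y
  let q : fp g y ⥤ᵇ 𝒴 := fpFst g y
  let e' : ofSp G.obj ⥤ᵇ fp g y := BasedFunctor.comp e (fpSwap y g)
  have he' : IsEquivOver e' := isEquivOver_comp he isEquivOver_fpSwap
  obtain ⟨F, a, ψ, hψ, ⟨α⟩, hQ⟩ := exists_space_fp hX hY hf G (BasedFunctor.comp e' q)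
  have has : AlgSp.IsSurjectiveMor a := spaceDescends_surj F G a (hQ _ respectsIso_surj hsj)
  let χ : fp (BasedFunctor.comp e' q) f ⥤ᵇ fp y (BasedFunctor.comp f g) :=
    BasedFunctor.comp (fpMapFst q f e') (BasedFunctor.comp (fpSwap q f)
      (BasedFunctor.comp (fpPaste f g y) (fpSwap (BasedFunctor.comp f g) y)))
  have hχ : IsEquivOver χ :=
    isEquivOver_comp (isEquivOver_fpMapFst q f e' he') (isEquivOver_comp isEquivOver_fpSwap
      (isEquivOver_comp (isEquivOver_fpPaste f g y) isEquivOver_fpSwap))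
  have hmap : spMapOfOver (BasedFunctor.comp (BasedFunctor.comp ψ χ) (fpFst y (BasedFunctor.comp f g))) =
      a ≫ spMapOfOver (BasedFunctor.comp e (fpFst y g)) := by
    have h := spMapOfOver_congr (bRight α (BasedFunctor.comp e (fpFst y g)))
    rw [spMapOfOver_comp (ofSpMap a) (BasedFunctor.comp e (fpFst y g)), homOfBased_ofSpMap] at h
    exact h
  have hab := RepOver.any (hfg U y) (isEquivOver_comp hψ hχ)
  rw [hmap] at hab
  have huc := SpPts86.isUnivClosedMor_of_surjective_comp hab.2.2 has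
  have hp : AlgSp.IsProperMor (spMapOfOver (BasedFunctor.comp e (fpFst y g))) :=
    ⟨hb₁, ⟨SpFP87.LocP.of_le (fun _ _ f hf => hf.2) hb₃, hb₂⟩, huc⟩
  exact ⟨G, e, he, isFiniteMor_of_proper_lqf G.property (AlgSp.IsAlgSpace.yon_obj U) hp hb₃⟩

/-- The restriction of the inertia to a separated stack with surjective maps on stabilisers is finite. -/
theorem finite_inertia_restr (hX : IsFibGrpd 𝒳.p) (hU : IsFibGrpd 𝒰.p)
    (hΔ : RepByAlgSpWith (AlgSp.IsSeparatedMor ⊓ AlgSp.IsQuasiCompactMor) (FibCat.diag (toSelf 𝒳)))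
    (hqf : IsQuasiDMOver 𝒳) (hsepU : IsSeparatedOver 𝒰) (h : 𝒰 ⥤ᵇ 𝒳)
    (hs : ∀ (Ω : Type u) [Field Ω] [IsAlgClosed Ω] (t : Spec (CommRingCat.of Ω) ⟶ S) (u : 𝒰.p.Fiber (Over.mk t)),
      Function.Surjective (Gerb.autMap h u.1)) :
    RepByAlgSpWith AlgSp.IsFiniteMor (fpFst h (inertiaToBase (toSelf 𝒳))) := by
  haveI := respectsIso_locP (S := S) (@LocallyQuasiFinite ⊓ @LocallyOfFiniteType)
  haveI : (AlgSp.IsSeparatedMor (S := S) ⊓ AlgSp.IsQuasiCompactMor).RespectsIso := by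
    haveI := respectsIso_qc (S := S)
    haveI : (AlgSp.IsSeparatedMor (S := S)).RespectsIso :=
      respectsIso_of_bc fun X Y Z W a g fst snd _ _ sq hf => repWith_diag_baseChange _ sq hf
    infer_instance
  have hI := repByAlgSpWith_inf (repByAlgSpWith_inertiaToBase hX (toSelf 𝒳) hΔ)
    (repByAlgSpWith_inertiaToBase hX (toSelf 𝒳) hqf)
  have hg := repByAlgSpWith_fpFst h hI
  have hIU : RepByAlgSpWith AlgSp.IsProperMor (inertiaToBase (toSelf 𝒰)) :=
    repByAlgSpWith_inertiaToBase hU (toSelf 𝒰) hsepU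
  have hIn : IsFibGrpd (inertia (toSelf 𝒳)).p := isFibGrpd_inertia hX isFibGrpd_selfOver (toSelf 𝒳)
  have hInU : IsFibGrpd (inertia (toSelf 𝒰)).p := isFibGrpd_inertia hU isFibGrpd_selfOver (toSelf 𝒰)
  have hF := isFibGrpd_fp hU hIn hX h (inertiaToBase (toSelf 𝒳))
  exact repByAlgSpWith_proper_of_surj hInU hF
    (repByAlgSp1_of_comp hInU hF hU (c := fpFst h (inertiaToBase (toSelf 𝒳))) (h := inertiaToRestr h)
      (repByAlgSp1_of_with hg) (repByAlgSp1_of_with hIU))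
    (isSurjective_inertiaToRestr hX hU h hs) hg hIU

/-- Finiteness may be checked on a family of representable étale morphisms covering all points. -/
theorem repByAlgSpWith_finite_of_etale_cover (hX : IsFibGrpd 𝒳.p) (hY : IsFibGrpd 𝒴.p) {f : 𝒴 ⥤ᵇ 𝒳}
    (hf : RepByAlgSp1 f)
    (hloc : ∀ x : Points 𝒳, ∃ (𝒰 : AlgSt.Cat S) (h : 𝒰 ⥤ᵇ 𝒳), IsFibGrpd 𝒰.p ∧ x ∈ Set.range (Points.map h) ∧
      RepByAlgSpWith AlgSp.IsEtaleMor h ∧ RepByAlgSpWith AlgSp.IsFiniteMor (fpFst h f)) :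
    RepByAlgSpWith AlgSp.IsFiniteMor f := by
  intro U y
  let SU : AlgSp.Space S := ⟨(AlgSp.yon S).obj U, AlgSp.IsAlgSpace.yon_obj U⟩
  let m : ofSp SU.obj ⥤ᵇ 𝒳 := BasedFunctor.comp (toOverCat U) y
  obtain ⟨F, a, e, he, ⟨α⟩, -⟩ := exists_space_fp hY hX hf SU m
  refine repOver_of_repSp y ⟨F, e, he, ?_⟩
  rw [homOfBased_congr α, homOfBased_ofSpMap]
  have hloc' := fppf_local_of_fpqc (P := AlgSp.IsFiniteMor (S := S)) SpFP87.isLocalOnBase_fpqc_finite
  have key : ∀ t : ↥U.left, ∃ (G : AlgSp.Space S) (b : G.obj ⟶ SU.obj) (F' : AlgSp.Space S)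
      (g : F'.obj ⟶ F.obj) (a' : F'.obj ⟶ G.obj),
      (AlgSp.LocP @Flat b ∧ AlgSp.LocP @LocallyOfFinitePresentation b) ∧
      AlgSp.Points.schemeHomeo U t ∈ Set.range (AlgSp.Points.map b) ∧
      IsPullback g a' a b ∧ AlgSp.IsFiniteMor a' := fun t => by
    obtain ⟨𝒲, h, hW, ⟨w, hw⟩, het, hfin⟩ := hloc (Points.map m (stPt _ (AlgSp.Points.schemeHomeo U t)))
    have het' : RepByAlgSpWith (AlgSp.LocP @Etale) h :=
      repByAlgSpWith_mono (fun _ _ _ hh => SpPts86.locP_etale_of_isEtaleMor hh) het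
    obtain ⟨G, b, eG, heG, ⟨αG⟩, hQ⟩ := exists_space_fp hW hX (repByAlgSp1_of_with het) SU m
    have hb : AlgSp.LocP @Etale b := spaceDescends_locP _ G SU b (hQ _ (respectsIso_locP _) het')
    let n : ofSp G.obj ⥤ᵇ 𝒲 := BasedFunctor.comp eG (fpSnd m h)
    obtain ⟨F', a', e', he', ⟨α'⟩, -⟩ := exists_space_fp hY hX hf G (BasedFunctor.comp (ofSpMap b) m)
    obtain ⟨g, sq, -⟩ := exists_bc f (V := SU) (G := G) m e he a α (ofSpMap b) b (Iso.refl _)
      (BasedFunctor.comp (ofSpMap b) m) (Iso.refl _) e' he' a' α'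
    refine ⟨G, b, F', g, a', ⟨SpFP87.LocP.of_le (fun _ _ f (_ : Etale f) => (inferInstance : Flat f)) hb,
      SpFP87.LocP.of_le (fun _ _ f (_ : Etale f) => (inferInstance : LocallyOfFinitePresentation f)) hb⟩,
      ?_, sq, ?_⟩
    · obtain ⟨v, hv, -⟩ := exists_points_fp hX hW (Stk.isFibGrpd_ofPsh SU.obj.obj) h m _ w hw.symm
      obtain ⟨v', rfl⟩ := (points_map_bijective heG).2 v
      obtain ⟨φ, rfl⟩ := stPt_bijective.2 v'
      rw [← points_map_comp, points_map_congr αG, stPt_natural] at hv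
      exact ⟨φ, stPt_bijective.1 hv⟩
    · haveI := respectsIso_finite (S := S)
      have h1 := (repByAlgSpWith_iff_repSp (isFibGrpd_fp hW hY hX h f) hW stableBC_finiteMor hloc').1 hfin G n
      have h2 := (h1.transport (q' := fpFst (BasedFunctor.comp n h) f) (isEquivOver_fpPaste n h f) (Iso.refl _)).congr
        ((bLeft eG (fpIso m h)).symm ≪≫ bRight αG m)
      have h3 := h2.any he'
      rw [homOfBased_congr α', homOfBased_ofSpMap] at h3
      exact h3
  choose G b F' g a' hb hmem sq hfin using key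
  refine (hloc' (fun t => (G t).obj) b SU.property (fun t => (G t).property) ⟨hb, fun x => ?_⟩ a F.property
    (fun t => (F' t).obj) a' g (fun t => (F' t).property) sq).2 hfin
  obtain ⟨t, rfl⟩ := (AlgSp.Points.schemeHomeo U).surjective x
  exact ⟨t, hmem t⟩

end Groth.Agent.AlgSt88
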