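import Mathlib.AlgebraicGeometry.Morphisms.FormallyUnramified
import Mathlib.AlgebraicGeometry.Morphisms.FiniteType
import Mathlib.Algebra.TrivSqZeroExt.Basic
import Mathlib.RingTheory.Kaehler.Basic
import Mathlib.RingTheory.LocalRing.Module
import Mathlib.RingTheory.Support
import Mathlib.RingTheory.Artinian.Ring
import Mathlib.RingTheory.SimpleModule.Basic
import Mathlib.LinearAlgebra.Dual.Lemmas

/-! Unramifiedness from uniqueness of lifts along extensions of Artinian local rings with simple kernel. -/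

set_option autoImplicit false
set_option linter.style.haveILetI false
universe u

open CategoryTheory AlgebraicGeometry

namespace Groth.Agent.AlgSt88

/-- Uniqueness of lifts along extensions with simple kernel. -/
def SimpleUnique {X Y : Scheme.{u}} (f : X ⟶ Y) : Prop :=
  ∀ (B : Type u) [CommRing B] [IsArtinianRing B] [IsLocalRing B] (I : Ideal B) (_ : IsSimpleModule B I) (_ : I ≠ ⊤)
    (g g' : Spec (CommRingCat.of B) ⟶ X), g ≫ f = g' ≫ f →
    Spec.map (CommRingCat.ofHom (Ideal.Quotient.mk I)) ≫ g = Spec.map (CommRingCat.ofHom (Ideal.Quotient.mk I)) ≫ g' →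
    g = g'

section Ring

variable {R A : Type u} [CommRing R] [CommRing A] [Algebra R A]

theorem formallyUnramified_of_fields [Algebra.FiniteType R A]
    (H : ∀ (K : Type u) [Field K] [Algebra A K] [Algebra R K] [IsScalarTower R A K] (D : Derivation R A K), D = 0) :
    Algebra.FormallyUnramified R A := by
  refine ⟨(Module.support_eq_empty_iff (R := A)).1 (Set.eq_empty_iff_forall_notMem.2 fun q hq => ?_)⟩
  let K := q.asIdeal.ResidueField
  have hnt : Nontrivial (TensorProduct A K Ω[A⁄R]) :=
    (Module.mem_support_iff_nontrivial_residueField_tensorProduct q).1 hq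
  refine not_subsingleton (TensorProduct A K Ω[A⁄R]) ?_
  refine subsingleton_of_forall_eq 0 fun z => (Module.forall_dual_apply_eq_zero_iff K z).1 fun φ => ?_
  let l : Ω[A⁄R] →ₗ[A] K := (φ.restrictScalars A).comp ((TensorProduct.mk A K Ω[A⁄R]) 1)
  have hl : l = 0 := (KaehlerDifferential.linearMapEquivDerivation R A).injective
    ((H K _).trans (map_zero _).symm)
  have hφ : φ = 0 := by
    refine TensorProduct.AlgebraTensorModule.ext fun a x => ?_
    have : a ⊗ₜ[A] x = a • ((1 : K) ⊗ₜ[A] x) := by rw [TensorProduct.smul_tmul', smul_eq_mul, mul_one]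
    rw [this, map_smul, show φ ((1 : K) ⊗ₜ[A] x) = l x from rfl, hl]
    simp
  rw [hφ]; rfl

end Ring

section Dual

variable (K : Type u) [Field K]

local notation "D₂" => TrivSqZeroExt K K

theorem isArtinianRing_dual : IsArtinianRing D₂ := by
  have : Module.Finite K D₂ := inferInstanceAs (Module.Finite K (K × K))
  exact .of_finite K D₂

theorem isLocalRing_dual : IsLocalRing D₂ :=
  .of_isUnit_or_isUnit_one_sub_self fun x => by
    rw [TrivSqZeroExt.isUnit_iff_isUnit_fst, TrivSqZeroExt.isUnit_iff_isUnit_fst (x := 1 - x), TrivSqZeroExt.fst_sub,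
      TrivSqZeroExt.fst_one]
    exact IsLocalRing.isUnit_or_isUnit_one_sub_self x.fst

/-- The kernel of the augmentation. -/
def epsIdeal : Ideal D₂ := RingHom.ker (TrivSqZeroExt.fstHom K K K).toRingHom

theorem mem_epsIdeal (x : D₂) : x ∈ epsIdeal K ↔ x.fst = 0 := Iff.rfl

theorem isSimpleModule_eps : IsSimpleModule D₂ (epsIdeal K) := by
  rw [isSimpleModule_iff_isAtom]
  refine ⟨fun h => ?_, fun b hb => ?_⟩
  · have : (TrivSqZeroExt.inr 1 : D₂) ∈ epsIdeal K := TrivSqZeroExt.fst_inr K 1
    rw [h, Submodule.mem_bot] at this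
    exact one_ne_zero (congrArg TrivSqZeroExt.snd this)
  · rw [eq_bot_iff]
    intro x hx
    have hxf : x.fst = 0 := hb.le hx
    by_contra hne
    have hxs : x.snd ≠ 0 := fun h => hne (TrivSqZeroExt.ext hxf h)
    refine not_le_of_gt hb fun y hy => ?_
    have hy' : y.fst = 0 := hy
    have : y = TrivSqZeroExt.inl (y.snd / x.snd) * x := TrivSqZeroExt.ext (by simp [hy', hxf]) (by
      simp [hxf, div_mul_cancel₀ _ hxs])
    rw [this]
    exact b.smul_mem _ hx

theorem eps_ne_top : epsIdeal K ≠ ⊤ := RingHom.ker_ne_top _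

end Dual

theorem formallyUnramified_of_simpleUnique {X Y : Scheme.{u}} (f : X ⟶ Y) [LocallyOfFiniteType f]
    (H : SimpleUnique f) : FormallyUnramified f := by
  refine ⟨fun {V} hV {U} hU e => ?_⟩
  algebraize [(f.appLE V U e).hom]
  have : Algebra.FiniteType Γ(Y, V) Γ(X, U) := LocallyOfFiniteType.finiteType_appLE f hV hU e
  refine formallyUnramified_of_fields fun K _ _ _ _ D => ?_
  haveI := isArtinianRing_dual K
  haveI := isLocalRing_dual K
  let g₁ : Γ(X, U) →+* TrivSqZeroExt K K := (TrivSqZeroExt.inlHom K K).comp (algebraMap Γ(X, U) K)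
  have hsm : ∀ (b : Γ(X, U)) (z : K), b • z = algebraMap Γ(X, U) K b * z := fun b z => Algebra.smul_def b z
  let g₂ : Γ(X, U) →+* TrivSqZeroExt K K :=
    { toFun := fun b => TrivSqZeroExt.inl (algebraMap Γ(X, U) K b) + TrivSqZeroExt.inr (D b)
      map_one' := TrivSqZeroExt.ext (by simp) (by simp)
      map_mul' := fun a b => TrivSqZeroExt.ext (by simp) (by
        simp only [Derivation.leibniz, TrivSqZeroExt.snd_add, TrivSqZeroExt.snd_inl, TrivSqZeroExt.snd_inr,
          TrivSqZeroExt.snd_mul, TrivSqZeroExt.fst_add, TrivSqZeroExt.fst_inl, TrivSqZeroExt.fst_inr,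
          zero_add, add_zero, hsm, smul_eq_mul, MulOpposite.smul_eq_mul_unop, MulOpposite.unop_op]
        ring)
      map_zero' := by simp
      map_add' := fun a b => TrivSqZeroExt.ext (by simp) (by simp) }
  have hg : g₂.comp (algebraMap Γ(Y, V) Γ(X, U)) = g₁.comp (algebraMap Γ(Y, V) Γ(X, U)) :=
    RingHom.ext fun r => TrivSqZeroExt.ext (by simp [g₁, g₂]) (by simp [g₁, g₂])
  have hq : (Ideal.Quotient.mk (epsIdeal K)).comp g₂ = (Ideal.Quotient.mk (epsIdeal K)).comp g₁ :=
    RingHom.ext fun b => Ideal.Quotient.eq.2 (show TrivSqZeroExt.fst (g₂ b - g₁ b) = 0 by simp [g₁, g₂])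
  have h := H (TrivSqZeroExt K K) (epsIdeal K) (isSimpleModule_eps K) (eps_ne_top K)
    (Spec.map (CommRingCat.ofHom g₂) ≫ hU.fromSpec) (Spec.map (CommRingCat.ofHom g₁) ≫ hU.fromSpec)
    (by
      rw [Category.assoc, Category.assoc, ← hV.SpecMap_appLE_fromSpec f hU e, ← Spec.map_comp_assoc,
        ← Spec.map_comp_assoc]
      congr 2
      exact CommRingCat.hom_ext hg)
    (by
      rw [← Spec.map_comp_assoc, ← Spec.map_comp_assoc, ← CommRingCat.ofHom_comp, ← CommRingCat.ofHom_comp, hq])
  rw [cancel_mono] at h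
  have h' : g₂ = g₁ := congrArg CommRingCat.Hom.hom (Spec.map_injective h)
  ext b
  have := congrArg TrivSqZeroExt.snd (RingHom.congr_fun h' b)
  simpa [g₁, g₂] using this

end Groth.Agent.AlgSt88
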