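import Groth.Agent.AlgSt88.InfAutCalc
import Groth.Agent.AlgSt88.UnrArtin
import Groth.Agent.AlgSt88.DenseRigid
import Groth.Agent.AlgSt88.UCTop
import Groth.Agent.AlgSt88.LocalProps
import Groth.Agent.SpFP87.InfRep
import Groth.Agent.S10543

/-! Unramified diagonal and infinitesimal automorphisms. -/

set_option autoImplicit false
set_option maxHeartbeats 1000000
set_option linter.style.haveILetI false
set_option linter.unusedVariables false
set_option backward.isDefEq.respectTransparency false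
set_option backward.isDefEq.respectTransparency.types false
universe u

open CategoryTheory CategoryTheory.Limits AlgebraicGeometry Opposite AlgSt FibCat

namespace Groth.Agent.AlgSt88

variable {S : Scheme.{u}} {𝒳 𝒴 : AlgSt.Cat S}

theorem openImm_inertiaNeutral_rel (hX : IsFibGrpd 𝒳.p) (hY : IsFibGrpd 𝒴.p) {f : 𝒳 ⥤ᵇ 𝒴} (h : IsDMMor f) :
    IsOpenImm (inertiaNeutral f) := by
  haveI : (AlgSp.RepWith (S := S) @IsOpenImmersion).RespectsIso :=
    (AlgSp.repWith_isStableUnderBaseChange (@IsOpenImmersion : MorphismProperty Scheme.{u})).respectsIso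
  refine repByAlgSpWith_neutral_of_diag _ (repByAlgSpWith_diag_of_rep (isFibGrpd_inertia hX hY f) hX
    (fun F U a ha => repBySpWith_repWith_of _ ?_) (repByAlgSpWith_inertiaToBase hX f h))
  exact SpPts86.repWith_openImm_diagonal_of_unramified F.property (AlgSp.IsAlgSpace.yon_obj U) ha

theorem sq_ker_eq_bot {A : Type u} [CommRing A] [IsArtinianRing A] [IsLocalRing A] {I : Ideal A}
    (h : IsSimpleModule A I) (ht : I ≠ ⊤) : I ^ 2 = ⊥ := by
  have hat := isSimpleModule_iff_isAtom.1 h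
  rcases hat.le_iff.1 (Ideal.pow_le_self two_ne_zero : I ^ 2 ≤ I) with h2 | h2
  · exact h2
  · exfalso
    refine hat.1 (Submodule.eq_bot_of_le_smul_of_le_jacobson_bot I I (IsNoetherian.noetherian I) ?_ ?_)
    · rw [smul_eq_mul, ← pow_two, h2]
    · rw [IsLocalRing.jacobson_eq_maximalIdeal ⊥ bot_ne_top]
      exact IsLocalRing.le_maximalIdeal ht

theorem isSurjective_overMap_of_sq_zero {A A₀ : Type u} [CommRing A] [CommRing A₀] (φ : A →+* A₀)
    (hφ : Function.Surjective φ) (h2 : RingHom.ker φ ^ 2 = ⊥) (sA : Spec (CommRingCat.of A) ⟶ S) :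
    IsSurjective (overMap (Over.homMk (Spec.map (CommRingCat.ofHom φ)) rfl :
      Over.mk (Spec.map (CommRingCat.ofHom φ) ≫ sA) ⟶ Over.mk sA)) := by
  intro p
  obtain ⟨p, rfl⟩ := Points.mk_surjective p
  let o : Over (Over.mk sA) := p.obj
  have ho : o.left = Over.mk p.str := p.lies
  let g : Over.mk p.str ⟶ Over.mk sA := eqToHom ho.symm ≫ o.hom
  obtain ⟨ψ, hψ⟩ := Spec.map_surjective (show Spec (CommRingCat.of p.K) ⟶ Spec (CommRingCat.of A) from g.left)
  have hker : RingHom.ker φ ≤ RingHom.ker ψ.hom := fun x hx => by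
    have h1 : x * x ∈ RingHom.ker φ ^ 2 := by rw [pow_two]; exact Ideal.mul_mem_mul hx hx
    rw [h2, Submodule.mem_bot] at h1
    exact mul_self_eq_zero.1 ((map_mul ψ.hom x x).symm.trans (by rw [h1, map_zero]))
  let ψ₀ : A₀ →+* p.K := RingHom.liftOfSurjective φ hφ ⟨ψ.hom, hker⟩
  have hfac : CommRingCat.ofHom φ ≫ CommRingCat.ofHom ψ₀ = ψ :=
    CommRingCat.hom_ext (RingHom.ext fun x => RingHom.liftOfSurjective_comp_apply φ hφ ⟨ψ.hom, hker⟩ x)
  have hw : Spec.map (CommRingCat.ofHom ψ₀) ≫ Spec.map (CommRingCat.ofHom φ) = g.left := by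
    rw [← Spec.map_comp, hfac]; exact hψ
  let T₀ : Over S := Over.mk (Spec.map (CommRingCat.ofHom φ) ≫ sA)
  let j : T₀ ⟶ Over.mk sA := Over.homMk (Spec.map (CommRingCat.ofHom φ)) rfl
  let g₀ : Over.mk p.str ⟶ T₀ := Over.homMk (Spec.map (CommRingCat.ofHom ψ₀)) (by
    show _ ≫ _ ≫ sA = p.str
    rw [← Category.assoc, hw]
    exact Over.w g)
  have hg : g₀ ≫ j = g := Over.OverMorphism.ext hw
  let q : FPt (overCat T₀) := { K := p.K, str := p.str, obj := Over.mk g₀, lies := rfl }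
  refine ⟨Points.mk q, ?_⟩
  rw [Points.map_mk]
  refine Points.sound ⟨q.map (overMap j), 𝟙 _, ?_, trivial⟩
  exact (Over.homMk (eqToHom ho.symm) hg.symm : (Over.mk (g₀ ≫ j) : Over (Over.mk sA)) ⟶ o)

/-- The point of the relative inertia attached to an automorphism killed by `f`. -/
noncomputable def autPoint {𝒲 : AlgSt.Cat S} {f : 𝒳 ⥤ᵇ 𝒴} {F : 𝒲 ⥤ᵇ 𝒳} (Θ : F ≅ F)
    (h : ∀ w, f.map (Θ.hom.toNatTrans.app w) = 𝟙 _) : 𝒲 ⥤ᵇ inertia f where
  toFunctor :=
    { obj := fun w => { pt := F.obj w, aut := ((BasedNatTrans.forgetful _ _).mapIso Θ).app w, map_aut := h w }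
      map := fun {x y} k => ⟨F.map k, (Θ.hom.toNatTrans.naturality k).symm⟩
      map_id := fun x => InertiaObj.hom_ext (F.map_id x)
      map_comp := fun k l => InertiaObj.hom_ext (F.map_comp k l) }
  w := F.w

theorem auto_trivial_of_isDMMor {𝒰 𝒲 : AlgSt.Cat S} (hX : IsFibGrpd 𝒳.p) (hY : IsFibGrpd 𝒴.p) (hW : IsFibGrpd 𝒲.p)
    {f : 𝒳 ⥤ᵇ 𝒴} (h : IsDMMor f) (i : 𝒰 ⥤ᵇ 𝒲) (hi : IsSurjective i) (F : 𝒲 ⥤ᵇ 𝒳) (Θ : F ≅ F)
    (hf : ∀ w, f.map (Θ.hom.toNatTrans.app w) = 𝟙 _) (h0 : ∀ w, Θ.hom.toNatTrans.app (i.obj w) = 𝟙 _) :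
    Θ.hom = 𝟙 F := by
  let Φ := autPoint Θ hf
  let n := inertiaNeutral f
  have hI := isFibGrpd_inertia hX hY f
  let κ : BasedFunctor.comp i Φ ≅ BasedFunctor.comp (BasedFunctor.comp i F) n :=
    BasedNatIso.mkNatIso
      (NatIso.ofComponents
        (fun w =>
          { hom := ⟨𝟙 (F.obj (i.obj w)), (congrArg (fun t => t ≫ 𝟙 _) (h0 w))⟩
            inv := ⟨𝟙 (F.obj (i.obj w)), (congrArg (fun t => 𝟙 _ ≫ t) (h0 w)).symm⟩
            hom_inv_id := InertiaObj.hom_ext (Category.id_comp _)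
            inv_hom_id := InertiaObj.hom_ext (Category.id_comp _) })
        (fun {_ _} k => InertiaObj.hom_ext ((Category.comp_id _).trans (Category.id_comp _).symm)))
      (fun w => (Fib44.inertia_isHomLift_iff _ _).2 (IsHomLift.id ((BasedFunctor.comp i F).w_obj w)))
  let L := fpLift i (BasedFunctor.comp i F) κ
  have hsurj : IsSurjective (fpFst Φ n) := by
    refine surjective_of_comp (a := L) (b := fpFst Φ n) ?_
    exact hi
  have hopen : IsOpenImm (fpFst Φ n) := repByAlgSpWith_fpFst Φ (openImm_inertiaNeutral_rel hX hY h)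
  apply BasedNatTrans.ext
  apply NatTrans.ext
  funext x
  obtain ⟨z, ⟨ι⟩⟩ := exists_lift_of_openImm_surjective (isFibGrpd_fp hW hX hI Φ n) hW hopen hsurj x
  let ι' : z.obj.fst ≅ x := ι
  have i' : Φ.obj z.obj.fst ≅ n.obj z.obj.snd := z.obj.iso
  have h1 : Θ.hom.toNatTrans.app z.obj.fst = 𝟙 _ := by
    have c1 : Θ.hom.toNatTrans.app z.obj.fst ≫ i'.hom.hom = i'.hom.hom ≫ 𝟙 z.obj.snd := i'.hom.comm
    have c2 : i'.hom.hom ≫ i'.inv.hom = 𝟙 (F.obj z.obj.fst) := congrArg (fun t => t.hom) i'.hom_inv_id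
    calc Θ.hom.toNatTrans.app z.obj.fst
        = Θ.hom.toNatTrans.app z.obj.fst ≫ i'.hom.hom ≫ i'.inv.hom := by rw [c2, Category.comp_id]
      _ = 𝟙 _ := by rw [← Category.assoc, c1]; erw [Category.comp_id]; exact c2
  have hn := Θ.hom.toNatTrans.naturality ι'.hom
  rw [h1] at hn
  change F.map ι'.hom ≫ Θ.hom.toNatTrans.app x = 𝟙 _ ≫ F.map ι'.hom at hn
  rw [Category.id_comp] at hn
  change Θ.hom.toNatTrans.app x = 𝟙 _
  haveI : IsIso (F.map ι'.hom) := inferInstanceAs (IsIso (F.toFunctor.map ι'.hom))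
  exact (cancel_epi (F.map ι'.hom)).1 (hn.trans (Category.comp_id _).symm)

theorem isDMMor_of_rigid {K : Precoverage Scheme.{u}} (h𝒳 : IsAlgStack K 𝒳) (h𝒴 : IsAlgStack K 𝒴) {f : 𝒳 ⥤ᵇ 𝒴}
    (H : ∀ (B : Type u) [CommRing B] [IsArtinianRing B] [IsLocalRing B] (I : Ideal B) (_ : IsSimpleModule B I)
      (_ : I ≠ ⊤) (sB : Spec (CommRingCat.of B) ⟶ S),
      RigidAlong f (Over.homMk (Spec.map (CommRingCat.ofHom (Ideal.Quotient.mk I))) rfl :
        Over.mk (Spec.map (CommRingCat.ofHom (Ideal.Quotient.mk I)) ≫ sB) ⟶ Over.mk sB)) :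
    IsDMMor f := by
  have hX := h𝒳.isStack.1
  have hY := h𝒴.isStack.1
  have hl := repByAlgSpWith_inertiaToBase hX f (lft_diag h𝒳 h𝒴 f)
  refine repByAlgSpWith_of_self inf_le_left (fun k _ hk => ⟨inferInstance, formallyUnramified_of_self k hk.2⟩) hX
    (isFibGrpd_fp hX hX hY f f) (lft_diag h𝒳 h𝒴 f) (repByAlgSpWith_fpFst_diag hX f ?_)
  obtain ⟨U, u, hu, hus⟩ := h𝒳.atlas
  let y : ofSp ((spY U).obj) ⥤ᵇ 𝒳 := BasedFunctor.comp (toOverCat U) u
  have hy : Sm y := (repByAlgSpWith_precomp_equiv (isEquivOver_toOverCat U)).2 hu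
  have hy' : Sj y := (repByAlgSpWith_precomp_equiv (isEquivOver_toOverCat U)).2 hus
  refine repByAlgSpWith_of_repSp_cover (isFibGrpd_inertia hX hY f) hX (stableBC_locP _)
    (fppf_local_of_fpqc (S10543.result S)) (repByAlgSp1_of_with hl) (spY U) y (rep_flat_of_sm hy) (rep_lfp_of_sm hy)
    hy' ?_
  obtain ⟨F, a, e, he, ⟨α⟩, hQ⟩ := exists_space_fp (isFibGrpd_inertia hX hY f) hX (repByAlgSp1_of_with hl) (spY U) y
  have hal : AlgSp.LocP @LocallyOfFiniteType a := spaceDescends_locP _ F (spY U) a (hQ _ (respectsIso_locP _) hl)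
  refine ⟨F, e, he, ?_⟩
  rw [homOfBased_congr α, homOfBased_ofSpMap]
  obtain ⟨A, c, k, hc, hcs, w⟩ := SpFP87.exists_compatible_chart a F.property (spY U).property.diag
    (AlgSp.repWith_id @Etale U) (AlgSp.repWith_id @Surjective U)
  rw [Category.comp_id] at w
  haveI : LocallyOfFiniteType k.left := hal c (𝟙 _) k hc (AlgSp.repWith_id @Etale U) (by rw [Category.comp_id]; exact w)
  refine SpFP87.locP_of_chart (h := k) F.property.diag (spY U).property.diag hc hcs (AlgSp.repWith_id @Etale U)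
    (by rwa [Category.comp_id]) ⟨inferInstance, formallyUnramified_of_simpleUnique k.left ?_⟩
  intro B _ _ _ I hI hIt g g' h1 h2
  let sB : Spec (CommRingCat.of B) ⟶ S := g ≫ A.hom
  let T₀ : Over S := Over.mk (Spec.map (CommRingCat.ofHom (Ideal.Quotient.mk I)) ≫ sB)
  let j : T₀ ⟶ Over.mk sB := Over.homMk (Spec.map (CommRingCat.ofHom (Ideal.Quotient.mk I))) rfl
  let gg : Over.mk sB ⟶ A := Over.homMk g rfl
  let gg' : Over.mk sB ⟶ A := Over.homMk g' (by
    show g' ≫ A.hom = g ≫ A.hom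
    rw [← Over.w k, ← Category.assoc, ← h1, Category.assoc])
  have hjg : j ≫ gg = j ≫ gg' := Over.OverMorphism.ext h2
  have hgk : gg ≫ k = gg' ≫ k := Over.OverMorphism.ext h1
  let τ : (AlgSp.yon S).obj (Over.mk sB) ⟶ F.obj := (AlgSp.yon S).map gg ≫ c
  let τ' : (AlgSp.yon S).obj (Over.mk sB) ⟶ F.obj := (AlgSp.yon S).map gg' ≫ c
  have hjt : (AlgSp.yon S).map j ≫ τ = (AlgSp.yon S).map j ≫ τ' := by
    rw [← Category.assoc, ← Category.assoc, ← Functor.map_comp, ← Functor.map_comp, hjg]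
  have hat : τ ≫ a = τ' ≫ a := by
    rw [Category.assoc, Category.assoc, w, ← Functor.map_comp, ← Functor.map_comp, hgk]
  have ht : τ = τ' := (AlgSp.J S).uliftYonedaEquiv.injective (sections_eq hX (j := j) (H B I hI hIt sB) he α _ _
    (((AlgSp.J S).uliftYonedaEquiv_naturality τ j).trans
      ((congrArg (AlgSp.J S).uliftYonedaEquiv hjt).trans ((AlgSp.J S).uliftYonedaEquiv_naturality τ' j).symm))
    (congrArg (AlgSp.J S).uliftYonedaEquiv hat))
  have hsq : I ^ 2 = ⊥ := sq_ker_eq_bot hI hIt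
  let sq : AlgSp.InfSq c :=
    { A := B, I := I, sq_zero := hsq, str := sB, top := (AlgSp.yon S).map j ≫ (AlgSp.yon S).map gg, bot := τ,
      comm := Category.assoc _ _ _ }
  have hunr : AlgSp.RepWith (@LocallyOfFiniteType ⊓ @AlgebraicGeometry.FormallyUnramified) c :=
    SpPts86.repWith_mono (Q := (@LocallyOfFiniteType ⊓ @AlgebraicGeometry.FormallyUnramified : MorphismProperty Scheme.{u}))
      (fun _ _ f (hf : Etale f) => ⟨inferInstance, inferInstance⟩) hc
  have hgg : (AlgSp.yon S).map gg = (AlgSp.yon S).map gg' :=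
    SpFP87.isFormallyUnramifiedMor_of_repWith c hunr sq _ _ rfl rfl (by
      show (AlgSp.yon S).map j ≫ (AlgSp.yon S).map gg' = (AlgSp.yon S).map j ≫ (AlgSp.yon S).map gg
      rw [← Functor.map_comp, ← Functor.map_comp, hjg]) ht.symm
  exact congrArg (fun t => CommaMorphism.left t) ((AlgSp.yon S).map_injective hgg)

end Groth.Agent.AlgSt88
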