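import Groth.Agent.AlgSt88.Inertia
import Groth.Agent.AlgSt88.EquivCrit
import Groth.Agent.AlgSt88.KerTrivial
import Groth.Agent.Fib44.Yoneda

/-! Sections of the inertia over a pair of bases, and rigidity. -/

set_option autoImplicit false
set_option maxHeartbeats 1000000
set_option linter.style.haveILetI false
set_option linter.unusedVariables false
set_option backward.isDefEq.respectTransparency false
set_option backward.isDefEq.respectTransparency.types false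
universe u

open CategoryTheory CategoryTheory.Limits AlgebraicGeometry Opposite AlgSt FibCat

namespace Groth.Agent.AlgSt88

variable {S : Scheme.{u}} {𝒳 𝒴 : AlgSt.Cat S}

/-- Automorphisms over `T` killed by `f` and trivial on `T₀` are trivial. -/
def RigidAlong (f : 𝒳 ⥤ᵇ 𝒴) {T₀ T : Over S} (j : T₀ ⟶ T) : Prop :=
  ∀ (x : 𝒳.obj) (hx : 𝒳.p.obj x = T) (d : x ⟶ x), f.map d = 𝟙 _ →
    ∀ (z : 𝒳.obj) (hz : 𝒳.p.obj z = T₀) (χ : z ⟶ x), 𝒳.p.map χ = eqToHom hz ≫ j ≫ eqToHom hx.symm →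
      χ ≫ d = χ → d = 𝟙 x

theorem rigidAlong_of_auto (hX : IsFibGrpd 𝒳.p) (hY : IsFibGrpd 𝒴.p) {f : 𝒳 ⥤ᵇ 𝒴} {T₀ T : Over S} (j : T₀ ⟶ T)
    (H : ∀ (xt : overCat T ⥤ᵇ 𝒳) (Θ : xt ≅ xt),
      BasedCategory.whiskerLeft (overMap j) Θ.hom = 𝟙 (BasedFunctor.comp (overMap j) xt) →
      BasedCategory.whiskerRight Θ.hom f = 𝟙 (BasedFunctor.comp xt f) → Θ.hom = 𝟙 xt) : RigidAlong f j := by
  intro x hx d hd z hz χ hχ hfix
  let xt := classify hX x hx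
  obtain ⟨e₀, he₀⟩ := classify_mk_id hX x hx
  let k : xt.obj (Fib44.idObj T) ⟶ xt.obj (Fib44.idObj T) := e₀.hom ≫ d ≫ e₀.inv
  have hkf : f.map k = 𝟙 _ := by
    show f.map (e₀.hom ≫ d ≫ e₀.inv) = _
    rw [f.map_comp, f.map_comp, hd, Category.id_comp, ← f.map_comp, Iso.hom_inv_id, map_id' f]
  have hkp : 𝒳.p.map k = 𝟙 _ := p_map_eq_id f k hkf
  haveI hkl : 𝒳.p.IsHomLift (𝟙 T) k :=
    IsHomLift.of_fac' 𝒳.p (𝟙 T) k (Fib44.obj_idObj xt) (Fib44.obj_idObj xt) (by rw [hkp]; simp)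
  have hc := Fib44.cartAtId_of_fibGrpd hX xt
  obtain ⟨α, hα⟩ := Fib44.exists_natTrans_at_id (G := xt) hc k
  haveI : IsIso (α.toNatTrans.app (Fib44.idObj T)) := by rw [hα]; exact fg_isIso_of_lift_id hX k T
  haveI : IsIso α := Fib44.isIso_natTrans_at_id hc hc α
  let Θ : xt ≅ xt := asIso α
  have h2 : BasedCategory.whiskerRight Θ.hom f = 𝟙 (BasedFunctor.comp xt f) := by
    refine Fib44.natTrans_ext_at_id (Fib44.cartAtId_of_fibGrpd hY _) ?_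
    show f.map (α.toNatTrans.app (Fib44.idObj T)) = 𝟙 _
    rw [hα, hkf]
  have h1 : BasedCategory.whiskerLeft (overMap j) Θ.hom = 𝟙 (BasedFunctor.comp (overMap j) xt) := by
    refine Fib44.natTrans_ext_at_id (Fib44.cartAtId_of_fibGrpd hX _) ?_
    let jb : (overCat T).obj := (overMap j).obj (Fib44.idObj T₀)
    show α.toNatTrans.app jb = 𝟙 _
    let c := xt.map (Fib44.toId jb)
    have hce : 𝒳.p.map (c ≫ e₀.hom) = eqToHom (xt.w_obj jb) ≫ j ≫ eqToHom hx.symm := by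
      haveI := he₀
      rw [𝒳.p.map_comp, p_map_eq, IsHomLift.fac' 𝒳.p (𝟙 T) e₀.hom]
      simp [jb, Fib44.toId, Fib44.idObj, overMap]
      rfl
    obtain ⟨g, -, hgc⟩ := fg_exists_fac hX χ (c ≫ e₀.hom) (eqToHom ((xt.w_obj jb).trans hz.symm)) (by
      rw [hce, hχ, eqToHom_trans_assoc])
    have hck : c ≫ k = c := by
      show c ≫ e₀.hom ≫ d ≫ e₀.inv = c
      rw [← Category.assoc c, ← Category.assoc _ d, ← hgc, Category.assoc g χ d, hfix, hgc, Category.assoc,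
        Iso.hom_inv_id, Category.comp_id]
    haveI := Fib44.isHomLift_app_left α jb
    refine fg_hom_ext hX c (by
      rw [IsHomLift.fac' 𝒳.p (𝟙 (show Over T from jb).left) (α.toNatTrans.app jb), 𝒳.p.map_id]
      simp) ?_
    refine (Fib44.app_comp_toId α jb).trans ?_
    rw [hα]
    exact hck.trans (Category.id_comp _).symm
  have h := H xt Θ h1 h2
  have hk1 : k = 𝟙 _ := by
    rw [← hα]
    exact congrArg (fun t : xt ⟶ xt => t.toNatTrans.app (Fib44.idObj T)) h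
  calc d = e₀.inv ≫ k ≫ e₀.hom := by simp [k]
    _ = 𝟙 x := by rw [hk1, Category.id_comp, Iso.inv_hom_id]

/-- Sections of the inertia agreeing on `T₀` with the same image agree. -/
theorem sections_eq (hX : IsFibGrpd 𝒳.p) {f : 𝒳 ⥤ᵇ 𝒴} {T₀ T : Over S} {j : T₀ ⟶ T} (hr : RigidAlong f j)
    {F G : AlgSp.Sp S} {m : ofSp G ⥤ᵇ 𝒳} {e : ofSp F ⥤ᵇ fp m (inertiaToBase f)} (he : IsEquivOver e)
    {a : F ⟶ G} (α : BasedFunctor.comp e (fpFst m (inertiaToBase f)) ≅ ofSpMap a) (t₁ t₂ : F.obj.obj (op T))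
    (hj : F.obj.map j.op t₁ = F.obj.map j.op t₂) (ha : a.hom.app (op T) t₁ = a.hom.app (op T) t₂) : t₁ = t₂ := by
  let Φ := BasedFunctor.comp e (fpFst m (inertiaToBase f))
  let Ψ := BasedFunctor.comp (BasedFunctor.comp e (fpSnd m (inertiaToBase f))) (inertiaToBase f)
  let o₁ : (ofSp F).obj := ⟨T, t₁⟩
  let o₂ : (ofSp F).obj := ⟨T, t₂⟩
  let oz : (ofSp F).obj := ⟨T₀, F.obj.map j.op t₁⟩
  let m₁ : oz ⟶ o₁ := ⟨j, rfl⟩
  let m₂ : oz ⟶ o₂ := ⟨j, hj.symm⟩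
  let ι := (BasedNatTrans.forgetful _ _).mapIso α
  have hobj : (ofSpMap a).obj o₁ = (ofSpMap a).obj o₂ :=
    congrArg (fun t => (⟨T, t⟩ : (ofSp G).obj)) ha
  let η : (e.obj o₁).obj.fst ≅ (e.obj o₂).obj.fst := ι.app o₁ ≪≫ eqToIso hobj ≪≫ (ι.app o₂).symm
  have hb : ∀ (o o' : (ofSp G).obj) (h : o = o'), (eqToHom h : o ⟶ o').hom = eqToHom (congrArg (fun t => t.base) h) := by
    rintro o _ rfl; rfl
  have hm : (ofSpMap a).map m₁ ≫ eqToHom hobj = (ofSpMap a).map m₂ := by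
    refine Stk.EltObj.hom_ext ?_
    show j ≫ (eqToHom hobj : (ofSpMap a).obj o₁ ⟶ _).hom = j
    rw [hb]; exact Category.comp_id j
  have hη : Φ.map m₁ ≫ η.hom = Φ.map m₂ := by
    have n₁ : Φ.map m₁ ≫ (ι.app o₁).hom = (ι.app oz).hom ≫ (ofSpMap a).map m₁ := ι.hom.naturality m₁
    have n₂ : Φ.map m₂ ≫ (ι.app o₂).hom = (ι.app oz).hom ≫ (ofSpMap a).map m₂ := ι.hom.naturality m₂
    show Φ.map m₁ ≫ (ι.app o₁).hom ≫ eqToHom hobj ≫ (ι.app o₂).inv = _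
    rw [reassoc_of% n₁, reassoc_of% hm, ← Category.assoc, ← n₂, Category.assoc, Iso.hom_inv_id, Category.comp_id]
  let x₁ := (e.obj o₁).obj.snd
  let x₂ := (e.obj o₂).obj.snd
  let z := (e.obj oz).obj.snd
  let i₁ : m.obj (e.obj o₁).obj.fst ≅ x₁.pt := (e.obj o₁).obj.iso
  let i₂ : m.obj (e.obj o₂).obj.fst ≅ x₂.pt := (e.obj o₂).obj.iso
  let iz : m.obj (e.obj oz).obj.fst ≅ z.pt := (e.obj oz).obj.iso
  let ψ : x₁.pt ≅ x₂.pt := i₁.symm ≪≫ m.toFunctor.mapIso η ≪≫ i₂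
  let χ₁ : z.pt ⟶ x₁.pt := Ψ.map m₁
  let χ₂ : z.pt ⟶ x₂.pt := Ψ.map m₂
  have w₁ : m.map (Φ.map m₁) ≫ i₁.hom = iz.hom ≫ χ₁ := (e.map m₁).hom.w
  have w₂ : m.map (Φ.map m₂) ≫ i₂.hom = iz.hom ≫ χ₂ := (e.map m₂).hom.w
  have c₁ : z.aut.hom ≫ χ₁ = χ₁ ≫ x₁.aut.hom := (e.map m₁).hom.snd.comm
  have c₂ : z.aut.hom ≫ χ₂ = χ₂ ≫ x₂.aut.hom := (e.map m₂).hom.snd.comm
  have hψ : χ₁ ≫ ψ.hom = χ₂ := by
    refine (cancel_epi iz.hom).1 ?_
    rw [← w₂, ← Category.assoc, ← w₁, ← hη, m.map_comp]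
    simp [ψ]
  let d : x₁.pt ⟶ x₁.pt := x₁.aut.hom ≫ ψ.hom ≫ x₂.aut.inv ≫ ψ.inv
  have hinv : f.map x₂.aut.inv = 𝟙 _ := by
    calc f.map x₂.aut.inv = f.map x₂.aut.hom ≫ f.map x₂.aut.inv := by rw [x₂.map_aut, Category.id_comp]
      _ = 𝟙 _ := by rw [← f.map_comp, Iso.hom_inv_id, map_id' f]
  have hd : f.map d = 𝟙 _ := by
    show f.map (x₁.aut.hom ≫ ψ.hom ≫ x₂.aut.inv ≫ ψ.inv) = _
    rw [f.map_comp, f.map_comp, f.map_comp, x₁.map_aut, hinv, Category.id_comp, Category.id_comp, ← f.map_comp,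
      Iso.hom_inv_id, map_id' f]
  have hfix : χ₁ ≫ d = χ₁ := by
    show χ₁ ≫ x₁.aut.hom ≫ ψ.hom ≫ x₂.aut.inv ≫ ψ.inv = χ₁
    rw [← Category.assoc χ₁, ← c₁, Category.assoc, reassoc_of% hψ]
    have : χ₂ ≫ x₂.aut.inv = z.aut.inv ≫ χ₂ := by
      rw [Iso.comp_inv_eq, Category.assoc, ← c₂, Iso.inv_hom_id_assoc]
    rw [reassoc_of% this, Iso.hom_inv_id_assoc, ← hψ, Category.assoc, Iso.hom_inv_id, Category.comp_id]
  have hd1 : d = 𝟙 _ := hr x₁.pt (Ψ.w_obj o₁) d hd z.pt (Ψ.w_obj oz) χ₁ (p_map_eq Ψ m₁) hfix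
  have hcomm : x₁.aut.hom ≫ ψ.hom = ψ.hom ≫ x₂.aut.hom := by
    have := congrArg (fun t => t ≫ ψ.hom ≫ x₂.aut.hom) hd1
    simpa [d] using this
  let q : (e.obj o₁) ⟶ (e.obj o₂) := fpHom η.hom (⟨ψ.hom, hcomm⟩ : x₁ ⟶ x₂) (by
    show m.map η.hom ≫ i₂.hom = i₁.hom ≫ ψ.hom
    simp [ψ])
  obtain ⟨μ, hμ⟩ := (isEquivData_of_isEquivOver he).full q
  have hh : ∀ o, (ι.app o).hom.hom = eqToHom (Φ.w_obj o) ≫ 𝟙 _ ≫ eqToHom ((ofSpMap a).w_obj o).symm := fun o => by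
    haveI := α.hom.isHomLift' o
    exact IsHomLift.fac' (ofSp G).p (𝟙 ((ofSp F).p.obj o)) (α.hom.toNatTrans.app o)
  have hh' : ∀ o, (ι.app o).inv.hom = eqToHom ((ofSpMap a).w_obj o) ≫ 𝟙 _ ≫ eqToHom (Φ.w_obj o).symm := fun o => by
    haveI := α.inv.isHomLift' o
    exact IsHomLift.fac' (ofSp G).p (𝟙 ((ofSp F).p.obj o)) (α.inv.toNatTrans.app o)
  have hμ1 : μ.hom = 𝟙 T := by
    have h2 : (Φ.map μ).hom = eqToHom (Φ.w_obj o₁) ≫ μ.hom ≫ eqToHom (Φ.w_obj o₂).symm := map_hom Φ μ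
    rw [show Φ.map μ = η.hom from congrArg (fun t => t.hom.fst) hμ] at h2
    change (ι.app o₁).hom.hom ≫ (eqToHom hobj : (ofSpMap a).obj o₁ ⟶ _).hom ≫ (ι.app o₂).inv.hom = _ at h2
    rw [hh, hh', hb] at h2
    have h3 : eqToHom (Φ.w_obj o₁) ≫ μ.hom ≫ eqToHom (Φ.w_obj o₂).symm =
        eqToHom (Φ.w_obj o₁) ≫ 𝟙 T ≫ eqToHom (Φ.w_obj o₂).symm := h2.symm.trans (by simp; rfl)
    exact (cancel_mono (eqToHom (Φ.w_obj o₂).symm)).1 ((cancel_epi (eqToHom (Φ.w_obj o₁))).1 h3)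
  have := μ.map_sec
  rw [hμ1] at this
  simpa [o₁, o₂] using this.symm

end Groth.Agent.AlgSt88
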