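import Groth.Agent.AlgSt88.SmoothLocalInst
import Groth.Agent.AlgSt88.SmoothLoc
import Groth.Agent.AlgSt88.ValWitness
import Groth.Agent.LimTop61.LciLocal

/-! Cancellation of smooth morphisms for local complete intersection morphisms of stacks. -/

set_option autoImplicit false
set_option maxHeartbeats 1000000
set_option linter.style.haveILetI false
set_option linter.unusedVariables false
set_option backward.isDefEq.respectTransparency false
set_option backward.isDefEq.respectTransparency.types false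
universe u

open CategoryTheory CategoryTheory.Limits AlgebraicGeometry Opposite AlgSt FibCat

namespace Groth.Agent.AlgSt88

variable {S : Scheme.{u}} {𝒳 𝒴 𝒵 : AlgSt.Cat S}

theorem locP_lci_yon_map {U V : Over S} (h : U ⟶ V) (hh : AlgSp.lci h.left) :
    AlgSp.IsLCIMor ((AlgSp.yon S).map h) :=
  LimTop61.LciLocal.lciMor_of_chart (h := h) (AlgSp.IsAlgSpace.yon_obj U).diag (AlgSp.IsAlgSpace.yon_obj V).diag
    (AlgSp.repWith_id @Etale U) (AlgSp.repWith_id @Surjective U) (AlgSp.repWith_id @Etale V)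
    (by rw [Category.id_comp, Category.comp_id]) hh

theorem lci_left_of_locP {U V : Over S} (h : U ⟶ V) (hh : AlgSp.IsLCIMor ((AlgSp.yon S).map h)) :
    AlgSp.lci h.left :=
  hh (𝟙 _) (𝟙 _) h (AlgSp.repWith_id @Etale U) (AlgSp.repWith_id @Etale V)
    (by rw [Category.id_comp, Category.comp_id])

theorem locQ_lci_of_comp (h𝒳 : IsAlgStack Scheme.fppfPrecoverage 𝒳) (h𝒴 : IsAlgStack Scheme.fppfPrecoverage 𝒴)
    (h𝒵 : IsAlgStack Scheme.fppfPrecoverage 𝒵) {f : 𝒳 ⥤ᵇ 𝒴} {q : 𝒴 ⥤ᵇ 𝒵} {p : 𝒳 ⥤ᵇ 𝒵}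
    (e : BasedFunctor.comp f q ≅ p) (hq : LocQ (AlgSp.LocP @Smooth) q) (hp : LocQ AlgSp.IsLCIMor p) :
    LocQ AlgSp.IsLCIMor f := by
  obtain ⟨U, V, x, z, h, α, hx, hxs, hz, hh⟩ := hp
  have hX := h𝒳.isStack.1
  have hY := h𝒴.isStack.1
  have hZ := h𝒵.isStack.1
  obtain ⟨ι⟩ := toOver_overMap h
  let x' : ofSp (spY U).obj ⥤ᵇ 𝒳 := BasedFunctor.comp (toOverCat U) x
  let z' : ofSp (spY V).obj ⥤ᵇ 𝒵 := BasedFunctor.comp (toOverCat V) z
  have hx' : Sm x' := (repByAlgSpWith_precomp_equiv (isEquivOver_toOverCat U)).2 hx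
  have hxs' : Sj x' := (repByAlgSpWith_precomp_equiv (isEquivOver_toOverCat U)).2 hxs
  have hz' : Sm z' := (repByAlgSpWith_precomp_equiv (isEquivOver_toOverCat V)).2 hz
  let α' : BasedFunctor.comp x' p ≅ BasedFunctor.comp (ofSpMap ((AlgSp.yon S).map h)) z' :=
    bLeft (toOverCat U) α ≪≫ bRight ι z
  obtain ⟨W, lW, hlW, hlW'⟩ := exists_lift_chart h𝒴 h𝒵 q (V := spY V) z'
  obtain ⟨s, hs⟩ := (AlgSp.yon S).map_surjective (homOfBased (BasedFunctor.comp lW (fpSnd q z')))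
  have hsm : Smooth s.left := by
    have := (spQ_of_locQ hq).prop smoothLocal_smooth hY hZ (U := spY W) (V := spY V) z' lW hz' hlW
    rw [← hs] at this
    exact (SpFP87.locP_yon_map_iff s).1 this
  have hC : IsFibGrpd (fp q z').p := isFibGrpd_fp hY (Stk.isFibGrpd_ofPsh _) hZ q z'
  let u : ofSp (spY U).obj ⥤ᵇ fp q z' :=
    fpLift (BasedFunctor.comp x' f) (ofSpMap ((AlgSp.yon S).map h)) (bLeft x' e ≪≫ α')
  obtain ⟨F, a, eF, heF, ⟨αF⟩, hQ⟩ :=
    exists_space_fp (Stk.isFibGrpd_ofPsh _) hC (repByAlgSp1_of_with hlW) (spY U) u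
  have ha : AlgSp.LocP @Smooth a := spaceDescends_locP _ F (spY U) a (hQ _ (respectsIso_locP _) hlW)
  have haj : AlgSp.IsSurjectiveMor a := spaceDescends_surj F (spY U) a (hQ _ respectsIso_surj hlW')
  let xF : ofSp F.obj ⥤ᵇ 𝒳 := BasedFunctor.comp (BasedFunctor.comp eF (fpFst u lW)) x'
  have hF : IsFibGrpd (ofSp F.obj).p := Stk.isFibGrpd_ofPsh _
  have hxF : Sm xF := sm_comp hF (Stk.isFibGrpd_ofPsh _)
    ((repByAlgSpWith_precomp_equiv heF).2 (repByAlgSpWith_fpFst u hlW)) hx'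
  have hxF' : Sj xF := repByAlgSpWith_surj_comp hF (Stk.isFibGrpd_ofPsh _)
    ((repByAlgSpWith_precomp_equiv heF).2 (repByAlgSpWith_fpFst u hlW')) hxs'
  obtain ⟨U₂, c, hc, hcs⟩ := F.property.atlas
  let x₂ : ofSch U₂ ⥤ᵇ 𝒳 := BasedFunctor.comp (ofSpMap c) xF
  obtain ⟨hx₂, hx₂'⟩ : Sm x₂ ∧ Sj x₂ :=
    ⟨(chart_comp hX hxF hc hcs).1, (chart_comp hX hxF hc hcs).2 hxF'⟩
  let y₂ : ofSch W ⥤ᵇ 𝒴 := BasedFunctor.comp lW (fpFst q z')
  have hy₂ : Sm y₂ := sm_comp (Stk.isFibGrpd_ofPsh _) hC hlW (repByAlgSpWith_fpFst q hz')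
  obtain ⟨g, hg⟩ := (AlgSp.yon S).map_surjective (c ≫ a)
  have hgs : Smooth g.left :=
    ha (b := 𝟙 _) (h := g) c hc (AlgSp.repWith_id @Etale U) (by rw [Category.comp_id, hg])
  let H : ofSch U₂ ⥤ᵇ ofSch W := BasedFunctor.comp (ofSpMap c) (BasedFunctor.comp eF (fpSnd u lW))
  obtain ⟨γ⟩ := exists_hom_iso H
  obtain ⟨h₂, hh₂⟩ := (AlgSp.yon S).map_surjective (homOfBased H)
  rw [← hh₂] at γ
  have hcomm : g ≫ h = h₂ ≫ s := (AlgSp.yon S).map_injective (by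
    have key := homOfBased_congr (F := (AlgSp.yon S).obj U₂) (G := (AlgSp.yon S).obj V)
      (bRight (bLeft (BasedFunctor.comp (ofSpMap c) eF) (fpIso u lW)) (fpSnd q z'))
    rw [show BasedFunctor.comp (BasedFunctor.comp (BasedFunctor.comp (ofSpMap c) eF)
        (BasedFunctor.comp (fpFst u lW) u)) (fpSnd q z') =
        BasedFunctor.comp (BasedFunctor.comp (ofSpMap c) (BasedFunctor.comp eF (fpFst u lW)))
          (ofSpMap ((AlgSp.yon S).map h)) from rfl,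
      show BasedFunctor.comp (BasedFunctor.comp (BasedFunctor.comp (ofSpMap c) eF)
        (BasedFunctor.comp (fpSnd u lW) lW)) (fpSnd q z') =
        BasedFunctor.comp H (BasedFunctor.comp lW (fpSnd q z')) from rfl,
      homOfBased_comp, homOfBased_comp, homOfBased_congr αF, homOfBased_comp, homOfBased_ofSpMap,
      homOfBased_ofSpMap, homOfBased_ofSpMap, ← hg, ← hh₂, ← hs] at key
    rw [Functor.map_comp, Functor.map_comp]
    exact key)
  have hlci : AlgSp.lci h₂.left := LimTop61.LciLocal.lci_of_comp_smooth _ s.left hsm (by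
    rw [← Over.comp_left, ← hcomm, Over.comp_left]
    exact LimTop61.LciLocal.lci_comp (LimTop61.LciLocal.lci_of_smooth _ hgs) (lci_left_of_locP h hh))
  let β : BasedFunctor.comp x₂ f ≅ BasedFunctor.comp (ofSpMap ((AlgSp.yon S).map h₂)) y₂ :=
    bRight (bLeft (BasedFunctor.comp (ofSpMap c) eF) (fpIso u lW)) (fpFst q z') ≪≫ bRight γ y₂
  obtain ⟨ιh⟩ := overMap_iso h₂
  obtain ⟨ω⟩ := isEquivOver_toOverCat_ofOverCat W
  refine ⟨U₂, W, BasedFunctor.comp (ofOverCat U₂) x₂, BasedFunctor.comp (ofOverCat W) y₂, h₂, ?_,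
    (repByAlgSpWith_precomp_equiv (isEquivOver_ofOverCat U₂)).2 hx₂,
    (repByAlgSpWith_precomp_equiv (isEquivOver_ofOverCat U₂)).2 hx₂',
    (repByAlgSpWith_precomp_equiv (isEquivOver_ofOverCat W)).2 hy₂, locP_lci_yon_map h₂ hlci⟩
  exact bLeft (ofOverCat U₂) β ≪≫
      (bLeft (BasedFunctor.comp (ofOverCat U₂) (ofSpMap ((AlgSp.yon S).map h₂))) (bRight ω y₂)).symm ≪≫
      bRight ιh (BasedFunctor.comp (ofOverCat W) y₂)

end Groth.Agent.AlgSt88
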