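import Groth.Agent.AlgSt88.BootstrapEtale
import Groth.Agent.AlgSt88.AtlasFp
import Groth.Agent.SpFP87.EtLocInst

/-! Being algebraic is local on the target, for the etale topology. -/

set_option autoImplicit false
set_option linter.style.haveILetI false
set_option backward.isDefEq.respectTransparency false
set_option backward.isDefEq.respectTransparency.types false
universe u

open CategoryTheory CategoryTheory.Limits AlgebraicGeometry Opposite AlgSt FibCat

namespace Groth.Agent.AlgSt88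

variable {S : Scheme.{u}} {𝒳 𝒴 : AlgSt.Cat S}

theorem hasAtlas_of_forall_fp {P : MorphismProperty Scheme.{u}} [SpFP87.EtLoc P] (hX : IsFibGrpd 𝒳.p) (hY : IsFibGrpd 𝒴.p)
    (hA : HasAtlas (AlgSp.LocP P) 𝒴) (f : 𝒳 ⥤ᵇ 𝒴)
    (hf : ∀ (U : Over S) (g : FibCat.overCat U ⥤ᵇ 𝒴), HasAtlas (AlgSp.LocP P) (fp g f)) :
    HasAtlas (AlgSp.LocP P) 𝒳 := by
  obtain ⟨V, v, hv, hv'⟩ := hA
  obtain ⟨W, w, hw, hw'⟩ := hf V v
  have hF : IsFibGrpd (fp v f).p := isFibGrpd_fp (isFibGrpd_overCat V) hX hY v f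
  exact ⟨W, BasedFunctor.comp w (fpSnd v f),
    repByAlgSpWith_locP_comp P (isFibGrpd_overCat W) hF hw (repByAlgSpWith_fpSnd _ hv),
    repByAlgSpWith_surj_comp (isFibGrpd_overCat W) hF hw' (repByAlgSpWith_fpSnd _ hv')⟩

end Groth.Agent.AlgSt88
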