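import Groth.Agent.AlgSt88.ProdOver
import Groth.Agent.AlgSt88.PLocusMain
import Groth.Agent.SpPts86.LqfSep

/-! The relation of a smooth chart of a quasi-DM stack with separated diagonal is a scheme. -/

set_option autoImplicit false
set_option maxHeartbeats 1000000
set_option linter.style.haveILetI false
set_option backward.isDefEq.respectTransparency false
set_option backward.isDefEq.respectTransparency.types false
universe u

open CategoryTheory CategoryTheory.Limits AlgebraicGeometry Opposite AlgSt FibCat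

namespace Groth.Agent.AlgSt88

variable {S : Scheme.{u}} {𝒳 : AlgSt.Cat S}

theorem exists_chart_relation (hX : IsFibGrpd 𝒳.p)
    (hsep : RepByAlgSpWith AlgSp.IsSeparatedMor (diag (toSelf 𝒳))) (hqf : IsQuasiDMOver 𝒳)
    {U : Over S} (y : ofSch U ⥤ᵇ 𝒳) (hy : Sm y) :
    ∃ (R : Over S) (s t : R ⟶ U) (Φ : ofSch R ⥤ᵇ fp y y), IsEquivOver Φ ∧
      Nonempty (BasedFunctor.comp Φ (fpFst y y) ≅ ofSpMap ((AlgSp.yon S).map s)) ∧
      Nonempty (BasedFunctor.comp Φ (fpSnd y y) ≅ ofSpMap ((AlgSp.yon S).map t)) ∧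
      Smooth s.left ∧ Smooth t.left ∧
      LocallyQuasiFinite (pullback.lift s.left t.left ((Over.w s).trans (Over.w t).symm) :
        R.left ⟶ pullback U.hom U.hom) := by
  haveI := respectsIso_locP (S := S) (@LocallyQuasiFinite ⊓ @LocallyOfFiniteType : MorphismProperty Scheme.{u})
  let r := fpToProd y y
  have h₁ : RepByAlgSpWith AlgSp.IsSeparatedMor r :=
    (repByAlgSpWith_precomp_equiv (f := fpFst (prodMap y y) (diag (toSelf 𝒳))) (isEquivOver_fpToDiag y y)).2
      (repByAlgSpWith_fpFst _ hsep)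
  have h₂ : RepByAlgSpWith (AlgSp.LocP (@LocallyQuasiFinite ⊓ @LocallyOfFiniteType)) r :=
    (repByAlgSpWith_precomp_equiv (f := fpFst (prodMap y y) (diag (toSelf 𝒳))) (isEquivOver_fpToDiag y y)).2
      (repByAlgSpWith_fpFst _ hqf)
  let W := overProd U U
  let z := BasedFunctor.comp (ofOverCat W) (toProdOfSch U U)
  have hz : IsEquivOver z := isEquivOver_comp (isEquivOver_ofOverCat W) (isEquivOver_toProdOfSch U U)
  obtain ⟨F, e, he, hq, hs⟩ := repByAlgSpWith_inf h₂ h₁ W z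
  let a := spMapOfOver (BasedFunctor.comp e (fpFst z r))
  obtain ⟨R, ⟨i⟩⟩ := SpPts86.exists_iso_of_lqf_separated (f := a) F.property hs hq
  obtain ⟨k, hk⟩ := (AlgSp.yon S).map_surjective (i.hom ≫ a)
  let Φ : ofSch R ⥤ᵇ fp y y := BasedFunctor.comp (BasedFunctor.comp (ofSpMap i.hom) e) (fpSnd z r)
  have hΦ : IsEquivOver Φ := isEquivOver_comp (isEquivOver_comp (isEquivOver_ofSpMap i.hom) he)
    (isEquivOver_of_iso (F := BasedFunctor.comp (fpSwap z r) (fpFst r z)) (Iso.refl _)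
      (isEquivOver_comp isEquivOver_fpSwap (isEquivOver_fpFst r hz)))
  obtain ⟨γ⟩ : Nonempty (BasedFunctor.comp (BasedFunctor.comp (BasedFunctor.comp (ofSpMap i.hom) e) (fpFst z r))
      (ofOverCat W) ≅ ofSpMap ((AlgSp.yon S).map k)) := by
    obtain ⟨γ⟩ := exists_hom_iso (BasedFunctor.comp (BasedFunctor.comp (BasedFunctor.comp (ofSpMap i.hom) e) (fpFst z r))
      (ofOverCat W))
    rw [← spMapOfOver_eq, show BasedFunctor.comp (BasedFunctor.comp (ofSpMap i.hom) e) (fpFst z r) =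
      BasedFunctor.comp (ofSpMap i.hom) (BasedFunctor.comp e (fpFst z r)) from rfl,
      spMapOfOver_comp (ofSpMap i.hom) (BasedFunctor.comp e (fpFst z r)), homOfBased_ofSpMap, ← hk] at γ
    exact ⟨γ⟩
  let P₀ := BasedFunctor.comp (ofSpMap i.hom) e
  obtain ⟨c₁⟩ := nonempty_ofSpMap_comp ((AlgSp.yon S).map k) ((AlgSp.yon S).map (overProdFst U U))
  obtain ⟨c₂⟩ := nonempty_ofSpMap_comp ((AlgSp.yon S).map k) ((AlgSp.yon S).map (overProdSnd U U))
  rw [← (AlgSp.yon S).map_comp] at c₁ c₂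
  have α₁ : BasedFunctor.comp Φ (fpFst y y) ≅ ofSpMap ((AlgSp.yon S).map (k ≫ overProdFst U U)) :=
    bRight (bLeft P₀ (fpIso z r)).symm (fpFst (toSelf (ofSch U)) (toSelf (ofSch U))) ≪≫
      bRight γ (ofSpMap ((AlgSp.yon S).map (overProdFst U U))) ≪≫ c₁.symm
  have α₂ : BasedFunctor.comp Φ (fpSnd y y) ≅ ofSpMap ((AlgSp.yon S).map (k ≫ overProdSnd U U)) :=
    bRight (bLeft P₀ (fpIso z r)).symm (fpSnd (toSelf (ofSch U)) (toSelf (ofSch U))) ≪≫
      bRight γ (ofSpMap ((AlgSp.yon S).map (overProdSnd U U))) ≪≫ c₂.symm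
  have hU : IsFibGrpd (ofSch U).p := Stk.isFibGrpd_ofPsh _
  refine ⟨R, k ≫ overProdFst U U, k ≫ overProdSnd U U, Φ, hΦ, ⟨α₁⟩, ⟨α₂⟩, ?_, ?_, ?_⟩
  · exact (SpFP87.locP_yon_map_iff (P := @Smooth) _).1 (prop_of_rep hU hX (stableBC_locP _)
      (fppf_local_of_fpqc (S10542.result S)) hy (G := spY U) (F := spY R) y hΦ α₁)
  · exact (SpFP87.locP_yon_map_iff (P := @Smooth) _).1 (prop_of_rep hU hX (stableBC_locP _)
      (fppf_local_of_fpqc (S10542.result S)) hy (G := spY U) (F := spY R) y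
      (e := BasedFunctor.comp Φ (fpSwap y y)) (isEquivOver_comp hΦ isEquivOver_fpSwap) α₂)
  · have h3 : (@LocallyQuasiFinite ⊓ @LocallyOfFiniteType : MorphismProperty Scheme.{u}) k.left := by
      have := (MorphismProperty.cancel_left_of_respectsIso
        (AlgSp.LocP (S := S) (@LocallyQuasiFinite ⊓ @LocallyOfFiniteType)) i.hom a).2 hq
      rw [← hk] at this
      exact this (𝟙 _) (𝟙 _) k (AlgSp.repWith_id _ R) (AlgSp.repWith_id _ W) (by simp)
    have e : pullback.lift (k ≫ overProdFst U U).left (k ≫ overProdSnd U U).left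
        ((Over.w (k ≫ overProdFst U U)).trans (Over.w (k ≫ overProdSnd U U)).symm) = k.left := by
      apply pullback.hom_ext
      · rw [pullback.lift_fst]; rfl
      · rw [pullback.lift_snd]; rfl
    rw [e]
    exact h3.1

end Groth.Agent.AlgSt88
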