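import Groth.Agent.SpPts86.Slice
import Mathlib.AlgebraicGeometry.Morphisms.QuasiFinite

/-!
Flat quasi-finite slices of a flat groupoid whose relation map is locally quasi-finite.
-/

universe u

set_option autoImplicit false
set_option linter.style.haveILetI false
set_option backward.isDefEq.respectTransparency false
set_option backward.isDefEq.respectTransparency.types false

open CategoryTheory CategoryTheory.Limits AlgebraicGeometry IsLocalRing RingTheory.Sequence Polynomial TensorProduct

namespace Groth.Agent.AlgSt88.SliceLqf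

open SpPts86

/-- A point of a scheme of finite type over a field, locally quasi-finite over the product with another
field, has algebraic residue field. -/
theorem isAlgebraic_residue {K₀ K₁ κQ κ : Type u} [Field K₀] [Field K₁] [Field κQ] [Field κ] [Algebra K₀ κ]
    (j : κQ →+* κ) (hj : j.Finite) (i₀ : K₀ →+* κQ) (h₀ : j.comp i₀ = algebraMap K₀ κ) (i₁ : K₁ →+* κQ)
    (h₁ : ∀ x, IsIntegral K₀ (j (i₁ x)))
    (hepi : ∀ (T : Type u) [CommRing T] (f g : κQ →+* T), f.comp i₀ = g.comp i₀ → f.comp i₁ = g.comp i₁ → f = g) :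
    Algebra.IsAlgebraic K₀ κ := by
  let L := algebraicClosure K₀ κ
  have hb : ∀ x, j (i₁ x) ∈ L := fun x => mem_algebraicClosure_iff'.2 (h₁ x)
  have key : ∀ l : L, (l : κ) ⊗ₜ[L] (1 : κ) = (1 : κ) ⊗ₜ[L] (l : κ) := fun l => by
    have h1 : (l : κ) = l • (1 : κ) := (Algebra.algebraMap_eq_smul_one l)
    rw [h1, smul_tmul]
  have hfg : (Algebra.TensorProduct.includeLeftRingHom : κ →+* κ ⊗[L] κ).comp j =
      (Algebra.TensorProduct.includeRight : κ →ₐ[L] κ ⊗[L] κ).toRingHom.comp j := by
    refine hepi _ _ _ (RingHom.ext fun k => ?_) (RingHom.ext fun x => key ⟨_, hb x⟩)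
    change (j (i₀ k)) ⊗ₜ[L] (1 : κ) = (1 : κ) ⊗ₜ[L] (j (i₀ k))
    exact key ⟨_, by rw [← RingHom.comp_apply, h₀]; exact L.algebraMap_mem k⟩
  have htop : ∀ t : κQ, j t ∈ L := by
    intro t
    by_contra ht
    obtain ⟨φ, hφ1, hφ0⟩ := Submodule.exists_dual_map_eq_bot_of_notMem (R := L) (M := κ)
      (p := L ∙ (1 : κ)) (x := j t) (fun h => ht (by
        obtain ⟨l, hl⟩ := Submodule.mem_span_singleton.1 h
        rw [← hl, ← Algebra.algebraMap_eq_smul_one]
        exact l.2)) inferInstance
    have h := congrArg (TensorProduct.lift ((LinearMap.mul L κ).compl₁₂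
      ((Algebra.linearMap L κ).comp φ) LinearMap.id)) (RingHom.congr_fun hfg t)
    change algebraMap L κ (φ (j t)) * 1 = algebraMap L κ (φ 1) * j t at h
    have h0 : φ 1 = 0 := (Submodule.mem_bot L).1 (hφ0.le ⟨1, Submodule.mem_span_singleton_self _, rfl⟩)
    rw [h0, map_zero, zero_mul, mul_one] at h
    exact hφ1 ((FaithfulSMul.algebraMap_injective L κ) (h.trans (map_zero _).symm))
  let j' : κQ →+* L := j.codRestrict L.toSubalgebra.toSubsemiring htop
  letI : Algebra κQ κ := j.toAlgebra
  haveI : Module.Finite κQ κ := hj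
  refine ⟨fun z => ?_⟩
  have hz : IsIntegral L z := (IsIntegral.of_finite κQ z).map_of_comp_eq j' (RingHom.id κ) (by rfl)
  haveI : Algebra.IsAlgebraic K₀ L := algebraicClosure.isAlgebraic K₀ κ
  exact (isIntegral_trans (R := K₀) (A := L) z hz).isAlgebraic

/-- Scheme form: all points are closed. -/
theorem isClosed_singleton_of_lqf {K₀ K₁ : Type u} [Field K₀] [Field K₁] {G : Scheme.{u}}
    (a : G ⟶ Spec (CommRingCat.of K₀)) [LocallyOfFiniteType a] (b : G ⟶ Spec (CommRingCat.of K₁))
    {P : Scheme.{u}} (h : G ⟶ P) [LocallyQuasiFinite h] (p₀ : P ⟶ Spec (CommRingCat.of K₀))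
    (p₁ : P ⟶ Spec (CommRingCat.of K₁)) (ha : h ≫ p₀ = a) (hb : h ≫ p₁ = b)
    (hmono : ∀ (T : Scheme.{u}) (f g : T ⟶ P), f ≫ p₀ = g ≫ p₀ → f ≫ p₁ = g ≫ p₁ → f = g) (z : ↥G) :
    IsClosed ({z} : Set ↥G) := by
  have key : ∀ W : G.Opens, IsAffineOpen W → z ∈ W → IsClosed (W.ι ⁻¹' ({z} : Set ↥G)) := by
    intro W hW hzW
    have : IsAffine W.toScheme := hW
    let A := Γ(W.toScheme, ⊤)
    let α : CommRingCat.of K₀ ⟶ A := Spec.preimage (W.toScheme.isoSpec.inv ≫ W.ι ≫ a)
    let β : CommRingCat.of K₁ ⟶ A := Spec.preimage (W.toScheme.isoSpec.inv ≫ W.ι ≫ b)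
    letI : Algebra K₀ A := α.hom.toAlgebra
    have : LocallyOfFiniteType (Spec.map α) := by
      rw [Spec.map_preimage]
      infer_instance
    have : Algebra.FiniteType K₀ A := (HasRingHomProperty.Spec_iff (P := @LocallyOfFiniteType)).1 this
    let w : ↥(Spec A) := W.toScheme.isoSpec.hom ⟨z, hzW⟩
    let κ : Type u := w.asIdeal.ResidueField
    let φ : Spec (CommRingCat.of κ) ⟶ G :=
      Spec.map (CommRingCat.ofHom (algebraMap (A : Type u) κ)) ≫ W.toScheme.isoSpec.inv ≫ W.ι
    let ψ := φ ≫ h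
    let Q := ψ (IsLocalRing.closedPoint κ)
    obtain ⟨j, hj⟩ : ∃ j : P.residueField Q ⟶ CommRingCat.of κ, Spec.map j ≫ P.fromSpecResidueField Q = ψ :=
      ⟨_, Scheme.descResidueField_stalkClosedPointTo_fromSpecResidueField _ _ ψ⟩
    haveI : LocallyQuasiFinite (Spec.map (CommRingCat.ofHom (algebraMap (A : Type u) κ))) :=
      (HasRingHomProperty.Spec_iff (P := @LocallyQuasiFinite)).2
        (RingHom.quasiFinite_algebraMap.2 inferInstance)
    haveI : LocallyQuasiFinite (Spec.map j ≫ P.fromSpecResidueField Q) := hj ▸ inferInstanceAs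
      (LocallyQuasiFinite ((Spec.map (CommRingCat.ofHom (algebraMap (A : Type u) κ)) ≫ W.toScheme.isoSpec.inv ≫ W.ι) ≫ h))
    haveI : LocallyQuasiFinite (Spec.map j) := LocallyQuasiFinite.of_comp _ (P.fromSpecResidueField Q)
    have hjf : j.hom.Finite := (IsFinite.SpecMap_iff j).1 (IsFinite.of_locallyQuasiFinite (Spec.map j))
    let i₀ := Spec.preimage (P.fromSpecResidueField Q ≫ p₀)
    let i₁ := Spec.preimage (P.fromSpecResidueField Q ≫ p₁)
    have hi₀ : i₀ ≫ j = α ≫ CommRingCat.ofHom (algebraMap (A : Type u) κ) := Spec.map_injective (by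
      rw [Spec.map_comp, Spec.map_comp, Spec.map_preimage, Spec.map_preimage, reassoc_of% hj]
      simp only [ψ, φ, Category.assoc, ha])
    have hi₁ : i₁ ≫ j = β ≫ CommRingCat.ofHom (algebraMap (A : Type u) κ) := Spec.map_injective (by
      rw [Spec.map_comp, Spec.map_comp, Spec.map_preimage, Spec.map_preimage, reassoc_of% hj]
      simp only [ψ, φ, Category.assoc, hb])
    have halg : Algebra.IsAlgebraic K₀ κ := by
      refine isAlgebraic_residue j.hom hjf i₀.hom ?_ i₁.hom (fun x => ?_) ?_
      · rw [← CommRingCat.hom_comp, hi₀]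
        rfl
      · rw [← RingHom.comp_apply, ← CommRingCat.hom_comp, hi₁]
        exact (isIntegral_of_field_hom (K₀ := K₀) β.hom x).map (IsScalarTower.toAlgHom K₀ (A : Type u) κ)
      · intro T _ f g h0 h1
        have e0 : i₀ ≫ CommRingCat.ofHom f = i₀ ≫ CommRingCat.ofHom g := CommRingCat.hom_ext h0
        have e1 : i₁ ≫ CommRingCat.ofHom f = i₁ ≫ CommRingCat.ofHom g := CommRingCat.hom_ext h1
        have := hmono _ (Spec.map (CommRingCat.ofHom f) ≫ P.fromSpecResidueField Q)
          (Spec.map (CommRingCat.ofHom g) ≫ P.fromSpecResidueField Q)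
          (by
            simp only [Category.assoc]
            rw [← Spec.map_preimage (P.fromSpecResidueField Q ≫ p₀), ← Spec.map_comp, ← Spec.map_comp]
            exact congrArg Spec.map e0)
          (by
            simp only [Category.assoc]
            rw [← Spec.map_preimage (P.fromSpecResidueField Q ≫ p₁), ← Spec.map_comp, ← Spec.map_comp]
            exact congrArg Spec.map e1)
        rw [cancel_mono] at this
        exact congrArg CommRingCat.Hom.hom (Spec.map_injective this)
    have hmax : w.asIdeal.IsMaximal := by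
      have : Algebra.IsIntegral K₀ ((A : Type u) ⧸ w.asIdeal) := ⟨fun v =>
        (isIntegral_algHom_iff (IsScalarTower.toAlgHom K₀ ((A : Type u) ⧸ w.asIdeal) κ)
          w.asIdeal.injective_algebraMap_quotient_residueField).1 (halg.isAlgebraic _).isIntegral⟩
      exact Ideal.Quotient.maximal_of_isField _ (isField_of_isIntegral_of_isField' (Field.toIsField K₀))
    have hw : IsClosed ({w} : Set ↥(Spec A)) := (PrimeSpectrum.isClosed_singleton_iff_isMaximal w).2 hmax
    have e : W.ι ⁻¹' ({z} : Set ↥G) = W.toScheme.isoSpec.hom ⁻¹' ({w} : Set ↥(Spec A)) := by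
      ext y
      constructor
      · intro hy
        have : y = ⟨z, hzW⟩ := Subtype.ext hy
        subst this
        rfl
      · intro hy
        have := W.toScheme.isoSpec.hom.isOpenEmbedding.injective hy
        subst this
        rfl
    rw [e]
    exact hw.preimage W.toScheme.isoSpec.hom.continuous
  rw [← isOpen_compl_iff, isOpen_iff_forall_mem_open]
  intro y hy
  obtain ⟨W, hW, hyW, -⟩ := exists_isAffineOpen_mem_and_subset (x := y) (U := ⊤) trivial
  by_cases hzW : z ∈ W
  · refine ⟨W.ι '' (W.ι ⁻¹' ({z} : Set ↥G))ᶜ, ?_, W.ι.isOpenEmbedding.isOpenMap _ (key W hW hzW).isOpen_compl,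
      ⟨y, hyW⟩, hy, rfl⟩
    rintro _ ⟨v, hv, rfl⟩
    exact hv
  · exact ⟨W, fun v hv e => hzW (e ▸ hv), W.isOpen, hyW⟩


theorem lqf_lift_right {A B U U' V : Scheme.{u}} (q : V ⟶ A) (g : V ⟶ U) (ξ : A ⟶ B) (π : U ⟶ B)
    (w : q ≫ ξ = g ≫ π) (x : U' ⟶ U) (hqf : LocallyQuasiFinite (pullback.lift q g w))
    (w' : (pullback.fst g x ≫ q) ≫ ξ = pullback.snd g x ≫ x ≫ π) :
    LocallyQuasiFinite (pullback.lift (pullback.fst g x ≫ q) (pullback.snd g x) w') := by
  let m : pullback ξ (x ≫ π) ⟶ pullback ξ π :=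
    pullback.lift (pullback.fst _ _) (pullback.snd _ _ ≫ x) (by rw [Category.assoc]; exact pullback.condition)
  have sq1 : IsPullback m (pullback.snd ξ (x ≫ π)) (pullback.snd ξ π) x :=
    IsPullback.of_right (by rw [pullback.lift_fst]; exact IsPullback.of_hasPullback ξ (x ≫ π))
      (pullback.lift_snd _ _ _) (IsPullback.of_hasPullback ξ π)
  have sq : IsPullback (pullback.lift (pullback.fst g x ≫ q) (pullback.snd g x) w') (pullback.fst g x)
      m (pullback.lift q g w) :=
    (IsPullback.of_bot (h₁₁ := pullback.fst g x)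
      (by rw [pullback.lift_snd, pullback.lift_snd]; exact IsPullback.of_hasPullback g x)
      (by apply pullback.hom_ext <;> simp [m, pullback.condition]) sq1).flip
  exact MorphismProperty.of_isPullback (P := @LocallyQuasiFinite) sq.flip hqf

theorem lqf_lift_left {A B U V : Scheme.{u}} (s t : V ⟶ U) (π : U ⟶ B) (w : s ≫ π = t ≫ π) (x : A ⟶ U)
    (hqf : LocallyQuasiFinite (pullback.lift s t w))
    (w' : pullback.fst x s ≫ x ≫ π = (pullback.snd x s ≫ t) ≫ π) :
    LocallyQuasiFinite (pullback.lift (pullback.fst x s) (pullback.snd x s ≫ t) w') := by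
  let m : pullback (x ≫ π) π ⟶ pullback π π :=
    pullback.lift (pullback.fst _ _ ≫ x) (pullback.snd _ _) (by rw [Category.assoc]; exact pullback.condition)
  have sq1 : IsPullback m (pullback.fst (x ≫ π) π) (pullback.fst π π) x :=
    IsPullback.of_right (by rw [pullback.lift_snd]; exact (IsPullback.of_hasPullback (x ≫ π) π).flip)
      (pullback.lift_fst _ _ _) (IsPullback.of_hasPullback π π).flip
  have sq : IsPullback (pullback.snd x s) (pullback.lift (pullback.fst x s) (pullback.snd x s ≫ t) w')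
      (pullback.lift s t w) m :=
    IsPullback.of_bot (by rw [pullback.lift_fst, pullback.lift_fst]; exact (IsPullback.of_hasPullback x s).flip)
      (by apply pullback.hom_ext <;> simp [m, pullback.condition]) sq1
  exact MorphismProperty.of_isPullback (P := @LocallyQuasiFinite) sq hqf

section Cut

variable {K : Type u} [Field K] {V U : Scheme.{u}} (q : V ⟶ Spec (CommRingCat.of K))
  [LocallyOfFiniteType q] (g : V ⟶ U) [LocallyOfFiniteType g]

/-- For a scheme of finite type over a field mapping monomorphically to the product with `U`, a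
closed point has no generisations in its fibre over `U`. -/
theorem eq_of_specializes_of_fibre
    {B : Scheme.{u}} (ξ : Spec (CommRingCat.of K) ⟶ B) (π : U ⟶ B) (w : q ≫ ξ = g ≫ π)
    (hqf : LocallyQuasiFinite (pullback.lift q g w))
    {r : ↥V} (hr : IsClosed ({r} : Set ↥V)) {y : ↥V} (h : y ⤳ r) (e : g y = g r) : y = r := by
  have : IsClosedImmersion (V.fromSpecResidueField r) :=
    IsClosedImmersion.of_isPreimmersion _ (by rw [Scheme.range_fromSpecResidueField]; exact hr)
  let φ := Spec.map (g.residueFieldMap r)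
  let x₁ := V.fromSpecResidueField r ≫ g
  have hx₁ : φ ≫ U.fromSpecResidueField (g r) = x₁ :=
    Scheme.Hom.SpecMap_residueFieldMap_fromSpecResidueField g r
  have : Flat φ := Flat.SpecMap_iff.2 (RingHom.Flat.of_isField (Field.toIsField _) _)
  let h' : pullback g x₁ ⟶ g.fiber (g r) :=
    pullback.map g x₁ g (U.fromSpecResidueField (g r)) (𝟙 _) φ (𝟙 _) (by simp) (by simp [hx₁])
  have sq : IsPullback h' (pullback.snd g x₁) (pullback.snd g (U.fromSpecResidueField (g r))) φ :=
    IsPullback.of_right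
      (by
        rw [show h' ≫ pullback.fst g (U.fromSpecResidueField (g r)) = pullback.fst g x₁ from
          (pullback.lift_fst _ _ _).trans (Category.comp_id _), hx₁]
        exact IsPullback.of_hasPullback g x₁)
      (pullback.lift_snd _ _ _) (IsPullback.of_hasPullback g (U.fromSpecResidueField (g r)))
  have hfl : Flat h' := MorphismProperty.of_isPullback (P := @Flat) sq.flip ‹_›
  have hh' : h' ≫ g.fiberι (g r) = pullback.fst g x₁ :=
    (pullback.lift_fst _ _ _).trans (Category.comp_id _)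
  obtain ⟨γ, hγ, -⟩ := Scheme.Pullback.exists_preimage_pullback (f := g) (g := x₁) r
    (default : ↥(Spec (V.residueField r))) (by
      change g r = (V.fromSpecResidueField r ≫ g) default
      rw [Scheme.Hom.comp_apply, Scheme.fromSpecResidueField_apply])
  obtain ⟨y', hy'⟩ : y ∈ Set.range (g.fiberι (g r)) := by
    rw [Scheme.Hom.range_fiberι]
    exact e
  have hι : g.fiberι (g r) (h' γ) = r := by
    rw [← Scheme.Hom.comp_apply, hh', hγ]
  have hsp : y' ⤳ h' γ := (g.fiberι (g r)).isEmbedding.isInducing.specializes_iff.1 (by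
    rw [hy', hι]; exact h)
  obtain ⟨γ', hγ', hγy⟩ := Flat.generalizingMap h' hsp
  have wG : (pullback.fst g x₁ ≫ q) ≫ ξ = pullback.snd g x₁ ≫ x₁ ≫ π := by
    rw [Category.assoc, w, reassoc_of% pullback.condition]
  haveI : LocallyQuasiFinite (pullback.lift (pullback.fst g x₁ ≫ q) (pullback.snd g x₁) wG) :=
    lqf_lift_right q g ξ π w x₁ hqf wG
  have hG : IsClosed ({γ'} : Set ↥(pullback g x₁)) :=
    isClosed_singleton_of_lqf (K₁ := ↥(V.residueField r)) (pullback.fst g x₁ ≫ q) (pullback.snd g x₁)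
      (pullback.lift (pullback.fst g x₁ ≫ q) (pullback.snd g x₁) wG) (pullback.fst _ _) (pullback.snd _ _)
      (pullback.lift_fst _ _ _) (pullback.lift_snd _ _ _) (fun T a b ea eb => pullback.hom_ext ea eb) γ'
  have : γ = γ' := hγ'.mem_closed hG (Set.mem_singleton _)
  subst this
  rw [← hy', ← hγy, hι]

/-- There are a closed point and functions on `U` cutting out this point, forming a weakly regular
sequence in its local ring. -/
theorem exists_cut
    {B : Scheme.{u}} (ξ : Spec (CommRingCat.of K) ⟶ B) (π : U ⟶ B) (w : q ≫ ξ = g ≫ π)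
    (hqf : LocallyQuasiFinite (pullback.lift q g w)) [Nonempty V] :
    ∃ (r : ↥V) (W : U.Opens) (hW : IsAffineOpen W) (hr : g r ∈ W) (os : List Γ(U, W)),
      IsClosed ({r} : Set ↥V) ∧ (∀ o ∈ os, o ∈ (hW.primeIdealOf ⟨g r, hr⟩).asIdeal) ∧
      IsWeaklyRegular (V.presheaf.stalk r)
        (os.map (U.presheaf.germ W (g r) hr ≫ g.stalkMap r).hom) ∧
      ∀ y : ↥V, y ⤳ r → ∀ p : ↥(Spec Γ(U, W)), hW.fromSpec p = g y →
        (∀ o ∈ os, o ∈ p.asIdeal) → y = r := by
  obtain ⟨r, hrc, hcm⟩ := Groth.Agent.S5385.result K V q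
  obtain ⟨_, ⟨W, hW, rfl⟩, hr, -⟩ :=
    U.isBasis_affineOpens.exists_subset_of_mem_open (Set.mem_univ (g r)) isOpen_univ
  let φ := U.presheaf.germ W (g r) hr ≫ g.stalkMap r
  let A := V.presheaf.stalk r
  have hkey : V.fromSpecStalk r ≫ g = Spec.map φ ≫ hW.fromSpec := by
    rw [← Scheme.SpecMap_stalkMap_fromSpecStalk, ← hW.fromSpecStalk_eq_fromSpecStalk hr,
      IsAffineOpen.fromSpecStalk, Spec.map_comp, Category.assoc]
  have hnoeth : IsNoetherianRing A := by have := hcm; exact inferInstance
  have hinj := (V.fromSpecStalk r).isEmbedding.injective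
  have hcl : V.fromSpecStalk r (closedPoint A) = r := Scheme.fromSpecStalk_closedPoint
  let I : Ideal Γ(U, W) := (maximalIdeal A).comap φ.hom
  have hIeq : hW.primeIdealOf ⟨g r, hr⟩ = Spec.map φ (closedPoint A) := by
    apply hW.fromSpec.isOpenEmbedding.injective
    rw [hW.fromSpec_primeIdealOf, ← Scheme.Hom.comp_apply, ← hkey, Scheme.Hom.comp_apply, hcl]
  have hI : maximalIdeal A ≤ (I.map φ.hom).radical := by
    rw [Ideal.radical_eq_sInf]
    refine le_sInf fun P ⟨hP, hPp⟩ => ?_
    let pP : ↥(Spec (CommRingCat.of A)) := ⟨P, hPp⟩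
    have h1 : Spec.map φ pP = Spec.map φ (closedPoint A) := PrimeSpectrum.ext
      (le_antisymm (Ideal.comap_mono (le_maximalIdeal hPp.ne_top)) (Ideal.map_le_iff_le_comap.1 hP))
    have h2 : V.fromSpecStalk r pP ⤳ r := by
      have := (IsLocalRing.specializes_closedPoint pP).map (V.fromSpecStalk r).continuous
      rwa [hcl] at this
    have h3 : g (V.fromSpecStalk r pP) = g r := by
      rw [← Scheme.Hom.comp_apply, hkey, Scheme.Hom.comp_apply, h1, ← Scheme.Hom.comp_apply, ← hkey,
        Scheme.Hom.comp_apply, hcl]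
    have h4 : pP = closedPoint A := hinj ((eq_of_specializes_of_fibre q g ξ π w hqf hrc h2 h3).trans hcl.symm)
    exact (congrArg PrimeSpectrum.asIdeal h4).ge
  obtain ⟨n, hn⟩ := EGA4Alg4.exists_supportDim_eq (A := A) (M := A)
  obtain ⟨os, hos, hreg, h0⟩ := exists_regularSeq_of_radical φ.hom I hI (fun o ho => ho) n hcm.supportDim_eq_depth hn
  refine ⟨r, W, hW, hr, os, hrc, fun o ho => ?_, hreg, fun y hy p hp hpo => ?_⟩
  · rw [hIeq]
    exact hos o ho
  · obtain ⟨pP, rfl⟩ : y ∈ Set.range (V.fromSpecStalk r) := by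
      rw [Scheme.range_fromSpecStalk]; exact hy
    have h1 : p = Spec.map φ pP := hW.fromSpec.isOpenEmbedding.injective (by
      rw [hp, ← Scheme.Hom.comp_apply, hkey, Scheme.Hom.comp_apply])
    let J : Ideal A := Ideal.ofList (os.map φ.hom)
    have hJ : J ≤ pP.asIdeal := Ideal.span_le.2 fun a ha => by
      obtain ⟨o, ho, rfl⟩ := List.mem_map.1 ha
      have := hpo o ho
      rw [h1] at this
      exact this
    rw [Ideal.smul_eq_mul, Ideal.mul_top, Module.supportDim_quotient_eq_ringKrullDim] at h0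
    have : Ring.KrullDimLE 0 (A ⧸ J) := Ring.krullDimLE_iff.2 h0.le
    have : (pP.asIdeal.map (Ideal.Quotient.mk J)).IsPrime :=
      Ideal.map_isPrime_of_surjective Ideal.Quotient.mk_surjective (by rwa [Ideal.mk_ker])
    have hmax : (pP.asIdeal.map (Ideal.Quotient.mk J)).IsMaximal := Ideal.isMaximal_of_isPrime _
    have := Ideal.comap_isMaximal_of_surjective (Ideal.Quotient.mk J) Ideal.Quotient.mk_surjective
      (K := pP.asIdeal.map (Ideal.Quotient.mk J))
    rw [Ideal.comap_map_of_surjective _ Ideal.Quotient.mk_surjective, ← RingHom.ker_eq_comap_bot,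
      Ideal.mk_ker, sup_eq_left.2 hJ] at this
    have h2 : pP = closedPoint A := PrimeSpectrum.ext (eq_maximalIdeal this)
    rw [h2, hcl]

end Cut

set_option maxHeartbeats 800000 in
/-- For jointly monomorphic `s, t : R ⟶ U` with `s` flat, locally of finite presentation, a point of
finite type in the image of `s` is covered by the flat quasi-finite locus of a slice. -/
theorem exists_slice {K : Type u} [Field K] {R U : Scheme.{u}} (s t : R ⟶ U) [Flat s]
    [LocallyOfFinitePresentation s] [LocallyOfFiniteType t]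
    {B : Scheme.{u}} (π : U ⟶ B) (w : s ≫ π = t ≫ π) (hqf : LocallyQuasiFinite (pullback.lift s t w))
    (x₀ : Spec (CommRingCat.of K) ⟶ U) [LocallyOfFiniteType x₀] [Nonempty ↥(pullback x₀ s)] :
    ∃ (Z : Scheme.{u}) (i : Z ⟶ U) (_ : LocallyOfFinitePresentation i) (z : ↥(pullback i t)),
      (pullback.snd i t ≫ s) z ∈ Set.range x₀ ∧
      ((pullback.snd i t ≫ s).stalkMap z).hom.Flat ∧ (pullback.snd i t ≫ s).QuasiFiniteAt z := by
  let q := pullback.fst x₀ s
  let g := pullback.snd x₀ s ≫ t
  have wV : q ≫ x₀ ≫ π = g ≫ π := by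
    simp only [q, g, Category.assoc]
    rw [reassoc_of% pullback.condition, w]
  have hqfV : LocallyQuasiFinite (pullback.lift q g wV) := lqf_lift_left s t π w x₀ hqf wV
  obtain ⟨r, W, hW, hr, os, hrc, hos, hreg, hcut⟩ := exists_cut q g (x₀ ≫ π) π wV hqfV
  let mkO : Γ(U, W) ⟶ CommRingCat.of (Γ(U, W) ⧸ Ideal.ofList os) :=
    CommRingCat.ofHom (Ideal.Quotient.mk (Ideal.ofList os))
  have hfg : (RingHom.ker (Ideal.Quotient.mk (Ideal.ofList os))).FG := by
    classical
    rw [Ideal.mk_ker]
    exact ⟨os.toFinset, congrArg Ideal.span (Set.ext fun x => List.mem_toFinset)⟩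
  have : IsClosedImmersion (Spec.map mkO) :=
    IsClosedImmersion.spec_of_surjective _ Ideal.Quotient.mk_surjective
  have : LocallyOfFinitePresentation (Spec.map mkO) :=
    (HasRingHomProperty.Spec_iff (P := @LocallyOfFinitePresentation)).2
      (RingHom.FinitePresentation.of_surjective _ Ideal.Quotient.mk_surjective hfg)
  let i := Spec.map mkO ≫ hW.fromSpec
  have : IsPreimmersion (pullback.snd i g) :=
    MorphismProperty.pullback_snd (P := @IsPreimmersion) i g inferInstance
  obtain ⟨pz, hpz⟩ : hW.primeIdealOf ⟨g r, hr⟩ ∈ Set.range (Spec.map mkO) := by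
    refine (range_comap_of_surjective _ mkO.hom Ideal.Quotient.mk_surjective).ge ?_
    rw [PrimeSpectrum.mem_zeroLocus, SetLike.coe_subset_coe]
    change RingHom.ker (Ideal.Quotient.mk _) ≤ _
    rw [Ideal.mk_ker]
    exact Ideal.span_le.2 fun o ho => hos o ho
  obtain ⟨z₀, -, hz₀⟩ := Scheme.Pullback.exists_preimage_pullback (f := i) (g := g) pz r (by
    change (Spec.map mkO ≫ hW.fromSpec) pz = g r
    rw [Scheme.Hom.comp_apply, hpz, hW.fromSpec_primeIdealOf])
  let gP : pullback i g ⟶ pullback i t :=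
    pullback.lift (pullback.fst i g) (pullback.snd i g ≫ pullback.snd x₀ s)
      (by rw [Category.assoc]; exact pullback.condition)
  have hsnd : gP ≫ pullback.snd i t = pullback.snd i g ≫ pullback.snd x₀ s := pullback.lift_snd _ _ _
  have hz : pullback.snd i t (gP z₀) = pullback.snd x₀ s r := by
    rw [← Scheme.Hom.comp_apply, hsnd, Scheme.Hom.comp_apply, hz₀]
  refine ⟨_, i, inferInstance, gP z₀, ⟨q r, ?_⟩, flat_slice_point s t x₀ r hW hr os hreg _ hz, ?_⟩
  · rw [Scheme.Hom.comp_apply, hz, ← Scheme.Hom.comp_apply, ← Scheme.Hom.comp_apply, pullback.condition]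
  have sq : IsPullback gP (pullback.snd i g ≫ q) (pullback.snd i t ≫ s) x₀ :=
    IsPullback.paste_vert
      (IsPullback.of_right (by rw [show gP ≫ pullback.fst i t = pullback.fst i g from pullback.lift_fst _ _ _]
                               exact IsPullback.of_hasPullback i g) hsnd (IsPullback.of_hasPullback i t))
      (IsPullback.of_hasPullback x₀ s).flip
  have hqf : (pullback.snd i g ≫ q).QuasiFiniteAt z₀ := by
    let f' := pullback.snd i g ≫ q
    have hinj := (pullback.snd i g).isEmbedding.injective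
    have hclosed : IsClosed ({z₀} : Set ↥(pullback i g)) := by
      have : ({z₀} : Set ↥(pullback i g)) = pullback.snd i g ⁻¹' {r} :=
        Set.ext fun w => ⟨fun h => (congrArg _ h).trans hz₀, fun h => hinj (h.trans hz₀.symm)⟩
      rw [this]
      exact hrc.preimage (pullback.snd i g).continuous
    have hgen : ∀ w : ↥(pullback i g), w ⤳ z₀ → w = z₀ := by
      intro w hw
      have h1 : pullback.snd i g w ⤳ r := hz₀ ▸ hw.map (pullback.snd i g).continuous
      refine hinj ((hcut _ h1 (Spec.map mkO (pullback.fst i g w)) ?_ fun o ho => ?_).trans hz₀.symm)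
      · rw [← Scheme.Hom.comp_apply, ← Scheme.Hom.comp_apply, pullback.condition, Scheme.Hom.comp_apply]
      · change mkO.hom o ∈ (pullback.fst i g w).asIdeal
        rw [show mkO.hom o = 0 from Ideal.Quotient.eq_zero_iff_mem.2 (Ideal.subset_span ho)]
        exact Ideal.zero_mem _
    refine (Groth.Agent.S9334.result f' z₀).2 ⟨?_, fun x' hx' => ?_⟩
    · have : ({f'.asFiber z₀} : Set _) = f'.fiberι (f' z₀) ⁻¹' {z₀} := Set.ext fun w => ⟨fun h =>
        (congrArg _ h).trans (Scheme.Hom.fiberι_asFiber f' z₀), fun h =>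
        (f'.fiberι _).isEmbedding.injective (h.trans (Scheme.Hom.fiberι_asFiber f' z₀).symm)⟩
      rw [this]
      exact hclosed.preimage (f'.fiberι (f' z₀)).continuous
    · refine (f'.fiberι _).isEmbedding.injective ((hgen _ ?_).trans (Scheme.Hom.fiberι_asFiber f' z₀).symm)
      exact (hx'.map (f'.fiberι _).continuous).trans (specializes_of_eq (Scheme.Hom.fiberι_asFiber f' z₀))
  exact (Set.ext_iff.1 (Groth.Agent.S9389.result _ x₀ gP (pullback.snd i g ≫ q) sq) z₀).1 hqf

end Groth.Agent.AlgSt88.SliceLqf
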