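import Groth.Agent.AlgSt88.LqfChart
import Groth.Agent.AlgSt88.SliceLqf
import Groth.Agent.SpPts86.SliceLocus
import Groth.Agent.SpPts86.CovSigma

/-! Flat quasi-finite slices of a smooth chart of a quasi-DM stack. -/

set_option autoImplicit false
set_option maxHeartbeats 1000000
set_option linter.style.haveILetI false
set_option backward.isDefEq.respectTransparency false
set_option backward.isDefEq.respectTransparency.types false
universe u

open CategoryTheory CategoryTheory.Limits AlgebraicGeometry Opposite AlgSt FibCat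

namespace Groth.Agent.AlgSt88

open SpPts86 (FlatQFAt)

variable {S : Scheme.{u}} {𝒳 : AlgSt.Cat S}
  (h𝒳 : IsAlgStack Scheme.fppfPrecoverage 𝒳) {U R : Over S} (y : ofSch U ⥤ᵇ 𝒳) {s t : R ⟶ U}
  (Φ : ofSch R ⥤ᵇ fp y y) (hΦ : IsEquivOver Φ)
  (α₁ : BasedFunctor.comp Φ (fpFst y y) ≅ ofSpMap ((AlgSp.yon S).map s))
  (α₂ : BasedFunctor.comp Φ (fpSnd y y) ≅ ofSpMap ((AlgSp.yon S).map t))

include h𝒳 hΦ α₁ α₂ in
/-- The base change of a slice to the chart. -/
theorem exists_slice_chart {Z : Over S} (g : Z ⟶ U) :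
    ∃ E : ofSch (pullback g t) ⥤ᵇ fp y (BasedFunctor.comp (ofSpMap ((AlgSp.yon S).map g)) y),
      IsEquivOver E ∧
      Nonempty (BasedFunctor.comp E (fpFst _ _) ≅ ofSpMap ((AlgSp.yon S).map (pullback.snd g t ≫ s))) ∧
      Nonempty (BasedFunctor.comp E (fpSnd _ _) ≅ ofSpMap ((AlgSp.yon S).map (pullback.fst g t))) := by
  have hX := h𝒳.isStack.1
  have hU : IsFibGrpd (ofSch U).p := Stk.isFibGrpd_ofPsh _
  let w := BasedFunctor.comp (ofSpMap ((AlgSp.yon S).map g)) y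
  obtain ⟨F, a', e', he', ⟨α'⟩⟩ := exists_space_fp_chart hU hX (rep1_ofSch h𝒳 y) (spY Z) w
  obtain ⟨g₁, sq, ⟨c⟩⟩ := exists_bc y (V := spY U) (F := spY R) y (BasedFunctor.comp Φ (fpSwap y y))
    (isEquivOver_comp hΦ isEquivOver_fpSwap) ((AlgSp.yon S).map t) α₂ (ofSpMap ((AlgSp.yon S).map g))
    ((AlgSp.yon S).map g) (Iso.refl _) w (Iso.refl _) e' he' a' α'
  have sqY := (((IsPullback.of_hasPullback g t).flip).map (AlgSp.yon S))
  let j := sqY.isoIsPullback _ _ sq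
  have hj₁ : j.hom ≫ g₁ = (AlgSp.yon S).map (pullback.snd g t) := sqY.isoIsPullback_hom_fst _ _ _
  have hj₂ : j.hom ≫ a' = (AlgSp.yon S).map (pullback.fst g t) := sqY.isoIsPullback_hom_snd _ _ _
  let J := ofSpMap j.hom
  let E : ofSch (pullback g t) ⥤ᵇ fp y w := BasedFunctor.comp (BasedFunctor.comp J e') (fpSwap w y)
  have hE : IsEquivOver E :=
    isEquivOver_comp (isEquivOver_comp (isEquivOver_ofSpMap j.hom) he') isEquivOver_fpSwap
  have d₁ : BasedFunctor.comp e' (fpSnd w y) ≅ ofSpMap (g₁ ≫ (AlgSp.yon S).map s) :=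
    (bRight c (fpSnd y y)).symm ≪≫ bLeft (ofSpMap g₁) α₁ ≪≫
      Classical.choice ((nonempty_ofSpMap_comp g₁ ((AlgSp.yon S).map s)).map Iso.symm)
  obtain ⟨k₁⟩ := nonempty_ofSpMap_comp j.hom (g₁ ≫ (AlgSp.yon S).map s)
  rw [← Category.assoc, hj₁, ← Functor.map_comp] at k₁
  obtain ⟨k₂⟩ := nonempty_ofSpMap_comp j.hom a'
  rw [hj₂] at k₂
  exact ⟨E, hE, ⟨bLeft J d₁ ≪≫ k₁.symm⟩, ⟨bLeft J α' ≪≫ k₂.symm⟩⟩

include h𝒳 hΦ α₁ α₂ in
/-- The flat quasi-finite locus is saturated for the projection to the slice. -/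
theorem flatQFAt_saturated [Flat s.left] [LocallyOfFiniteType s.left] [Flat t.left]
    {Z : Over S} (g : Z ⟶ U) (hlft : LocallyOfFiniteType g.left) (τ₁ τ₂ : ↥(pullback g t).left)
    (hτ : (pullback.fst g t).left τ₁ = (pullback.fst g t).left τ₂)
    (h₁ : FlatQFAt (pullback.snd g t ≫ s).left τ₁) : FlatQFAt (pullback.snd g t ≫ s).left τ₂ := by
  have hX := h𝒳.isStack.1
  have hU : IsFibGrpd (ofSch U).p := Stk.isFibGrpd_ofPsh _
  have hZ : IsFibGrpd (ofSch Z).p := Stk.isFibGrpd_ofPsh _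
  let f := BasedFunctor.comp (ofSpMap ((AlgSp.yon S).map g)) y
  obtain ⟨e, he, ⟨α⟩, ⟨αZ⟩⟩ := exists_slice_chart h𝒳 y Φ hΦ α₁ α₂ g
  let P := pullback g t
  let φ : P ⟶ U := pullback.snd g t ≫ s
  haveI : LocallyOfFiniteType (pullback.snd g t).left :=
    MorphismProperty.of_isPullback (P := @LocallyOfFiniteType) ((IsPullback.of_hasPullback g t).map (Over.forget S)) hlft
  haveI hφ : LocallyOfFiniteType φ.left :=
    inferInstanceAs (LocallyOfFiniteType ((pullback.snd g t).left ≫ s.left))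
  let β₂ : BasedFunctor.comp (BasedFunctor.comp Φ (fpFst y y)) y ≅ BasedFunctor.comp (BasedFunctor.comp Φ (fpSnd y y)) y :=
    bLeft Φ (fpIso y y)
  let Φ₁ := BasedFunctor.comp Φ (fpFst y y)
  let Φ₂ := BasedFunctor.comp Φ (fpSnd y y)
  obtain ⟨F', a', e', he', ⟨α'⟩⟩ := exists_space_fp_chart hZ hX (rep1_ofSch h𝒳 f) (spY R) (BasedFunctor.comp Φ₁ y)
  obtain ⟨g₁, sq₁, ⟨c₁⟩⟩ := exists_bc f (V := spY U) (F := spY P) y e he ((AlgSp.yon S).map φ) α Φ₁
    ((AlgSp.yon S).map s) α₁ (BasedFunctor.comp Φ₁ y) (Iso.refl _) e' he' a' α'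
  obtain ⟨g₂, sq₂, ⟨c₂⟩⟩ := exists_bc f (V := spY U) (F := spY P) y e he ((AlgSp.yon S).map φ) α Φ₂
    ((AlgSp.yon S).map t) α₂ (BasedFunctor.comp Φ₁ y) β₂ e' he' a' α'
  -- the double base change is a scheme
  have sqS₁ := IsPullback.of_hasPullback φ s
  let Q := pullback φ s
  let j := (sqS₁.map (AlgSp.yon S)).isoIsPullback _ _ sq₁
  obtain ⟨q₂, hq₂⟩ := (AlgSp.yon S).map_surjective (j.hom ≫ g₂)
  have hj₁ : j.hom ≫ g₁ = (AlgSp.yon S).map (pullback.fst φ s) := (sqS₁.map (AlgSp.yon S)).isoIsPullback_hom_fst _ _ _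
  have hj₂ : j.hom ≫ a' = (AlgSp.yon S).map (pullback.snd φ s) := (sqS₁.map (AlgSp.yon S)).isoIsPullback_hom_snd _ _ _
  have sqS₂ : IsPullback q₂ (pullback.snd φ s) φ t := by
    have h : IsPullback ((AlgSp.yon S).map q₂) ((AlgSp.yon S).map (pullback.snd φ s)) ((AlgSp.yon S).map φ)
        ((AlgSp.yon S).map t) :=
      IsPullback.of_iso sq₂ j.symm (Iso.refl _) (Iso.refl _) (Iso.refl _) (by simp [hq₂]) (by simp [← hj₂])
        (by simp) (by simp)
    exact IsPullback.of_map (AlgSp.yon S) ((AlgSp.yon S).map_injective (by simpa using h.w)) h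
  -- a point over the pair
  obtain ⟨v, hv₁, hv₂⟩ : ∃ v : ↥Q.left, (pullback.fst φ s).left v = τ₁ ∧ q₂.left v = τ₂ := by
    let p₁ := AlgSp.Points.ofScheme P τ₁
    let p₂ := AlgSp.Points.ofScheme P τ₂
    obtain ⟨z, hz₁, hz₂⟩ := exists_pair_point hZ hU hX f y (Points.map e (stPt _ p₁)) (Points.map e (stPt _ p₂)) (by
      have key : ∀ x, Points.map (fpSnd y f) (Points.map e (stPt _ x)) =
          stPt _ (AlgSp.Points.map ((AlgSp.yon S).map (pullback.fst g t)) x) := fun x =>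
        (points_map_comp e (fpSnd y f) _).symm.trans ((points_map_congr αZ _).trans (stPt_natural _ x))
      rw [key, key, map_yon_ofScheme, map_yon_ofScheme, hτ])
    obtain ⟨z', rfl⟩ := (points_map_bijective
      (isEquivOver_fpMapFst (BasedFunctor.comp (fpFst y y) y) f Φ hΦ)).2 z
    obtain ⟨v, rfl⟩ := (points_map_bijective he').2 z'
    obtain ⟨r, rfl⟩ := stPt_bijective.2 v
    let M := fpMapFst (BasedFunctor.comp (fpFst y y) y) f Φ
    have σ₁ : BasedFunctor.comp (fpCongr (Iso.refl (BasedFunctor.comp Φ₁ y)) (Iso.refl f)) (fpMapFst y f Φ₁) ≅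
        BasedFunctor.comp M (fpMapFst y f (fpFst y y)) :=
      fpNatIso (Φ := BasedFunctor.comp (fpCongr (Iso.refl (BasedFunctor.comp Φ₁ y)) (Iso.refl f)) (fpMapFst y f Φ₁))
        (Ψ := BasedFunctor.comp M (fpMapFst y f (fpFst y y))) (Iso.refl _) (Iso.refl _) (fun x => by
          change y.map (𝟙 _) ≫ x.obj.iso.hom = (𝟙 _ ≫ x.obj.iso.hom ≫ 𝟙 _) ≫ f.map (𝟙 _)
          rw [map_id', map_id']
          simp)
    have σ₂ : BasedFunctor.comp (fpCongr β₂ (Iso.refl f)) (fpMapFst y f Φ₂) ≅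
        BasedFunctor.comp (BasedFunctor.comp M (fpCongr (fpIso y y) (Iso.refl f))) (fpMapFst y f (fpSnd y y)) :=
      fpNatIso (Φ := BasedFunctor.comp (fpCongr β₂ (Iso.refl f)) (fpMapFst y f Φ₂))
        (Ψ := BasedFunctor.comp (BasedFunctor.comp M (fpCongr (fpIso y y) (Iso.refl f))) (fpMapFst y f (fpSnd y y)))
        (Iso.refl _) (Iso.refl _) (fun x => by
          change y.map (𝟙 _) ≫ ((Φ.obj x.obj.fst).obj.iso.inv ≫ x.obj.iso.hom ≫ 𝟙 _) =
            ((Φ.obj x.obj.fst).obj.iso.inv ≫ x.obj.iso.hom ≫ 𝟙 _) ≫ f.map (𝟙 _)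
          rw [map_id', map_id']
          simp)
    have e₁' : AlgSp.Points.map g₁ r = p₁ := stPt_bijective.1 ((points_map_bijective he).1 (by
      rw [← stPt_natural g₁, ← points_map_comp, points_map_congr (c₁ ≪≫ bLeft e' σ₁), points_map_comp,
        points_map_comp]
      exact hz₁))
    have e₂' : AlgSp.Points.map g₂ r = p₂ := stPt_bijective.1 ((points_map_bijective he).1 (by
      rw [← stPt_natural g₂, ← points_map_comp, points_map_congr (c₂ ≪≫ bLeft e' σ₂), points_map_comp,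
        points_map_comp, points_map_comp]
      exact hz₂))
    obtain ⟨r', rfl⟩ : ∃ r', AlgSp.Points.map j.hom r' = r := ⟨AlgSp.Points.map j.inv r, by
      rw [← AlgSp.Points.map_comp, Iso.inv_hom_id, AlgSp.Points.map_id]⟩
    obtain ⟨v, rfl⟩ := (AlgSp.Points.schemeHomeo Q).surjective r'
    rw [← AlgSp.Points.map_comp, hj₁] at e₁'
    rw [← AlgSp.Points.map_comp, ← hq₂] at e₂'
    exact ⟨v, (AlgSp.Points.schemeHomeo P).injective ((map_yon_ofScheme _ v).symm.trans e₁'),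
      (AlgSp.Points.schemeHomeo P).injective ((map_yon_ofScheme _ v).symm.trans e₂')⟩
  rw [← hv₂]
  haveI : Flat ((Over.forget S).map t) := ‹Flat t.left›
  haveI : Flat ((Over.forget S).map s) := ‹Flat s.left›
  haveI : LocallyOfFiniteType ((Over.forget S).map φ) := hφ
  exact (SpPts86.flatQFAt_of_isPullback (sqS₂.map (Over.forget S)) v).1
    ((SpPts86.flatQFAt_of_isPullback (sqS₁.map (Over.forget S)) v).2 (hv₁.symm ▸ h₁))

end Groth.Agent.AlgSt88
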