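import Groth.Agent.AlgSt88.CatModuliLocal
import Groth.Agent.AlgSt88.SpQProps
import Groth.Agent.AlgSt88.FpSpace
import Groth.Agent.AlgSt88.SepQs
import Groth.Agent.SpFP87.RedInduced
import Groth.Agent.SpFP87.FpqcMono

/-! Categorical moduli spaces of reduced stacks are reduced. -/

set_option autoImplicit false
set_option maxHeartbeats 1000000
set_option linter.style.haveILetI false
set_option linter.unusedVariables false
set_option backward.isDefEq.respectTransparency false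
set_option backward.isDefEq.respectTransparency.types false
universe u

open CategoryTheory CategoryTheory.Limits AlgebraicGeometry Opposite AlgSt FibCat

namespace Groth.Agent.AlgSt88

variable {S : Scheme.{u}} {𝒳 : AlgSt.Cat S} {M Z : AlgSp.Sp S}

/-- The section of the image of an object. -/
def objSec (π : 𝒳 ⥤ᵇ ofSp M) (a : 𝒳.obj) : M.obj.obj (op (𝒳.p.obj a)) :=
  M.obj.map (eqToHom (π.w_obj a).symm).op (π.obj a).sec

theorem objSec_natural (π : 𝒳 ⥤ᵇ ofSp M) {a b : 𝒳.obj} (f : a ⟶ b) :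
    M.obj.map (𝒳.p.map f).op (objSec π b) = objSec π a :=
  sec_transport (π.map f) (π.w_obj a).symm (π.w_obj b).symm (𝒳.p.map f) (p_map_eq π f)

theorem injective_app_of_mono (i : Z ⟶ M) [Mono i] (T : (Over S)ᵒᵖ) : Function.Injective (i.hom.app T) := by
  haveI : Mono ((sheafToPresheaf (QuotSh.J Scheme.fppfPrecoverage S) (Type (u + 1))).map i) := inferInstance
  haveI : Mono i.hom := this
  exact (mono_iff_injective (i.hom.app T)).1 inferInstance

/-- A functor factors through a monomorphism of sheaves when all its sections do. -/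
theorem exists_based_lift (π : 𝒳 ⥤ᵇ ofSp M) (i : Z ⟶ M) [Mono i]
    (h : ∀ a, ∃ z, i.hom.app (op (𝒳.p.obj a)) z = objSec π a) :
    ∃ φ : 𝒳 ⥤ᵇ ofSp Z, Nonempty (BasedFunctor.comp φ (ofSpMap i) ≅ π) := by
  choose z hz using h
  let φ : 𝒳 ⥤ᵇ ofSp Z :=
    { toFunctor :=
        { obj := fun a => ⟨𝒳.p.obj a, z a⟩
          map := fun {a b} f => ⟨𝒳.p.map f, injective_app_of_mono i _ (by
            rw [NatTrans.naturality_apply, hz, hz, objSec_natural])⟩
          map_id := fun a => Stk.EltObj.hom_ext (𝒳.p.map_id a)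
          map_comp := fun f g => Stk.EltObj.hom_ext (𝒳.p.map_comp f g) }
      w := rfl }
  refine ⟨φ, nonempty_iso_of_vertical fun a => ?_⟩
  have e1 : (π.obj a).base = 𝒳.p.obj a := π.w_obj a
  let hom : (BasedFunctor.comp φ (ofSpMap i)).obj a ⟶ π.obj a :=
    ⟨eqToHom e1.symm, (hz a).symm⟩
  let inv : π.obj a ⟶ (BasedFunctor.comp φ (ofSpMap i)).obj a :=
    ⟨eqToHom e1, by
      show M.obj.map (eqToHom e1).op (i.hom.app (op (𝒳.p.obj a)) (z a)) = (π.obj a).sec
      rw [hz]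
      simp [objSec, ← Functor.map_comp_apply, ← op_comp]⟩
  exact ⟨⟨hom, inv, Stk.EltObj.hom_ext (by simp [hom, inv]), Stk.EltObj.hom_ext (by simp [hom, inv])⟩,
    IsHomLift.of_fac' (ofSp M).p (𝟙 (𝒳.p.obj a)) hom rfl e1 (by simp [hom])⟩

/-- Sections of a functor on an atlas determine those on all objects. -/
theorem exists_mem_objSec (h𝒳 : IsAlgStack Scheme.fppfPrecoverage 𝒳) (hM : AlgSp.IsAlgSpace M)
    (π : 𝒳 ⥤ᵇ ofSp M) (hZ : AlgSp.IsAlgSpace Z) (i : Z ⟶ M) [Mono i] {U₀ : Over S} (x : ofSch U₀ ⥤ᵇ 𝒳)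
    (hx : Sm x) (hx' : Sj x) (l₀ : (AlgSp.yon S).obj U₀ ⟶ Z)
    (hl₀ : l₀ ≫ i = homOfBased (BasedFunctor.comp x π)) (a : 𝒳.obj) :
    ∃ z, i.hom.app (op (𝒳.p.obj a)) z = objSec π a := by
  have hX := h𝒳.isStack.1
  let T := 𝒳.p.obj a
  let y : ofSch T ⥤ᵇ 𝒳 := BasedFunctor.comp (toOverCat T) (classify hX a rfl)
  let t : (AlgSp.yon S).obj T ⟶ M := homOfBased (BasedFunctor.comp y π)
  obtain ⟨F, p, e, he, ⟨γ⟩, hQ⟩ := exists_space_fp (Stk.isFibGrpd_ofPsh _) hX (repByAlgSp1_of_with hx) (spY T) y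
  have hp : AlgSp.LocP @Smooth p := spaceDescends_locP _ F (spY T) p (hQ _ (respectsIso_locP _) hx)
  have hps : AlgSp.IsSurjectiveMor p := spaceDescends_surj F (spY T) p (hQ _ respectsIso_surj hx')
  let c : F.obj ⟶ (AlgSp.yon S).obj U₀ := homOfBased (BasedFunctor.comp e (fpSnd y x))
  have hc : p ≫ t = (c ≫ l₀) ≫ i := by
    rw [Category.assoc, hl₀, ← homOfBased_comp, ← homOfBased_ofSpMap p, ← homOfBased_congr γ, ← homOfBased_comp]
    exact homOfBased_congr (bLeft e (bRight (fpIso y x) π))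
  have sq := IsPullback.of_hasPullback i t
  have hP := SpFP87.isAlgSpace_pullback i t hZ (AlgSp.IsAlgSpace.yon_obj T) hM
  let q : pullback i t ⟶ (AlgSp.yon S).obj T := pullback.snd i t
  have sq' := IsPullback.of_hasPullback q p
  haveI : IsIso (pullback.snd q p) := by
    let σ : F.obj ⟶ pullback q p :=
      pullback.lift (pullback.lift (c ≫ l₀) p hc.symm) (𝟙 F.obj) (by simp [q])
    refine ⟨σ, ?_, pullback.lift_snd _ _ _⟩
    rw [← cancel_mono (pullback.snd q p), Category.assoc, pullback.lift_snd, Category.comp_id, Category.id_comp]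
  have hcov : AlgSp.IsFpqcCover (fun _ : PUnit.{u + 1} => F.obj) (fun _ => p) :=
    SpFP87.isFpqcCover_of_isFppfCover _ _ (AlgSp.IsAlgSpace.yon_obj T) (fun _ => F.property)
      (isFppfCover_single p (flat_of_smooth' hp) (lfp_of_smooth' hp) hps)
  haveI : IsIso q :=
    (SpFP87.isLocalOnBase_fpqc_isomorphisms (fun _ : PUnit.{u + 1} => F.obj) (fun _ => p)
      (AlgSp.IsAlgSpace.yon_obj T) (fun _ => F.property) hcov q hP (fun _ => pullback q p)
      (fun _ => pullback.snd q p) (fun _ => pullback.fst q p)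
      (fun _ => SpFP87.isAlgSpace_pullback q p hP F.property (AlgSp.IsAlgSpace.yon_obj T))
      (fun _ => sq')).2 fun _ => (inferInstance : IsIso (pullback.snd q p))
  let l : (AlgSp.yon S).obj T ⟶ Z := inv q ≫ pullback.fst i t
  have hl : l ≫ i = t := by
    simp only [l, Category.assoc, pullback.condition]
    exact IsIso.inv_hom_id_assoc q t
  let o : (ofSch T).obj := ⟨T, ULift.up (𝟙 T)⟩
  obtain ⟨φ, hφ⟩ := classify_mk_id hX a rfl
  let b := y.obj o
  have hb : 𝒳.p.obj b = T := y.w_obj o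
  haveI : 𝒳.p.IsHomLift (𝟙 T) φ.hom := hφ
  have hφp : 𝒳.p.map φ.hom = eqToHom hb ≫ 𝟙 T := by
    have := IsHomLift.fac' 𝒳.p (𝟙 T) φ.hom
    rw [this]; simp
  have h1 : t.hom.app (op T) o.sec = M.obj.map (eqToHom hb.symm).op (objSec π b) := by
    rw [homOfBased_app]
    simp [objSec, secOf, ← Functor.map_comp_apply, ← op_comp]
    rfl
  refine ⟨l.hom.app (op T) o.sec, ?_⟩
  show (l ≫ i).hom.app (op T) o.sec = objSec π a
  have h2 : M.obj.map (𝒳.p.map φ.hom).op (objSec π a) = objSec π b := objSec_natural π φ.hom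
  rw [hl, h1, ← h2, hφp]
  have key : ∀ {T' T'' : Over S} (h : T' = T'') (z : M.obj.obj (op T'')),
      M.obj.map (eqToHom h.symm).op (M.obj.map (eqToHom h ≫ 𝟙 T'').op z) = z := by
    intro T' T'' h z; subst h; simp
  exact key hb _

/-- A categorical moduli space of a reduced stack is reduced. -/
theorem isReducedSp_of_isCatModuli (h𝒳 : IsAlgStack Scheme.fppfPrecoverage 𝒳)
    (hred : SmoothLocally (fun X => IsReduced X) 𝒳) {π : 𝒳 ⥤ᵇ ofSp M} (hπ : IsCatModuli π) :
    AlgSp.IsReducedSp M := by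
  have hM : AlgSp.IsAlgSpace M := hπ.1
  obtain ⟨U₀, x₀, hx, hx'⟩ := h𝒳.atlas
  haveI : IsReduced U₀.left := hred U₀ x₀ hx
  let x : ofSch U₀ ⥤ᵇ 𝒳 := BasedFunctor.comp (toOverCat U₀) x₀
  have hxs : Sm x := (repByAlgSpWith_precomp_equiv (isEquivOver_toOverCat U₀)).2 hx
  have hxj : Sj x := (repByAlgSpWith_precomp_equiv (isEquivOver_toOverCat U₀)).2 hx'
  obtain ⟨Z, i, hZ, hi, hr, hZr⟩ := SpFP87.exists_isRedInduced hM Set.univ isClosed_univ
  haveI : Mono i := SpPts86.mono_of_repWith_le (fun _ _ f hf => by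
    haveI : IsClosedImmersion f := hf
    exact (inferInstance : Mono f)) hi
  let g : (AlgSp.yon S).obj U₀ ⟶ M := homOfBased (BasedFunctor.comp x π)
  obtain ⟨C, s, fst, sq⟩ := hi.1 g
  haveI : IsClosedImmersion s.left := hi.property g fst s sq
  have hrange : Set.range (𝟙 U₀.left : U₀.left ⟶ U₀.left) ⊆ Set.range s.left := by
    rw [← SpPts86.preimage_ofPt_range_map sq, hr]
    exact fun _ _ => trivial
  obtain ⟨k, hk⟩ := SpFP87.exists_lift_of_reduced (𝟙 U₀.left) s.left hrange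
  let k' : U₀ ⟶ C := Over.homMk k (by rw [← Over.w s, ← Category.assoc, hk, Category.id_comp])
  have hk' : k' ≫ s = 𝟙 U₀ := Over.OverMorphism.ext hk
  have hl₀ : ((AlgSp.yon S).map k' ≫ fst) ≫ i = g := by
    rw [Category.assoc, sq.w, ← Category.assoc, ← Functor.map_comp, hk', CategoryTheory.Functor.map_id,
      Category.id_comp]
  obtain ⟨φ, ⟨η⟩⟩ := exists_based_lift π i
    (exists_mem_objSec h𝒳 hM π hZ i x hxs hxj _ hl₀)
  obtain ⟨r, ⟨hr'⟩, -⟩ := hπ.2 Z hZ φ
  obtain ⟨c⟩ := ofSpMap_comp_iso r i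
  have hrid : r ≫ i = 𝟙 M := by
    obtain ⟨g₀, -, huniq⟩ := hπ.2 M hM π
    have h1 := huniq (r ≫ i) ⟨bLeft π c.symm ≪≫ bRight hr' (ofSpMap i) ≪≫ η⟩
    have h2 := huniq (𝟙 M) (nonempty_iso_of_vertical fun a => ⟨Iso.refl (π.obj a), IsHomLift.id (π.w_obj a)⟩)
    exact h1.trans h2.symm
  haveI : IsIso i := ⟨r, by rw [← cancel_mono i, Category.assoc, hrid]; simp, hrid⟩
  obtain ⟨V, v, hv, hvs, hV⟩ := hZr
  haveI := (AlgSp.repWith_isStableUnderBaseChange (S := S) (@Etale : MorphismProperty Scheme.{u})).respectsIso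
  haveI := (AlgSp.repWith_isStableUnderBaseChange (S := S) (@Surjective : MorphismProperty Scheme.{u})).respectsIso
  exact ⟨V, v ≫ i, (MorphismProperty.cancel_right_of_respectsIso _ v i).2 hv,
    (MorphismProperty.cancel_right_of_respectsIso _ v i).2 hvs, hV⟩

end Groth.Agent.AlgSt88
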