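import Groth.Prelude.Def_Magnet3
import Groth.Prelude.Def_ActBC

/-! Iterated base change of monoid actions. -/

set_option autoImplicit false
universe u

open CategoryTheory CategoryTheory.Limits MonoidalCategory CartesianMonoidalCategory MonObj AlgebraicGeometry Magnet

namespace Groth.Agent.AlgSt88

variable {S S' S'' : Scheme.{u}} (f : S'' ⟶ S') (g : S' ⟶ S) {A B X : Over S} [MonObj A]

theorem bc_bc_act (ρ : MonAct A B) :
    ((ρ.bc g).bc f).act ≫ (ActBC.bcCompIso f g B rfl).hom =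
      ((ActBC.bcCompIso f g A rfl).hom ⊗ₘ (ActBC.bcCompIso f g B rfl).hom) ≫ (ρ.bc (f ≫ g)).act := by
  ext
  apply pullback.hom_ext
  · simp only [MonAct.bc_act, Over.comp_left, Category.assoc, ActBC.bcCompIso_hom_left_fst, ActBC.pullback_map_left_fst,
      ActBC.pullback_map_left_fst_assoc]
    simp only [← Category.assoc]
    congr 1
    simp only [Category.assoc]
    apply pullback.hom_ext
    · simp only [Category.assoc]
      rw [ActBC.μ_left_fst_fst, ActBC.μ_left_fst_fst_assoc, ActBC.μ_left_fst_fst,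
        ActBC.tensorHom_left_fst'_assoc, ActBC.bcCompIso_hom_left_fst]
    · simp only [Category.assoc]
      rw [ActBC.μ_left_fst_snd, ActBC.μ_left_fst_snd_assoc, ActBC.μ_left_fst_snd,
        ActBC.tensorHom_left_snd'_assoc, ActBC.bcCompIso_hom_left_fst]
  · exact (Over.w _).trans (Over.w _).symm

theorem isEquivariant_conj {ρ : MonAct A B} {a : MonAct A X}
    (ψ : Red.bc f (Red.bc g B) ⟶ Red.bc f (Red.bc g X)) :
    MonAct.IsEquivariant (ρ.bc (f ≫ g)) (a.bc (f ≫ g))
        ((ActBC.bcCompIso f g B rfl).inv ≫ ψ ≫ (ActBC.bcCompIso f g X rfl).hom) ↔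
      MonAct.IsEquivariant ((ρ.bc g).bc f) ((a.bc g).bc f) ψ := by
  unfold MonAct.IsEquivariant
  generalize hiA : ActBC.bcCompIso f g A rfl = iA
  generalize hiB : ActBC.bcCompIso f g B rfl = iB
  generalize hiX : ActBC.bcCompIso f g X rfl = iX
  have eB := bc_bc_act f g ρ
  have eX := bc_bc_act f g a
  rw [hiA, hiB] at eB
  rw [hiA, hiX] at eX
  rw [← cancel_epi (iA.hom ⊗ₘ iB.hom)]
  have h0 : (iA.hom ⊗ₘ iB.hom) ≫ Red.bc (f ≫ g) A ◁ (iB.inv ≫ ψ ≫ iX.hom) =
      Red.bc f (Red.bc g A) ◁ ψ ≫ (iA.hom ⊗ₘ iX.hom) := by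
    rw [← id_tensorHom, tensorHom_comp_tensorHom, Category.comp_id, Iso.hom_inv_id_assoc,
      ← id_tensorHom, tensorHom_comp_tensorHom, Category.id_comp]
  rw [← reassoc_of% eB, Iso.hom_inv_id_assoc, reassoc_of% h0, ← eX]
  simp only [← Category.assoc, cancel_mono]

end Groth.Agent.AlgSt88
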