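import Groth.Agent.AlgSt88.QC

/-! The points of a locally Noetherian algebraic stack. -/

set_option autoImplicit false
set_option linter.style.haveILetI false
set_option backward.isDefEq.respectTransparency false
set_option backward.isDefEq.respectTransparency.types false
universe u

open CategoryTheory CategoryTheory.Limits AlgebraicGeometry TopologicalSpace AlgSt FibCat

namespace Groth.Agent.AlgSt88

variable {S : Scheme.{u}} {𝒳 : AlgSt.Cat S}

/-- Images of Noetherian affine opens of an atlas form a basis of neighbourhoods. -/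
theorem exists_noetherian_image_nhd (h𝒳 : IsAlgStack Scheme.fppfPrecoverage 𝒳)
    (hN : SmoothLocally (fun T ↦ IsLocallyNoetherian T) 𝒳) (x : Points 𝒳) :
    ∃ (A : Type u) (_ : TopologicalSpace A) (_ : NoetherianSpace A) (_ : QuasiSober A) (f : A → Points 𝒳),
      Continuous f ∧ IsOpen (Set.range f) ∧ x ∈ Set.range f := by
  obtain ⟨U, u, hu, hu'⟩ := h𝒳.atlas
  have hX := h𝒳.isStack.1
  haveI : IsLocallyNoetherian U.left := hN U u hu
  obtain ⟨t, rfl⟩ := surjective_ofChart hX u hu' x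
  obtain ⟨A, hA, htA, -⟩ := exists_isAffineOpen_mem_and_subset (X := U.left) (U := ⊤) (x := t) trivial
  haveI := IsLocallyNoetherian.component_noetherian (X := U.left) ⟨A, hA⟩
  haveI : NoetherianSpace (A : Scheme.{u}) := noetherianSpace_of_isAffineOpen A hA
  refine ⟨(A : Scheme.{u}), inferInstance, inferInstance, inferInstance,
    fun a => Points.ofChart u (A.ι a), (continuous_ofChart h𝒳 u).comp A.ι.continuous, ?_, ⟨⟨t, htA⟩, rfl⟩⟩
  rw [show Set.range (fun a => Points.ofChart u (A.ι a)) = Points.ofChart u '' Set.range A.ι from by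
    rw [← Set.range_comp]; rfl, Scheme.Opens.range_ι]
  exact isOpenMap_ofChart hX u (rep_flat_of_sm hu) (rep_lfp_of_sm hu) _ A.isOpen

theorem exists_noetherian_nhd (h𝒳 : IsAlgStack Scheme.fppfPrecoverage 𝒳)
    (hN : SmoothLocally (fun T ↦ IsLocallyNoetherian T) 𝒳) (x : Points 𝒳) :
    ∃ W : Set (Points 𝒳), IsOpen W ∧ x ∈ W ∧ NoetherianSpace W := by
  obtain ⟨A, _, _, _, f, hf, ho, hx⟩ := exists_noetherian_image_nhd h𝒳 hN x
  exact ⟨Set.range f, ho, hx, NoetherianSpace.range f hf⟩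

theorem noetherianSpace_points (h𝒳 : IsAlgStack Scheme.fppfPrecoverage 𝒳) (hq : IsQuasiCompact 𝒳)
    (hN : SmoothLocally (fun T ↦ IsLocallyNoetherian T) 𝒳) : NoetherianSpace (Points 𝒳) := by
  haveI := compactSpace_points_of_isQuasiCompact h𝒳 hq
  choose W hW hx hn using exists_noetherian_nhd h𝒳 hN
  obtain ⟨s, hs⟩ := isCompact_univ.elim_finite_subcover W hW fun x _ => Set.mem_iUnion.2 ⟨x, hx x⟩
  haveI : ∀ i : ↥s, NoetherianSpace (W i) := fun i => hn i
  haveI := NoetherianSpace.iUnion (fun i : ↥s => W i)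
  refine noetherian_univ_iff.1 ?_
  have e : (⋃ i : ↥s, W i) = Set.univ := Set.eq_univ_of_forall fun x => by
    obtain ⟨i, hi⟩ := Set.mem_iUnion.1 (hs (Set.mem_univ x))
    obtain ⟨his, hxi⟩ := Set.mem_iUnion.1 hi
    exact Set.mem_iUnion.2 ⟨⟨i, his⟩, hxi⟩
  rw [← e]
  infer_instance

theorem quasiSober_points (h𝒳 : IsAlgStack Scheme.fppfPrecoverage 𝒳)
    (hN : SmoothLocally (fun T ↦ IsLocallyNoetherian T) 𝒳) : QuasiSober (Points 𝒳) := by
  refine ⟨fun {Z} hZ hZc => ?_⟩
  obtain ⟨x, hxZ⟩ := hZ.nonempty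
  obtain ⟨A, _, _, _, f, hf, ho, hx⟩ := exists_noetherian_image_nhd h𝒳 hN x
  obtain ⟨T, hTf, hTc, hTi, hT⟩ := NoetherianSpace.exists_finite_set_isClosed_irreducible (hZc.preimage hf)
  choose η hη using fun t : T => QuasiSober.sober (hTi t t.2) (hTc t t.2)
  have hsub : Z ∩ Set.range f ⊆ ⋃ t : T, closure {f (η t)} := by
    rintro _ ⟨hz, a, rfl⟩
    have ha : a ∈ ⋃₀ T := hT ▸ hz
    obtain ⟨t, ht, hat⟩ := ha
    refine Set.mem_iUnion.2 ⟨⟨t, ht⟩, ?_⟩
    have h1 : f a ∈ f '' closure {η ⟨t, ht⟩} := ⟨a, by rw [(hη ⟨t, ht⟩).def]; exact hat, rfl⟩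
    simpa using image_closure_subset_closure_image hf h1
  haveI : Finite T := hTf.to_subtype
  have hcl : IsClosed (⋃ t : T, closure {f (η t)}) := isClosed_iUnion_of_finite fun _ => isClosed_closure
  have hle : Z ⊆ ⋃ t : T, closure {f (η t)} :=
    ((subset_closure_inter_of_isPreirreducible_of_isOpen hZ.2 ho ⟨x, hxZ, hx⟩).trans
      (closure_mono hsub)).trans hcl.closure_subset
  haveI := Fintype.ofFinite T
  obtain ⟨z, hz, hZz⟩ := isIrreducible_iff_sUnion_isClosed.1 hZ
    ((Set.finite_range fun t : T => closure ({f (η t)} : Set (Points 𝒳))).toFinset)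
    (fun z hz => by
      obtain ⟨t, rfl⟩ := (Set.finite_range _).mem_toFinset.1 hz
      exact isClosed_closure)
    (by rw [Set.Finite.coe_toFinset, Set.sUnion_range]; exact hle)
  obtain ⟨t, rfl⟩ := (Set.finite_range _).mem_toFinset.1 hz
  have hmem : η t ∈ f ⁻¹' Z := hT.symm ▸ Set.mem_sUnion.2 ⟨t.1, t.2, (hη t).mem⟩
  exact ⟨f (η t), Set.Subset.antisymm (closure_minimal (Set.singleton_subset_iff.2 hmem) hZc) hZz⟩

end Groth.Agent.AlgSt88
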