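import Groth.Agent.AlgSt88.PLocusMain

/-!
Base change of the largest open substack on which a representable morphism has a property.
-/

set_option autoImplicit false
set_option maxHeartbeats 1000000
set_option linter.style.haveILetI false
set_option backward.isDefEq.respectTransparency false
set_option backward.isDefEq.respectTransparency.types false
universe u

open CategoryTheory CategoryTheory.Limits AlgebraicGeometry Opposite AlgSt FibCat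

namespace Groth.Agent.AlgSt88

variable {S : Scheme.{u}} {𝒳 𝒴 𝒵 : AlgSt.Cat S} {P Q R : MorphismProperty (AlgSp.Sp S)}

theorem range_subIncl_comap (h𝒵 : IsAlgStack Scheme.fppfPrecoverage 𝒵) (h𝒳 : IsAlgStack Scheme.fppfPrecoverage 𝒳)
    (G : 𝒵 ⥤ᵇ 𝒳) {Q₀ : 𝒳.obj → Prop} (hQ₀ : IsOpenSubstack 𝒳 Q₀ Scheme.fppfPrecoverage) :
    Set.range (Points.map (subIncl 𝒵 (fun a => Q₀ (G.obj a)))) =
      Points.map G ⁻¹' Set.range (Points.map (subIncl 𝒳 Q₀)) := by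
  have e := openSubstack_eq_inPts h𝒳 hQ₀
  rw [show (fun a => Q₀ (G.obj a)) = InPts (Points.map G ⁻¹' Set.range (Points.map (subIncl 𝒳 Q₀))) from
    (funext fun a => congrFun e (G.obj a)).trans (inPts_comap h𝒵.isStack.1 h𝒳.isStack.1 G _)]
  exact range_subIncl_inPts _

theorem repByAlgSpWith_sub_fpFst (z : 𝒵 ⥤ᵇ 𝒴) (f : 𝒳 ⥤ᵇ 𝒴) (Q₀ : 𝒳.obj → Prop)
    (h : RepByAlgSpWith P (BasedFunctor.comp (subIncl 𝒳 Q₀) f)) :
    RepByAlgSpWith P (BasedFunctor.comp (subIncl (fp z f) fun b ↦ Q₀ b.obj.snd) (fpFst z f)) := by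
  let Q' : (fp z f).obj → Prop := fun b ↦ Q₀ b.obj.snd
  let f₀ := BasedFunctor.comp (subIncl 𝒳 Q₀) f
  let Θ : fullSub (fp z f) Q' ⥤ᵇ fp z f₀ :=
    fpLift (F := z) (G := f₀) (BasedFunctor.comp (subIncl (fp z f) Q') (fpFst z f))
      (liftSub (BasedFunctor.comp (subIncl (fp z f) Q') (fpSnd z f)) (Q := Q₀) (fun b => b.property))
      (bLeft (subIncl (fp z f) Q') (fpIso z f))
  let Ξ : fp z f₀ ⥤ᵇ fullSub (fp z f) Q' := liftSub (fpMapSnd z f (subIncl 𝒳 Q₀)) (fun b => b.obj.snd.property)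
  have hΘ : IsEquivOver Θ := ⟨Ξ, ⟨Iso.refl _⟩, ⟨Iso.refl _⟩⟩
  exact (repByAlgSpWith_precomp_equiv (f := fpFst z f₀) hΘ).2 (repByAlgSpWith_fpFst z h)

theorem largest_substack_bc (h : GoodLocus P Q R) (h𝒳 : IsAlgStack Scheme.fppfPrecoverage 𝒳)
    (h𝒴 : IsAlgStack Scheme.fppfPrecoverage 𝒴) (h𝒵 : IsAlgStack Scheme.fppfPrecoverage 𝒵)
    (f : 𝒳 ⥤ᵇ 𝒴) (hf : RepByAlgSpWith Q f)
    (Q₀ : 𝒳.obj → Prop) (hQ₀ : IsOpenSubstack 𝒳 Q₀ Scheme.fppfPrecoverage)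
    (hQ₀P : RepByAlgSpWith P (BasedFunctor.comp (subIncl 𝒳 Q₀) f))
    (hQ₀max : ∀ Q₁ : 𝒳.obj → Prop, IsOpenSubstack 𝒳 Q₁ Scheme.fppfPrecoverage →
      RepByAlgSpWith P (BasedFunctor.comp (subIncl 𝒳 Q₁) f) → ∀ x, Q₁ x → Q₀ x)
    (z : 𝒵 ⥤ᵇ 𝒴) (hz : RepByAlgSpWith R z) :
    IsOpenSubstack (fp z f) (fun b ↦ Q₀ b.obj.snd) Scheme.fppfPrecoverage ∧
      RepByAlgSpWith P (BasedFunctor.comp (subIncl (fp z f) fun b ↦ Q₀ b.obj.snd) (fpFst z f)) ∧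
        ∀ Q₁ : (fp z f).obj → Prop, IsOpenSubstack (fp z f) Q₁ Scheme.fppfPrecoverage →
          RepByAlgSpWith P (BasedFunctor.comp (subIncl (fp z f) Q₁) (fpFst z f)) →
            ∀ b, Q₁ b → Q₀ b.obj.snd := by
  have hC := isAlgStack_fp h𝒴.isStack h𝒴.diag h𝒵 h𝒳 z f
  have hQ' := isOpenSubstack_comap hC h𝒳 (fpSnd z f) hQ₀
  refine ⟨hQ', repByAlgSpWith_sub_fpFst z f Q₀ hQ₀P, fun Q₁ hQ₁ hP₁ => ?_⟩
  refine (substack_le_iff hC hQ₁ hQ').2 fun p hp => ?_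
  refine (range_subIncl_comap hC h𝒳 (fpSnd z f) hQ₀).ge ?_
  have hX := h𝒳.isStack.1
  have hY := h𝒴.isStack.1
  have hZ := h𝒵.isStack.1
  obtain ⟨V, y, hy, hy'⟩ := exists_space_atlas h𝒴
  obtain ⟨F, a, e, he, ⟨α⟩⟩ := exists_space_fp_chart hX hY (repByAlgSp1_of_with hf) (spY V) y
  have hQa : Q a := prop_of_rep hX hY h.qB h.qL hf (G := spY V) y he α
  obtain ⟨W, w, hW⟩ := h.exists_largest F (spY V) (ObjectProperty.homMk a) hQa
  obtain ⟨Q₂, hQ₂, hQ₂P, hsat, -⟩ := largest_substack h h𝒳 h𝒴 f hf y hy (ObjectProperty.homMk a) e he α w hW hy'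
  refine (substack_le_iff h𝒳 hQ₂ hQ₀).1 (hQ₀max Q₂ hQ₂ hQ₂P) ?_
  obtain ⟨G, bz, ez, hez, ⟨γz⟩⟩ := exists_space_fp_chart hZ hY (repByAlgSp1_of_with hz) (spY V) y
  have hRb : R bz := prop_of_rep hZ hY h.rB h.rL hz (G := spY V) y hez γz
  let Φ := BasedFunctor.comp ez (fpFst y z)
  let zc := BasedFunctor.comp ez (fpSnd y z)
  let β : BasedFunctor.comp zc z ≅ BasedFunctor.comp Φ y := bLeft ez (fpIso y z).symm
  let f' := fpFst z f
  have hC' := hC.isStack.1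
  obtain ⟨F', a', e', he', ⟨α'⟩⟩ := exists_space_fp_chart hC' hZ (repByAlgSp1_fpFst z (repByAlgSp1_of_with hf)) G zc
  obtain ⟨g, sq, ⟨c⟩⟩ := exists_bc f (V := spY V) y e he a α Φ bz γz (BasedFunctor.comp zc z) β
    (BasedFunctor.comp e' (fpPaste zc z f)) (isEquivOver_comp he' (isEquivOver_fpPaste zc z f)) a' α'
  obtain ⟨W', w', k, s, r⟩ := exists_preimage w g
  have L : IsLargest P (ObjectProperty.homMk a' : F' ⟶ G) W' w' :=
    h.largest_bc F (spY V) F' G (ObjectProperty.homMk a) (ObjectProperty.homMk bz) _ (ObjectProperty.homMk g)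
      sq hQa hRb W w hW W' w' k s
  obtain ⟨W₁, π, E, hE, hπ, ⟨δ⟩, hr⟩ := exists_sub_space hC' hZ f' (V := G) zc e' he' a' α' hQ₁
  have hp₁ : P (π ≫ a') := prop_of_rep hQ₁.2.1.isStack.1 hZ h.pB h.pL hP₁ (G := G) zc hE δ
  have hzc : Sj zc := (repByAlgSpWith_precomp_equiv hez).2 (repByAlgSpWith_fpSnd z hy')
  have hsj : Sj (BasedFunctor.comp e' (fpSnd zc f')) :=
    (repByAlgSpWith_precomp_equiv he').2 (repByAlgSpWith_fpSnd f' hzc)
  obtain ⟨v, rfl⟩ := isSurjective_of_sj hC' hsj p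
  obtain ⟨τ, rfl⟩ := stPt_bijective.2 v
  have h1 : τ ∈ Set.range (AlgSp.Points.map w'.hom) :=
    range_subset_of_largest L (w₁ := (ObjectProperty.homMk π : W₁ ⟶ F')) hπ hp₁ ((hr τ).2 hp)
  have h2 := (hsat (AlgSp.Points.map g τ)).2 ((r τ).1 h1)
  have h3 : Points.map (BasedFunctor.comp e (fpSnd y f)) (stPt _ (AlgSp.Points.map g τ)) =
      Points.map (fpSnd z f) (Points.map (BasedFunctor.comp e' (fpSnd zc f')) (stPt _ τ)) := by
    rw [← stPt_natural g, ← points_map_comp (ofSpMap g)]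
    refine (points_map_congr (bRight c (fpSnd y f)) _).trans ?_
    exact points_map_comp (BasedFunctor.comp e' (fpSnd zc f')) (fpSnd z f) _
  exact h3 ▸ h2

end Groth.Agent.AlgSt88
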