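import Groth.Agent.AlgSt88.LiftAlgClosed
import Groth.Agent.AlgSt88.AlgClosedDescent
import Groth.Agent.AlgSt88.QCMorSt

/-! Points over algebraically closed fields lift along morphisms with surjective diagonal. -/

set_option autoImplicit false
set_option maxHeartbeats 1000000
set_option linter.style.haveILetI false
set_option backward.isDefEq.respectTransparency false
set_option backward.isDefEq.respectTransparency.types false
universe u

open CategoryTheory CategoryTheory.Limits AlgebraicGeometry Opposite AlgSt FibCat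

namespace Groth.Agent.AlgSt88

variable {S : Scheme.{u}} {𝒳 𝒴 : AlgSt.Cat S}

/-- The base morphism of an object under a functor to a slice. -/
def baseSec {T : Over S} (G : 𝒳 ⥤ᵇ overCat T) (x : 𝒳.obj) : 𝒳.p.obj x ⟶ T :=
  eqToHom (G.w_obj x).symm ≫ (G.obj x).hom

theorem map_baseSec {T : Over S} (G : 𝒳 ⥤ᵇ overCat T) {x y : 𝒳.obj} (φ : x ⟶ y) :
    𝒳.p.map φ ≫ baseSec G y = baseSec G x := by
  have h : (G.map φ).left = eqToHom (G.w_obj x) ≫ 𝒳.p.map φ ≫ eqToHom (G.w_obj y).symm := p_map_eq G φ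
  have hw := Over.w (G.map φ)
  rw [h, Category.assoc, Category.assoc] at hw
  simp only [baseSec, ← hw, eqToHom_trans_assoc, eqToHom_refl, Category.id_comp]

/-- The base of a functor out of a slice. -/
theorem baseSec_obj {T U : Over S} (G : 𝒳 ⥤ᵇ overCat T) (u : overCat U ⥤ᵇ 𝒳) (g : Over U) :
    baseSec G (u.obj g) = eqToHom (u.w_obj g) ≫ g.hom ≫ eqToHom (u.w_obj (Over.mk (𝟙 U))).symm ≫
      baseSec G (u.obj (Over.mk (𝟙 U))) := by
  rw [← map_baseSec G (u.map (Over.homMk g.hom : g ⟶ Over.mk (𝟙 U))), p_map_eq]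
  simp
  rfl

theorem exists_point_algClosed (h𝒳 : IsAlgStack Scheme.fppfPrecoverage 𝒳)
    (h𝒴 : IsAlgStack Scheme.fppfPrecoverage 𝒴) (f : 𝒳 ⥤ᵇ 𝒴) (hΔ : IsSurjective (FibCat.diag f))
    (k : Type u) [Field k] [IsAlgClosed k] (s : Spec (CommRingCat.of k) ⟶ S) (y : 𝒴.obj)
    (hy : 𝒴.p.obj y = Over.mk s) (h : Points.mk ⟨k, s, y, hy⟩ ∈ Set.range (Points.map f)) :
    ∃ (x : 𝒳.obj) (φ : f.obj x ⟶ y), 𝒳.p.obj x = Over.mk s ∧ 𝒴.p.IsHomLift (𝟙 (Over.mk s)) φ := by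
  have hX := h𝒳.isStack.1
  have hY := h𝒴.isStack.1
  let T : Over S := Over.mk s
  let c := classify hY y hy
  obtain ⟨ε, hε⟩ := classify_mk_id hY y hy
  have hPst := isAlgStack_fp h𝒴.isStack h𝒴.diag (isAlgStack_overCat T) h𝒳 c f
  have hP := hPst.isStack.1
  obtain ⟨U, u, hu, hus⟩ := hPst.atlas
  let G := fpFst c f
  let m : U ⟶ T := eqToHom (u.w_obj (Over.mk (𝟙 U))).symm ≫ baseSec G (u.obj (Over.mk (𝟙 U)))
  have hm : ∀ g : Over U, baseSec G (u.obj g) = eqToHom (u.w_obj g) ≫ g.hom ≫ m := fun g => baseSec_obj G u g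
  -- the atlas is nonempty
  haveI : Nonempty ↥U.left := by
    obtain ⟨w, hw⟩ := h
    obtain ⟨ε', -⟩ := classify_mk_id hY y hy
    let o : FPt (overCat T) := { K := k, str := s, obj := Over.mk (𝟙 _), lies := rfl }
    obtain ⟨z, -, -⟩ := exists_points_fp hY hX (isFibGrpd_overCat T) f c (Points.mk o) w (by
      rw [hw]; exact Points.sound ⟨o.map c, 𝟙 _, ε'.hom, trivial⟩)
    obtain ⟨q, -⟩ := isSurjective_of_sj hP hus z
    obtain ⟨p, rfl⟩ := Points.mk_surjective q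
    exact ⟨(eqToHom p.lies.symm ≫ p.obj.hom).left (IsLocalRing.closedPoint p.K)⟩
  obtain ⟨V₀, hV₀, hne, -⟩ := exists_isAffineOpen_mem_and_subset (x := Classical.arbitrary ↥U.left) (U := ⊤) trivial
  haveI : IsAffine V₀.toScheme := hV₀
  haveI : CompactSpace ↥V₀.toScheme := inferInstance
  haveI : Nonempty ↥V₀.toScheme := ⟨⟨_, hne⟩⟩
  obtain ⟨v₀, -, hv₀⟩ := IsClosed.exists_closed_singleton (isClosed_univ (X := ↥V₀.toScheme)) Set.univ_nonempty
  let L : Type u := V₀.toScheme.residueField v₀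
  let ι : Spec (CommRingCat.of L) ⟶ U.left := V₀.toScheme.fromSpecResidueField v₀ ≫ V₀.ι
  haveI : LocallyOfFiniteType ι := by
    haveI := isClosed_singleton_iff_isClosedImmersion.1 hv₀
    infer_instance
  let TL : Over S := Over.mk (ι ≫ U.hom)
  let i : TL ⟶ U := Over.homMk ι rfl
  let ξo := u.obj (Over.mk i)
  let ξ := classify hP ξo (u.w_obj (Over.mk i))
  obtain ⟨η, hη⟩ := classify_mk_id hP ξo (u.w_obj (Over.mk i))
  haveI := hη
  have hξ : ∀ g : Over TL, baseSec G (ξ.obj g) = eqToHom (ξ.w_obj g) ≫ g.hom ≫ i ≫ m := fun g => by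
    rw [← map_baseSec G (ξ.map (Over.homMk g.hom : g ⟶ Over.mk (𝟙 TL)) ≫ η.hom), hm, Functor.map_comp,
      p_map_eq]
    rw [@IsHomLift.fac' _ _ _ _ (fp c f).p TL TL _ _ (𝟙 TL) η.hom hη]
    simp
    rfl
  obtain ⟨F, e, he, ha⟩ := hu TL ξ
  obtain ⟨V, p, hp, hps⟩ := F.property.atlas
  obtain ⟨n, hn⟩ := (AlgSp.yon S).map_surjective (p ≫ spMapOfOver (BasedFunctor.comp e (fpFst ξ u)))
  haveI : Smooth n.left :=
    ha p (𝟙 _) n hp (AlgSp.repWith_id _ TL) (by rw [Category.comp_id]; exact hn.symm)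
  let σ₀ : (ofSp F.obj).obj := ⟨V, p.hom.app (op V) ⟨𝟙 V⟩⟩
  let o := e.obj σ₀
  have ho₁ : o.obj.fst.left = V := e.w_obj σ₀
  have ho₂ : o.obj.snd.left = V := ((fpSnd ξ u).w_obj o).trans ho₁
  let b : V ⟶ U := eqToHom ho₂.symm ≫ o.obj.snd.hom
  have hno : n = eqToHom ho₁.symm ≫ o.obj.fst.hom := by
    have h1 := congrArg (fun t => (t.hom.app (op V) ⟨𝟙 V⟩).down) hn
    exact ((Category.id_comp n).symm.trans h1)
  have hbm : b ≫ m = n ≫ i ≫ m := by
    have h1 := map_baseSec G o.obj.iso.hom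
    rw [hξ, hm, fp_iso_map] at h1
    have h2 := congrArg (fun t => eqToHom ((ξ.w_obj o.obj.fst).trans ho₁).symm ≫ t) h1
    simp at h2
    simp [b, hno]
    exact h2
  let g₀ : Spec (CommRingCat.of L) ⟶ Spec (CommRingCat.of k) := ι ≫ m.left
  let V' : Scheme.{u} := pullback b.left ι
  let b₁ : V' ⟶ Spec (CommRingCat.of L) := pullback.fst b.left ι ≫ n.left
  let b₂ : V' ⟶ Spec (CommRingCat.of L) := pullback.snd b.left ι
  haveI : LocallyOfFiniteType n.left := inferInstance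
  have hb : b₁ ≫ g₀ = b₂ ≫ g₀ := by
    have h1 := congrArg (fun t => t.left) hbm
    simp only [Over.comp_left] at h1
    simp only [b₁, b₂, g₀, Category.assoc]
    rw [← pullback.condition_assoc, h1]
    rfl
  -- every compatible pair of points lifts
  haveI : IsIso g₀ := isIso_of_lift_pairs g₀ b₁ b₂ (fun Ω _ _ x₁ x₂ hx => by
    have hUs : m.left ≫ s = U.hom := Over.w m
    have hstr : (x₂ ≫ ι) ≫ U.hom = x₁ ≫ ι ≫ U.hom := by
      rw [← hUs]; simp only [g₀] at hx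
      simpa only [Category.assoc] using (congrArg (· ≫ s) hx).symm
    let TΩ : Over S := Over.mk (x₁ ≫ ι ≫ U.hom)
    let j₁ : TΩ ⟶ TL := Over.homMk x₁ rfl
    let j₂ : TΩ ⟶ TL := Over.homMk x₂ (by rw [Category.assoc] at hstr; exact hstr)
    have hj : j₁ ≫ i ≫ m = j₂ ≫ i ≫ m := Over.OverMorphism.ext hx
    let z₁ := ξ.obj (Over.mk j₁)
    let z₂ := u.obj (Over.mk (j₂ ≫ i))
    have hz₁ : z₁.obj.fst.left = TΩ := ξ.w_obj _
    have hz₂ : z₂.obj.fst.left = TΩ := u.w_obj _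
    have hs₁ : z₁.obj.fst.hom = eqToHom hz₁ ≫ j₁ ≫ i ≫ m := by simpa [baseSec, G] using hξ (Over.mk j₁)
    have hs₂ : z₂.obj.fst.hom = eqToHom hz₂ ≫ (j₂ ≫ i) ≫ m := by simpa [baseSec, G] using hm (Over.mk (j₂ ≫ i))
    let J : z₁.obj.fst ≅ z₂.obj.fst := Over.isoMk (eqToIso (hz₁.trans hz₂.symm)) (by
      rw [hs₁, hs₂]; simp [hj])
    have hw₁ : 𝒳.p.obj z₁.obj.snd = TΩ := ((fpSnd c f).w_obj z₁).trans hz₁
    have hw₂ : 𝒳.p.obj z₂.obj.snd = TΩ := ((fpSnd c f).w_obj z₂).trans hz₂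
    let β : f.obj z₁.obj.snd ⟶ f.obj z₂.obj.snd := z₁.obj.iso.inv ≫ c.map J.hom ≫ z₂.obj.iso.hom
    have hβ : 𝒴.p.IsHomLift (𝟙 TΩ) β := by
      refine IsHomLift.of_fac' 𝒴.p (𝟙 TΩ) β ((f.w_obj _).trans hw₁) ((f.w_obj _).trans hw₂) ?_
      simp only [β, Functor.map_comp]
      rw [show 𝒴.p.map z₁.obj.iso.inv = inv (𝒴.p.map z₁.obj.iso.hom) by rw [← Functor.map_inv]; simp,
        p_map_eq c J.hom, show (overCat T).p.map J.hom = eqToHom (hz₁.trans hz₂.symm) from rfl]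
      simp [fp_iso_map]
    obtain ⟨α, hα, hαβ⟩ := (surjective_diag_iff_lift h𝒳 h𝒴 f).1 hΔ Ω _ _ _ hw₁ hw₂ β hβ
    let φ : z₁ ⟶ z₂ := fpHom J.hom α (by
      rw [hαβ]; simp [β])
    haveI hφ : (fp c f).p.IsHomLift (𝟙 TΩ) φ := IsHomLift.of_fac' (fp c f).p (𝟙 TΩ) φ hz₁ hz₂ (by
      change (overCat T).p.map J.hom = _
      rw [show (overCat T).p.map J.hom = eqToHom (hz₁.trans hz₂.symm) from rfl]
      simp)
    haveI := fg_isIso_of_lift_id hP φ TΩ
    let w : (fp ξ u).obj := ⟨⟨Over.mk j₁, Over.mk (j₂ ≫ i), asIso φ⟩, hφ⟩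
    obtain ⟨σ, κ, hκ⟩ := (isEquivData_of_isEquivOver he).essSurj w
    haveI hκ' : (fp ξ u).p.IsHomLift (𝟙 TΩ) κ.hom := hκ
    have hσ : σ.base = TΩ := (e.w_obj σ).symm.trans (IsHomLift.domain_eq (fp ξ u).p (𝟙 _) κ.hom)
    let pt : AlgSp.FieldPt F.obj := { K := Ω, str := _, val := F.obj.obj.map (eqToHom hσ.symm).op σ.sec }
    obtain ⟨v, hv⟩ := SpPts86.surjective_ofPt hps (AlgSp.Points.mk pt)
    obtain ⟨Ω', _, w', a', d', hsec⟩ := AlgSp.Points.mk_eq_mk_iff.1 hv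
    let v₁ : Over.mk w' ⟶ V := a' ≫ Over.homMk (V.left.fromSpecResidueField v) rfl
    let A : (ofSp F.obj).obj := ⟨Over.mk w', p.hom.app (op (Over.mk w')) ⟨v₁⟩⟩
    let h₁ : A ⟶ σ₀ := ⟨v₁, (NatTrans.naturality_apply p.hom v₁.op ⟨𝟙 V⟩).symm.trans
      (congrArg (fun t => p.hom.app (op (Over.mk w')) ⟨t⟩) (Category.comp_id v₁))⟩
    let h₂ : A ⟶ σ := ⟨d' ≫ eqToHom hσ.symm, by
      rw [op_comp, Functor.map_comp_apply]
      exact hsec.symm.trans (NatTrans.naturality_apply p.hom a'.op _).symm⟩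
    let k₁ := e.map h₁
    let k₂ := e.map h₂ ≫ κ.hom
    have hk₁ : k₁.hom.fst.left = eqToHom (e.w_obj A) ≫ v₁ ≫ eqToHom (e.w_obj σ₀).symm := p_map_eq e h₁
    have hk₂ : k₂.hom.fst.left = eqToHom (e.w_obj A) ≫ d' := by
      change (fp ξ u).p.map k₂ = _
      rw [Functor.map_comp, p_map_eq, IsHomLift.fac' (fp ξ u).p (𝟙 TΩ) κ.hom]
      change (eqToHom _ ≫ (d' ≫ eqToHom _) ≫ eqToHom _) ≫ _ = _
      simp
    have hk₁' : k₁.hom.snd.left = eqToHom (((fpSnd ξ u).w_obj (e.obj A)).trans (e.w_obj A)) ≫ v₁ ≫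
        eqToHom ho₂.symm := by
      refine (p_map_eq (fpSnd ξ u) k₁).trans ?_
      change _ ≫ k₁.hom.fst.left ≫ _ = _
      rw [hk₁]; simp
    have hk₂' : k₂.hom.snd.left = eqToHom (((fpSnd ξ u).w_obj (e.obj A)).trans (e.w_obj A)) ≫ d' := by
      refine (p_map_eq (fpSnd ξ u) k₂).trans ?_
      change _ ≫ k₂.hom.fst.left ≫ _ = _
      rw [hk₂]; simp
      rfl
    have e₁ : v₁ ≫ n = d' ≫ j₁ := by
      have := (Over.w k₁.hom.fst).trans (Over.w k₂.hom.fst).symm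
      rw [hk₁, hk₂] at this
      simp only [Category.assoc] at this
      rw [hno]
      exact (cancel_epi _).1 this
    have e₂ : v₁ ≫ b = d' ≫ j₂ ≫ i := by
      have := (Over.w k₁.hom.snd).trans (Over.w k₂.hom.snd).symm
      rw [hk₁', hk₂'] at this
      simp only [Category.assoc] at this
      exact (cancel_epi _).1 this
    refine ⟨Ω', inferInstance, d'.left, pullback.lift v₁.left (d'.left ≫ x₂)
      ((congrArg (fun t => t.left) e₂).trans (Category.assoc _ _ _).symm), ?_, ?_⟩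
    · exact (pullback.lift_fst_assoc _ _ _ _).trans (congrArg (fun t => t.left) e₁)
    · exact pullback.lift_snd _ _ _) hb
  let q : T ⟶ U := Over.homMk (inv g₀ ≫ ι) (by
    rw [← Over.w m, Category.assoc, ← Category.assoc ι, IsIso.inv_hom_id_assoc])
  have hq : q ≫ m = 𝟙 T := Over.OverMorphism.ext (by
    show (inv g₀ ≫ ι) ≫ m.left = _
    rw [Category.assoc]; exact IsIso.inv_hom_id g₀)
  let z := u.obj (Over.mk q)
  have hzT : z.obj.fst.left = T := u.w_obj _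
  let J : z.obj.fst ≅ Over.mk (𝟙 T) := Over.isoMk (eqToIso hzT) (by
    have h1 : z.obj.fst.hom = eqToHom hzT ≫ q ≫ m := by simpa [baseSec, G] using hm (Over.mk q)
    rw [h1, hq]; rfl)
  refine ⟨z.obj.snd, (z.obj.iso.symm ≪≫ c.toFunctor.mapIso J ≪≫ ε).hom, ((fpSnd c f).w_obj z).trans hzT, ?_⟩
  haveI := hε
  refine IsHomLift.of_fac' 𝒴.p (𝟙 T) _ ((f.w_obj _).trans (((fpSnd c f).w_obj z).trans hzT)) hy ?_
  simp only [Iso.trans_hom, Iso.symm_hom, Functor.mapIso_hom, Functor.map_comp,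
    IsHomLift.fac' 𝒴.p (𝟙 T) ε.hom]
  rw [show 𝒴.p.map z.obj.iso.inv = inv (𝒴.p.map z.obj.iso.hom) by rw [← Functor.map_inv]; simp,
    p_map_eq c J.hom, show (overCat T).p.map J.hom = eqToHom hzT from rfl]
  simp [fp_iso_map]

end Groth.Agent.AlgSt88
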