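import Groth.Agent.AlgSt88.AtlasFp
import Groth.Prelude.Def_AlgSt4

/-! Points, quasi-compactness and universal injectivity: formal properties. -/

set_option autoImplicit false
set_option backward.isDefEq.respectTransparency false
set_option backward.isDefEq.respectTransparency.types false
universe u

open CategoryTheory CategoryTheory.Limits AlgebraicGeometry Opposite AlgSt FibCat

namespace Groth.Agent.AlgSt88

variable {S : Scheme.{u}} {𝒳 𝒴 𝒵 : AlgSt.Cat S} {K : Precoverage Scheme.{u}}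

theorem points_map_congr {F G : 𝒳 ⥤ᵇ 𝒴} (α : F ≅ G) (x : Points 𝒳) : Points.map F x = Points.map G x := by
  obtain ⟨p, rfl⟩ := Points.mk_surjective x
  exact Points.sound ⟨p.map F, 𝟙 _, α.hom.toNatTrans.app p.obj, trivial⟩

theorem points_map_comp (F : 𝒳 ⥤ᵇ 𝒴) (G : 𝒴 ⥤ᵇ 𝒵) (x : Points 𝒳) :
    Points.map (BasedFunctor.comp F G) x = Points.map G (Points.map F x) := by
  obtain ⟨p, rfl⟩ := Points.mk_surjective x
  rfl

theorem points_map_id (x : Points 𝒳) : Points.map (BasedFunctor.id 𝒳) x = x := by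
  obtain ⟨p, rfl⟩ := Points.mk_surjective x
  rfl

theorem points_map_bijective {F : 𝒳 ⥤ᵇ 𝒴} (hF : IsEquivOver F) : Function.Bijective (Points.map F) := by
  obtain ⟨G, -, ⟨a⟩, ⟨b⟩⟩ := isEquivOver_inverse hF
  refine Function.bijective_iff_has_inverse.2 ⟨Points.map G, fun x => ?_, fun y => ?_⟩
  · rw [← points_map_comp, points_map_congr a, points_map_id]
  · rw [← points_map_comp, points_map_congr b, points_map_id]

theorem isQuasiCompact_of_equiv {e : 𝒳 ⥤ᵇ 𝒴} (he : IsEquivOver e) (h : IsQuasiCompact 𝒳) : IsQuasiCompact 𝒴 := by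
  obtain ⟨U, x, hU, h1, h2⟩ := h
  exact ⟨U, BasedFunctor.comp x e, hU, (repByAlgSpWith_postcomp_equiv he).2 h1,
    (repByAlgSpWith_postcomp_equiv he).2 h2⟩

theorem isQuasiCompactMor_fpFst {f : 𝒳 ⥤ᵇ 𝒴} (g : 𝒵 ⥤ᵇ 𝒴) (hf : AlgSt.IsQuasiCompactMor K f) :
    AlgSt.IsQuasiCompactMor K (fpFst g f) := fun 𝒲 hW hq h => by
  obtain ⟨e, he, -, -⟩ := isEquivOver_inverse (isEquivOver_fpPaste h g f)
  exact isQuasiCompact_of_equiv he (hf 𝒲 hW hq _)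

/-- The base change of a composite. -/
def fpCompMap (h : 𝒵 ⥤ᵇ 𝒴) {𝒲 : AlgSt.Cat S} (f : 𝒲 ⥤ᵇ 𝒳) (g : 𝒳 ⥤ᵇ 𝒴) :
    fp (BasedFunctor.comp (fpSwap h g) (fpFst g h)) f ⥤ᵇ fp h (BasedFunctor.comp f g) :=
  BasedFunctor.comp (fpMapFst (fpFst g h) f (fpSwap h g))
    (BasedFunctor.comp (fpSwap (fpFst g h) f) (BasedFunctor.comp (fpPaste f g h) (fpSwap (BasedFunctor.comp f g) h)))

theorem isEquivOver_fpCompMap (h : 𝒵 ⥤ᵇ 𝒴) {𝒲 : AlgSt.Cat S} (f : 𝒲 ⥤ᵇ 𝒳) (g : 𝒳 ⥤ᵇ 𝒴) :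
    IsEquivOver (fpCompMap h f g) :=
  isEquivOver_comp (isEquivOver_fpMapFst _ _ _ isEquivOver_fpSwap) (isEquivOver_comp isEquivOver_fpSwap
    (isEquivOver_comp (isEquivOver_fpPaste f g h) isEquivOver_fpSwap))

theorem isQuasiCompactMor_comp (hY : IsAlgStack K 𝒳) (hZ : IsAlgStack K 𝒴) {𝒲 : AlgSt.Cat S}
    {f : 𝒲 ⥤ᵇ 𝒳} {g : 𝒳 ⥤ᵇ 𝒴} (hf : AlgSt.IsQuasiCompactMor K f) (hg : AlgSt.IsQuasiCompactMor K g) :
    AlgSt.IsQuasiCompactMor K (BasedFunctor.comp f g) := fun 𝒱 hV hq h => by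
  exact isQuasiCompact_of_equiv (isEquivOver_fpCompMap h f g)
    (hf (fp h g) (isAlgStack_fp hZ.isStack hZ.diag hV hY h g) (hg 𝒱 hV hq h) _)

theorem isUnivInjective_fpFst {f : 𝒳 ⥤ᵇ 𝒴} (g : 𝒵 ⥤ᵇ 𝒴) (hf : IsUnivInjective K f) :
    IsUnivInjective K (fpFst g f) := fun 𝒲 hW h => by
  intro a b e
  apply (points_map_bijective (isEquivOver_fpPaste h g f)).1
  apply hf 𝒲 hW (BasedFunctor.comp h g)
  rw [← points_map_comp, ← points_map_comp]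
  exact e

theorem isUnivInjective_comp (hY : IsAlgStack K 𝒳) (hZ : IsAlgStack K 𝒴) {𝒲 : AlgSt.Cat S}
    {f : 𝒲 ⥤ᵇ 𝒳} {g : 𝒳 ⥤ᵇ 𝒴} (hf : IsUnivInjective K f) (hg : IsUnivInjective K g) :
    IsUnivInjective K (BasedFunctor.comp f g) := fun 𝒱 hV h => by
  let π := BasedFunctor.comp (fpSwap h g) (fpFst g h)
  have hc := points_map_bijective (isEquivOver_fpCompMap h f g)
  intro a b e
  obtain ⟨a, rfl⟩ := hc.2 a
  obtain ⟨b, rfl⟩ := hc.2 b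
  refine congrArg _ (hf (fp h g) (isAlgStack_fp hZ.isStack hZ.diag hV hY h g) π (hg 𝒱 hV h ?_))
  rw [← points_map_comp, ← points_map_comp] at e ⊢
  exact e

end Groth.Agent.AlgSt88
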