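import Groth.Agent.AlgSt88.RepCrit
import Groth.Agent.Fib44.Basic

/-! A category representable over a stack by algebraic spaces is a stack. -/

set_option autoImplicit false
set_option backward.isDefEq.respectTransparency false
set_option backward.isDefEq.respectTransparency.types false
set_option linter.style.haveILetI false
universe u

open CategoryTheory CategoryTheory.Limits AlgebraicGeometry Opposite AlgSt FibCat

namespace Groth.Agent.AlgSt88

variable {S : Scheme.{u}} {𝒳 𝒴 : AlgSt.Cat S}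

theorem isStack_of_repByAlgSp (h : RepByAlgSp 𝒳) : Stk.IsStack (QuotSh.J Scheme.fppfPrecoverage S) 𝒳 := by
  obtain ⟨F, e, he⟩ := h
  exact (Fib44.isStack_iff_of_isEquivOver he _).1 (isDM_ofSp F).1.isStack

/-- A category fibred in groupoids representable over a stack is a stack. -/
theorem isStack_of_repByAlgSp1 (hX : IsFibGrpd 𝒳.p) (hY : Stk.IsStack (QuotSh.J Scheme.fppfPrecoverage S) 𝒴)
    {j : 𝒳 ⥤ᵇ 𝒴} (hj : RepByAlgSp1 j) : Stk.IsStack (QuotSh.J Scheme.fppfPrecoverage S) 𝒳 := by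
  refine ⟨hX, fun U R hR => ?_⟩
  haveI := faithful_of_repByAlgSp1 hX hY.1 hj
  haveI hres : (Stk.resSieve R 𝒴).IsEquivalence := hY.2 R hR
  have hP : ∀ y : overCat U ⥤ᵇ 𝒴, (Stk.resSieve R (fp y j)).IsEquivalence := fun y =>
    (isStack_of_repByAlgSp (hj U y)).2 R hR
  refine { faithful := ⟨fun {x₁ x₂ α β} h => ?_⟩, full := ⟨fun {x₁ x₂} θ => ?_⟩, essSurj := ⟨fun d => ?_⟩ }
  · have hh : BasedCategory.whiskerRight α j = BasedCategory.whiskerRight β j := by
      refine (Stk.resSieve R 𝒴).map_injective ?_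
      apply BasedNatTrans.homCategory.ext
      ext a
      exact congrArg (fun t => j.map (t.toNatTrans.app a)) h
    apply BasedNatTrans.homCategory.ext
    ext a
    exact j.toFunctor.map_injective (congrArg (fun t => t.toNatTrans.app a) hh)
  · haveI := Fib44.isIso_basedNatTrans_of_fibGrpd hX θ
    obtain ⟨ψ, hψ⟩ := (Stk.resSieve R 𝒴).map_surjective
      (X := BasedFunctor.comp x₁ j) (Y := BasedFunctor.comp x₂ j) (BasedCategory.whiskerRight θ j)
    haveI := Fib44.isIso_basedNatTrans_of_fibGrpd hY.1 ψ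
    let y : overCat U ⥤ᵇ 𝒴 := BasedFunctor.comp x₁ j
    let G₁ : overCat U ⥤ᵇ fp y j := fpLift (F := y) (G := j) (BasedFunctor.id _) x₁ (Iso.refl _)
    let G₂ : overCat U ⥤ᵇ fp y j := fpLift (F := y) (G := j) (BasedFunctor.id _) x₂ (asIso ψ)
    have hw : ∀ a, y.map (𝟙 ((Stk.sieveIncl R).obj a)) ≫ ψ.toNatTrans.app ((Stk.sieveIncl R).obj a) =
        𝟙 _ ≫ j.map (θ.toNatTrans.app a) := fun a => by
      refine (congrArg (fun t => t ≫ ψ.toNatTrans.app ((Stk.sieveIncl R).obj a))
        (map_id' y ((Stk.sieveIncl R).obj a))).trans ?_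
      exact (Category.id_comp _).trans ((congrArg (fun t => t.toNatTrans.app a) hψ).trans (Category.id_comp _).symm)
    let η : BasedFunctor.comp (Stk.sieveIncl R) G₁ ⟶ BasedFunctor.comp (Stk.sieveIncl R) G₂ :=
      { toNatTrans :=
          { app := fun a => fpHom (𝟙 ((Stk.sieveIncl R).obj a)) (θ.toNatTrans.app a) (hw a)
            naturality := fun a b g => fpHom_ext
              ((Category.comp_id _).trans (Category.id_comp _).symm) (θ.toNatTrans.naturality g) }
        isHomLift' := fun a => fp_isHomLift _ (IsHomLift.id rfl) }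
    haveI := hP y
    obtain ⟨η', hη⟩ := (Stk.resSieve R (fp y j)).map_surjective (X := G₁) (Y := G₂) η
    refine ⟨BasedCategory.whiskerRight η' (fpSnd y j), ?_⟩
    apply BasedNatTrans.homCategory.ext
    ext a
    exact congrArg (fun t => (t.toNatTrans.app a).hom.snd) hη
  · let y := (Stk.resSieve R 𝒴).objPreimage (BasedFunctor.comp d j)
    let γ : BasedFunctor.comp (Stk.sieveIncl R) y ≅ BasedFunctor.comp d j :=
      (Stk.resSieve R 𝒴).objObjPreimageIso (BasedFunctor.comp d j)
    haveI := hP y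
    let D : Stk.sieveCat R ⥤ᵇ fp y j := fpLift (F := y) (G := j) (Stk.sieveIncl R) d γ
    let G := (Stk.resSieve R (fp y j)).objPreimage D
    let δ : BasedFunctor.comp (Stk.sieveIncl R) G ≅ D := (Stk.resSieve R (fp y j)).objObjPreimageIso D
    exact ⟨BasedFunctor.comp G (fpSnd y j), ⟨bRight δ (fpSnd y j)⟩⟩

/-- A category fibred in groupoids representable over an algebraic stack is an algebraic stack. -/
theorem isAlgStack_of_repByAlgSp1 (hX : IsFibGrpd 𝒳.p) (h𝒴 : IsAlgStack Scheme.fppfPrecoverage 𝒴)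
    {j : 𝒳 ⥤ᵇ 𝒴} (hj : RepByAlgSp1 j) : IsAlgStack Scheme.fppfPrecoverage 𝒳 := by
  obtain ⟨V, y, hy, hy'⟩ := h𝒴.atlas
  obtain ⟨W, e, he⟩ := hj V y
  refine isAlgStack_of_chart (isStack_of_repByAlgSp1 hX h𝒴.isStack hj) W (BasedFunctor.comp e (fpSnd y j))
    ((repByAlgSpWith_precomp_equiv he).2 ?_) ((repByAlgSpWith_precomp_equiv he).2 ?_)
  · exact repByAlgSpWith_of_iso (f := BasedFunctor.comp (fpSwap y j) (fpFst j y)) (Iso.refl _)
      ((repByAlgSpWith_precomp_equiv isEquivOver_fpSwap).2 (repByAlgSpWith_fpFst j hy))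
  · exact repByAlgSpWith_of_iso (f := BasedFunctor.comp (fpSwap y j) (fpFst j y)) (Iso.refl _)
      ((repByAlgSpWith_precomp_equiv isEquivOver_fpSwap).2 (repByAlgSpWith_fpFst j hy'))

end Groth.Agent.AlgSt88
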