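import Groth.Agent.AlgSt88.PowPt
import Groth.Agent.AlgSt88.StackRep
import Groth.Agent.AlgSt88.LocPSt
import Groth.Agent.SpFP87.LocPRep
import Groth.Agent.SpFP87.EtLocInst

/-!
Fibre powers of a smooth chart of a stack are algebraic spaces, smooth over the chart.
-/

set_option autoImplicit false
set_option backward.isDefEq.respectTransparency false
set_option backward.isDefEq.respectTransparency.types false
universe u

open CategoryTheory CategoryTheory.Limits AlgebraicGeometry Opposite AlgSt FibCat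

namespace Groth.Agent.AlgSt88

variable {S : Scheme.{u}} {𝒵 : AlgSt.Cat S} {U : Over S} {w : overCat U ⥤ᵇ 𝒵} (hZ : IsFibGrpd 𝒵.p)

/-- The fibre power is an algebraic space with smooth coordinates. -/
def GoodPow (w : overCat U ⥤ᵇ 𝒵) (hZ : IsFibGrpd 𝒵.p) (ι : Type u) : Prop :=
  ∃ h : Presheaf.IsSheaf (AlgSp.J S) (powPsh w hZ ι), AlgSp.IsAlgSpace (⟨powPsh w hZ ι, h⟩ : AlgSp.Sp S) ∧
    ∀ i, AlgSp.LocP @Smooth
      (ObjectProperty.homMk (powProj hZ i) : (⟨powPsh w hZ ι, h⟩ : AlgSp.Sp S) ⟶ (AlgSp.yon S).obj U)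

theorem vert_sq {T : Over S} {a b : T ⟶ U} {k k' : wObj w a ⟶ wObj w b} (h : k = k') (p : 𝟙 T ≫ b = b)
    (q : 𝟙 T ≫ a = a) : k ≫ wRes w (𝟙 T) p = wRes w (𝟙 T) q ≫ k' := by
  rw [h, wRes_id, wRes_id, Category.comp_id, Category.id_comp]

theorem vert_sq₂ {T : Over S} {a b c : T ⟶ U} (k : wObj w a ⟶ wObj w c) (h₁ : 𝟙 T ≫ b = c) (h₂ : 𝟙 T ≫ c = b)
    (q : 𝟙 T ≫ a = a) : (k ≫ wRes w (𝟙 T) h₁) ≫ wRes w (𝟙 T) h₂ = wRes w (𝟙 T) q ≫ k := by
  obtain rfl : b = c := by simpa using h₁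
  rw [wRes_id, wRes_id, Category.comp_id, Category.comp_id, Category.id_comp]

theorem reindex_eq_self {ι : Type u} {T : Over S} (f : ι → ι) (hf : ∀ i, f i = i) (x : PowPt w ι T) :
    x.reindex f = x := by
  obtain rfl : f = id := funext hf
  rfl

theorem goodPow_of_equiv {ι κ : Type u} (e : ι ≃ κ) (h : GoodPow w hZ ι) : GoodPow w hZ κ := by
  obtain ⟨hs, ha, hp⟩ := h
  let a : powPsh w hZ ι ≅ powPsh w hZ κ :=
    { hom := powReindex hZ e.symm
      inv := powReindex hZ e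
      hom_inv_id := by
        ext T x
        exact reindex_eq_self _ (fun i => e.symm_apply_apply i) x
      inv_hom_id := by
        ext T x
        exact reindex_eq_self _ (fun i => e.apply_symm_apply i) x }
  have hs' : Presheaf.IsSheaf (AlgSp.J S) (powPsh w hZ κ) := (Presheaf.isSheaf_of_iso_iff a).1 hs
  let A : (⟨powPsh w hZ ι, hs⟩ : AlgSp.Sp S) ≅ ⟨powPsh w hZ κ, hs'⟩ :=
    (fullyFaithfulSheafToPresheaf (AlgSp.J S) _).preimageIso a
  refine ⟨hs', ha.of_iso A, fun j => ?_⟩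
  have he : (ObjectProperty.homMk (powProj hZ j) : (⟨powPsh w hZ κ, hs'⟩ : AlgSp.Sp S) ⟶ (AlgSp.yon S).obj U) =
      A.inv ≫ ObjectProperty.homMk (powProj hZ (e.symm j)) := by
    refine ObjectProperty.hom_ext _ ?_
    ext T x
    exact congrArg (fun i => ULift.up (x.u i)) (e.apply_symm_apply j).symm
  rw [he]
  have := respectsIso_locP (S := S) @Smooth
  exact MorphismProperty.RespectsIso.precomp (AlgSp.LocP @Smooth) A.inv _ (hp _)

theorem goodPow_two (hw : RepByAlgSpWith (AlgSp.LocP @Smooth) w) : GoodPow w hZ Two.{u} := by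
  obtain ⟨F, e, he, -⟩ := hw U w
  have hfp : RepByAlgSp (fp w w) := ⟨F, e, he⟩
  have hs' := isEquivOver_twoToFp (w := w) hZ
  have hs : Presheaf.IsSheaf (AlgSp.J S) (powPsh w hZ Two.{u}) :=
    (isSheaf_iff_isSheaf_of_type _ _).2 ((Fib44.isStack_ofPsh_iff _).1
      ((Fib44.isStack_iff_of_isEquivOver hs' _).2 (isStack_of_repByAlgSp hfp)))
  let R : AlgSp.Sp S := ⟨powPsh w hZ Two.{u}, hs⟩
  refine ⟨hs, isAlgSpace_of_repByAlgSp_ofSp (P := R) (repByAlgSp_of_equiv' hfp hs'), ?_⟩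
  have ht : AlgSp.LocP @Smooth (ObjectProperty.homMk (powProj hZ ⟨true⟩) : R ⟶ (AlgSp.yon S).obj U) := by
    have := respectsIso_locP (S := S) @Smooth
    have h := RepOver.any (F := R) ((repByAlgSpWith_iff_repOver w).1 hw U w) hs'
    exact h
  rintro ⟨_ | _⟩
  · let A : R ⟶ R := ObjectProperty.homMk (powReindex hZ fun i => ⟨!i.down⟩)
    have hA : A ≫ A = 𝟙 R := by
      refine ObjectProperty.hom_ext _ ?_
      ext T x
      exact reindex_eq_self (fun i : Two.{u} => ⟨!!i.down⟩) (fun i => ULift.ext _ _ (Bool.not_not _)) x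
    have : IsIso A := ⟨A, hA, hA⟩
    have he : (ObjectProperty.homMk (powProj hZ ⟨false⟩) : R ⟶ (AlgSp.yon S).obj U) =
        A ≫ ObjectProperty.homMk (powProj hZ ⟨true⟩) := rfl
    rw [he]
    have := respectsIso_locP (S := S) @Smooth
    exact MorphismProperty.RespectsIso.precomp (AlgSp.LocP @Smooth) A _ ht
  · exact ht

theorem goodPow_single [Unique (PUnit.{u + 1})] : GoodPow w hZ PUnit.{u + 1} := by
  let a : powPsh w hZ PUnit.{u + 1} ⟶ (AlgSp.pyon S).obj U := powProj hZ PUnit.unit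
  have : IsIso a := by
    rw [NatTrans.isIso_iff_isIso_app]
    intro T
    rw [isIso_iff_bijective]
    refine ⟨fun x x' h => ?_, fun t => ?_⟩
    · refine PowPt.ext_base hZ PUnit.unit (fun _ => congrArg ULift.down h) ?_
      intro i
      rw [PowPt.α_self hZ x, PowPt.α_self hZ x', Category.id_comp, Category.comp_id]
    · exact ⟨(⟨fun _ => t.down, fun _ _ => 𝟙 _, fun _ _ => IsHomLift.id (Fib44.obj_over w _),
        fun _ _ _ => Category.id_comp _⟩ : PowPt w PUnit.{u + 1} (unop T)), rfl⟩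
  have hs : Presheaf.IsSheaf (AlgSp.J S) (powPsh w hZ PUnit.{u + 1}) :=
    (Presheaf.isSheaf_of_iso_iff (asIso a)).2 ((AlgSp.yon S).obj U).property
  let A : (⟨powPsh w hZ PUnit.{u + 1}, hs⟩ : AlgSp.Sp S) ≅ (AlgSp.yon S).obj U :=
    (fullyFaithfulSheafToPresheaf (AlgSp.J S) _).preimageIso (asIso a)
  have hA := (AlgSp.IsAlgSpace.yon_obj U).of_iso A.symm
  refine ⟨hs, hA, fun _ => ?_⟩
  have : MorphismProperty.ContainsIdentities (@Smooth : MorphismProperty Scheme.{u}) :=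
    ⟨fun X => (inferInstance : Smooth (𝟙 X))⟩
  exact SpFP87.locP_of_isIso A.hom hA (AlgSp.IsAlgSpace.yon_obj U)

/-- The indices of one new point and of the base point. -/
def optTwo {ι : Type u} (i₁ : ι) : Two.{u} → Option ι := fun i => bif i.down then some i₁ else none

theorem isPullback_powStep {ι : Type u} (i₁ : ι) :
    IsPullback (powReindex (w := w) hZ (some : ι → Option ι)) (powReindex hZ (optTwo i₁))
      (powProj hZ i₁) (powProj hZ (⟨true⟩ : Two.{u})) := by
  refine IsPullback.of_forall_isPullback_app fun T => (Types.isPullback_iff _ _ _ _).2 ⟨rfl, ?_, ?_⟩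
  · rintro x x' ⟨h₁, h₂⟩
    have r₁ : PowPt.Rel (𝟙 (unop T)) ((x : PowPt w (Option ι) (unop T)).reindex some)
        ((x' : PowPt w (Option ι) (unop T)).reindex some) := by
      have h₁' : (x : PowPt w (Option ι) (unop T)).reindex some = (x' : PowPt w (Option ι) (unop T)).reindex some := h₁
      rw [h₁']
      exact PowPt.rel_id _
    have r₂ : PowPt.Rel (𝟙 (unop T)) ((x : PowPt w (Option ι) (unop T)).reindex (optTwo i₁))
        ((x' : PowPt w (Option ι) (unop T)).reindex (optTwo i₁)) := by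
      have h₂' : (x : PowPt w (Option ι) (unop T)).reindex (optTwo i₁) =
          (x' : PowPt w (Option ι) (unop T)).reindex (optTwo i₁) := h₂
      rw [h₂']
      exact PowPt.rel_id _
    refine (PowPt.rel_of_base hZ (some i₁) ?_ ?_).unique hZ (PowPt.rel_id x')
    · rintro (_ | i)
      · exact r₂.choose ⟨false⟩
      · exact r₁.choose i
    · rintro (_ | i)
      · exact r₂.choose_spec ⟨false⟩ ⟨true⟩
      · exact r₁.choose_spec i i₁
  · intro v r h
    let v' : PowPt w ι (unop T) := v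
    let r' : PowPt w Two.{u} (unop T) := r
    have h' : 𝟙 (unop T) ≫ v'.u i₁ = r'.u ⟨true⟩ :=
      (Category.id_comp _).trans (congrArg ULift.down h)
    let v₂ : Option ι → (unop T ⟶ U) := fun o => o.elim (r'.u ⟨false⟩) v'.u
    let β : ∀ o, wObj w (v₂ o) ⟶ wObj w (v'.u i₁) := fun o => match o with
      | none => r'.α ⟨false⟩ ⟨true⟩ ≫ wRes w (𝟙 (unop T)) h'
      | some i => v'.α i i₁
    have hβ : ∀ o, 𝒵.p.IsHomLift (𝟙 (unop T)) (β o) := by
      rintro (_ | i)
      · have := r'.lift ⟨false⟩ ⟨true⟩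
        exact inferInstanceAs (𝒵.p.IsHomLift (𝟙 (unop T)) (r'.α ⟨false⟩ ⟨true⟩ ≫ wRes w (𝟙 (unop T)) h'))
      · exact v'.lift i i₁
    obtain ⟨α, hα, hαc, hαβ⟩ := PowPt.exists_of_base hZ v₂ β hβ
    let x : PowPt w (Option ι) (unop T) := ⟨v₂, α, hα, hαc⟩
    have e₀ : ∀ o, x.α o (some i₁) = β o := fun o => by
      have e := hαβ o (some i₁)
      simp only [β] at e
      rw [PowPt.α_self hZ v'] at e
      exact (Category.comp_id (x.α o (some i₁))).symm.trans e
    refine ⟨x, PowPt.ext_base hZ i₁ (fun i => rfl) fun i => ?_,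
      PowPt.ext_base hZ ⟨true⟩ ?_ ?_⟩
    · exact vert_sq (w := w) (k := x.α (some i) (some i₁)) (k' := v'.α i i₁) (e₀ (some i)) _ _
    · rintro ⟨_ | _⟩
      · rfl
      · exact congrArg ULift.down h
    · rintro ⟨_ | _⟩
      · refine (congrArg (· ≫ wRes w (𝟙 (unop T)) _) (e₀ none)).trans ?_
        exact vert_sq₂ (r'.α ⟨false⟩ ⟨true⟩) h' _ _
      · rw [PowPt.α_self hZ, PowPt.α_self hZ, Category.id_comp, Category.comp_id]

theorem goodPow_option {ι : Type u} (hw : RepByAlgSpWith (AlgSp.LocP @Smooth) w) (i₁ : ι)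
    (h : GoodPow w hZ ι) : GoodPow w hZ (Option ι) := by
  obtain ⟨hs, ha, hp⟩ := h
  obtain ⟨hs₂, ha₂, hp₂⟩ := goodPow_two hZ hw
  let A : AlgSp.Sp S := ⟨powPsh w hZ ι, hs⟩
  let B : AlgSp.Sp S := ⟨powPsh w hZ Two.{u}, hs₂⟩
  let a : A ⟶ (AlgSp.yon S).obj U := ObjectProperty.homMk (powProj hZ i₁)
  let b : B ⟶ (AlgSp.yon S).obj U := ObjectProperty.homMk (powProj hZ ⟨true⟩)
  have sqP := (IsPullback.of_hasPullback a b).map (sheafToPresheaf (AlgSp.J S) (Type (u + 1)))
  have sqQ := isPullback_powStep (w := w) hZ i₁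
  let φ : (pullback a b).obj ≅ powPsh w hZ (Option ι) := sqP.isoIsPullback _ _ sqQ
  have hs' : Presheaf.IsSheaf (AlgSp.J S) (powPsh w hZ (Option ι)) :=
    (Presheaf.isSheaf_of_iso_iff φ).1 (pullback a b).property
  let C : AlgSp.Sp S := ⟨powPsh w hZ (Option ι), hs'⟩
  let pC : C ⟶ A := ObjectProperty.homMk (powReindex hZ some)
  let qC : C ⟶ B := ObjectProperty.homMk (powReindex hZ (optTwo i₁))
  have hsq : IsPullback pC qC a b :=
    IsPullback.of_map (sheafToPresheaf (AlgSp.J S) (Type (u + 1))) (ObjectProperty.hom_ext _ sqQ.w) sqQ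
  have hC : AlgSp.IsAlgSpace C := SpFP87.isAlgSpace_of_isPullback hsq ha ha₂ (AlgSp.IsAlgSpace.yon_obj U).diag
  refine ⟨hs', hC, ?_⟩
  rintro (_ | i)
  · exact SpFP87.locP_comp (f := qC) (g := ObjectProperty.homMk (powProj hZ ⟨false⟩)) hC ha₂
      (AlgSp.IsAlgSpace.yon_obj U)
      (SpFP87.locP_baseChange hsq ha (AlgSp.IsAlgSpace.yon_obj U) ha₂ (hp i₁)) (hp₂ _)
  · exact SpFP87.locP_comp (f := pC) (g := ObjectProperty.homMk (powProj hZ i)) hC ha
      (AlgSp.IsAlgSpace.yon_obj U)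
      (SpFP87.locP_baseChange hsq.flip ha₂ (AlgSp.IsAlgSpace.yon_obj U) ha (hp₂ _)) (hp i)

/-- Nonempty finite fibre powers of a smooth chart are algebraic spaces. -/
theorem goodPow_finite (hw : RepByAlgSpWith (AlgSp.LocP @Smooth) w) (ι : Type u) [Finite ι] (i₀ : ι) :
    GoodPow w hZ ι := by
  revert i₀
  induction ι using Finite.induction_empty_option with
  | of_equiv e ih => exact fun i₀ => goodPow_of_equiv hZ e (ih (e.symm i₀))
  | h_empty => exact fun i₀ => i₀.elim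
  | h_option ih =>
    rename_i α _
    intro _
    rcases isEmpty_or_nonempty α with hα | ⟨⟨i₁⟩⟩
    · have e : PUnit.{u + 1} ≃ Option α :=
        ⟨fun _ => none, fun _ => PUnit.unit, fun _ => rfl, fun o => match o with
          | none => rfl
          | some a => (IsEmpty.false a).elim⟩
      exact goodPow_of_equiv hZ e (goodPow_single hZ)
    · exact goodPow_option hZ hw i₁ (ih i₁)

end Groth.Agent.AlgSt88
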