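import Groth.Agent.AlgSt88.GaloisCover
import Groth.Agent.AlgSt88.PowSp
import Groth.Agent.AlgSt88.QC
import Groth.Agent.AlgSt88.LocalProps
import Groth.Agent.AlgSt88.DiagRep
import Groth.Agent.AlgSt88.DiagDescent
import Groth.Agent.S10542
import Groth.Agent.S10553

/-!
Tools for the descent of charts: data from equivariant tuples, free loci, and descent of smoothness.
-/

set_option autoImplicit false
set_option linter.style.haveILetI false
set_option backward.isDefEq.respectTransparency false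
set_option backward.isDefEq.respectTransparency.types false
universe u

open CategoryTheory CategoryTheory.Limits AlgebraicGeometry Opposite AlgSt FibCat
open Groth.Agent.SpPts86 (openOver openIncl)

namespace Groth.Agent.AlgSt88

variable {S : Scheme.{u}} {𝒵 : AlgSt.Cat S} {U : Over S} {w : overCat U ⥤ᵇ 𝒵}

theorem GalCover.mono {C : Type*} [Category C] {J J' : GrothendieckTopology C} (hJ : J ≤ J') {C' Z : C}
    {m : C' ⟶ Z} {Γ : Type*} [Group Γ] {ρ : Γ →* Aut C'} (h : GalCover J m ρ) : GalCover J' m ρ where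
  cover := hJ _ h.cover
  inv := h.inv
  pairs T l l' e := by
    obtain ⟨Q, hQ, hQg⟩ := h.pairs l l' e
    exact ⟨Q, hJ _ hQ, hQg⟩
  free T l g hg e := hJ _ (h.free l g hg e)

theorem isHomLift_congr {C : Type*} [Category C] {𝒳 : BasedCategory C} {R T : C} {f g : R ⟶ T} (h : f = g)
    {a b : 𝒳.obj} (φ : a ⟶ b) [hφ : 𝒳.p.IsHomLift f φ] : 𝒳.p.IsHomLift g φ := h ▸ hφ

theorem act_congr {T : Over S} {ι : Type u} (x : PowPt w ι T) {i₀ j j' : ι} {r r' : T ⟶ T} (hj : j = j')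
    (hr : r = r') {b : T ⟶ U} (h : r ≫ b = x.u j) (h' : r' ≫ b = x.u j') :
    x.α i₀ j ≫ wRes w r h = x.α i₀ j' ≫ wRes w r' h' := by
  subst hj hr
  rfl

/-- An equivariant tuple gives an object with an action. -/
noncomputable def powDatum {T : Over S} {Γ : Type u} [Group Γ] (ρ : Γ →* Aut T) (x : PowPt w Γ T)
    (h : ∀ g, PowPt.Rel (ρ g).hom (x.reindex (· * g)) x) : GalDatum ρ 𝒵 where
  obj := wObj w (x.u 1)
  act g := x.α 1 (1 * g) ≫ wRes w (ρ g).hom ((h g).choose 1)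
  lift g := by
    have := x.lift 1 (1 * g)
    have : 𝒵.p.IsHomLift (𝟙 T ≫ (ρ g).hom) (x.α 1 (1 * g) ≫ wRes w (ρ g).hom ((h g).choose 1)) := inferInstance
    exact isHomLift_congr (Category.id_comp _) _
  mul g g' := by
    have e₀ : (ρ g').hom ≫ x.u (1 * g) = x.u ((1 * g) * g') := (h g').choose (1 * g)
    have e : x.α (1 * g') ((1 * g) * g') ≫ wRes w (ρ g').hom e₀ =
        wRes w (ρ g').hom ((h g').choose 1) ≫ x.α 1 (1 * g) := (h g').choose_spec 1 (1 * g)
    have e₂ : ((ρ g').hom ≫ (ρ g).hom) ≫ x.u 1 = x.u ((1 * g) * g') := by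
      have h₁ : (ρ g).hom ≫ x.u 1 = x.u (1 * g) := (h g).choose 1
      rw [Category.assoc, h₁, e₀]
    calc (x.α 1 (1 * g') ≫ wRes w (ρ g').hom ((h g').choose 1)) ≫
          x.α 1 (1 * g) ≫ wRes w (ρ g).hom ((h g).choose 1)
        = x.α 1 (1 * g') ≫ (wRes w (ρ g').hom ((h g').choose 1) ≫ x.α 1 (1 * g)) ≫
            wRes w (ρ g).hom ((h g).choose 1) := by simp only [Category.assoc]
      _ = x.α 1 (1 * g') ≫ (x.α (1 * g') ((1 * g) * g') ≫ wRes w (ρ g').hom e₀) ≫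
            wRes w (ρ g).hom ((h g).choose 1) := by rw [e]
      _ = (x.α 1 (1 * g') ≫ x.α (1 * g') ((1 * g) * g')) ≫
            wRes w (ρ g').hom e₀ ≫ wRes w (ρ g).hom ((h g).choose 1) := by simp only [Category.assoc]
      _ = x.α 1 ((1 * g) * g') ≫ wRes w ((ρ g').hom ≫ (ρ g).hom) e₂ := by
          rw [x.comp, wRes_comp w _ _ e₀ ((h g).choose 1) e₂]
      _ = x.α 1 (1 * (g * g')) ≫ wRes w (ρ (g * g')).hom ((h (g * g')).choose 1) :=
          act_congr x (mul_assoc _ _ _) (hom_mul ρ g g') e₂ _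

@[simp]
theorem powDatum_obj {T : Over S} {Γ : Type u} [Group Γ] (ρ : Γ →* Aut T) (x : PowPt w Γ T)
    (h : ∀ g, PowPt.Rel (ρ g).hom (x.reindex (· * g)) x) : (powDatum ρ x h).obj = wObj w (x.u 1) := rfl

/-- Equivariant restriction commutes with the actions. -/
theorem powDatum_act_res {T T' : Over S} {Γ : Type u} [Group Γ] (ρ : Γ →* Aut T) (ρ' : Γ →* Aut T')
    (x : PowPt w Γ T) (x' : PowPt w Γ T') (h : ∀ g, PowPt.Rel (ρ g).hom (x.reindex (· * g)) x)
    (h' : ∀ g, PowPt.Rel (ρ' g).hom (x'.reindex (· * g)) x') (c : T' ⟶ T) (hc : PowPt.Rel c x' x)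
    (hρ : ∀ g, (ρ' g).hom ≫ c = c ≫ (ρ g).hom) (g : Γ) :
    (powDatum ρ' x' h').act g ≫ wRes w c (hc.choose 1) =
      wRes w c (hc.choose 1) ≫ (powDatum ρ x h).act g := by
  have h₁ : c ≫ x.u (1 * g) = x'.u (1 * g) := hc.choose (1 * g)
  have h₂ : (ρ g).hom ≫ x.u 1 = x.u (1 * g) := (h g).choose 1
  have h₃ : ((ρ' g).hom ≫ c) ≫ x.u 1 = x'.u (1 * g) := by rw [hρ, Category.assoc, h₂, h₁]
  have h₄ : (c ≫ (ρ g).hom) ≫ x.u 1 = x'.u (1 * g) := by rw [Category.assoc, h₂, h₁]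
  calc (x'.α 1 (1 * g) ≫ wRes w (ρ' g).hom ((h' g).choose 1)) ≫ wRes w c (hc.choose 1)
      = x'.α 1 (1 * g) ≫ wRes w ((ρ' g).hom ≫ c) h₃ := by
        rw [Category.assoc, wRes_comp w _ _ ((h' g).choose 1) (hc.choose 1) h₃]
    _ = x'.α 1 (1 * g) ≫ wRes w (c ≫ (ρ g).hom) h₄ := by
        congr 1
        exact congrArg w.map (Over.OverMorphism.ext (hρ g))
    _ = (x'.α 1 (1 * g) ≫ wRes w c h₁) ≫ wRes w (ρ g).hom h₂ := by
        rw [Category.assoc, wRes_comp w _ _ h₁ h₂ h₄]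
    _ = (wRes w c (hc.choose 1) ≫ x.α 1 (1 * g)) ≫ wRes w (ρ g).hom h₂ := by rw [hc.choose_spec 1 (1 * g)]
    _ = _ := Category.assoc _ _ _

/-- Two lifts of a morphism are isomorphic over it. -/
theorem exists_iso_of_lifts {C : Type*} [Category C] {𝒳 : BasedCategory C} (hX : IsFibGrpd 𝒳.p) {R T : C}
    (f : R ⟶ T) {a b z : 𝒳.obj} (φ : a ⟶ z) (ψ : b ⟶ z) [𝒳.p.IsHomLift f φ] [𝒳.p.IsHomLift f ψ] :
    ∃ i : a ≅ b, 𝒳.p.IsHomLift (𝟙 R) i.hom ∧ i.hom ≫ ψ = φ := by
  have := Fib44.isSC_of_fibGrpd 𝒳.p hX f ψ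
  let k := Functor.IsCartesian.map 𝒳.p f ψ φ
  have : IsIso k := Fib44.isIso_of_fibGrpd 𝒳.p hX (𝟙 R) k
  exact ⟨asIso k, inferInstanceAs (𝒳.p.IsHomLift (𝟙 R) k), Functor.IsCartesian.fac 𝒳.p f ψ φ⟩

section FreeLocus

variable {G : Type u} [Group G] [Finite G] {V : Over S}

/-- The open locus where a finite group acts freely. -/
theorem exists_free_locus [IsSeparated V.hom] (ρ : G →* Aut V) :
    ∃ (W : V.left.Opens) (ρ' : G →* Aut (openOver V W)),
      (∀ g, (ρ' g).hom ≫ openIncl V W = openIncl V W ≫ (ρ g).hom) ∧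
      (∀ (g : G) (x : (openOver V W).left), g ≠ 1 →
        (openOver V W).left.fromSpecResidueField x ≫ (ρ' g).hom.left ≠
          (openOver V W).left.fromSpecResidueField x) ∧
      ∀ (K : Type u) [Field K] (str : Spec (CommRingCat.of K) ⟶ S) (f : Over.mk str ⟶ V),
        (∀ g, g ≠ 1 → f ≫ (ρ g).hom ≠ f) → f.left (IsLocalRing.closedPoint K) ∈ W := by
  classical
  let C : Set ↥V.left := ⋃ (g : {g : G // g ≠ 1}), eqSet (ρ g.1).hom (𝟙 V)
  let W : V.left.Opens := ⟨Cᶜ, (isClosed_iUnion_of_finite fun _ => isClosed_eqSet _ _).isOpen_compl⟩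
  have hW : ∀ {x : ↥V.left}, x ∈ W ↔ ∀ g, g ≠ 1 → x ∉ eqSet (ρ g).hom (𝟙 V) := by
    intro x
    refine ⟨fun hx g hg he => hx (Set.mem_iUnion.2 ⟨⟨g, hg⟩, he⟩), fun h hx => ?_⟩
    obtain ⟨p, hp⟩ := Set.mem_iUnion.1 hx
    exact h _ p.2 hp
  let j := openIncl V W
  have hmono : Mono j := (Over.forget S).mono_of_mono_map (inferInstanceAs (Mono W.ι))
  have hst : ∀ g, Set.range (j ≫ (ρ g).hom).left ⊆ Set.range W.ι := fun g => by
    rintro _ ⟨x, rfl⟩
    rw [W.range_ι]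
    refine hW.2 fun h hh => ?_
    rintro ⟨y, hy⟩
    have hh' : g⁻¹ * h * g ≠ 1 := fun e => hh (by
      calc h = g * (g⁻¹ * h * g) * g⁻¹ := by group
        _ = 1 := by rw [e]; group)
    refine hW.1 x.2 (g⁻¹ * h * g) hh' ?_
    have e : (equalizer.ι (ρ h).hom (𝟙 V) ≫ (ρ g).inv) ≫ (ρ (g⁻¹ * h * g)).hom =
        (equalizer.ι (ρ h).hom (𝟙 V) ≫ (ρ g).inv) ≫ 𝟙 V := by
      rw [Category.comp_id, Category.assoc, mul_assoc, ← hom_mul ρ g⁻¹ (h * g), ← hom_mul ρ h g,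
        Category.assoc, Iso.inv_hom_id_assoc, equalizer.condition_assoc, Category.id_comp, map_inv]
      rfl
    have := mem_eqSet_of_eq _ e y
    rwa [Over.comp_left, Scheme.Hom.comp_apply, hy, ← Scheme.Hom.comp_apply, ← Over.comp_left,
      Category.assoc, Iso.hom_inv_id, Category.comp_id] at this
  let c : G → (openOver V W ⟶ openOver V W) := fun g =>
    Over.homMk (IsOpenImmersion.lift W.ι (j ≫ (ρ g).hom).left (hst g)) (by
      change _ ≫ W.ι ≫ V.hom = _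
      rw [IsOpenImmersion.lift_fac_assoc]; exact Over.w (j ≫ (ρ g).hom))
  have hc : ∀ g, c g ≫ j = j ≫ (ρ g).hom := fun g =>
    Over.OverMorphism.ext (IsOpenImmersion.lift_fac _ _ _)
  have hmul : ∀ g g', c (g * g') = c g' ≫ c g := fun g g' => by
    rw [← cancel_mono j, Category.assoc, hc, hc, reassoc_of% (hc g'), hom_mul ρ g g']
  have hone : c 1 = 𝟙 _ := by
    rw [← cancel_mono j, hc, hom_one, Category.comp_id, Category.id_comp]
  let a : G → Aut (openOver V W) := fun g =>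
    ⟨c g, c g⁻¹, by rw [← hmul, inv_mul_cancel, hone], by rw [← hmul, mul_inv_cancel, hone]⟩
  refine ⟨W, MonoidHom.mk' a fun g g' => Iso.ext (by rw [Aut.Aut_mul_def]; exact hmul g g'), hc,
    fun g x hg hx => ?_, fun K _ str f hf => hW.2 fun g hg he => hf g hg ?_⟩
  · let O := (openOver V W).left
    let p : Over.mk (O.fromSpecResidueField x ≫ (openOver V W).hom) ⟶ openOver V W :=
      Over.homMk (O.fromSpecResidueField x) rfl
    have hp : p ≫ c g = p := Over.OverMorphism.ext hx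
    have hpe : (p ≫ j) ≫ (ρ g).hom = (p ≫ j) ≫ 𝟙 V := by
      rw [Category.comp_id, Category.assoc, ← hc, reassoc_of% hp]
    have := mem_eqSet_of_eq (p ≫ j) hpe (IsLocalRing.closedPoint (O.residueField x))
    exact hW.1 ((p.left (IsLocalRing.closedPoint (O.residueField x))).2) _ hg this
  · exact (eq_of_mem_eqSet f he).trans (Category.comp_id f)

end FreeLocus

theorem stableBC_surj : StableBC (S := S) AlgSp.IsSurjectiveMor :=
  fun _ _ _ _ _ _ _ _ _ _ _ _ sq ha => SpFP87.isSurjectiveMor_baseChange sq ha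

theorem sj_overMap {U V : Over S} (c : U ⟶ V) (hc : Surjective c.left) : Sj (overMap c) := by
  obtain ⟨ι⟩ := overMap_iso c
  exact repByAlgSpWith_of_iso ι ((repByAlgSpWith_postcomp_equiv (isEquivOver_toOverCat V)).2
    ((repByAlgSpWith_precomp_equiv (isEquivOver_ofOverCat U)).2
      (repByAlgSpWith_ofSpMap stableBC_surj respectsIso_surj (F := ⟨_, AlgSp.IsAlgSpace.yon_obj U⟩)
        (G := ⟨_, AlgSp.IsAlgSpace.yon_obj V⟩) _
        (SpPts86.isSurjectiveMor_of_repWith ((AlgSp.repWith_yon_map_iff (S := S) @Surjective c).2 hc)))))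

/-- Smoothness of a chart descends along smooth surjections. -/
theorem sm_of_sm_comp (hZ : IsFibGrpd 𝒵.p) (hΔ : RepByAlgSp1 (diag (toSelf 𝒵))) {W M : Over S} (m : W ⟶ M)
    (hm : Smooth m.left) (hms : Surjective m.left) (p : overCat M ⥤ᵇ 𝒵)
    (h : Sm (BasedFunctor.comp (overMap m) p)) : Sm p := by
  haveI := respectsIso_surj (S := S)
  haveI := respectsIso_locP (S := S) @Smooth
  refine repByAlgSpWith_of_comp_cover (R := AlgSp.LocP @Smooth ⊓ AlgSp.IsSurjectiveMor)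
    (isFibGrpd_overCat W) (isFibGrpd_overCat M) (stableBC_locP @Smooth)
    (fppf_local_of_fpqc (S10542.result S)) inferInstance
    (fun F G a ha => ⟨spaceDescends_locP @Smooth F G a
        (by intro U ξ F' fst snd sq; obtain ⟨h', hA, hQ⟩ := ha ξ fst snd sq; exact ⟨h', hA, hQ.1⟩),
      spaceDescends_surj F G a
        (by intro U ξ F' fst snd sq; obtain ⟨h', hA, hQ⟩ := ha ξ fst snd sq; exact ⟨h', hA, hQ.2⟩)⟩)
    (local_of_isLocalOnSource (S10553.result S)) ?_ (repByAlgSpWith_inf (sm_overMap m hm) (sj_overMap m hms)) h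
  exact fun T y => repByAlgSp1_of_diag hZ hΔ (isFibGrpd_overCat M) (repByAlgSp_overCat T) (repByAlgSp_overCat M) y p

end Groth.Agent.AlgSt88
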