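import Groth.Agent.AlgSt88.QuotDiagQA
import Groth.Agent.AlgSt88.FppfDescent
import Groth.Agent.AlgSt88.SpQProps
import Groth.Agent.AlgSt88.HenselSmallCharts
import Groth.Agent.AlgSt88.SpQDescend

/-! Quasi-affine diagonals are read on the affine opens of a chart. -/

set_option autoImplicit false
set_option maxHeartbeats 1000000
set_option linter.style.haveILetI false
set_option linter.unusedVariables false
set_option backward.isDefEq.respectTransparency false
set_option backward.isDefEq.respectTransparency.types false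
universe u

open CategoryTheory CategoryTheory.Limits AlgebraicGeometry Opposite AlgSt FibCat

namespace Groth.Agent.AlgSt88

open SpFP87 (qaMor)

variable {S : Scheme.{u}} {𝒳 : AlgSt.Cat S}

theorem qaMor_of_isAffineHom {A B : Scheme.{u}} (f : A ⟶ B) [IsAffineHom f] : qaMor f :=
  Amp73.isQuasiAffine_of_isAffineHom f

theorem repQA_comp {X Y Z : AlgSp.Sp S} (a : X ⟶ Y) (b : Y ⟶ Z) (ha : RepQA a) (hb : RepQA b) : RepQA (a ≫ b) := by
  haveI : (RepQA (S := S)).IsStableUnderComposition := inferInstance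
  exact MorphismProperty.comp_mem _ _ _ ha hb

/-- A scheme which is quasi-affine over the base. -/
theorem repByAlgSpWith_qa_toSelf (X : Over S) (hX : qaMor X.hom) : RepByAlgSpWith (RepQA (S := S)) (toSelf (overCat X)) := by
  haveI hri := respectsIso_repQA (S := S)
  let t : Over S := Over.mk (𝟙 S)
  let f : X ⟶ t := Over.homMk X.hom (by simp [t])
  obtain ⟨ι⟩ := overMap_iso f
  refine repByAlgSpWith_of_iso (f := BasedFunctor.comp (overMap f) (toSelf (overCat t))) (selfIso _ _)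
    ((repByAlgSpWith_postcomp_equiv isEquivOver_toSelf_terminal).2 ?_)
  exact repByAlgSpWith_of_iso ι ((repByAlgSpWith_postcomp_equiv (isEquivOver_toOverCat t)).2
    ((repByAlgSpWith_precomp_equiv (isEquivOver_ofOverCat X)).2
      (repByAlgSpWith_ofSpMap stableBC_repQA hri (F := ⟨_, AlgSp.IsAlgSpace.yon_obj X⟩)
        (G := ⟨_, AlgSp.IsAlgSpace.yon_obj t⟩) _ ((AlgSp.repWith_yon_map_iff _ f).2 hX))))

/-- Two maps of quasi-affine kind from an affine-diagonal source. -/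
theorem repQA_prodMap_diag (hdiag : RepByAlgSp1 (diag (toSelf 𝒳))) {A B : Over S} (y₁ : overCat A ⥤ᵇ 𝒳)
    (y₂ : overCat B ⥤ᵇ 𝒳) (h₂ : RepByAlgSpWith RepQA y₂) (hd : qaMor (pullback.diagonal B.hom)) :
    RepByAlgSpWith RepQA (fpFst (prodMap y₁ y₂) (diag (toSelf 𝒳))) := by
  haveI := respectsIso_repQA (S := S)
  refine (repByAlgSpWith_precomp_equiv (isEquivOver_fpToDiag y₁ y₂)).1 (repByAlgSpWith_of_comp (h := fpToProd y₁ y₂)
    (c := fpFst (toSelf (overCat A)) (toSelf (overCat B))) stableBC_repQA respectsIso_repQA cancels_repQA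
    (repByAlgSpWith_fpFst _ (repByAlgSpWith_diagQA_toSelf B hd)) ?_)
  exact repByAlgSpWith_of_iso (f := fpFst y₁ y₂) (Iso.refl _) (repByAlgSpWith_fpFst y₁ h₂)

/-- A chart from a quasi-affine scheme of a stack with quasi-affine diagonal is quasi-affine. -/
theorem repQA_of_qa_diag (hX : IsFibGrpd 𝒳.p) (h : RepByAlgSpWith RepQA (diag (toSelf 𝒳))) {V : Over S}
    (x : overCat V ⥤ᵇ 𝒳) (hV : qaMor V.hom) : RepByAlgSpWith RepQA x := by
  haveI := respectsIso_repQA (S := S)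
  intro T z
  have h1 : RepByAlgSpWith RepQA (fpToProd z x) :=
    repByAlgSpWith_of_iso (f := BasedFunctor.comp (fpToDiag z x) (fpFst (prodMap z x) (diag (toSelf 𝒳)))) (Iso.refl _)
      ((repByAlgSpWith_precomp_equiv (isEquivOver_fpToDiag z x)).2 (repByAlgSpWith_fpFst _ h))
  have h2 : RepByAlgSpWith RepQA (fpFst z x) :=
    repByAlgSpWith_of_iso (f := BasedFunctor.comp (fpToProd z x) (fpFst (toSelf (overCat T)) (toSelf (overCat V)))) (Iso.refl _)
      (repByAlgSpWith_comp_of (isFibGrpd_fp (isFibGrpd_overCat T) (isFibGrpd_overCat V) hX z x)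
        (isFibGrpd_fp (isFibGrpd_overCat T) (isFibGrpd_overCat V) isFibGrpd_selfOver _ _)
        respectsIso_repQA (spaceDescends_repWith qaMor) (fun _ _ _ _ _ _ a b ha hb => repQA_comp a b ha hb)
        h1 (repByAlgSpWith_fpFst _ (repByAlgSpWith_qa_toSelf V hV)))
  exact RepOver.transport (h2 T (BasedFunctor.id _)) (isEquivOver_fpPaste (BasedFunctor.id (overCat T)) z x) (Iso.refl _)

theorem repOver_qa_of_family (hX : IsFibGrpd 𝒳.p) {𝒴 : AlgSt.Cat S} (hY : IsFibGrpd 𝒴.p) {f : 𝒳 ⥤ᵇ 𝒴}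
    (hf : RepByAlgSp1 f) {V : Over S} {J : Type u} (W : J → Over S) (p : ∀ j, W j ⟶ V)
    (hp : ∀ j, Flat (p j).left ∧ LocallyOfFinitePresentation (p j).left)
    (hs : ∀ t : V.left, ∃ j, t ∈ Set.range (p j).left) (z : overCat V ⥤ᵇ 𝒴)
    (h : ∀ j, RepOver RepQA (fpFst (BasedFunctor.comp (overMap (p j)) z) f)) :
    RepOver RepQA (fpFst z f) := by
  let GV : AlgSp.Space S := ⟨(AlgSp.yon S).obj V, AlgSp.IsAlgSpace.yon_obj V⟩
  let m : ofSp GV.obj ⥤ᵇ 𝒴 := BasedFunctor.comp (toOverCat V) z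
  obtain ⟨I, a, e, he, ⟨α⟩, -⟩ := exists_space_fp hX hY hf GV m
  haveI := respectsIso_repQA (S := S)
  have key : ∀ j, RepQA (pullback.snd a ((AlgSp.yon S).map (p j))) := fun j => by
    let ξ := (AlgSp.yon S).map (p j)
    let w' : overCat (W j) ⥤ᵇ ofSp GV.obj := BasedFunctor.comp (ofOverCat (W j)) (ofSpMap ξ)
    obtain ⟨ι⟩ := overMap_iso (p j)
    have h1 : RepOver RepQA (fpFst w' (fpFst m f)) :=
      RepOver.transport' (h j) (isEquivOver_comp (isEquivOver_fpPaste w' m f)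
        (isEquivOver_fpCongr (F := BasedFunctor.comp w' m) (F' := BasedFunctor.comp (overMap (p j)) z)
          (bRight ι z) (Iso.refl f))) (Iso.refl _)
    have h2 : RepOver RepQA (fpFst w' (ofSpMap a)) :=
      RepOver.transport' h1 (isEquivOver_comp (isEquivOver_fpCongr (F := w') (F' := w') (G := ofSpMap a) (Iso.refl _) α.symm)
        (isEquivOver_fpMapSnd w' (fpFst m f) e he)) (Iso.refl _)
    have sq' := (IsPullback.of_hasPullback a ξ).map (sheafToPresheaf (QuotSh.J Scheme.fppfPrecoverage S) (Type (u + 1)))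
    obtain ⟨e', he', ⟨β⟩⟩ := exists_pullback_equiv a.hom (Iso.refl _) sq'
    have := RepOver.any (P := RepQA) (F := pullback a ξ) h2 he'
    rw [spMapOfOver_eq] at this
    rw [homOfBased_congr (F := pullback a ξ) (G := (AlgSp.yon S).obj (W j))
      (Φ := BasedFunctor.comp (BasedFunctor.comp e' (fpFst w' (ofSpMap a))) (ofOverCat (W j)))
      (Ψ := ofSpMap (pullback.snd a ξ)) β, homOfBased_ofSpMap] at this
    exact this
  have hV := AlgSp.IsAlgSpace.yon_obj (S := S) V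
  have hPa : RepQA a :=
    (SpFP87.isLocalOnBase_fpqc_repWith (P := qaMor) Desc59.descendsAlong_quasiAffine SpFP87.qaMor_le_indQA
      (fun j => (AlgSp.yon S).obj (W j)) (fun j => (AlgSp.yon S).map (p j)) hV (fun j => AlgSp.IsAlgSpace.yon_obj _)
      (SpFP87.isFpqcCover_of_isFppfCover _ _ hV (fun j => AlgSp.IsAlgSpace.yon_obj _) (isFppfCover_yon W p hp hs))
      a I.property (fun j => pullback a ((AlgSp.yon S).map (p j))) (fun j => pullback.snd _ _) (fun j => pullback.fst _ _)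
      (fun j => SpFP87.isAlgSpace_of_isPullback (IsPullback.of_hasPullback _ _) I.property (AlgSp.IsAlgSpace.yon_obj _) hV.diag)
      (fun j => IsPullback.of_hasPullback _ _)).2 key
  refine ⟨I, BasedFunctor.comp e (fpMapFst z f (toOverCat V)),
    isEquivOver_comp he (isEquivOver_fpMapFst z f _ (isEquivOver_toOverCat V)), ?_⟩
  have hmap : spMapOfOver (BasedFunctor.comp (BasedFunctor.comp e (fpMapFst z f (toOverCat V))) (fpFst z f)) =
      a ≫ spMapOfOver (toOverCat V) := by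
    have h' := spMapOfOver_congr (bRight α (toOverCat V))
    rw [spMapOfOver_comp (ofSpMap a) (toOverCat V), homOfBased_ofSpMap] at h'
    exact h'
  rw [hmap, spMapOfOver_toOverCat V]
  erw [Category.comp_id]
  exact hPa

theorem nonempty_iso_prodTarget {𝒞 : AlgSt.Cat S} (P Q : 𝒞 ⥤ᵇ fp (toSelf 𝒳) (toSelf 𝒳))
    (e₁ : BasedFunctor.comp P (fpFst _ _) ≅ BasedFunctor.comp Q (fpFst _ _))
    (e₂ : BasedFunctor.comp P (fpSnd _ _) ≅ BasedFunctor.comp Q (fpSnd _ _)) : Nonempty (P ≅ Q) :=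
  ⟨fpNatIso (Φ := P) (Ψ := Q) e₁ e₂ (fun x => by
    haveI h1 : 𝒳.p.IsHomLift (𝟙 (𝒞.p.obj x)) (e₁.hom.toNatTrans.app x) := e₁.hom.isHomLift' x
    haveI h2 : 𝒳.p.IsHomLift (𝟙 (𝒞.p.obj x)) (e₂.hom.toNatTrans.app x) := e₂.hom.isHomLift' x
    have hPx : 𝒳.p.obj (P.obj x).obj.fst = 𝒞.p.obj x := P.w_obj x
    have hQx : 𝒳.p.obj (Q.obj x).obj.fst = 𝒞.p.obj x := Q.w_obj x
    haveI h3 : (selfOver (Over S)).p.IsHomLift (𝟙 (𝒞.p.obj x)) (P.obj x).obj.iso.hom := hPx ▸ (P.obj x).property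
    haveI h4 : (selfOver (Over S)).p.IsHomLift (𝟙 (𝒞.p.obj x)) (Q.obj x).obj.iso.hom := hQx ▸ (Q.obj x).property
    haveI h5 := (toSelf 𝒳).preserves_isHomLift (𝟙 (𝒞.p.obj x)) (e₁.hom.toNatTrans.app x)
    haveI h6 := (toSelf 𝒳).preserves_isHomLift (𝟙 (𝒞.p.obj x)) (e₂.hom.toNatTrans.app x)
    exact self_hom_ext (𝟙 (𝒞.p.obj x) ≫ 𝟙 (𝒞.p.obj x)) inferInstance inferInstance)⟩

theorem repQA_overMap {A B : Over S} (a : A ⟶ B) (hA : qaMor A.hom) (hB : qaMor (pullback.diagonal B.hom)) :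
    RepByAlgSpWith RepQA (overMap a) := by
  haveI := respectsIso_repQA (S := S)
  exact repByAlgSpWith_of_comp (h := overMap a) (c := toSelf (overCat B)) stableBC_repQA respectsIso_repQA
    cancels_repQA (repByAlgSpWith_diagQA_toSelf B hB)
    (repByAlgSpWith_of_iso (selfIso _ _) (repByAlgSpWith_qa_toSelf A hA))

/-- The criterion on the affine opens of a chart. -/
theorem qa_diag_iff_chart [IsAffine S] (h𝒳 : IsAlgStack Scheme.fppfPrecoverage 𝒳) :
    RepByAlgSpWith AlgSp.IsQuasiAffineMor (diag (toSelf 𝒳)) ↔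
      ∃ (U : Over S) (x : overCat U ⥤ᵇ 𝒳),
        RepByAlgSpWith (AlgSp.LocP @Smooth) x ∧ RepByAlgSpWith AlgSp.IsSurjectiveMor x ∧
          ∀ (V : U.left.Opens), IsAffineOpen V →
            RepByAlgSpWith AlgSp.IsQuasiAffineMor
              (BasedFunctor.comp (overMap (Over.homMk V.ι rfl : Over.mk (V.ι ≫ U.hom) ⟶ U)) x) := by
  haveI := respectsIso_repQA (S := S)
  have hX := h𝒳.isStack.1
  constructor
  · intro h
    obtain ⟨U, x, hx, hxs⟩ := h𝒳.atlas
    refine ⟨U, x, hx, hxs, fun V hV => ?_⟩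
    haveI : IsAffine ((V : Scheme.{u})) := hV
    refine repByAlgSpWith_mono_spaces (fun _ _ hA hB a ha => (SpFP87.repWith_qaMor_iff a hA hB).1 ha) ?_
    exact repQA_of_qa_diag hX
      (repByAlgSpWith_mono_spaces (fun _ _ hA hB a ha => (SpFP87.repWith_qaMor_iff a hA hB).2 ha) h) _
      (qaMor_of_isAffineHom (A := (V : Scheme.{u})) (V.ι ≫ U.hom))
  rintro ⟨U, x, hx, hxs, hV⟩
  have hUf := isFibGrpd_overCat (C := Over S) U
  have hXX := isFibGrpd_fp hX hX isFibGrpd_selfOver (toSelf 𝒳) (toSelf 𝒳)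
  let h' := prodMap x x
  have hh : RepByAlgSpWith (AlgSp.LocP @Smooth) h' :=
    repByAlgSpWith_prodFun hUf hUf hX hX (respectsIso_locP _) (spaceDescends_locP _) (stableComp_locP _) hx hx _
  have hhs : RepByAlgSpWith AlgSp.IsSurjectiveMor h' :=
    repByAlgSpWith_prodFun hUf hUf hX hX respectsIso_surj spaceDescends_surj
      (fun _ _ _ _ _ _ a b ha hb y => by
        obtain ⟨y', rfl⟩ := hb y
        obtain ⟨t, rfl⟩ := ha y'
        exact ⟨t, AlgSp.Points.map_comp a b t⟩) hxs hxs _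
  refine repByAlgSpWith_mono_spaces (fun _ _ hA hB a ha => (SpFP87.repWith_qaMor_iff a hA hB).1 ha) ?_
  intro T z
  haveI := respectsIso_locP (S := S) (@Smooth : MorphismProperty Scheme.{u})
  obtain ⟨G, e, he, hb⟩ := (repByAlgSpWith_inf hh hhs) T z
  obtain ⟨W, c, hc, hcs⟩ := G.property.atlas
  let Φ : ofSp ((AlgSp.yon S).obj W) ⥤ᵇ overCat T :=
    BasedFunctor.comp (ofSpMap c) (BasedFunctor.comp e (fpFst z h'))
  obtain ⟨p, hp⟩ := (AlgSp.yon S).map_surjective (spMapOfOver Φ)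
  have hp' : (AlgSp.yon S).map p = c ≫ spMapOfOver (BasedFunctor.comp e (fpFst z h')) := by
    rw [hp, spMapOfOver_comp (ofSpMap c) (BasedFunctor.comp e (fpFst z h')), homOfBased_ofSpMap]
  haveI hsm : Smooth p.left := hb.1 c (𝟙 _) p hc (AlgSp.repWith_id @Etale T) (by rw [Category.comp_id, hp'])
  have hsu : ∀ v : T.left, ∃ w : W.left, p.left w = v := fun v => by
    obtain ⟨t, ht⟩ := hb.2 (AlgSp.Points.ofScheme T v)
    obtain ⟨y, rfl⟩ := SpPts86.isSurjectiveMor_of_repWith hcs t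
    rw [← AlgSp.Points.map_comp, ← hp'] at ht
    obtain ⟨w, rfl⟩ := (AlgSp.Points.schemeHomeo W).surjective y
    rw [AlgSp.Points.map_yon_map_apply] at ht
    exact ⟨w, (AlgSp.Points.schemeHomeo T).injective ht⟩
  let w : overCat W ⥤ᵇ fp z h' := BasedFunctor.comp (ofOverCat W) (BasedFunctor.comp (ofSpMap c) e)
  obtain ⟨ι⟩ := overMap_iso p
  obtain ⟨α⟩ := nonempty_iso_ofPshMap (Q := ((AlgSp.yon S).obj T).obj) (BasedFunctor.comp Φ (ofOverCat T))
  have hα : (ObjectProperty.homMk (pshHom (Q := ((AlgSp.yon S).obj T).obj) (BasedFunctor.comp Φ (ofOverCat T))) :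
      (AlgSp.yon S).obj W ⟶ (AlgSp.yon S).obj T) = (AlgSp.yon S).map p := by
    rw [hp, spMapOfOver_eq]
    refine (homOfBased_ofSpMap _).symm.trans (homOfBased_congr (F := (AlgSp.yon S).obj W)
      (G := (AlgSp.yon S).obj T) α.symm)
  have α' : BasedFunctor.comp Φ (ofOverCat T) ≅ ofSpMap ((AlgSp.yon S).map p) := hα ▸ α
  let β : BasedFunctor.comp (ofOverCat T) (toOverCat T) ≅ BasedFunctor.id (overCat T) :=
    BasedNatIso.mkNatIso
      (NatIso.ofComponents (fun a => Iso.refl _)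
        (fun {a b} f => Over.OverMorphism.ext ((Category.comp_id _).trans (Category.id_comp _).symm)))
      (fun a => IsHomLift.id rfl)
  let γ : BasedFunctor.comp w (fpFst z h') ≅ overMap p :=
    bLeft (ofOverCat W) ((bLeft Φ β).symm ≪≫ bRight α' (toOverCat T)) ≪≫ ι
  let y : overCat W ⥤ᵇ fp (toSelf (overCat U)) (toSelf (overCat U)) := BasedFunctor.comp w (fpSnd z h')
  let δ : BasedFunctor.comp y h' ≅ BasedFunctor.comp (overMap p) z :=
    (bLeft w (fpIso z h')).symm ≪≫ bRight γ z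
  obtain ⟨a₁, ⟨ξ₁⟩⟩ := exists_overMap_iso (BasedFunctor.comp y (fpFst (toSelf (overCat U)) (toSelf (overCat U))))
  obtain ⟨a₂, ⟨ξ₂⟩⟩ := exists_overMap_iso (BasedFunctor.comp y (fpSnd (toSelf (overCat U)) (toSelf (overCat U))))
  let J := {O : W.left.Opens // IsAffineOpen O ∧ ∃ V₁ V₂ : U.left.Opens, IsAffineOpen V₁ ∧ IsAffineOpen V₂ ∧
    O ≤ a₁.left ⁻¹ᵁ V₁ ∧ O ≤ a₂.left ⁻¹ᵁ V₂}
  let WO : J → Over S := fun O => Over.mk (O.1.ι ≫ W.hom)
  let incl : ∀ O : J, WO O ⟶ W := fun O => Over.homMk O.1.ι rfl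
  refine repOver_qa_of_family hX hXX h𝒳.diag WO (fun O => incl O ≫ p) (fun O => ?_) (fun v => ?_) z (fun O => ?_)
  · haveI : IsOpenImmersion (incl O).left := inferInstanceAs (IsOpenImmersion O.1.ι)
    haveI : Smooth ((incl O) ≫ p).left := inferInstanceAs (Smooth ((incl O).left ≫ p.left))
    exact ⟨inferInstance, inferInstance⟩
  · obtain ⟨t, rfl⟩ := hsu v
    obtain ⟨V₁, hV₁, h1, -⟩ := exists_isAffineOpen_mem_and_subset (x := a₁.left t) (U := ⊤) trivial
    obtain ⟨V₂, hV₂, h2, -⟩ := exists_isAffineOpen_mem_and_subset (x := a₂.left t) (U := ⊤) trivial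
    obtain ⟨O, hO, htO, hle⟩ := exists_isAffineOpen_mem_and_subset (x := t) (U := a₁.left ⁻¹ᵁ V₁ ⊓ a₂.left ⁻¹ᵁ V₂) ⟨h1, h2⟩
    exact ⟨⟨O, hO, V₁, V₂, hV₁, hV₂, fun z hz => (hle hz).1, fun z hz => (hle hz).2⟩, ⟨t, htO⟩, rfl⟩
  obtain ⟨O, hO, V₁, V₂, hV₁, hV₂, hle₁, hle₂⟩ := O
  haveI : IsAffine (O : Scheme.{u}) := hO
  let OW : Over S := Over.mk (O.ι ≫ W.hom)
  let jO : OW ⟶ W := Over.homMk O.ι rfl
  haveI : IsAffineHom OW.hom := inferInstanceAs (IsAffineHom (X := (O : Scheme.{u})) (O.ι ≫ W.hom))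
  have hOqa : qaMor OW.hom := qaMor_of_isAffineHom (A := (O : Scheme.{u})) (O.ι ≫ W.hom)
  have side : ∀ (a : W ⟶ U) (V : U.left.Opens), IsAffineOpen V → O ≤ a.left ⁻¹ᵁ V →
      RepByAlgSpWith RepQA (BasedFunctor.comp (BasedFunctor.comp (overMap jO) (overMap a)) x) := by
    intro a V hVa hle
    haveI : IsAffine (V : Scheme.{u}) := hVa
    let VU : Over S := Over.mk (V.ι ≫ U.hom)
    let g : OW ⟶ VU := Over.homMk (a.left.resLE V O hle) (by
      show a.left.resLE V O hle ≫ V.ι ≫ U.hom = O.ι ≫ W.hom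
      rw [Scheme.Hom.resLE_comp_ι_assoc, Over.w a])
    have hg : g ≫ (Over.homMk V.ι rfl : VU ⟶ U) = jO ≫ a := Over.OverMorphism.ext (by simp [g, jO, OW, VU])
    obtain ⟨i₁⟩ := overMap_comp_iso g (Over.homMk V.ι rfl : VU ⟶ U)
    obtain ⟨i₂⟩ := overMap_comp_iso jO a
    rw [hg] at i₁
    refine repByAlgSpWith_of_iso (f := BasedFunctor.comp (overMap g)
      (BasedFunctor.comp (overMap (Over.homMk V.ι rfl : VU ⟶ U)) x)) (bRight (i₁ ≪≫ i₂.symm) x) ?_
    exact repByAlgSpWith_comp_of (isFibGrpd_overCat OW) (isFibGrpd_overCat VU) respectsIso_repQA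
      (spaceDescends_repWith qaMor) (fun _ _ _ _ _ _ a b ha hb => repQA_comp a b ha hb)
      (repQA_overMap g hOqa (by
        haveI : IsAffineHom VU.hom := inferInstanceAs (IsAffineHom (X := (V : Scheme.{u})) (V.ι ≫ U.hom))
        exact Amp73.isQuasiAffine_of_isEmbedding _ (pullback.diagonal VU.hom).isEmbedding))
      (repByAlgSpWith_mono_spaces (fun _ _ hA hB a ha => (SpFP87.repWith_qaMor_iff a hA hB).2 ha) (hV V hVa))
  let y₁ := BasedFunctor.comp (BasedFunctor.comp (overMap jO) (overMap a₁)) x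
  let y₂ := BasedFunctor.comp (BasedFunctor.comp (overMap jO) (overMap a₂)) x
  have hR := repQA_prodMap_diag h𝒳.diag y₁ y₂ (side a₂ V₂ hV₂ hle₂)
    (Amp73.isQuasiAffine_of_isEmbedding _ (pullback.diagonal OW.hom).isEmbedding)
  let dO : overCat OW ⥤ᵇ fp (toSelf (overCat OW)) (toSelf (overCat OW)) :=
    fpLift (BasedFunctor.id _) (BasedFunctor.id _) (selfIso _ _)
  obtain ⟨i₃⟩ := overMap_comp_iso jO p
  have κ : BasedFunctor.comp (overMap (jO ≫ p)) z ≅ BasedFunctor.comp (overMap jO) (BasedFunctor.comp y h') :=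
    bRight i₃.symm z ≪≫ bLeft (overMap jO) δ.symm
  obtain ⟨ν⟩ := nonempty_iso_prodTarget (BasedFunctor.comp dO (prodMap y₁ y₂))
    (BasedFunctor.comp (overMap jO) (BasedFunctor.comp y h'))
    (bRight (bLeft (overMap jO) ξ₁.symm) x) (bRight (bLeft (overMap jO) ξ₂.symm) x)
  exact RepOver.transport (hR OW dO)
    (isEquivOver_comp (isEquivOver_fpPaste dO (prodMap y₁ y₂) (diag (toSelf 𝒳)))
      (isEquivOver_fpCongr (ν ≪≫ κ.symm) (Iso.refl _))) (Iso.refl _)

end Groth.Agent.AlgSt88
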