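import Groth.Agent.AlgSt88.QCMorSt
import Groth.Agent.AlgSt88.SepQs
import Groth.Agent.AlgSt88.SepRep

/-! Quasi-compactness over a quasi-separated base. -/

set_option autoImplicit false
set_option linter.style.haveILetI false
set_option linter.unusedVariables false
set_option backward.isDefEq.respectTransparency false
set_option backward.isDefEq.respectTransparency.types false
universe u

open CategoryTheory CategoryTheory.Limits AlgebraicGeometry Opposite AlgSt FibCat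

namespace Groth.Agent.AlgSt88

variable {S : Scheme.{u}} {𝒳 𝒴 : AlgSt.Cat S}

theorem isAlgStack_selfOver : IsAlgStack Scheme.fppfPrecoverage (selfOver (Over S)) :=
  isAlgStack_of_equiv isEquivOver_toSelf_terminal (isAlgStack_overCat _)

theorem isSurjective_fpMapSnd (hX : IsFibGrpd 𝒳.p) {𝒵 𝒲 : AlgSt.Cat S} (hY : IsFibGrpd 𝒴.p) (hZ : IsFibGrpd 𝒵.p)
    (hW : IsFibGrpd 𝒲.p) (f : 𝒳 ⥤ᵇ 𝒵) (g : 𝒴 ⥤ᵇ 𝒵) {v : 𝒲 ⥤ᵇ 𝒴} (hv : IsSurjective v) :
    IsSurjective (fpMapSnd f g v) := by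
  intro w
  obtain ⟨z, hz⟩ := surjective_comp (surjective_comp (surjective_of_equiv (e := fpSwap f (BasedFunctor.comp v g)) isEquivOver_fpSwap)
    (isSurjective_fpMapFst hY hX hZ hW g f hv)) (surjective_of_equiv (e := fpSwap g f) isEquivOver_fpSwap) w
  refine ⟨z, (points_map_congr ?_ z).trans hz⟩
  exact (fpNatIso (Φ := BasedFunctor.comp (BasedFunctor.comp (fpSwap f (BasedFunctor.comp v g)) (fpMapFst g f v))
      (fpSwap g f)) (Ψ := fpMapSnd f g v) (Iso.refl _) (Iso.refl _) (fun x => (by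
        change f.map (𝟙 x.obj.fst) ≫ x.obj.iso.hom = x.obj.iso.hom ≫ g.map (𝟙 (v.obj x.obj.snd))
        simp only [f.map_id, g.map_id, Category.id_comp]; exact (Category.comp_id _).symm))).symm

/-- The product of two schemes over the base. -/
theorem exists_prod_equiv (T U : Over S) (t : overCat T ⥤ᵇ selfOver (Over S)) (s : overCat U ⥤ᵇ selfOver (Over S)) :
    ∃ Φ : overCat (Over.mk (pullback.fst T.hom U.hom ≫ T.hom) : Over S) ⥤ᵇ fp t s, IsEquivOver Φ := by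
  let W : Over S := Over.mk (pullback.fst T.hom U.hom ≫ T.hom)
  let p₁ : W ⟶ T := Over.homMk (pullback.fst T.hom U.hom) rfl
  let p₂ : W ⟶ U := Over.homMk (pullback.snd T.hom U.hom) pullback.condition.symm
  have hext : ∀ {Z : Over S} (f g : Z ⟶ W), f ≫ p₁ = g ≫ p₁ → f ≫ p₂ = g ≫ p₂ → f = g := fun f g h₁ h₂ =>
    Over.OverMorphism.ext (pullback.hom_ext (congrArg (fun v => v.left) h₁) (congrArg (fun v => v.left) h₂))
  refine ⟨fpLift (overMap p₁) (overMap p₂) (selfIso _ _), IsEquivData.isEquivOver ⟨fun {a b} f g e => ?_,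
    fun {a b} k => ?_, fun z => ?_⟩⟩
  · exact Over.OverMorphism.ext (congrArg (fun v => v.hom.fst.left) e)
  · have h₂ : k.hom.snd.left = k.hom.fst.left := by
      refine (p_map_eq (fpSnd t s) k).trans ?_
      exact (Category.id_comp _).trans (Category.comp_id _)
    have hk : k.hom.fst.left ≫ b.hom = a.hom := hext _ _
      ((Category.assoc _ _ _).trans (Over.w k.hom.fst))
      ((congrArg (fun v => (v ≫ b.hom) ≫ p₂) h₂.symm).trans ((Category.assoc _ _ _).trans (Over.w k.hom.snd)))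
    exact ⟨Over.homMk k.hom.fst.left hk, fpHom_ext (Over.OverMorphism.ext rfl) (Over.OverMorphism.ext h₂.symm)⟩
  · let A := z.obj.fst.left
    have hA : z.obj.snd.left = A := (fpSnd t s).w_obj z
    let q₂ : A ⟶ U := eqToHom hA.symm ≫ z.obj.snd.hom
    let l : A ⟶ W := Over.homMk (pullback.lift z.obj.fst.hom.left q₂.left ((Over.w z.obj.fst.hom).trans (Over.w q₂).symm))
      (by
        show pullback.lift _ _ _ ≫ pullback.fst _ _ ≫ T.hom = _
        rw [pullback.lift_fst_assoc]; exact Over.w _)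
    have h1 : l ≫ p₁ = z.obj.fst.hom := Over.OverMorphism.ext (pullback.lift_fst _ _ _)
    have h2 : l ≫ p₂ = q₂ := Over.OverMorphism.ext (pullback.lift_snd _ _ _)
    let o := (fpLift (overMap p₁) (overMap p₂) (selfIso _ _) : overCat W ⥤ᵇ fp t s).obj (Over.mk l)
    let i₁ : o.obj.fst ≅ z.obj.fst := Over.isoMk (Iso.refl A) (by
      show 𝟙 A ≫ z.obj.fst.hom = l ≫ p₁
      rw [h1, Category.id_comp])
    let i₂ : o.obj.snd ≅ z.obj.snd := Over.isoMk (eqToIso hA.symm) (by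
      show eqToHom hA.symm ≫ z.obj.snd.hom = l ≫ p₂
      rw [h2])
    refine ⟨Over.mk l, fpObjIso (x := o) (y := z) i₁ i₂ ?_, IsHomLift.of_fac' _ _ _ rfl rfl
      ((Category.id_comp _).trans (Category.comp_id _)).symm⟩
    refine self_hom_ext (𝟙 A) ?_ ?_
    · haveI : (overCat T).p.IsHomLift (𝟙 A) i₁.hom := IsHomLift.of_fac' _ _ _ rfl rfl
        ((Category.id_comp _).trans (Category.comp_id _)).symm
      haveI : (selfOver (Over S)).p.IsHomLift (𝟙 A) z.obj.iso.hom := z.property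
      haveI := t.preserves_isHomLift (𝟙 A) i₁.hom
      exact @IsHomLift.comp_of_lift_id _ _ _ _ (selfOver (Over S)).p A _ _ _ (t.map i₁.hom) z.obj.iso.hom inferInstance inferInstance
    · haveI : (overCat U).p.IsHomLift (𝟙 A) i₂.hom := IsHomLift.of_fac' _ _ _ rfl hA (by simp [i₂]; rfl)
      haveI : (selfOver (Over S)).p.IsHomLift (𝟙 A) o.obj.iso.hom := o.property
      haveI := s.preserves_isHomLift (𝟙 A) i₂.hom
      exact @IsHomLift.comp_of_lift_id _ _ _ _ (selfOver (Over S)).p A _ _ _ o.obj.iso.hom (s.map i₂.hom) inferInstance inferInstance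

theorem isQuasiCompactMor_toSelf [QuasiSeparatedSpace S] (h𝒳 : IsAlgStack Scheme.fppfPrecoverage 𝒳)
    (hq : IsQuasiCompact 𝒳) : IsQuasiCompactMor Scheme.fppfPrecoverage (toSelf 𝒳) := by
  obtain ⟨U, u, hU, hu, hus⟩ := hq
  refine isQuasiCompactMor_of_affine h𝒳 isAlgStack_selfOver fun T hT t => ?_
  haveI := hT
  haveI := hU
  obtain ⟨Φ, hΦ⟩ := exists_prod_equiv T U t (BasedFunctor.comp u (toSelf 𝒳))
  let W : Over S := Over.mk (pullback.fst T.hom U.hom ≫ T.hom)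
  haveI : CompactSpace ↥W.left := inferInstanceAs (CompactSpace ↥(pullback T.hom U.hom))
  haveI : CompactSpace (AlgSp.Points ((AlgSp.yon S).obj W)) := (AlgSp.Points.schemeHomeo W).compactSpace
  haveI : CompactSpace (Points (ofSch W)) :=
    (compactSpace_points_ofSp ⟨_, AlgSp.IsAlgSpace.yon_obj W⟩).2
      ((SpPts86.isQuasiCompactSp_iff_compactSpace (AlgSp.IsAlgSpace.yon_obj W)).2 inferInstance)
  exact compactSpace_of_surjective (isAlgStack_fp isAlgStack_selfOver.isStack isAlgStack_selfOver.diag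
      (isAlgStack_overCat T) h𝒳 t (toSelf 𝒳))
    (BasedFunctor.comp (BasedFunctor.comp (toOverCat W) Φ) (fpMapSnd t (toSelf 𝒳) u))
    (surjective_comp (surjective_of_equiv (isEquivOver_comp (isEquivOver_toOverCat W) hΦ))
      (isSurjective_fpMapSnd (isFibGrpd_overCat T) h𝒳.isStack.1 isFibGrpd_selfOver (isFibGrpd_overCat U) t _
        (isSurjective_of_sj h𝒳.isStack.1 hus)))

theorem isQuasiCompactMor_of_qc_qsOver [QuasiSeparatedSpace S] (h𝒳 : IsAlgStack Scheme.fppfPrecoverage 𝒳)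
    (h𝒴 : IsAlgStack Scheme.fppfPrecoverage 𝒴) (f : 𝒳 ⥤ᵇ 𝒴) (hq : IsQuasiCompact 𝒳)
    (hs : IsQuasiSeparatedOver 𝒴) : IsQuasiCompactMor Scheme.fppfPrecoverage f :=
  isQuasiCompactMor_of_comp h𝒳 h𝒴 isAlgStack_selfOver
    (isQuasiCompactMor_of_iso (selfIso _ _) (isQuasiCompactMor_toSelf h𝒳 hq))
    (repByAlgSpWith_mono (fun _ _ _ h => h.1) hs)

theorem qcqs_fp [QuasiSeparatedSpace S] {𝒵 : AlgSt.Cat S} (h𝒳 : IsAlgStack Scheme.fppfPrecoverage 𝒳)
    (h𝒴 : IsAlgStack Scheme.fppfPrecoverage 𝒴) (h𝒵 : IsAlgStack Scheme.fppfPrecoverage 𝒵) (a : 𝒳 ⥤ᵇ 𝒴) (b : 𝒵 ⥤ᵇ 𝒴)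
    (hX : IsQuasiCompact 𝒳) (sX : IsQuasiSeparatedOver 𝒳) (sY : IsQuasiSeparatedOver 𝒴)
    (hZ : IsQuasiCompact 𝒵) (sZ : IsQuasiSeparatedOver 𝒵) :
    IsQuasiCompact (fp a b) ∧ IsQuasiSeparatedOver (fp a b) := by
  refine ⟨isQuasiCompactMor_of_qc_qsOver h𝒵 h𝒴 b hZ sY 𝒳 h𝒳 hX a, ?_⟩
  have hb : AlgSt.IsQuasiSeparatedMor b :=
    repByAlgSpWith_diag_of_comp stableBC_qcqs respectsIso_qcqs cancels_qcqs
      (g := toSelf 𝒴) (repByAlgSpWith_mono (fun _ _ _ h => h.2) sY)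
      (repByAlgSpWith_diag_of_iso (selfIso (toSelf 𝒵) (BasedFunctor.comp b (toSelf 𝒴))) sZ)
  have hfp := isFibGrpd_fp h𝒳.isStack.1 h𝒵.isStack.1 h𝒴.isStack.1 a b
  exact repByAlgSpWith_diag_of_iso (selfIso (BasedFunctor.comp (fpFst a b) (toSelf 𝒳)) (toSelf (fp a b)))
    (repByAlgSpWith_diag_comp hfp h𝒳.isStack.1 respectsIso_qcqs spaceDescends_qcqs stableComp_qcqs
      (repByAlgSpWith_diag_fpFst a b hb) sX)

end Groth.Agent.AlgSt88
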