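import Groth.Agent.AlgSt88.QuotTriv
import Groth.Agent.AlgSt88.EquivCrit
import Groth.Agent.AlgSt88.FpMap

/-! The square of a quotient category. -/

set_option autoImplicit false
set_option linter.style.haveILetI false
set_option backward.isDefEq.respectTransparency false
set_option backward.isDefEq.respectTransparency.types false
universe u

open CategoryTheory CategoryTheory.Limits MonoidalCategory CartesianMonoidalCategory MonObj GrpObj AlgebraicGeometry AlgSt FibCat

namespace Groth.Agent.AlgSt88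

variable {S : Scheme.{u}} {G X : Over S} [GrpObj G] (a : AlgGrp.Action G X)

/-- A point of a scheme as an object. -/
abbrev ptObj {T Y : Over S} (y : T ⟶ Y) : (ofSch Y).obj := ⟨T, ⟨y⟩⟩

/-- The group component of an object over the product. -/
noncomputable abbrev gOf (w : (ofSch (G ⊗ X)).obj) : w.base ⟶ G := w.sec.down ≫ fst G X

/-- The automorphism of a trivial torsor by right multiplication. -/
noncomputable def shearIso {T : Over S} (g : T ⟶ G) : G ⊗ T ≅ G ⊗ T where
  hom := lift (fst G T * (snd G T ≫ g)) (snd G T)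
  inv := lift (fst G T * (snd G T ≫ g)⁻¹) (snd G T)
  hom_inv_id := by simp [MonObj.comp_mul, GrpObj.comp_inv]
  inv_hom_id := by simp [MonObj.comp_mul, GrpObj.comp_inv]

theorem exists_quot_iso [Scheme.fppfPrecoverage.HasIsos] {T : Over S} (g : T ⟶ G) (x y : T ⟶ X)
    (h : lift g y ≫ a.act = x) :
    ∃ e : (quotMap Scheme.fppfPrecoverage G a).obj (ptObj x) ≅ (quotMap Scheme.fppfPrecoverage G a).obj (ptObj y),
      e.hom.base = 𝟙 T ∧ e.hom.top = (shearIso g).hom := by
  obtain ⟨m, hm, hm'⟩ := (exists_quot_hom_over a (𝟙 T) x y).2 g (by rw [Category.id_comp]; exact h)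
  obtain ⟨n, hn, hn'⟩ := (exists_quot_hom_over a (𝟙 T) y x).2 g⁻¹ (by
    rw [Category.id_comp, ← h, ← act_lift_mul, inv_mul_cancel, act_lift_one])
  rw [Category.comp_id] at hm' hn'
  have hn'' : n.top = (shearIso g).inv := by
    rw [hn', GrpObj.comp_inv]; rfl
  refine ⟨{ hom := m, inv := n, hom_inv_id := QuotObj.hom_ext ?_ ?_, inv_hom_id := QuotObj.hom_ext ?_ ?_ }, hm, hm'⟩
  · show m.base ≫ n.base = 𝟙 T
    rw [hm, hn]; exact Category.comp_id _
  · show m.top ≫ n.top = 𝟙 (G ⊗ T)
    rw [hm', hn'']; exact (shearIso g).hom_inv_id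
  · show n.base ≫ m.base = 𝟙 T
    rw [hm, hn]; exact Category.comp_id _
  · show n.top ≫ m.top = 𝟙 (G ⊗ T)
    rw [hm', hn'']; exact (shearIso g).inv_hom_id

theorem act_of_pt (w : (ofSch (G ⊗ X)).obj) :
    lift (gOf w) (w.sec.down ≫ snd G X) ≫ a.act = w.sec.down ≫ a.act := by
  rw [← comp_lift, lift_fst_snd, Category.comp_id]

theorem shearIso_natural {T T' : Over S} (f : T ⟶ T') (g : T' ⟶ G) :
    (G ◁ f) ≫ (shearIso g).hom = (shearIso (f ≫ g)).hom ≫ (G ◁ f) := by
  apply CartesianMonoidalCategory.hom_ext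
  · simp [shearIso, MonObj.comp_mul]
  · simp [shearIso]

theorem shearIso_unit {T : Over S} (g : T ⟶ G) :
    lift (1 : T ⟶ G) (𝟙 T) ≫ (shearIso g).hom ≫ fst G T = g := by
  simp [shearIso, MonObj.comp_mul]

variable [Scheme.fppfPrecoverage.HasIsos]

/-- The functor to the trivial torsor of the translate. -/
noncomputable abbrev actLeg : ofSch (G ⊗ X) ⥤ᵇ QuotSt Scheme.fppfPrecoverage G a :=
  BasedFunctor.comp (ofSpMap ((AlgSp.yon S).map a.act)) (quotMap Scheme.fppfPrecoverage G a)

/-- The functor to the trivial torsor of the point. -/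
noncomputable abbrev sndLeg : ofSch (G ⊗ X) ⥤ᵇ QuotSt Scheme.fppfPrecoverage G a :=
  BasedFunctor.comp (ofSpMap ((AlgSp.yon S).map (snd G X))) (quotMap Scheme.fppfPrecoverage G a)

/-- The components of the comparison of the two legs. -/
noncomputable def cartApp (w : (ofSch (G ⊗ X)).obj) : (actLeg a).obj w ≅ (sndLeg a).obj w :=
  (exists_quot_iso a (gOf w) (w.sec.down ≫ a.act) (w.sec.down ≫ snd G X) (act_of_pt a w)).choose

theorem cartApp_base (w : (ofSch (G ⊗ X)).obj) : (cartApp a w).hom.base = 𝟙 w.base :=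
  (exists_quot_iso a (gOf w) (w.sec.down ≫ a.act) (w.sec.down ≫ snd G X) (act_of_pt a w)).choose_spec.1

theorem cartApp_top (w : (ofSch (G ⊗ X)).obj) : (cartApp a w).hom.top = (shearIso (gOf w)).hom :=
  (exists_quot_iso a (gOf w) (w.sec.down ≫ a.act) (w.sec.down ≫ snd G X) (act_of_pt a w)).choose_spec.2

/-- The 2-isomorphism of the square. -/
noncomputable def cartIso : actLeg a ≅ sndLeg a :=
  BasedNatIso.mkNatIso
    (NatIso.ofComponents (fun w => cartApp a w) (fun {w w'} f => by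
      refine QuotObj.hom_ext ?_ ?_
      · show f.hom ≫ (cartApp a w').hom.base = (cartApp a w).hom.base ≫ f.hom
        rw [cartApp_base, cartApp_base]
        exact (Category.comp_id _).trans (Category.id_comp _).symm
      · show (G ◁ f.hom) ≫ (cartApp a w').hom.top = (cartApp a w).hom.top ≫ (G ◁ f.hom)
        rw [cartApp_top, cartApp_top]
        have hf : f.hom ≫ w'.sec.down = w.sec.down := congrArg ULift.down f.map_sec
        refine (shearIso_natural f.hom (gOf w')).trans ?_
        rw [show f.hom ≫ gOf w' = gOf w by rw [gOf, gOf, ← Category.assoc, hf]]))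
    (fun w => IsHomLift.of_fac' _ _ _ rfl rfl (by
      show (cartApp a w).hom.base = _
      rw [cartApp_base]
      simp
      rfl))

theorem isTwoCartOver_quot :
    IsTwoCartOver (ofSpMap ((AlgSp.yon S).map a.act)) (ofSpMap ((AlgSp.yon S).map (snd G X))) (cartIso a) := by
  apply IsEquivData.isEquivOver
  refine ⟨fun {w w'} f g h => ?_, fun {w w'} k => ?_, fun y => ?_⟩
  · exact Stk.EltObj.hom_ext (congrArg (fun t => t.hom.fst.hom) h)
  · let f₁ : w.base ⟶ w'.base := k.hom.fst.hom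
    let f₂ : w.base ⟶ w'.base := k.hom.snd.hom
    have hw := k.hom.w
    have hb : f₁ ≫ (cartApp a w').hom.base = (cartApp a w).hom.base ≫ f₂ :=
      congrArg (fun t => t.base) hw
    have h12 : f₁ = f₂ := by
      rw [cartApp_base, cartApp_base] at hb
      exact (Category.comp_id _).symm.trans (hb.trans (Category.id_comp _))
    have ht : (G ◁ f₁) ≫ (cartApp a w').hom.top = (cartApp a w).hom.top ≫ (G ◁ f₂) :=
      congrArg (fun t => t.top) hw
    rw [cartApp_top, cartApp_top, ← h12] at ht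
    have hs : f₁ ≫ w'.sec.down = w.sec.down := by
      apply CartesianMonoidalCategory.hom_ext
      · have h := congrArg (fun t => lift (1 : w.base ⟶ G) (𝟙 w.base) ≫ t ≫ fst G w'.base) ht
        have e1 : (G ◁ f₁) ≫ (shearIso (gOf w')).hom = (shearIso (f₁ ≫ gOf w')).hom ≫ (G ◁ f₁) :=
          shearIso_natural f₁ (gOf w')
        have h' : lift (1 : w.base ⟶ G) (𝟙 w.base) ≫ (shearIso (f₁ ≫ gOf w')).hom ≫ (G ◁ f₁) ≫ fst G w'.base =
            lift (1 : w.base ⟶ G) (𝟙 w.base) ≫ (shearIso (gOf w)).hom ≫ (G ◁ f₁) ≫ fst G w'.base := by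
          refine Eq.trans ?_ (h.trans ?_)
          · refine Eq.trans ?_ (congrArg (fun t => lift (1 : w.base ⟶ G) (𝟙 w.base) ≫ t ≫ fst G w'.base) e1).symm
            exact congrArg (lift (1 : w.base ⟶ G) (𝟙 w.base) ≫ ·) (Category.assoc _ _ _).symm
          · exact congrArg (lift (1 : w.base ⟶ G) (𝟙 w.base) ≫ ·) (Category.assoc _ _ _)
        simp only [whiskerLeft_fst, shearIso_unit] at h'
        exact (Category.assoc _ _ _).trans h'
      · have h : f₂ ≫ w'.sec.down ≫ snd G X = w.sec.down ≫ snd G X := congrArg ULift.down k.hom.snd.map_sec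
        rw [← h12] at h
        exact (Category.assoc _ _ _).trans h
    refine ⟨⟨f₁, ULift.ext _ _ hs⟩, fpHom_ext (Stk.EltObj.hom_ext rfl) (Stk.EltObj.hom_ext h12)⟩
  · obtain ⟨⟨p, q, i⟩, hy⟩ := y
    obtain ⟨T, ⟨x₁⟩⟩ := p
    obtain ⟨T₂, ⟨x₂⟩⟩ := q
    have hh : (QuotSt Scheme.fppfPrecoverage G a).p.IsHomLift (𝟙 T) i.hom := hy
    obtain rfl : T = T₂ := (IsHomLift.codomain_eq (QuotSt Scheme.fppfPrecoverage G a).p (𝟙 T) i.hom).symm
    have hib : i.hom.base = 𝟙 T := by
      have h := IsHomLift.fac' (QuotSt Scheme.fppfPrecoverage G a).p (𝟙 T) i.hom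
      exact h.trans (by simp; rfl)
    obtain ⟨g, hg, hgt⟩ := (exists_quot_hom_over a (𝟙 T) x₁ x₂).1 i.hom hib
    rw [Category.comp_id] at hgt
    rw [Category.id_comp] at hg
    let w : (ofSch (G ⊗ X)).obj := ptObj (lift g x₂)
    have hgo : gOf w = g := lift_fst g x₂
    let e₁ : (ofSpMap ((AlgSp.yon S).map a.act)).obj w ≅ ptObj x₁ :=
      { hom := ⟨𝟙 T, ULift.ext _ _ ((Category.id_comp _).trans hg.symm)⟩
        inv := ⟨𝟙 T, ULift.ext _ _ ((Category.id_comp _).trans hg)⟩
        hom_inv_id := Stk.EltObj.hom_ext (Category.id_comp _)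
        inv_hom_id := Stk.EltObj.hom_ext (Category.id_comp _) }
    let e₂ : (ofSpMap ((AlgSp.yon S).map (snd G X))).obj w ≅ ptObj x₂ :=
      { hom := ⟨𝟙 T, ULift.ext _ _ ((Category.id_comp _).trans (lift_snd g x₂).symm)⟩
        inv := ⟨𝟙 T, ULift.ext _ _ ((Category.id_comp _).trans (lift_snd g x₂))⟩
        hom_inv_id := Stk.EltObj.hom_ext (Category.id_comp _)
        inv_hom_id := Stk.EltObj.hom_ext (Category.id_comp _) }
    refine ⟨w, fpObjIso e₁ e₂ (QuotObj.hom_ext ?_ ?_), fp_isHomLift _ (IsHomLift.of_fac' _ _ _ rfl rfl ?_)⟩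
    · show 𝟙 T ≫ i.hom.base = (cartApp a w).hom.base ≫ 𝟙 T
      rw [hib, cartApp_base]
    · show (G ◁ 𝟙 T) ≫ i.hom.top = (cartApp a w).hom.top ≫ (G ◁ 𝟙 T)
      rw [hgt, cartApp_top, hgo]
      simp [shearIso]
      rfl
    · show 𝟙 T = _
      simp
      rfl

end Groth.Agent.AlgSt88
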