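import Groth.Prelude
import Groth.Agent.Fib44.Basic

/-! Quotient categories are fibred in groupoids, for an arbitrary topology. -/

set_option autoImplicit false
set_option linter.style.haveILetI false
set_option backward.isDefEq.respectTransparency false
set_option backward.isDefEq.respectTransparency.types false
universe u

open CategoryTheory CategoryTheory.Limits MonoidalCategory CartesianMonoidalCategory MonObj GrpObj AlgebraicGeometry AlgSt

namespace Groth.Agent.AlgSt88

variable {S : Scheme.{u}} {K : Precoverage Scheme.{u}} {G X : Over S} [GrpObj G] {a : AlgGrp.Action G X}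

theorem quot_hom_ext' {A B C : QuotObj K G a} {f g : B ⟶ C} (n : C ⟶ A)
    (hb : f.base = g.base) (h : f ≫ n = g ≫ n) : f = g :=
  QuotObj.hom_ext hb (n.cart.hom_ext (congrArg (fun t => t.top) h)
    (f.cart.w.trans ((congrArg (B.π ≫ ·) hb).trans g.cart.w.symm)))

theorem existsUnique_quot_fac {A B C : QuotObj K G a} (m : B ⟶ A) (n : C ⟶ A) (b : B.base ⟶ C.base)
    (hb : b ≫ n.base = m.base) : ∃! i : B ⟶ C, i.base = b ∧ i ≫ n = m := by
  let top : B.P ⟶ C.P := n.cart.lift m.top (B.π ≫ b) (by rw [m.cart.w, Category.assoc, hb])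
  have h1 : top ≫ n.top = m.top := n.cart.lift_fst _ _ _
  have h2 : top ≫ C.π = B.π ≫ b := n.cart.lift_snd _ _ _
  refine ⟨{ base := b, top := top, eqv := ?_, cart := ?_, wφ := ?_ }, ⟨rfl, QuotObj.hom_ext hb h1⟩,
    fun i hi => quot_hom_ext' n hi.1 (hi.2.trans (QuotObj.hom_ext hb h1).symm)⟩
  · apply n.cart.hom_ext
    · rw [Category.assoc, Category.assoc, h1, m.eqv, n.eqv, ← MonoidalCategory.whiskerLeft_comp_assoc, h1]
    · rw [Category.assoc, Category.assoc, C.cart.w, h2, whiskerLeft_snd_assoc, h2, ← Category.assoc, B.cart.w,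
        Category.assoc]
  · have hm : IsPullback (top ≫ n.top) B.π A.π (b ≫ n.base) := by rw [h1, hb]; exact m.cart
    exact IsPullback.of_right hm h2 n.cart
  · rw [← n.wφ, reassoc_of% h1, m.wφ]

variable [K.IsStableUnderBaseChange]

theorem exists_pullObj (A : QuotObj K G a) {T : Over S} (b : T ⟶ A.base) :
    ∃ (B : QuotObj K G a) (m : B ⟶ A) (h : B.base = T), m.base = eqToHom h ≫ b := by
  have hp : IsPullback (pullback.fst A.π b) (pullback.snd A.π b) A.π b := IsPullback.of_hasPullback _ _
  let P : Over S := pullback A.π b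
  let π' : P ⟶ T := pullback.snd A.π b
  let t : P ⟶ A.P := pullback.fst A.π b
  let act : G ⊗ P ⟶ P := hp.lift ((G ◁ t) ≫ A.act.act) (snd G P ≫ π') (by
    rw [Category.assoc, A.cart.w, whiskerLeft_snd_assoc, hp.w, Category.assoc])
  have h1 : act ≫ t = (G ◁ t) ≫ A.act.act := hp.lift_fst _ _ _
  have h2 : act ≫ π' = snd G P ≫ π' := hp.lift_snd _ _ _
  have one_act : (η[G] ▷ P) ≫ act = (λ_ P).hom := by
    apply hp.hom_ext
    · rw [Category.assoc, h1, ← whisker_exchange_assoc, A.act.one_act, leftUnitor_naturality]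
    · rw [Category.assoc, h2, whiskerRight_snd_assoc, leftUnitor_hom]
  have mul_act : (μ[G] ▷ P) ≫ act = (α_ G G P).hom ≫ (G ◁ act) ≫ act := by
    apply hp.hom_ext
    · rw [Category.assoc, h1, Category.assoc, Category.assoc, h1, ← whisker_exchange_assoc, A.act.mul_act,
        ← MonoidalCategory.whiskerLeft_comp_assoc, h1, MonoidalCategory.whiskerLeft_comp_assoc]
      simp
    · rw [Category.assoc, h2, Category.assoc, Category.assoc, h2, whiskerRight_snd_assoc, whiskerLeft_snd_assoc,
        h2, associator_hom_snd_snd_assoc]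
  have hcart : IsPullback act (snd G P) π' π' := by
    have h3 : IsPullback ((G ◁ t) ≫ A.act.act) (snd G P) A.π (t ≫ A.π) :=
      (isPullback_whiskerLeft t).paste_horiz A.cart
    rw [hp.w, ← h1] at h3
    exact IsPullback.of_right h3 h2 hp
  have hloc : NonAbH1.IsLocallyTrivialFor K (Over.mk π'.left : Over T.left) := by
    obtain ⟨R, hR, hsec⟩ := A.loc
    refine ⟨_, Precoverage.pullbackArrows_mem b.left hR, ?_⟩
    rintro S' f ⟨Z, g, hg⟩
    obtain ⟨s, hs⟩ := hsec g hg
    have hpl : IsPullback t.left π'.left A.π.left b.left := hp.map (Over.forget S)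
    refine ⟨hpl.lift (pullback.fst g b.left ≫ s) (pullback.snd g b.left) ?_, hpl.lift_snd _ _ _⟩
    change (pullback.fst g b.left ≫ s) ≫ A.π.left = _
    rw [Category.assoc]
    change s ≫ A.π.left = g at hs
    rw [hs, pullback.condition]
  refine ⟨⟨T, P, ⟨act, one_act, mul_act⟩, π', hcart, hloc, t ≫ A.φ, ?_⟩, ⟨b, t, h1, hp, rfl⟩, rfl,
    by simp⟩
  rw [reassoc_of% h1, A.eqv, MonoidalCategory.whiskerLeft_comp_assoc]

theorem isFibGrpd_quotSt (a : AlgGrp.Action G X) : FibCat.IsFibGrpd (QuotSt K G a).p where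
  exists_lift {A T} b := by
    obtain ⟨B, m, h, hm⟩ := exists_pullObj A b
    exact ⟨B, m, IsHomLift.of_fac' _ _ _ h rfl (hm.trans (by simp))⟩
  isStronglyCartesian {B A} m :=
    { toIsHomLift := IsHomLift.map _ m
      universal_property' := fun {C} g ψ hψ => by
        have hf : ψ.base = g ≫ m.base := by
          have := IsHomLift.fac' (QuotSt K G a).p (g ≫ (QuotSt K G a).p.map m) ψ
          exact this.trans (by simp; rfl)
        obtain ⟨i, ⟨hi, hi'⟩, hu⟩ := existsUnique_quot_fac ψ m g hf.symm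
        refine ⟨i, ⟨IsHomLift.of_fac' _ _ _ rfl rfl (hi.trans (by simp)), hi'⟩, fun j hj => hu j ⟨?_, hj.2⟩⟩
        have := hj.1
        exact (IsHomLift.fac' (QuotSt K G a).p g j).trans (by simp) }

end Groth.Agent.AlgSt88
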