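import Groth.Agent.AlgSt88.QuotModuli
import Groth.Agent.AlgSt88.QuotStackFib
import Mathlib.AlgebraicGeometry.AlgClosed.Basic

/-! Coarse moduli spaces of quotient categories. -/

set_option autoImplicit false
set_option linter.style.haveILetI false
set_option backward.isDefEq.respectTransparency false
set_option backward.isDefEq.respectTransparency.types false
universe u

open CategoryTheory CategoryTheory.Limits MonoidalCategory CartesianMonoidalCategory AlgebraicGeometry AlgSt Opposite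

namespace Groth.Agent.AlgSt88

theorem exists_section_algClosed_coarse {Ω : Type u} [Field Ω] [IsAlgClosed Ω] {P : Scheme.{u}}
    (p : P ⟶ Spec (CommRingCat.of Ω)) [LocallyOfFiniteType p] (hp : Surjective p) :
    ∃ s : Spec (CommRingCat.of Ω) ⟶ P, s ≫ p = 𝟙 _ := by
  obtain ⟨x₀, -⟩ := hp.surj (IsLocalRing.closedPoint Ω)
  have : JacobsonSpace P := LocallyOfFiniteType.jacobsonSpace p
  obtain ⟨x, -, hx⟩ := nonempty_inter_closedPoints (Z := (Set.univ : Set P)) ⟨x₀, trivial⟩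
    isClosed_univ.isLocallyClosed
  exact ⟨_, ((pointEquivClosedPoint p).symm ⟨x, hx⟩).2⟩

variable {S : Scheme.{u}} {G X : Over S} [GrpObj G] [Flat G.hom] [LocallyOfFinitePresentation G.hom]
  {a : AlgGrp.Action G X}

theorem exists_point_of_algClosed {Ω : Type u} [Field Ω] [IsAlgClosed Ω] {t : Spec (CommRingCat.of Ω) ⟶ S}
    (A : QuotObj Scheme.fppfPrecoverage G a) (h : A.base = Over.mk t) :
    ∃ p : Over.mk t ⟶ A.P, p ≫ A.π = eqToHom h.symm := by
  have : LocallyOfFinitePresentation A.π.left := lfp_π ‹_› A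
  have : Surjective A.π.left := surjective_π A
  have : IsIso (eqToHom h).left := inferInstanceAs (IsIso ((Over.forget S).map (eqToHom h)))
  have : LocallyOfFinitePresentation (A.π ≫ eqToHom h).left :=
    inferInstanceAs (LocallyOfFinitePresentation (A.π.left ≫ (eqToHom h).left))
  have : Surjective (A.π ≫ eqToHom h).left := inferInstanceAs (Surjective (A.π.left ≫ (eqToHom h).left))
  obtain ⟨s, hs⟩ := exists_section_algClosed_coarse (A.π ≫ eqToHom h).left ‹_›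
  let p : Over.mk t ⟶ A.P := Over.homMk s (by
    rw [← Over.w (A.π ≫ eqToHom h), ← Category.assoc, hs]; exact Category.id_comp _)
  refine ⟨p, ?_⟩
  have hp : p ≫ A.π ≫ eqToHom h = 𝟙 _ := Over.OverMorphism.ext hs
  calc p ≫ A.π = (p ≫ A.π ≫ eqToHom h) ≫ eqToHom h.symm := by simp
    _ = eqToHom h.symm := by rw [hp, Category.id_comp]

theorem fiber_iso_triv {Ω : Type u} [Field Ω] [IsAlgClosed Ω] {t : Spec (CommRingCat.of Ω) ⟶ S}
    (x : (QuotSt Scheme.fppfPrecoverage G a).p.Fiber (Over.mk t)) :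
    ∃ (q : Over.mk t ⟶ X) (e : (quotMap Scheme.fppfPrecoverage G a).obj (ptObj q) ≅ x.1),
      (QuotSt Scheme.fppfPrecoverage G a).p.IsHomLift (𝟙 (Over.mk t)) e.hom := by
  obtain ⟨p, hp⟩ := exists_point_of_algClosed x.1 x.2
  let m := pointHom x.1 p
  have hl : (QuotSt Scheme.fppfPrecoverage G a).p.IsHomLift (𝟙 (Over.mk t)) m :=
    IsHomLift.of_fac' _ _ _ rfl x.2 (hp.trans (by simp))
  have : IsIso m := Fib44.isIso_of_fibGrpd _ (isFibGrpd_quotSt (K := Scheme.fppfPrecoverage) a) (𝟙 (Over.mk t)) m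
  exact ⟨p ≫ x.1.φ, asIso m, hl⟩

theorem fibSec_congr {M : AlgSp.Sp S} (π : QuotSt Scheme.fppfPrecoverage G a ⥤ᵇ ofSp M) {T : Over S}
    {x y : (QuotSt Scheme.fppfPrecoverage G a).p.Fiber T} (e : x.1 ≅ y.1)
    (he : (QuotSt Scheme.fppfPrecoverage G a).p.IsHomLift (𝟙 T) e.hom) : fibSec π x = fibSec π y := by
  have hl : (ofSp M).p.IsHomLift (𝟙 T) (π.map e.hom) := BasedFunctor.preserves_isHomLift π _ _
  have h := IsHomLift.fac' (ofSp M).p (𝟙 T) (π.map e.hom)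
  change (π.map e.hom).hom = _ at h
  have key : ∀ (z z' : (ofSp M).obj) (k : z ⟶ z') (hz : z.base = T) (hz' : z'.base = T),
      k.hom = eqToHom (hz.trans hz'.symm) →
        M.obj.map (eqToHom hz.symm).op z.sec = M.obj.map (eqToHom hz'.symm).op z'.sec := by
    rintro ⟨zb, zs⟩ ⟨zb', zs'⟩ k rfl (rfl : zb' = zb) hk
    have hs := k.map_sec
    rw [hk] at hs
    simpa using hs.symm
  exact key _ _ (π.map e.hom) ((π.w_obj x.1).trans x.2) ((π.w_obj y.1).trans y.2) (h.trans (by simp))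

theorem fibSec_triv {M : AlgSp.Sp S} {π : QuotSt Scheme.fppfPrecoverage G a ⥤ᵇ ofSp M}
    {g : (AlgSp.yon S).obj X ⟶ M}
    (hπ : BasedFunctor.comp (quotMap Scheme.fppfPrecoverage G a) π = ofSpMap g) {T : Over S} (q : T ⟶ X) :
    fibSec π ⟨(quotMap Scheme.fppfPrecoverage G a).obj (ptObj q), rfl⟩ = g.hom.app (op T) ⟨q⟩ := by
  have h : π.obj ((quotMap Scheme.fppfPrecoverage G a).obj (ptObj q)) = (ofSpMap g).obj (ptObj q) :=
    congrArg (fun F : ofSch X ⥤ᵇ ofSp M => F.obj (ptObj q)) hπ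
  have key : ∀ (z : (ofSp M).obj) (hz : z = (ofSpMap g).obj (ptObj q)),
      M.obj.map (eqToHom (congrArg Stk.EltObj.base hz).symm).op z.sec = g.hom.app (op T) ⟨q⟩ := by
    intro z hz
    subst hz
    simp
    rfl
  exact key _ h

theorem isCoarseModuli_of_isCatQuotSp {Y : Over S} (f : X ⟶ Y)
    (horb : ∀ (Ω : Type u) [Field Ω] [IsAlgClosed Ω] (t : Spec (CommRingCat.of Ω) ⟶ S),
      (∀ y : Over.mk t ⟶ Y, ∃ x : Over.mk t ⟶ X, x ≫ f = y) ∧
      (∀ x x' : Over.mk t ⟶ X, x ≫ f = x' ≫ f → ∃ g : Over.mk t ⟶ G, lift g x' ≫ a.act = x))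
    (hcat : ∀ (N : AlgSp.Space S) (ψ : (AlgSp.yon S).obj X ⟶ N.obj),
      (AlgSp.yon S).map a.act ≫ ψ = (AlgSp.yon S).map (snd G X) ≫ ψ →
        ∃! χ : (AlgSp.yon S).obj Y ⟶ N.obj, (AlgSp.yon S).map f ≫ χ = ψ)
    (π : QuotSt Scheme.fppfPrecoverage G a ⥤ᵇ ofSch Y)
    (hπ : BasedFunctor.comp (quotMap Scheme.fppfPrecoverage G a) π = ofSpMap ((AlgSp.yon S).map f)) :
    IsCoarseModuli π := by
  have hcomp : ∀ {N : AlgSp.Sp S} (g : (AlgSp.yon S).obj Y ⟶ N),
      BasedFunctor.comp (quotMap Scheme.fppfPrecoverage G a) (BasedFunctor.comp π (ofSpMap g)) =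
        ofSpMap ((AlgSp.yon S).map f ≫ g) := by
    intro N g
    rw [show BasedFunctor.comp (quotMap Scheme.fppfPrecoverage G a) (BasedFunctor.comp π (ofSpMap g)) =
      BasedFunctor.comp (BasedFunctor.comp (quotMap Scheme.fppfPrecoverage G a) π) (ofSpMap g) from rfl, hπ]
    rfl
  refine ⟨⟨AlgSp.IsAlgSpace.yon_obj Y, fun N hN φ => ?_⟩, fun Ω _ _ t => ⟨fun m => ?_, fun x y hxy => ?_⟩⟩
  · let gN := homOfBased (BasedFunctor.comp (quotMap Scheme.fppfPrecoverage G a) φ)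
    obtain ⟨β⟩ := exists_hom_iso (BasedFunctor.comp (quotMap Scheme.fppfPrecoverage G a) φ)
    have h0 : BasedFunctor.comp (quotMap Scheme.fppfPrecoverage G a) φ = ofSpMap gN := eq_of_iso_ofSp β
    have hinv := invariant_of_quotMap_comp φ gN h0
    obtain ⟨χ, hχ, hχu⟩ := hcat ⟨N, hN⟩ gN hinv
    refine ⟨χ, ⟨eqToIso ?_⟩, fun g hg => hχu g ?_⟩
    · rw [eq_quotDesc _ gN hinv ((hcomp χ).trans (by rw [hχ])), eq_quotDesc _ gN hinv h0]
    · obtain ⟨α⟩ := hg
      exact ofSpMap_injective (by rw [← hcomp, eq_of_iso_ofSp α, h0])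
  · obtain ⟨y⟩ := m
    obtain ⟨x, hx⟩ := (horb Ω t).1 y
    refine ⟨⟨(quotMap Scheme.fppfPrecoverage G a).obj (ptObj x), rfl⟩, ?_⟩
    rw [fibSec_triv hπ x]
    exact congrArg ULift.up hx
  · obtain ⟨p, ex, hex⟩ := fiber_iso_triv x
    obtain ⟨q, ey, hey⟩ := fiber_iso_triv y
    have hx := fibSec_congr π (x := ⟨(quotMap Scheme.fppfPrecoverage G a).obj (ptObj p), rfl⟩) (y := x) ex hex
    have hy := fibSec_congr π (x := ⟨(quotMap Scheme.fppfPrecoverage G a).obj (ptObj q), rfl⟩) (y := y) ey hey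
    rw [← hx, ← hy, fibSec_triv hπ, fibSec_triv hπ] at hxy
    obtain ⟨g, hg⟩ := (horb Ω t).2 p q (congrArg ULift.down hxy)
    obtain ⟨e, he, -⟩ := exists_quot_iso a g p q hg
    have hel : (QuotSt Scheme.fppfPrecoverage G a).p.IsHomLift (𝟙 (Over.mk t)) e.hom :=
      IsHomLift.of_fac' _ _ _ rfl rfl (he.trans (by simp; rfl))
    have : (QuotSt Scheme.fppfPrecoverage G a).p.IsHomLift (𝟙 (Over.mk t)) ex.inv :=
      IsHomLift.lift_id_inv _ _ ex
    have : (QuotSt Scheme.fppfPrecoverage G a).p.IsHomLift (𝟙 (Over.mk t)) ey.inv :=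
      IsHomLift.lift_id_inv _ _ ey
    let E : x.1 ≅ y.1 := ex.symm ≪≫ e ≪≫ ey
    have h1 : (QuotSt Scheme.fppfPrecoverage G a).p.IsHomLift (𝟙 (Over.mk t)) E.hom :=
      IsHomLift.comp_of_lift_id (p := (QuotSt Scheme.fppfPrecoverage G a).p) (Over.mk t) ex.inv (e.hom ≫ ey.hom)
    have h2 : (QuotSt Scheme.fppfPrecoverage G a).p.IsHomLift (𝟙 (Over.mk t)) E.inv :=
      IsHomLift.lift_id_inv _ _ E
    exact ⟨{ hom := ⟨E.hom, h1⟩, inv := ⟨E.inv, h2⟩, hom_inv_id := Subtype.ext E.hom_inv_id,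
             inv_hom_id := Subtype.ext E.inv_hom_id }⟩

end Groth.Agent.AlgSt88
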