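import Groth.Agent.AlgSt88.QuotTorsor
import Groth.Agent.AlgSt88.QuotFib
import Groth.Agent.SpFP87.Covers

/-! Invariant maps to sheaves descend to the quotient category. -/

set_option autoImplicit false
set_option linter.style.haveILetI false
set_option backward.isDefEq.respectTransparency false
set_option backward.isDefEq.respectTransparency.types false
universe u

open CategoryTheory CategoryTheory.Limits MonoidalCategory CartesianMonoidalCategory AlgebraicGeometry AlgSt Opposite

namespace Groth.Agent.AlgSt88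

variable {S : Scheme.{u}} {G X : Over S} [GrpObj G] [Flat G.hom] [LocallyOfFinitePresentation G.hom]
  {a : AlgGrp.Action G X} (M : AlgSp.Sp S)

omit [Flat G.hom] [LocallyOfFinitePresentation G.hom] [GrpObj G] in
/-- Functors to a category of sections are determined by their values on objects. -/
theorem basedFunctor_ext_ofSp {𝒳 : AlgSt.Cat S} {M : AlgSp.Sp S} {F F' : 𝒳 ⥤ᵇ ofSp M}
    (h : ∀ x, F.obj x = F'.obj x) : F = F' := by
  obtain ⟨F, hF⟩ := F
  obtain ⟨F', hF'⟩ := F'
  obtain rfl : F = F' := by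
    refine CategoryTheory.Functor.ext h fun x y k => Stk.EltObj.hom_ext ?_
    have h1 := Functor.congr_hom hF k
    have h2 := Functor.congr_hom hF' k
    change (F.map k).hom = (Stk.EltObj.forget _).map (eqToHom (h x) ≫ F'.map k ≫ eqToHom (h y).symm)
    simp only [Functor.map_comp, eqToHom_map]
    change (F.map k).hom = eqToHom _ ≫ (F'.map k).hom ≫ eqToHom _
    change (F.map k).hom = _ at h1
    change (F'.map k).hom = _ at h2
    rw [h1, h2]
    simp
  rfl

omit [Flat G.hom] [LocallyOfFinitePresentation G.hom] [GrpObj G] in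
theorem eq_mk_of_base_eq {M : AlgSp.Sp S} (z : (ofSp M).obj) {B : Over S} (h : z.base = B) :
    z = ⟨B, M.obj.map (eqToHom h.symm).op z.sec⟩ := by
  subst h; simp

theorem existsUnique_descend_π (A : QuotObj Scheme.fppfPrecoverage G a) (s : M.obj.obj (op A.P))
    (hs : M.obj.map A.act.act.op s = M.obj.map (snd G A.P).op s) :
    ∃! t : M.obj.obj (op A.base), M.obj.map A.π.op t = s := by
  have hmem : Sieve.ofArrows (fun _ : PUnit.{u + 1} => A.P) (fun _ => A.π) ∈ AlgSp.J S A.base :=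
    SpFP87.ofArrows_mem_of_fppf _ _ (fun _ => ⟨flat_π ‹_› A, lfp_π ‹_› A⟩)
      fun t => ⟨⟨⟩, (surjective_π A).surj t⟩
  have hsh : Presieve.IsSheafFor M.obj (Presieve.ofArrows (fun _ : PUnit.{u + 1} => A.P) (fun _ => A.π)) :=
    Presieve.isSheafFor_iff_generate _ |>.2 ((isSheaf_iff_isSheaf_of_type _ _).1 M.property _ hmem)
  obtain ⟨t, ht, hu⟩ := (Presieve.isSheafFor_arrows_iff _ _).1 hsh (fun _ => s) (fun _ _ Z g₁ g₂ h => by
    obtain ⟨m, h1, h2⟩ : ∃ m : Z ⟶ G ⊗ A.P, m ≫ A.act.act = g₁ ∧ m ≫ snd G A.P = g₂ :=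
      ⟨A.cart.lift g₁ g₂ h, A.cart.lift_fst _ _ _, A.cart.lift_snd _ _ _⟩
    rw [← h1, ← h2, op_comp, op_comp, Functor.map_comp_apply, Functor.map_comp_apply, hs])
  exact ⟨t, ht ⟨⟩, fun t' ht' => hu t' fun _ => ht'⟩

variable (f : (AlgSp.yon S).obj X ⟶ M)

/-- The value of a map from a scheme on a point. -/
noncomputable abbrev atPt {T : Over S} (x : T ⟶ X) : M.obj.obj (op T) := f.hom.app (op T) ⟨x⟩

theorem map_atPt {T T' : Over S} (g : T' ⟶ T) (x : T ⟶ X) :
    M.obj.map g.op (atPt M f x) = atPt M f (g ≫ x) :=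
  (NatTrans.naturality_apply f.hom g.op (show ((AlgSp.yon S).obj X).obj.obj (op T) from ⟨x⟩)).symm

variable (hf : (AlgSp.yon S).map a.act ≫ f = (AlgSp.yon S).map (snd G X) ≫ f)
include hf

theorem atPt_inv {T : Over S} (g : T ⟶ G ⊗ X) : atPt M f (g ≫ a.act) = atPt M f (g ≫ snd G X) :=
  congrArg (fun t : (AlgSp.yon S).obj (G ⊗ X) ⟶ M => t.hom.app (op T) ⟨g⟩) hf

theorem existsUnique_val (A : QuotObj Scheme.fppfPrecoverage G a) :
    ∃! t : M.obj.obj (op A.base), M.obj.map A.π.op t = atPt M f A.φ := by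
  refine existsUnique_descend_π M A _ ?_
  rw [map_atPt, map_atPt, A.eqv, atPt_inv M f hf, whiskerLeft_snd]

/-- The descended functor. -/
noncomputable def quotDesc : QuotSt Scheme.fppfPrecoverage G a ⥤ᵇ ofSp M where
  toFunctor :=
    { obj := fun A => ⟨A.base, (existsUnique_val M f hf A).choose⟩
      map := fun {A B} m => ⟨m.base, ((existsUnique_val M f hf A).unique
        (existsUnique_val M f hf A).choose_spec.1 (by
          rw [← Functor.map_comp_apply, ← op_comp, ← m.cart.w, op_comp, Functor.map_comp_apply,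
            (existsUnique_val M f hf B).choose_spec.1, map_atPt, m.wφ])).symm⟩
      map_id := fun _ => Stk.EltObj.hom_ext rfl
      map_comp := fun _ _ => Stk.EltObj.hom_ext rfl }
  w := rfl

theorem quotMap_quotDesc :
    BasedFunctor.comp (quotMap Scheme.fppfPrecoverage G a) (quotDesc M f hf) = ofSpMap f := by
  refine basedFunctor_ext_ofSp fun w => ?_
  have hval := existsUnique_val M f hf ((quotMap Scheme.fppfPrecoverage G a).obj w)
  refine congrArg (Stk.EltObj.mk w.base) (hval.unique hval.choose_spec.1 ?_)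
  show M.obj.map (snd G w.base).op (f.hom.app (op w.base) w.sec) = atPt M f ((G ◁ w.sec.down) ≫ a.act)
  rw [atPt_inv M f hf, whiskerLeft_snd]
  exact map_atPt M f _ _

theorem eq_quotDesc {φ : QuotSt Scheme.fppfPrecoverage G a ⥤ᵇ ofSp M}
    (h : BasedFunctor.comp (quotMap Scheme.fppfPrecoverage G a) φ = ofSpMap f) : φ = quotDesc M f hf := by
  refine basedFunctor_ext_ofSp fun A => ?_
  let w : (ofSch X).obj := ⟨A.P, ⟨(𝟙 A.P) ≫ A.φ⟩⟩
  let m : (quotMap Scheme.fppfPrecoverage G a).obj w ⟶ A := pointHom A (𝟙 A.P)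
  have hb : (φ.obj A).base = A.base := φ.w_obj A
  have hw : φ.obj ((quotMap Scheme.fppfPrecoverage G a).obj w) = ⟨A.P, f.hom.app (op A.P) ⟨A.φ⟩⟩ :=
    (congrArg (fun t : ofSch X ⥤ᵇ ofSp M => t.obj w) h).trans (by simp [w]; rfl)
  have hm : (φ.map m).hom = eqToHom (φ.w_obj _) ≫ (𝟙 A.P ≫ A.π) ≫ eqToHom hb.symm := Functor.congr_hom φ.w m
  have hv := existsUnique_val M f hf A
  have key : M.obj.map A.π.op (M.obj.map (eqToHom hb.symm).op (φ.obj A).sec) = atPt M f A.φ := by
    have hk : ∀ (z : (ofSp M).obj) (h' : z = ⟨A.P, f.hom.app (op A.P) ⟨A.φ⟩⟩),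
        M.obj.map (eqToHom (congrArg Stk.EltObj.base h').symm).op z.sec = atPt M f A.φ := by
      rintro z rfl; simp
    rw [← hk _ hw, ← (φ.map m).map_sec, hm, ← Functor.map_comp_apply, ← Functor.map_comp_apply, ← op_comp,
      ← op_comp]
    simp
  rw [show (quotDesc M f hf).obj A = ⟨A.base, M.obj.map (eqToHom hb.symm).op (φ.obj A).sec⟩ from
    congrArg (Stk.EltObj.mk A.base) (hv.unique hv.choose_spec.1 key)]
  exact eq_mk_of_base_eq _ hb

end Groth.Agent.AlgSt88
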