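import Groth.Agent.AlgSt88.QuotDescent
import Groth.Agent.AlgSt88.QuotCart
import Groth.Agent.AlgSt88.RepSp

/-! Moduli spaces of quotient categories and categorical quotients. -/

set_option autoImplicit false
set_option linter.style.haveILetI false
set_option backward.isDefEq.respectTransparency false
set_option backward.isDefEq.respectTransparency.types false
universe u

open CategoryTheory CategoryTheory.Limits MonoidalCategory CartesianMonoidalCategory AlgebraicGeometry AlgSt Opposite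

namespace Groth.Agent.AlgSt88

variable {S : Scheme.{u}}

theorem eq_of_iso_ofSp {𝒳 : AlgSt.Cat S} {M : AlgSp.Sp S} {F F' : 𝒳 ⥤ᵇ ofSp M} (α : F ≅ F') : F = F' := by
  refine basedFunctor_ext_ofSp fun x => ?_
  have hl := α.hom.isHomLift' x
  have hb : (F.obj x).base = 𝒳.p.obj x := F.w_obj x
  have hb' : (F'.obj x).base = 𝒳.p.obj x := F'.w_obj x
  have h : (α.hom.toNatTrans.app x).hom = eqToHom hb ≫ 𝟙 (𝒳.p.obj x) ≫ eqToHom hb'.symm :=
    IsHomLift.fac' (ofSp M).p (𝟙 (𝒳.p.obj x)) (α.hom.toNatTrans.app x)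
  have h2 := (α.hom.toNatTrans.app x).map_sec
  rw [eq_mk_of_base_eq (F.obj x) hb, eq_mk_of_base_eq (F'.obj x) hb', ← h2, h, ← Functor.map_comp_apply, ← op_comp]
  simp

theorem ofSpMap_injective {F G : AlgSp.Sp S} {g g' : F ⟶ G} (h : ofSpMap g = ofSpMap g') : g = g' := by
  rw [← homOfBased_ofSpMap g, ← homOfBased_ofSpMap g', h]

variable {G X : Over S} [GrpObj G] {a : AlgGrp.Action G X}

theorem invariant_of_quotMap_comp {M : AlgSp.Sp S} (φ : QuotSt Scheme.fppfPrecoverage G a ⥤ᵇ ofSp M)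
    (g : (AlgSp.yon S).obj X ⟶ M) (h : BasedFunctor.comp (quotMap Scheme.fppfPrecoverage G a) φ = ofSpMap g) :
    (AlgSp.yon S).map a.act ≫ g = (AlgSp.yon S).map (snd G X) ≫ g := by
  refine sp_hom_ext fun T t => ?_
  obtain ⟨(t : T ⟶ G ⊗ X)⟩ := t
  obtain ⟨e, he, -⟩ := exists_quot_iso a (t ≫ fst G X) (t ≫ a.act) (t ≫ snd G X)
    (by rw [← comp_lift, lift_fst_snd, Category.comp_id])
  have hval : ∀ (z : (ofSch X).obj), φ.obj ((quotMap Scheme.fppfPrecoverage G a).obj z) = (ofSpMap g).obj z :=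
    fun z => congrArg (fun F : ofSch X ⥤ᵇ ofSp M => F.obj z) h
  have key : ∀ (z z' : (ofSp M).obj) (s s' : M.obj.obj (op T)) (k : z ⟶ z') (hz : z = ⟨T, s⟩) (hz' : z' = ⟨T, s'⟩),
      k.hom = eqToHom ((congrArg Stk.EltObj.base hz).trans (congrArg Stk.EltObj.base hz').symm) → s = s' := by
    intro z z' s s' k hz hz' hk
    subst hz hz'
    have h' := k.map_sec
    rw [hk] at h'
    simpa using h'.symm
  refine key _ _ _ _ (φ.map e.hom) (hval _) (hval _) ?_
  have hk : (φ.map e.hom).hom = eqToHom (φ.w_obj _) ≫ e.hom.base ≫ eqToHom (φ.w_obj _).symm :=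
    Functor.congr_hom φ.w e.hom
  rw [hk, he]
  erw [Category.id_comp, eqToHom_trans]

variable [Flat G.hom] [LocallyOfFinitePresentation G.hom]

theorem isCatModuliSch_iff_isCatQuot {Y : Over S} (f : X ⟶ Y)
    (π : QuotSt Scheme.fppfPrecoverage G a ⥤ᵇ ofSch Y)
    (hπ : BasedFunctor.comp (quotMap Scheme.fppfPrecoverage G a) π = ofSpMap ((AlgSp.yon S).map f)) :
    IsCatModuliSch π ↔ GIT.IsCatQuot a f := by
  have hf : GIT.IsInvariant a f := (AlgSp.yon S).map_injective (by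
    rw [Functor.map_comp, Functor.map_comp]; exact invariant_of_quotMap_comp π _ hπ)
  have hcomp : ∀ {N : AlgSp.Sp S} (g : (AlgSp.yon S).obj Y ⟶ N),
      BasedFunctor.comp (quotMap Scheme.fppfPrecoverage G a) (BasedFunctor.comp π (ofSpMap g)) =
        ofSpMap ((AlgSp.yon S).map f ≫ g) := by
    intro N g
    rw [show BasedFunctor.comp (quotMap Scheme.fppfPrecoverage G a) (BasedFunctor.comp π (ofSpMap g)) = BasedFunctor.comp (BasedFunctor.comp (quotMap Scheme.fppfPrecoverage G a) π) (ofSpMap g) from rfl, hπ]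
    rfl
  constructor
  · intro h
    refine ⟨hf, fun Z ψ hψ => ?_⟩
    have hψ' : (AlgSp.yon S).map a.act ≫ (AlgSp.yon S).map ψ =
        (AlgSp.yon S).map (snd G X) ≫ (AlgSp.yon S).map ψ := by
      rw [← Functor.map_comp, ← Functor.map_comp, hψ]
    let φ := quotDesc ((AlgSp.yon S).obj Z) ((AlgSp.yon S).map ψ) hψ'
    obtain ⟨g, ⟨α⟩, hu⟩ := h.2 ((AlgSp.yon S).obj Z)
      ⟨⟨Z, ⟨AlgSp.representableByOfIso (Iso.refl _)⟩⟩⟩ φ
    obtain ⟨χ, rfl⟩ := (AlgSp.yon S).map_surjective g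
    have h1 := eq_of_iso_ofSp α
    refine ⟨χ, (AlgSp.yon S).map_injective ?_, fun χ' hχ' => (AlgSp.yon S).map_injective ?_⟩
    · rw [Functor.map_comp]
      refine ofSpMap_injective ?_
      rw [← hcomp, h1, quotMap_quotDesc]
    · refine hu _ ⟨eqToIso ?_⟩
      exact eq_quotDesc _ _ hψ' ((hcomp _).trans (by rw [← Functor.map_comp, hχ']))
  · rintro ⟨-, hu⟩
    refine ⟨⟨⟨Y, ⟨AlgSp.representableByOfIso (Iso.refl _)⟩⟩⟩, fun N hN φ => ?_⟩
    obtain ⟨Z, ⟨r⟩⟩ := hN.has_representation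
    let i := AlgSp.isoOfRepresentableBy r
    let gN := homOfBased (BasedFunctor.comp (quotMap Scheme.fppfPrecoverage G a) φ)
    obtain ⟨β⟩ := exists_hom_iso (BasedFunctor.comp (quotMap Scheme.fppfPrecoverage G a) φ)
    have h0 : BasedFunctor.comp (quotMap Scheme.fppfPrecoverage G a) φ = ofSpMap gN := eq_of_iso_ofSp β
    have hinv := invariant_of_quotMap_comp φ gN h0
    obtain ⟨ψ, hψ⟩ := (AlgSp.yon S).map_surjective (gN ≫ i.inv)
    have hgN : gN = (AlgSp.yon S).map ψ ≫ i.hom := by rw [hψ, Category.assoc, i.inv_hom_id, Category.comp_id]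
    have hψi : GIT.IsInvariant a ψ := (AlgSp.yon S).map_injective (by
      rw [Functor.map_comp, Functor.map_comp, hψ, reassoc_of% hinv])
    obtain ⟨χ, hχ, hχu⟩ := hu Z ψ hψi
    refine ⟨(AlgSp.yon S).map χ ≫ i.hom, ⟨eqToIso ?_⟩, fun g hg => ?_⟩
    · have h1 : BasedFunctor.comp (quotMap Scheme.fppfPrecoverage G a)
          (BasedFunctor.comp π (ofSpMap ((AlgSp.yon S).map χ ≫ i.hom))) = ofSpMap gN := by
        rw [hcomp, ← Category.assoc, ← Functor.map_comp, hχ, ← hgN]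
      rw [eq_quotDesc _ gN hinv h1, eq_quotDesc _ gN hinv h0]
    · obtain ⟨α⟩ := hg
      have h2 : (AlgSp.yon S).map f ≫ g = gN := ofSpMap_injective (by rw [← hcomp, eq_of_iso_ofSp α, h0])
      obtain ⟨χ', hχ'⟩ := (AlgSp.yon S).map_surjective (g ≫ i.inv)
      have h3 : f ≫ χ' = ψ := (AlgSp.yon S).map_injective (by
        rw [Functor.map_comp, hχ', reassoc_of% h2, hψ])
      rw [← hχu χ' h3, hχ', Category.assoc, i.inv_hom_id, Category.comp_id]

end Groth.Agent.AlgSt88
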