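import Groth.Agent.AlgSt88.QuotFib
import Groth.Agent.AlgSt88.QuotTorsor
import Groth.Agent.AlgSt88.Rep
import Groth.Agent.AlgSt88.PshRep
import Groth.Agent.AlgSt88.QC

/-! The canonical functor to a quotient category is representable, with the properties of the group. -/

set_option autoImplicit false
set_option linter.style.haveILetI false
set_option backward.isDefEq.respectTransparency false
set_option backward.isDefEq.respectTransparency.types false
universe u

open CategoryTheory CategoryTheory.Limits MonoidalCategory CartesianMonoidalCategory AlgebraicGeometry AlgSt FibCat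

namespace Groth.Agent.AlgSt88

variable {S : Scheme.{u}} {G X : Over S} [GrpObj G] (a : AlgGrp.Action G X)

theorem repByAlgSpWith_quotMap (P : MorphismProperty (AlgSp.Sp S))
    (h : ∀ {U : Over S} (y : overCat U ⥤ᵇ QuotSt Scheme.fppfPrecoverage G a), P ((AlgSp.yon S).map (yπ y))) :
    RepByAlgSpWith P (BasedFunctor.comp (AlgSt.ofOverCat X) (AlgSt.quotMap Scheme.fppfPrecoverage G a)) :=
  (repByAlgSpWith_precomp_equiv (isEquivOver_ofOverCat X)).2 fun U y =>
    ⟨⟨(AlgSp.yon S).obj (yA y).P, AlgSp.IsAlgSpace.yon_obj _⟩, fibFun y, isEquivOver_fibFun y,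
      (congrArg (fun t => P t) (spMap_fibFun y)).mpr (h y)⟩

theorem repByAlgSpWith_locP_quotMap (P : MorphismProperty Scheme.{u}) [P.IsStableUnderBaseChange]
    [IsZariskiLocalAtTarget P]
    (h : ∀ A : QuotObj Scheme.fppfPrecoverage G a, P A.π.left)
    (hyon : ∀ {A B : Over S} (f : A ⟶ B), P f.left → AlgSp.LocP P ((AlgSp.yon S).map f)) :
    RepByAlgSpWith (AlgSp.LocP P)
      (BasedFunctor.comp (AlgSt.ofOverCat X) (AlgSt.quotMap Scheme.fppfPrecoverage G a)) :=
  repByAlgSpWith_quotMap a _ fun {U} y => hyon _ <| by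
    have : IsIso (eqToHom (yA_base y)).left :=
      inferInstanceAs (IsIso ((Over.forget S).map (eqToHom (yA_base y))))
    show P ((yA y).π.left ≫ (eqToHom (yA_base y)).left)
    exact (P.cancel_right_of_respectsIso _ _).2 (h _)

theorem repByAlgSpWith_surj_quotMap :
    RepByAlgSpWith AlgSp.IsSurjectiveMor
      (BasedFunctor.comp (AlgSt.ofOverCat X) (AlgSt.quotMap Scheme.fppfPrecoverage G a)) :=
  repByAlgSpWith_quotMap a _ fun {U} y => fun z => by
    have : IsIso (eqToHom (yA_base y)).left :=
      inferInstanceAs (IsIso ((Over.forget S).map (eqToHom (yA_base y))))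
    have : Surjective (yA y).π.left := surjective_π _
    have hs : Surjective (yπ y).left := inferInstanceAs (Surjective ((yA y).π.left ≫ (eqToHom (yA_base y)).left))
    obtain ⟨t, rfl⟩ := (AlgSp.Points.schemeHomeo U).surjective z
    obtain ⟨s, rfl⟩ := hs.surj t
    exact ⟨AlgSp.Points.schemeHomeo _ s, AlgSp.Points.map_yon_map_apply (yπ y) s⟩

end Groth.Agent.AlgSt88
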