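import Groth.Agent.AlgSt88.QuotStackDesc
import Groth.Agent.Fib44.Refine

/-! The quotient category of an affine group is a stack. -/

set_option autoImplicit false
set_option linter.style.haveILetI false
set_option backward.isDefEq.respectTransparency false
set_option backward.isDefEq.respectTransparency.types false
universe u

open CategoryTheory CategoryTheory.Limits MonoidalCategory CartesianMonoidalCategory AlgebraicGeometry AlgSt

namespace Groth.Agent.AlgSt88

variable {S : Scheme.{u}} {K : Precoverage Scheme.{u}} {G X : Over S} [GrpObj G]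

/-- A torsor for a topology is a torsor for a finer one. -/
def quotWeaken {K' : Precoverage Scheme.{u}} (hK : K ≤ K') (a : AlgGrp.Action G X) :
    QuotSt K G a ⥤ᵇ QuotSt K' G a where
  toFunctor :=
    { obj := fun A =>
        { base := A.base
          P := A.P
          act := A.act
          π := A.π
          cart := A.cart
          loc := let ⟨R, hR, h⟩ := A.loc; ⟨R, hK _ hR, h⟩
          φ := A.φ
          eqv := A.eqv }
      map := fun m => ⟨m.base, m.top, m.eqv, m.cart, m.wφ⟩
      map_id := fun _ => rfl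
      map_comp := fun _ _ => rfl }
  w := rfl

theorem loc_eqToHom {P A B : Over S} (π : P ⟶ A) (h : A = B)
    (hl : NonAbH1.IsLocallyTrivialFor K (Over.mk π.left : Over A.left)) :
    NonAbH1.IsLocallyTrivialFor K (Over.mk (π ≫ eqToHom h).left : Over B.left) := by
  subst h
  simpa using hl

theorem objGlue_vSieve (hG : IsAffineHom G.hom) (a : AlgGrp.Action G X) {U : Over S} {ι : Type u}
    {V : ι → Scheme.{u}} (f : ∀ i, V i ⟶ U.left)
    (hfam : Presieve.ofArrows V f ∈ Scheme.fpqcPrecoverage U.left) :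
    Fib44.ObjGlue (QuotSt Scheme.fpqcPrecoverage G a) (vSieve f) := by
  intro Φ
  have hR : IsFpqcSieve (vSieve f) := mem_over_of_mem_fpqcPrecoverage hfam fun W g hg => by
    obtain ⟨i⟩ := hg
    exact Sieve.ofArrows_mk (vObj f) (vHom f) i
  obtain ⟨F⟩ := exists_cartFam f Φ hfam le_rfl hG
  refine F.exists_glue hR (loc_of_cover F.π.left hfam ?_)
  rintro W g ⟨i⟩
  refine ⟨_, ((Φ.obj (vMem f i)).π ≫ eqToHom (Fib44.obj_sieve Φ (vMem f i))).left, (F.γ (vMem f i)).left, ?_,
    loc_eqToHom _ _ (Φ.obj (vMem f i)).loc⟩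
  have h := congrArg (fun t => t.left) (F.γ_π (vMem f i))
  simp only [Over.comp_left, famBase] at h ⊢
  rw [Category.assoc]
  exact h

theorem isStack_quotSt [K.HasIsos] [K.IsStableUnderBaseChange] [K.IsStableUnderComposition]
    (hK : K ≤ Scheme.fpqcPrecoverage) (hG : IsAffineHom G.hom) (a : AlgGrp.Action G X) :
    Stk.IsStack (QuotSh.J K S) (QuotSt K G a) := by
  refine Fib44.isStack_iff.2 ⟨isFibGrpd_quotSt a, fun U R hR => ?_⟩
  obtain ⟨R₀, hR₀, hR₀R⟩ := exists_precoverage_le hR
  have hR' : IsFpqcSieve R := mem_over_of_mem_fpqcPrecoverage (hK _ hR₀) hR₀R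
  refine ⟨morGlue_quotSt a R hR', fun Φ => ?_⟩
  obtain ⟨ι, V, f, hfam, hf⟩ := exists_small_subcover (hK _ hR₀)
  have hle : vSieve f ≤ R := (Sieve.generate_le_iff _ _).2 fun W g ⟨i⟩ => hR₀R _ (hf i)
  have hvS : IsFpqcSieve (vSieve f) := mem_over_of_mem_fpqcPrecoverage hfam fun W g hg => by
    obtain ⟨i⟩ := hg
    exact Sieve.ofArrows_mk (vObj f) (vHom f) i
  let Φ' : Stk.sieveCat R ⥤ᵇ QuotSt Scheme.fpqcPrecoverage G a := BasedFunctor.comp Φ (quotWeaken hK a)
  obtain ⟨x', γ', hγ⟩ := Fib44.objGlue_of_le (isFibGrpd_quotSt (K := Scheme.fpqcPrecoverage) a) hle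
    (objGlue_vSieve hG a f hfam)
    (fun W g hg => morGlue_quotSt a _ (GrothendieckTopology.pullback_stable _ g hvS)) Φ'
  have hx : x'.base = U := hγ.over
  have hb : ∀ c : R.arrows.category,
      (γ' c).base ≫ eqToHom hx = eqToHom (Fib44.obj_sieve Φ c) ≫ c.obj.hom := by
    intro c
    have := hγ.lift c
    have h1 := IsHomLift.fac' (QuotSt Scheme.fpqcPrecoverage G a).p c.obj.hom (γ' c)
    change (γ' c).base = _ at h1
    rw [h1]
    simp
  have hπ : ∀ c : R.arrows.category, (γ' c).top ≫ x'.π ≫ eqToHom hx =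
      (Φ.obj c).π ≫ eqToHom (Fib44.obj_sieve Φ c) ≫ c.obj.hom := by
    intro c
    rw [← Category.assoc, (γ' c).cart.w, Category.assoc, hb]
    rfl
  obtain rfl : U = x'.base := hx.symm
  have hloc : NonAbH1.IsLocallyTrivialFor K (Over.mk x'.π.left : Over x'.base.left) := by
    refine loc_of_cover x'.π.left hR₀ fun W g hg => ?_
    let c : R.arrows.category := Fib44.sObj R _ (hR₀R g hg)
    refine ⟨_, ((Φ.obj c).π ≫ eqToHom (Fib44.obj_sieve Φ c)).left, (γ' c).top.left, ?_,
      loc_eqToHom _ _ (Φ.obj c).loc⟩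
    have h := congrArg (fun t => t.left) (hπ c)
    simp only [eqToHom_refl, Category.comp_id, Over.comp_left] at h ⊢
    rw [Category.assoc]
    exact h
  refine ⟨{ base := x'.base, P := x'.P, act := x'.act, π := x'.π, cart := x'.cart, loc := hloc, φ := x'.φ,
            eqv := x'.eqv },
    fun c => ⟨(γ' c).base, (γ' c).top, (γ' c).eqv, (γ' c).cart, (γ' c).wφ⟩, rfl, fun c => ?_, fun b c k => ?_⟩
  · exact IsHomLift.of_fac' _ _ _ (Fib44.obj_sieve Φ c) rfl (by
      have h := hb c
      simp only [eqToHom_refl, Category.comp_id] at h ⊢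
      exact h)
  · exact QuotObj.hom_ext (congrArg (fun t => t.base) (hγ.nat k)) (congrArg (fun t => t.top) (hγ.nat k))

end Groth.Agent.AlgSt88
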