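import Groth.Agent.AlgSt88.QuotStackTorsor
import Groth.Agent.AlgSt88.QuotStackCover
import Groth.Agent.Desc59.DDFamIndQA
import Groth.Agent.S1398

/-! Effective descent of affine torsors along an fpqc family. -/

set_option autoImplicit false
set_option linter.style.haveILetI false
set_option backward.isDefEq.respectTransparency false
set_option backward.isDefEq.respectTransparency.types false
universe u

open CategoryTheory CategoryTheory.Limits MonoidalCategory CartesianMonoidalCategory AlgebraicGeometry AlgSt Desc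

namespace Groth.Agent.AlgSt88

variable {S : Scheme.{u}} {K : Precoverage Scheme.{u}} {G X : Over S} [GrpObj G] {a : AlgGrp.Action G X}
variable {U : Over S} {ι : Type u} {V : ι → Scheme.{u}} (f : ∀ i, V i ⟶ U.left)

/-- A member of the family as a scheme over the base. -/
abbrev vObj (i : ι) : Over S := Over.mk (f i ≫ U.hom)

/-- A member of the family as a morphism over the base. -/
abbrev vHom (i : ι) : vObj f i ⟶ U := Over.homMk (f i) rfl

/-- The sieve generated by the family. -/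
abbrev vSieve : Sieve U := Sieve.ofArrows (vObj f) (vHom f)

variable (Φ : Stk.sieveCat (vSieve f) ⥤ᵇ QuotSt K G a)

/-- The member as an object of the sieve. -/
noncomputable abbrev vMem (i : ι) : (vSieve f).arrows.category :=
  Fib44.sObj (vSieve f) (vHom f i) (Sieve.ofArrows_mk (vObj f) (vHom f) i)

/-- The structure map of the torsor over an arrow of the sieve. -/
noncomputable def pl (c : (vSieve f).arrows.category) : (Φ.obj c).P.left ⟶ c.obj.left.left :=
  ((Φ.obj c).π ≫ eqToHom (Fib44.obj_sieve Φ c)).left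

/-- The top map of a morphism of the family. -/
noncomputable abbrev tl {b c : (vSieve f).arrows.category} (k : b ⟶ c) : (Φ.obj b).P.left ⟶ (Φ.obj c).P.left :=
  (Φ.map k).top.left

theorem isPullback_pl {b c : (vSieve f).arrows.category} (k : b ⟶ c) :
    IsPullback (tl f Φ k) (pl f Φ b) (pl f Φ c) k.hom.left.left := by
  have h : (Φ.map k).base = eqToHom (Fib44.obj_sieve Φ b) ≫ k.hom.left ≫ eqToHom (Fib44.obj_sieve Φ c).symm :=
    Functor.congr_hom Φ.w k
  have h1 : IsPullback (Φ.map k).top ((Φ.obj b).π ≫ eqToHom (Fib44.obj_sieve Φ b))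
      ((Φ.obj c).π ≫ eqToHom (Fib44.obj_sieve Φ c)) k.hom.left :=
    (Φ.map k).cart.paste_vert (IsPullback.of_vert_isIso ⟨by rw [h]; simp⟩)
  exact h1.map (Over.forget S)

theorem tl_comp {b c d : (vSieve f).arrows.category} (k : b ⟶ c) (l : c ⟶ d) :
    tl f Φ (k ≫ l) = tl f Φ k ≫ tl f Φ l :=
  congrArg (fun t => t.top.left) (Φ.map_comp k l)

variable {f}

/-- The arrow of the sieve given by a point of a member. -/
noncomputable def cObj {T : Scheme.{u}} (i : ι) (x : T ⟶ V i) : (vSieve f).arrows.category :=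
  Fib44.sObj (vSieve f) (Over.homMk (x ≫ f i) rfl : Over.mk ((x ≫ f i) ≫ U.hom) ⟶ U)
    (by
      have h := (vSieve f).downward_closed (Sieve.ofArrows_mk (vObj f) (vHom f) i)
        (Over.homMk x (by simp) : Over.mk ((x ≫ f i) ≫ U.hom) ⟶ vObj f i)
      convert h using 1
      exact Over.OverMorphism.ext rfl)

/-- The morphism to a member given by a lift. -/
noncomputable def jHom (c : (vSieve f).arrows.category) (i : ι) (x : c.obj.left.left ⟶ V i)
    (h : x ≫ f i = c.obj.hom.left) : c ⟶ vMem f i :=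
  Fib44.sHom _ (Over.homMk x (by
    show x ≫ f i ≫ U.hom = c.obj.left.hom
    rw [← Category.assoc, h]; exact Over.w c.obj.hom)) (Over.OverMorphism.ext h)

theorem eq_jHom {c : (vSieve f).arrows.category} {i : ι} (k : c ⟶ vMem f i) :
    k = jHom c i k.hom.left.left (congrArg (fun t => t.left) (Over.w k.hom)) :=
  ObjectProperty.hom_ext _ (Over.OverMorphism.ext (Over.OverMorphism.ext rfl))

variable (f)

/-- The torsor over a member as a scheme over it. -/
noncomputable abbrev dObj (i : ι) : Over (V i) := Over.mk (pl f Φ (vMem f i))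

variable {f}

/-- Points over a point of a member are sections of the pulled back torsor. -/
noncomputable def sectEquiv (c : (vSieve f).arrows.category) (i : ι) (x : c.obj.left.left ⟶ V i)
    (h : x ≫ f i = c.obj.hom.left) :
    Lifts (dObj f Φ i) x ≃ {σ : c.obj.left.left ⟶ (Φ.obj c).P.left // σ ≫ pl f Φ c = 𝟙 _} where
  toFun v := ⟨(isPullback_pl f Φ (jHom c i x h)).lift v.1 (𝟙 _) (by rw [Category.id_comp]; exact v.2),
    (isPullback_pl f Φ (jHom c i x h)).lift_snd _ _ _⟩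
  invFun σ := ⟨σ.1 ≫ tl f Φ (jHom c i x h), by
    show (σ.1 ≫ tl f Φ (jHom c i x h)) ≫ pl f Φ (vMem f i) = x
    rw [Category.assoc, (isPullback_pl f Φ (jHom c i x h)).w, reassoc_of% σ.2]
    rfl⟩
  left_inv v := Subtype.ext ((isPullback_pl f Φ _).lift_fst _ _ _)
  right_inv σ := Subtype.ext ((isPullback_pl f Φ _).hom_ext ((isPullback_pl f Φ _).lift_fst _ _ _)
    (((isPullback_pl f Φ _).lift_snd _ _ _).trans σ.2.symm))

/-- The transfer of points between members. -/
noncomputable def dφ {T : Scheme.{u}} {i j : ι} (x₀ : T ⟶ V i) (x₁ : T ⟶ V j) (h : x₀ ≫ f i = x₁ ≫ f j) :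
    Lifts (dObj f Φ i) x₀ ≃ Lifts (dObj f Φ j) x₁ :=
  (sectEquiv Φ (cObj i x₀) i x₀ rfl).trans (sectEquiv Φ (cObj i x₀) j x₁ h.symm).symm

theorem dφ_spec {T : Scheme.{u}} {i j : ι} (x₀ : T ⟶ V i) (x₁ : T ⟶ V j) (h : x₀ ≫ f i = x₁ ≫ f j)
    (v : Lifts (dObj f Φ i) x₀) {c : (vSieve f).arrows.category} (k₀ : c ⟶ vMem f i) (k₁ : c ⟶ vMem f j)
    (g : c.obj.left.left ⟶ T) (h₀ : k₀.hom.left.left = g ≫ x₀) (h₁ : k₁.hom.left.left = g ≫ x₁)
    (σ : c.obj.left.left ⟶ (Φ.obj c).P.left) (hσ : σ ≫ pl f Φ c = 𝟙 _)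
    (hv : σ ≫ tl f Φ k₀ = g ≫ v.1) : σ ≫ tl f Φ k₁ = g ≫ (dφ Φ x₀ x₁ h v).1 := by
  have hw : c.obj.hom.left = k₀.hom.left.left ≫ f i := (congrArg (fun t => t.left) (Over.w k₀.hom)).symm
  let gg : c ⟶ cObj i x₀ := Fib44.sHom _ (Over.homMk g (by
      show g ≫ (x₀ ≫ f i) ≫ U.hom = c.obj.left.hom
      rw [← Over.w c.obj.hom, hw, h₀]; simp))
    (Over.OverMorphism.ext (by
      show g ≫ x₀ ≫ f i = c.obj.hom.left
      rw [hw, h₀, Category.assoc]))
  let τ := sectEquiv Φ (cObj i x₀) i x₀ rfl v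
  have e₀ : gg ≫ jHom (cObj i x₀) i x₀ rfl = k₀ :=
    ObjectProperty.hom_ext _ (Over.OverMorphism.ext (Over.OverMorphism.ext h₀.symm))
  have e₁ : gg ≫ jHom (cObj i x₀) j x₁ h.symm = k₁ :=
    ObjectProperty.hom_ext _ (Over.OverMorphism.ext (Over.OverMorphism.ext h₁.symm))
  have hτ : σ ≫ tl f Φ gg = g ≫ τ.1 := by
    apply (isPullback_pl f Φ (jHom (cObj i x₀) i x₀ rfl)).hom_ext
    · rw [Category.assoc, ← tl_comp, e₀, hv, Category.assoc]
      exact congrArg (g ≫ ·) ((isPullback_pl f Φ _).lift_fst _ _ _).symm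
    · rw [Category.assoc, (isPullback_pl f Φ gg).w, reassoc_of% hσ, Category.assoc, τ.2]
      exact (Category.comp_id g).symm
  rw [← e₁, tl_comp, reassoc_of% hτ]
  rfl

variable (f)

/-- The descent datum of a family of torsors. -/
noncomputable def torsorDD : SchDDFam f where
  obj := dObj f Φ
  φ _ _ _ x₀ x₁ h := dφ Φ x₀ x₁ h
  φ_natural T T' g i j x₀ x₁ h y₀ y₁ hy₀ hy₁ h' v v' hv := by
    rw [← dφ_spec Φ x₀ x₁ h v (jHom (cObj i y₀) i y₀ rfl) (jHom (cObj i y₀) j y₁ h'.symm) g hy₀.symm hy₁.symm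
      (sectEquiv Φ (cObj i y₀) i y₀ rfl v').1 (sectEquiv Φ (cObj i y₀) i y₀ rfl v').2
      (((isPullback_pl f Φ _).lift_fst _ _ _).trans hv)]
    rfl
  φ_self T i x v := (sectEquiv Φ (cObj i x) i x rfl).symm_apply_apply v
  φ_comp T i j k x₀ x₁ x₂ h₀₁ h₁₂ v := by
    apply Subtype.ext
    have h := dφ_spec Φ x₁ x₂ h₁₂ (dφ Φ x₀ x₁ h₀₁ v) (jHom (cObj i x₀) j x₁ h₀₁.symm)
      (jHom (cObj i x₀) k x₂ (h₀₁.trans h₁₂).symm) (𝟙 T) (Category.id_comp _).symm (Category.id_comp _).symm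
      (sectEquiv Φ (cObj i x₀) i x₀ rfl v).1 (sectEquiv Φ (cObj i x₀) i x₀ rfl v).2
      (Category.id_comp _).symm
    exact (h.trans (Category.id_comp _)).symm

theorem indQA_of_isAffineHom {Y Z : Scheme.{u}} (g : Y ⟶ Z) [IsAffineHom g] : MoreMor.IsIndQuasiAffineHom g :=
  (Groth.Agent.S1398.result g).2 ⟨inferInstance, fun W hW =>
    have : IsAffine (g ⁻¹ᵁ W : Scheme.{u}) := hW.preimage g
    inferInstance⟩

theorem exists_cartFam (hfam : Presieve.ofArrows V f ∈ Scheme.fpqcPrecoverage U.left)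
    (hK : K ≤ Scheme.fpqcPrecoverage) (hG : IsAffineHom G.hom) : Nonempty (CartFam Φ) := by
  have hD : ∀ i, MoreMor.IsIndQuasiAffineHom ((torsorDD f Φ).obj i).hom := by
    intro i
    have := isAffineHom_π hK hG (Φ.obj (vMem f i))
    have : IsIso (eqToHom (Fib44.obj_sieve Φ (vMem f i))).left :=
      inferInstanceAs (IsIso ((Over.forget S).map (eqToHom (Fib44.obj_sieve Φ (vMem f i)))))
    exact indQA_of_isAffineHom ((Φ.obj (vMem f i)).π.left ≫ (eqToHom (Fib44.obj_sieve Φ (vMem f i))).left)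
  obtain ⟨Q, ⟨e⟩⟩ := Desc59.isEffective_of_isIndQuasiAffineHom hfam (torsorDD f Φ) hD
  let q : ∀ i, (Φ.obj (vMem f i)).P.left ⟶ Q.left := fun i =>
    (e.inv.hom i).left ≫ pullback.snd (f i) Q.hom
  have hinv : ∀ i, IsIso (e.inv.hom i).left := fun i => by
    have h : IsIso (e.inv.hom i) := ⟨e.hom.hom i,
      congrArg (fun t : (torsorDD f Φ) ⟶ (torsorDD f Φ) => t.hom i) e.inv_hom_id,
      congrArg (fun t : (toDDFam f).obj Q ⟶ (toDDFam f).obj Q => t.hom i) e.hom_inv_id⟩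
    exact inferInstanceAs (IsIso ((Over.forget (V i)).map (e.inv.hom i)))
  have hqw : ∀ i, (e.inv.hom i).left ≫ pullback.fst (f i) Q.hom = pl f Φ (vMem f i) := fun i =>
    Over.w (e.inv.hom i)
  have hqc : ∀ i, IsPullback (q i) (pl f Φ (vMem f i)) Q.hom (f i) := fun i => by
    have := hinv i
    exact (IsPullback.of_hasPullback (f i) Q.hom).flip.of_iso (asIso (e.inv.hom i).left).symm (Iso.refl _)
      (Iso.refl _) (Iso.refl _) (by simp [q]) (by simp [← hqw i]) (by simp) (by simp)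
  have hindep : ∀ {c : (vSieve f).arrows.category} {i j : ι} (k₀ : c ⟶ vMem f i) (k₁ : c ⟶ vMem f j),
      tl f Φ k₀ ≫ q i = tl f Φ k₁ ≫ q j := by
    intro c i j k₀ k₁
    let x₀ : (Φ.obj c).P.left ⟶ V i := pl f Φ c ≫ k₀.hom.left.left
    let x₁ : (Φ.obj c).P.left ⟶ V j := pl f Φ c ≫ k₁.hom.left.left
    have w₀ : k₀.hom.left.left ≫ f i = c.obj.hom.left := congrArg (fun t => t.left) (Over.w k₀.hom)
    have w₁ : k₁.hom.left.left ≫ f j = c.obj.hom.left := congrArg (fun t => t.left) (Over.w k₁.hom)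
    have hx : x₀ ≫ f i = x₁ ≫ f j := by simp only [x₀, x₁, Category.assoc, w₀, w₁]
    let v : Lifts (dObj f Φ i) x₀ := ⟨tl f Φ k₀, (isPullback_pl f Φ k₀).w⟩
    let gg : cObj i x₀ ⟶ c := Fib44.sHom _ (Over.homMk (pl f Φ c) (by
        show pl f Φ c ≫ c.obj.left.hom = (x₀ ≫ f i) ≫ U.hom
        rw [← Over.w c.obj.hom, ← w₀]; simp [x₀]))
      (Over.OverMorphism.ext (by
        show pl f Φ c ≫ c.obj.hom.left = x₀ ≫ f i
        rw [← w₀, Category.assoc]))
    let σ : (Φ.obj c).P.left ⟶ (Φ.obj (cObj i x₀)).P.left :=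
      (isPullback_pl f Φ gg).lift (𝟙 _) (𝟙 _) rfl
    have hσ : σ ≫ tl f Φ gg = 𝟙 _ := (isPullback_pl f Φ gg).lift_fst _ _ _
    have hφ : ((torsorDD f Φ).φ x₀ x₁ hx v).1 = tl f Φ k₁ := by
      refine ((dφ_spec Φ x₀ x₁ hx v (gg ≫ k₀) (gg ≫ k₁) (𝟙 _) (Category.id_comp _).symm
        (Category.id_comp _).symm σ ((isPullback_pl f Φ gg).lift_snd _ _ _) ?_).trans
          (Category.id_comp _)).symm.trans ?_
      · rw [tl_comp, reassoc_of% hσ]; exact (Category.id_comp _).symm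
      · rw [tl_comp, reassoc_of% hσ]
    have hc := e.inv.comm x₀ x₁ hx v
      ⟨tl f Φ k₀ ≫ (e.inv.hom i).left, by
        show (tl f Φ k₀ ≫ (e.inv.hom i).left) ≫ pullback.fst (f i) Q.hom = x₀
        rw [Category.assoc, hqw]; exact (isPullback_pl f Φ k₀).w⟩ rfl
    rw [hφ] at hc
    have h2 := congrArg (fun t => t ≫ pullback.snd (f j) Q.hom) hc
    simp only [toDDFam, canonicalDDFam, Equiv.coe_fn_mk, canMapFam_val] at h2
    exact ((Category.assoc _ _ _).symm.trans (pullback.lift_snd _ _ _).symm).trans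
      (h2.trans (Category.assoc _ _ _))
  have hch : ∀ c : (vSieve f).arrows.category, ∃ i, Nonempty (c ⟶ vMem f i) := fun c => by
    obtain ⟨_, w, _, ⟨i⟩, hw⟩ := c.property
    exact ⟨i, ⟨Fib44.sHom _ w hw⟩⟩
  choose idx hk using hch
  let k := fun c => (hk c).some
  let γL : ∀ c, (Φ.obj c).P.left ⟶ Q.left := fun c => tl f Φ (k c) ≫ q (idx c)
  have hcart : ∀ c, IsPullback (γL c) (pl f Φ c) Q.hom c.obj.hom.left := fun c => by
    have h := (isPullback_pl f Φ (k c)).paste_horiz (hqc (idx c))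
    have w : (k c).hom.left.left ≫ f (idx c) = c.obj.hom.left := congrArg (fun t => t.left) (Over.w (k c).hom)
    rwa [w] at h
  let P : Over S := Over.mk (Q.hom ≫ U.hom)
  let π : P ⟶ U := Over.homMk Q.hom rfl
  let γ : ∀ c, (Φ.obj c).P ⟶ P := fun c => Over.homMk (γL c) (by
    show γL c ≫ Q.hom ≫ U.hom = (Φ.obj c).P.hom
    rw [← Category.assoc, (hcart c).w, Category.assoc, Over.w c.obj.hom]
    exact Over.w ((Φ.obj c).π ≫ eqToHom (Fib44.obj_sieve Φ c)))
  refine ⟨⟨P, π, γ, fun c => ?_, fun {b c} l => Over.OverMorphism.ext ?_⟩⟩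
  · have h : IsPullback (γ c) ((Φ.obj c).π ≫ eqToHom (Fib44.obj_sieve Φ c)) π c.obj.hom :=
      IsPullback.of_map (Over.forget S) (Over.OverMorphism.ext (hcart c).w) (hcart c)
    have h2 : IsPullback (𝟙 (Φ.obj c).P) (Φ.obj c).π ((Φ.obj c).π ≫ eqToHom (Fib44.obj_sieve Φ c))
        (eqToHom (Fib44.obj_sieve Φ c)) := IsPullback.of_horiz_isIso ⟨by simp⟩
    have h3 := h2.paste_horiz h
    rwa [Category.id_comp] at h3
  · show tl f Φ l ≫ tl f Φ (k c) ≫ q (idx c) = tl f Φ (k b) ≫ q (idx b)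
    rw [← Category.assoc, ← tl_comp]
    exact hindep _ _

end Groth.Agent.AlgSt88
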