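import Groth.Agent.AlgSt88.QuotStackFib
import Groth.Agent.Fib44.Descent
import Mathlib.AlgebraicGeometry.Sites.Fpqc

/-! Morphisms of quotient categories glue along fpqc coverings. -/

set_option autoImplicit false
set_option linter.style.haveILetI false
set_option backward.isDefEq.respectTransparency false
set_option backward.isDefEq.respectTransparency.types false
universe u

open CategoryTheory CategoryTheory.Limits MonoidalCategory CartesianMonoidalCategory MonObj GrpObj AlgebraicGeometry AlgSt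

namespace Groth.Agent.AlgSt88

variable {S : Scheme.{u}}

/-- A covering sieve for the fpqc topology over a base. -/
abbrev IsFpqcSieve {U : Over S} (R : Sieve U) : Prop := R ∈ (Scheme.fpqcTopology.over S) U

theorem isSheafFor_pullback {P Q U : Over S} (π : P ⟶ U) {R : Sieve U} (hR : IsFpqcSieve R) :
    Presieve.IsSheafFor (yoneda.obj Q) (R.pullback π).arrows := by
  have : (Scheme.fpqcTopology.over S).Subcanonical := inferInstance
  exact GrothendieckTopology.Subcanonical.isSheaf_of_isRepresentable (J := Scheme.fpqcTopology.over S)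
    (yoneda.obj Q) _ ((Scheme.fpqcTopology.over S).pullback_stable π hR)

theorem glue_hom_eq {P Q U : Over S} (π : P ⟶ U) {R : Sieve U} (hR : IsFpqcSieve R) {k k' : P ⟶ Q}
    (h : ∀ {W : Over S} (t : W ⟶ P), R (t ≫ π) → t ≫ k = t ≫ k') : k = k' :=
  (isSheafFor_pullback π hR).isSeparatedFor.ext fun {_} t ht => h t ht

theorem glue_hom_exists {P Q U : Over S} (π : P ⟶ U) {R : Sieve U} (hR : IsFpqcSieve R)
    (f : ∀ {W : Over S} (t : W ⟶ P), R (t ≫ π) → (W ⟶ Q))
    (hf : ∀ {W W' : Over S} (g : W' ⟶ W) (t : W ⟶ P) (h : R (t ≫ π)) (h' : R ((g ≫ t) ≫ π)),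
      f (g ≫ t) h' = g ≫ f t h) : ∃ k : P ⟶ Q, ∀ {W : Over S} (t : W ⟶ P) (h : R (t ≫ π)), t ≫ k = f t h := by
  let x : Presieve.FamilyOfElements (yoneda.obj Q) (R.pullback π).arrows := fun W t h => f t h
  have hx : x.Compatible := by
    rw [Presieve.compatible_iff_sieveCompatible]
    intro W W' t g h
    exact hf g t h _
  exact ⟨(isSheafFor_pullback π hR).amalgamate x hx, fun {W} t h =>
    (isSheafFor_pullback π hR).valid_glue hx t h⟩

variable {K : Precoverage Scheme.{u}} {G X : Over S} [GrpObj G] {a : AlgGrp.Action G X}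

/-- A family of local isomorphisms between two objects. -/
structure LocFam (A B : QuotObj K G a) (e : A.base = B.base) (R : Sieve A.base) where
  /-- the membership relation -/
  F : ∀ {z : QuotObj K G a}, (z ⟶ A) → (z ⟶ B) → Prop
  base : ∀ {z : QuotObj K G a} {u : z ⟶ A} {v : z ⟶ B}, F u v → v.base = u.base ≫ eqToHom e
  mem : ∀ {z : QuotObj K G a} {u : z ⟶ A} {v : z ⟶ B}, F u v → R u.base
  ex : ∀ {W : Over S} (b : W ⟶ A.base), R b →
    ∃ (z : QuotObj K G a) (u : z ⟶ A) (v : z ⟶ B) (h : z.base = W), F u v ∧ u.base = eqToHom h ≫ b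
  fac : ∀ {z z' : QuotObj K G a} {u : z ⟶ A} {v : z ⟶ B} {u' : z' ⟶ A} {v' : z' ⟶ B}, F u v → F u' v' →
    ∀ b : z'.base ⟶ z.base, b ≫ u.base = u'.base → ∃ i : z' ⟶ z, i.base = b ∧ i ≫ u = u' ∧ i ≫ v = v'

namespace LocFam

variable {A B : QuotObj K G a} {e : A.base = B.base} {R : Sieve A.base} (L : LocFam A B e R)

theorem exists_top (hR : IsFpqcSieve R) :
    ∃ k : A.P ⟶ B.P, ∀ {z : QuotObj K G a} (u : z ⟶ A) (v : z ⟶ B), L.F u v → u.top ≫ k = v.top := by
  have key : ∀ {W : Over S} (t : W ⟶ A.P), R (t ≫ A.π) → ∃ q : W ⟶ B.P,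
      ∀ {z : QuotObj K G a} (u : z ⟶ A) (v : z ⟶ B), L.F u v → ∀ p : W ⟶ z.P,
        p ≫ u.top = t → p ≫ v.top = q := by
    intro W t ht
    obtain ⟨z₀, u₀, v₀, h₀, hF₀, hu₀⟩ := L.ex _ ht
    let p₀ : W ⟶ z₀.P := u₀.cart.lift t (eqToHom h₀.symm) (by rw [hu₀]; simp)
    refine ⟨p₀ ≫ v₀.top, fun {z} u v hF p hp => ?_⟩
    obtain ⟨i, hi, hiu, hiv⟩ := L.fac hF hF₀ (eqToHom h₀ ≫ p ≫ z.π) (by
      rw [hu₀, Category.assoc, Category.assoc, ← u.cart.w, reassoc_of% hp])
    have he : p₀ ≫ i.top = p := by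
      apply u.cart.hom_ext
      · rw [hp, Category.assoc, show i.top ≫ u.top = u₀.top from congrArg (fun s => s.top) hiu]
        exact u₀.cart.lift_fst _ _ _
      · rw [Category.assoc, i.cart.w, hi, u₀.cart.lift_snd_assoc, eqToHom_trans_assoc, eqToHom_refl,
          Category.id_comp]
    rw [← show i.top ≫ v.top = v₀.top from congrArg (fun s => s.top) hiv, reassoc_of% he]
  choose f hf using @key
  obtain ⟨k, hk⟩ := glue_hom_exists A.π hR f (fun {W W'} g t h h' => by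
    obtain ⟨z, u, v, hz, hF, hu⟩ := L.ex _ h
    let p : W ⟶ z.P := u.cart.lift t (eqToHom hz.symm) (by rw [hu]; simp)
    have hp : p ≫ u.top = t := u.cart.lift_fst _ _ _
    rw [← hf t h u v hF p hp, ← hf (g ≫ t) h' u v hF (g ≫ p) (by rw [Category.assoc, hp]), Category.assoc])
  refine ⟨k, fun {z} u v hF => ?_⟩
  have hm : R (u.top ≫ A.π) := by rw [u.cart.w]; exact R.downward_closed (L.mem hF) _
  rw [hk u.top hm, ← hf u.top hm u v hF (𝟙 _) (Category.id_comp _), Category.id_comp]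

theorem fac_of_mem {W : Over S} (t : W ⟶ A.P) (ht : R (t ≫ A.π)) :
    ∃ (z : QuotObj K G a) (u : z ⟶ A) (v : z ⟶ B) (p : W ⟶ z.P), L.F u v ∧ p ≫ u.top = t := by
  obtain ⟨z, u, v, hz, hF, hu⟩ := L.ex _ ht
  exact ⟨z, u, v, u.cart.lift t (eqToHom hz.symm) (by rw [hu]; simp), hF, u.cart.lift_fst _ _ _⟩

/-- The family in the opposite direction. -/
def symm : LocFam B A e.symm (R.pullback (eqToHom e.symm)) where
  F v u := L.F u v
  base h := by rw [L.base h]; simp
  mem h := by simpa [Sieve.pullback_apply, L.base h] using L.mem h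
  ex b hb := by
    obtain ⟨z, u, v, hz, hF, hu⟩ := L.ex _ hb
    exact ⟨z, v, u, hz, hF, by rw [L.base hF, hu]; simp⟩
  fac h h' b hb := by
    obtain ⟨i, h1, h2, h3⟩ := L.fac h h' b (by
      rw [← cancel_mono (eqToHom e), Category.assoc, ← L.base h, hb, L.base h'])
    exact ⟨i, h1, h3, h2⟩

theorem exists_hom (hR : IsFpqcSieve R) :
    ∃ k : A ⟶ B, k.base = eqToHom e ∧
      ∀ {z : QuotObj K G a} (u : z ⟶ A) (v : z ⟶ B), L.F u v → u ≫ k = v := by
  obtain ⟨k, hk⟩ := L.exists_top hR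
  have hR' : IsFpqcSieve (R.pullback (eqToHom e.symm)) := GrothendieckTopology.pullback_stable _ _ hR
  obtain ⟨l, hl⟩ := L.symm.exists_top hR'
  have hπ : k ≫ B.π = A.π ≫ eqToHom e := glue_hom_eq A.π hR fun t ht => by
    obtain ⟨z, u, v, p, hF, rfl⟩ := L.fac_of_mem t ht
    rw [Category.assoc, Category.assoc, reassoc_of% hk u v hF, v.cart.w, L.base hF, ← u.cart.w_assoc]
  have hiso : IsIso k := by
    refine ⟨l, glue_hom_eq A.π hR fun t ht => ?_, glue_hom_eq B.π hR' fun t ht => ?_⟩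
    · obtain ⟨z, u, v, p, hF, rfl⟩ := L.fac_of_mem t ht
      rw [Category.assoc, reassoc_of% hk u v hF, hl v u hF, Category.comp_id]
    · obtain ⟨z, v, u, p, hF, rfl⟩ := L.symm.fac_of_mem t ht
      rw [Category.assoc, reassoc_of% hl v u hF, hk u v hF, Category.comp_id]
  have heqv : A.act.act ≫ k = (G ◁ k) ≫ B.act.act := glue_hom_eq (snd G A.P ≫ A.π) hR fun s hs => by
    obtain ⟨z, u, v, p, hF, hp⟩ := L.fac_of_mem (s ≫ snd G A.P) (by rwa [Category.assoc])
    have hs' : s = lift (s ≫ fst G A.P) p ≫ (G ◁ u.top) := by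
      rw [lift_whiskerLeft, hp, ← comp_lift, lift_fst_snd, Category.comp_id]
    rw [hs', Category.assoc, Category.assoc, ← reassoc_of% u.eqv, hk u v hF, v.eqv,
      ← MonoidalCategory.whiskerLeft_comp_assoc, hk u v hF]
  have hφ : k ≫ B.φ = A.φ := glue_hom_eq A.π hR fun t ht => by
    obtain ⟨z, u, v, p, hF, rfl⟩ := L.fac_of_mem t ht
    rw [Category.assoc, Category.assoc, reassoc_of% hk u v hF, v.wφ, u.wφ]
  refine ⟨⟨eqToHom e, k, heqv, IsPullback.of_horiz_isIso ⟨hπ⟩, hφ⟩, rfl, fun {z} u v hF => ?_⟩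
  exact QuotObj.hom_ext (L.base hF).symm (hk u v hF)

end LocFam

variable [K.IsStableUnderBaseChange]

theorem quot_ext_of_cover {A B : QuotObj K G a} {k k' : A ⟶ B} {R : Sieve A.base} (hR : IsFpqcSieve R)
    (hb : k.base = k'.base)
    (h : ∀ {z : QuotObj K G a} (u : z ⟶ A), R u.base → u ≫ k = u ≫ k') : k = k' := by
  refine QuotObj.hom_ext hb (glue_hom_eq A.π hR fun {W} t ht => ?_)
  obtain ⟨z, u, hz, hu⟩ := exists_pullObj A (t ≫ A.π)
  have hm : R u.base := by rw [hu]; exact R.downward_closed ht _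
  let p : W ⟶ z.P := u.cart.lift t (eqToHom hz.symm) (by rw [hu]; simp)
  rw [← u.cart.lift_fst t (eqToHom hz.symm) (by rw [hu]; simp), Category.assoc, Category.assoc]
  exact congrArg (fun q : z ⟶ B => p ≫ q.top) (h u hm)

theorem morGlue_quotSt (a : AlgGrp.Action G X) {U : Over S} (R : Sieve U) (hR : IsFpqcSieve R) :
    Fib44.MorGlue (QuotSt K G a) R := by
  intro A B hA hB θ hθ hnat
  obtain rfl : U = A.base := hA.symm
  have e : A.base = B.base := hB.symm
  have hθb : ∀ {z : QuotObj K G a} (φ : z ⟶ A) (h : R (φ.base ≫ eqToHom hA)),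
      (θ φ h).base = φ.base ≫ eqToHom e := by
    intro z φ h
    have hl : (QuotSt K G a).p.IsHomLift (φ.base ≫ eqToHom hA) (θ φ h) := hθ φ h
    have h1 := @IsHomLift.fac' _ _ _ _ (QuotSt K G a).p _ _ _ _ (φ.base ≫ eqToHom hA) (θ φ h) hl
    change (θ φ h).base = _ at h1
    rw [h1]
    simp
  have hm : ∀ {z : QuotObj K G a} (φ : z ⟶ A), R φ.base → R (φ.base ≫ eqToHom hA) := fun φ h => by
    simpa using h
  let L : LocFam A B e R :=
    { F := fun {z} u v => ∃ h : R (u.base ≫ eqToHom hA), θ u h = v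
      base := fun {z u v} ⟨h, hv⟩ => hv ▸ hθb u h
      mem := fun {z u v} ⟨h, _⟩ => by simpa using h
      ex := fun {W} b hb => by
        obtain ⟨z, u, hz, hu⟩ := exists_pullObj A b
        have h : R u.base := by rw [hu]; exact R.downward_closed hb _
        exact ⟨z, u, _, hz, ⟨hm u h, rfl⟩, hu⟩
      fac := fun {z z' u v u' v'} ⟨h, hv⟩ ⟨h', hv'⟩ b hb => by
        obtain ⟨i, ⟨hi, hi'⟩, -⟩ := existsUnique_quot_fac u' u b hb
        subst hi' hv hv'
        exact ⟨i, hi, rfl, (hnat i u h h').symm⟩ }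
  obtain ⟨k, hk, hkf⟩ := L.exists_hom hR
  refine ⟨k, ⟨IsHomLift.of_fac' _ _ _ rfl hB (hk.trans (by simp)), fun z φ h => hkf φ _ ⟨h, rfl⟩⟩,
    fun k' hk' => ?_⟩
  have := hk'.1
  refine quot_ext_of_cover hR ?_ fun u hu => (hk'.2 u (hm u hu)).trans (hkf u _ ⟨hm u hu, rfl⟩).symm
  rw [hk]
  exact (IsHomLift.fac' (QuotSt K G a).p (𝟙 A.base) k').trans (by simp)

end Groth.Agent.AlgSt88
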