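import Groth.Agent.AlgSt88.QuotStackGlue

/-! A cartesian family of torsors over a covering glues to a torsor on the glued scheme. -/

set_option autoImplicit false
set_option linter.style.haveILetI false
set_option backward.isDefEq.respectTransparency false
set_option backward.isDefEq.respectTransparency.types false
universe u

open CategoryTheory CategoryTheory.Limits MonoidalCategory CartesianMonoidalCategory MonObj GrpObj AlgebraicGeometry AlgSt

namespace Groth.Agent.AlgSt88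

variable {S : Scheme.{u}} {K : Precoverage Scheme.{u}} {G X : Over S} [GrpObj G] {a : AlgGrp.Action G X}
variable {U : Over S} {R : Sieve U} (Φ : Stk.sieveCat R ⥤ᵇ QuotSt K G a)

/-- The structure morphism of a member of a family. -/
noncomputable def famBase (c : R.arrows.category) : (Φ.obj c).base ⟶ U :=
  eqToHom (Fib44.obj_sieve Φ c) ≫ c.obj.hom

theorem famBase_map {b c : R.arrows.category} (k : b ⟶ c) : (Φ.map k).base ≫ famBase Φ c = famBase Φ b := by
  have h : (Φ.map k).base = eqToHom (Fib44.obj_sieve Φ b) ≫ k.hom.left ≫ eqToHom (Fib44.obj_sieve Φ c).symm :=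
    Functor.congr_hom Φ.w k
  simp [famBase, h, Over.w k.hom]

theorem famBase_mem (c : R.arrows.category) : R (famBase Φ c) := R.downward_closed c.property _

/-- A cartesian family over the torsors of a family. -/
structure CartFam where
  /-- the glued total space -/
  P : Over S
  /-- the projection -/
  π : P ⟶ U
  /-- the comparison maps -/
  γ : ∀ c : R.arrows.category, (Φ.obj c).P ⟶ P
  cart : ∀ c, IsPullback (γ c) (Φ.obj c).π π (famBase Φ c)
  nat : ∀ {b c : R.arrows.category} (k : b ⟶ c), (Φ.map k).top ≫ γ c = γ b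

namespace CartFam

variable {Φ} (F : CartFam Φ)

theorem exists_pt {W : Over S} (t : W ⟶ F.P) (ht : R (t ≫ F.π)) :
    ∃ p : W ⟶ (Φ.obj (Fib44.sObj R _ ht)).P, p ≫ F.γ _ = t ∧
      p ≫ (Φ.obj (Fib44.sObj R _ ht)).π = eqToHom (Fib44.obj_sieve Φ (Fib44.sObj R _ ht)).symm :=
  ⟨(F.cart _).lift t (eqToHom (Fib44.obj_sieve Φ (Fib44.sObj R _ ht)).symm)
    (by rw [famBase, eqToHom_trans_assoc, eqToHom_refl, Category.id_comp]; rfl), (F.cart _).lift_fst _ _ _,
    (F.cart _).lift_snd _ _ _⟩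

theorem γ_π (c : R.arrows.category) : F.γ c ≫ F.π = (Φ.obj c).π ≫ famBase Φ c := (F.cart c).w

theorem mem_γ (c : R.arrows.category) : R (F.γ c ≫ F.π) := by
  rw [F.γ_π]; exact R.downward_closed (famBase_mem Φ c) _

theorem exists_fac {W : Over S} (t : W ⟶ F.P) (ht : R (t ≫ F.π)) :
    ∃ (c : R.arrows.category) (p : W ⟶ (Φ.obj c).P), p ≫ F.γ c = t :=
  let ⟨p, hp, _⟩ := F.exists_pt t ht; ⟨_, p, hp⟩

/-- A compatible family of maps from the torsors descends to the glued space. -/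
theorem exists_desc (hR : IsFpqcSieve R) {Y Q : Over S}
    (f : ∀ c : R.arrows.category, Y ⊗ (Φ.obj c).P ⟶ Q)
    (hf : ∀ {b c : R.arrows.category} (k : b ⟶ c), (Y ◁ (Φ.map k).top) ≫ f c = f b) :
    ∃ m : Y ⊗ F.P ⟶ Q, ∀ c, (Y ◁ F.γ c) ≫ m = f c := by
  have key : ∀ {W : Over S} (s : W ⟶ Y ⊗ F.P), R (s ≫ snd Y F.P ≫ F.π) → ∃ q : W ⟶ Q,
      ∀ (c : R.arrows.category) (p : W ⟶ (Φ.obj c).P), p ≫ F.γ c = s ≫ snd Y F.P →
        lift (s ≫ fst Y F.P) p ≫ f c = q := by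
    intro W s hs
    have hs' : R ((s ≫ snd Y F.P) ≫ F.π) := by rwa [Category.assoc]
    obtain ⟨p₀, hp₀, hp₀'⟩ := F.exists_pt _ hs'
    refine ⟨lift (s ≫ fst Y F.P) p₀ ≫ f _, fun c p hp => ?_⟩
    let k : Fib44.sObj R _ hs' ⟶ c :=
      Fib44.sHom R (p ≫ (Φ.obj c).π ≫ eqToHom (Fib44.obj_sieve Φ c)) (by
        show (p ≫ (Φ.obj c).π ≫ eqToHom (Fib44.obj_sieve Φ c)) ≫ c.obj.hom = (s ≫ snd Y F.P) ≫ F.π
        rw [Category.assoc, Category.assoc, show eqToHom _ ≫ c.obj.hom = famBase Φ c from rfl, ← F.γ_π,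
          reassoc_of% hp, Category.assoc])
    have hk : (Φ.map k).base = eqToHom (Fib44.obj_sieve Φ _) ≫
        (p ≫ (Φ.obj c).π ≫ eqToHom (Fib44.obj_sieve Φ c)) ≫ eqToHom (Fib44.obj_sieve Φ c).symm :=
      Functor.congr_hom Φ.w k
    have he : p₀ ≫ (Φ.map k).top = p := by
      apply (F.cart c).hom_ext
      · rw [Category.assoc, F.nat, hp₀, hp]
      · rw [Category.assoc, (Φ.map k).cart.w, reassoc_of% hp₀', hk]
        simp
    rw [← hf k, lift_whiskerLeft_assoc, he]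
  choose g hg using @key
  obtain ⟨m, hm⟩ := glue_hom_exists (snd Y F.P ≫ F.π) hR g (fun {W W'} e s h h' => by
    obtain ⟨c, p, hp⟩ := F.exists_fac (s ≫ snd Y F.P) (by rwa [Category.assoc])
    rw [← hg s h c p hp, ← hg (e ≫ s) h' c (e ≫ p) (by rw [Category.assoc, hp, Category.assoc]),
      show lift ((e ≫ s) ≫ fst Y F.P) (e ≫ p) = e ≫ lift (s ≫ fst Y F.P) p by rw [comp_lift, Category.assoc],
      Category.assoc])
  refine ⟨m, fun c => ?_⟩
  have h : R ((Y ◁ F.γ c) ≫ snd Y F.P ≫ F.π) := by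
    rw [whiskerLeft_snd_assoc]; exact R.downward_closed (F.mem_γ c) _
  rw [hm _ h, ← hg _ h c (snd Y (Φ.obj c).P) (by rw [whiskerLeft_snd]), whiskerLeft_fst, lift_fst_snd,
    Category.id_comp]

theorem ext_tensor (hR : IsFpqcSieve R) {Y Q : Over S} {m m' : Y ⊗ F.P ⟶ Q}
    (h : ∀ c, (Y ◁ F.γ c) ≫ m = (Y ◁ F.γ c) ≫ m') : m = m' :=
  glue_hom_eq (snd Y F.P ≫ F.π) hR fun {W} s hs => by
    obtain ⟨c, p, hp⟩ := F.exists_fac (s ≫ snd Y F.P) (by rwa [Category.assoc])
    have hs' : s = lift (s ≫ fst Y F.P) p ≫ (Y ◁ F.γ c) := by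
      rw [lift_whiskerLeft, hp, ← comp_lift, lift_fst_snd, Category.comp_id]
    rw [hs', Category.assoc, Category.assoc, h c]

theorem exists_map (hR : IsFpqcSieve R) {Q : Over S} (f : ∀ c : R.arrows.category, (Φ.obj c).P ⟶ Q)
    (hf : ∀ {b c : R.arrows.category} (k : b ⟶ c), (Φ.map k).top ≫ f c = f b) :
    ∃ m : F.P ⟶ Q, ∀ c, F.γ c ≫ m = f c := by
  obtain ⟨m, hm⟩ := F.exists_desc hR (Y := 𝟙_ (Over S)) (fun c => (λ_ _).hom ≫ f c)
    (fun k => by rw [leftUnitor_naturality_assoc, hf])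
  exact ⟨(λ_ F.P).inv ≫ m, fun c => by rw [leftUnitor_inv_naturality_assoc, hm, Iso.inv_hom_id_assoc]⟩

theorem exists_glue (hR : IsFpqcSieve R) (hloc : NonAbH1.IsLocallyTrivialFor K (Over.mk F.π.left : Over U.left)) :
    ∃ (x : QuotObj K G a) (γ : ∀ c : R.arrows.category, Φ.obj c ⟶ x),
      Fib44.IsGlue Φ x γ := by
  obtain ⟨act, hact⟩ := F.exists_desc hR (Y := G) (fun c => (Φ.obj c).act.act ≫ F.γ c) (fun k => by
    rw [← reassoc_of% (Φ.map k).eqv, F.nat])
  have hπ : act ≫ F.π = snd G F.P ≫ F.π := F.ext_tensor hR fun c => by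
    rw [reassoc_of% hact c, F.γ_π, ← Category.assoc, (Φ.obj c).cart.w, Category.assoc, whiskerLeft_snd_assoc,
      F.γ_π]
  have one_act : (η[G] ▷ F.P) ≫ act = (λ_ F.P).hom := F.ext_tensor hR fun c => by
    rw [whisker_exchange_assoc, hact, reassoc_of% (Φ.obj c).act.one_act, leftUnitor_naturality]
  have mul_act : (μ[G] ▷ F.P) ≫ act = (α_ G G F.P).hom ≫ (G ◁ act) ≫ act := F.ext_tensor hR fun c => by
    rw [whisker_exchange_assoc, hact, reassoc_of% (Φ.obj c).act.mul_act, ← hact c,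
      ← MonoidalCategory.whiskerLeft_comp_assoc G (Φ.obj c).act.act, ← hact c,
      MonoidalCategory.whiskerLeft_comp_assoc]
    simp
  have hcart : IsPullback act (snd G F.P) F.π F.π := by
    have hom_ext : ∀ {T : Over S} (m m' : T ⟶ G ⊗ F.P), m ≫ act = m' ≫ act → m ≫ snd G F.P = m' ≫ snd G F.P →
        m = m' := fun {T} m m' e₁ e₂ => glue_hom_eq (m ≫ snd G F.P ≫ F.π) hR fun {W} t ht => by
      obtain ⟨c, p, hp⟩ := F.exists_fac (t ≫ m ≫ snd G F.P) (by simpa only [Category.assoc] using ht)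
      have hp' : p ≫ F.γ c = t ≫ m' ≫ snd G F.P := by rw [hp, e₂]
      have hl : ∀ n : T ⟶ G ⊗ F.P, p ≫ F.γ c = t ≫ n ≫ snd G F.P →
          t ≫ n = lift (t ≫ n ≫ fst G F.P) p ≫ (G ◁ F.γ c) := fun n h => by
        rw [lift_whiskerLeft, h, ← Category.assoc, ← Category.assoc t n, ← comp_lift, lift_fst_snd,
          Category.comp_id]
      rw [hl m hp.symm.symm, hl m' hp']
      congr 1
      apply (Φ.obj c).cart.hom_ext
      · apply (F.cart c).hom_ext
        · rw [Category.assoc, Category.assoc, ← hact c, ← reassoc_of% hl m hp, ← reassoc_of% hl m' hp', e₁]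
        · rw [Category.assoc, Category.assoc, (Φ.obj c).cart.w, lift_snd_assoc, lift_snd_assoc]
      · rw [lift_snd, lift_snd]
    refine IsPullback.mk' hπ (fun T m m' e₁ e₂ => hom_ext m m' e₁ e₂) fun T p q hpq => ?_
    have key : ∀ {W : Over S} (t : W ⟶ T), R (t ≫ q ≫ F.π) →
        ∃ m : W ⟶ G ⊗ F.P, m ≫ act = t ≫ p ∧ m ≫ snd G F.P = t ≫ q := by
      intro W t ht
      have h₂ : R ((t ≫ q) ≫ F.π) := by rwa [Category.assoc]
      obtain ⟨q', hq', hq''⟩ := F.exists_pt _ h₂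
      let p' := (F.cart (Fib44.sObj R _ h₂)).lift (t ≫ p) (q' ≫ (Φ.obj _).π)
        (by rw [Category.assoc, Category.assoc, hpq, ← F.γ_π, reassoc_of% hq'])
      refine ⟨(Φ.obj (Fib44.sObj R _ h₂)).cart.lift p' q' ((F.cart _).lift_snd _ _ _) ≫ (G ◁ F.γ _), ?_, ?_⟩
      · rw [Category.assoc, hact, (Φ.obj _).cart.lift_fst_assoc]
        exact (F.cart _).lift_fst _ _ _
      · rw [Category.assoc, whiskerLeft_snd, (Φ.obj _).cart.lift_snd_assoc, hq']
    choose g hg hg' using @key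
    obtain ⟨m, hm⟩ := glue_hom_exists (q ≫ F.π) hR g (fun {W W'} e t h h' =>
      hom_ext _ _ (by rw [hg, Category.assoc, Category.assoc, hg]) (by rw [hg', Category.assoc, Category.assoc, hg']))
    exact ⟨m, glue_hom_eq (q ≫ F.π) hR fun t h => by rw [← Category.assoc, hm t h, hg],
      glue_hom_eq (q ≫ F.π) hR fun t h => by rw [← Category.assoc, hm t h, hg']⟩
  obtain ⟨φ, hφ⟩ := F.exists_map hR (fun c => (Φ.obj c).φ) (fun k => (Φ.map k).wφ)
  have eqv : act ≫ φ = (G ◁ φ) ≫ a.act := F.ext_tensor hR fun c => by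
    rw [reassoc_of% hact c, hφ, ← MonoidalCategory.whiskerLeft_comp_assoc, hφ, (Φ.obj c).eqv]
  refine ⟨⟨U, F.P, ⟨act, one_act, mul_act⟩, F.π, hcart, hloc, φ, eqv⟩,
    fun c => ⟨famBase Φ c, F.γ c, (hact c).symm, F.cart c, hφ c⟩, rfl, fun c => ?_, fun b c k => ?_⟩
  · exact IsHomLift.of_fac' _ _ _ (Fib44.obj_sieve Φ c) rfl (by simp [famBase]; rfl)
  · exact QuotObj.hom_ext (famBase_map Φ k) (F.nat k)

end CartFam

end Groth.Agent.AlgSt88
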