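import Groth.Prelude

/-! Morphisms between trivial torsors in a quotient category. -/

set_option autoImplicit false
set_option linter.style.haveILetI false
set_option backward.isDefEq.respectTransparency false
set_option backward.isDefEq.respectTransparency.types false
universe u

open CategoryTheory MonoidalCategory CartesianMonoidalCategory MonObj GrpObj AlgebraicGeometry AlgSt

namespace Groth.Agent.AlgSt88

variable {S : Scheme.{u}} {G X : Over S} [GrpObj G]

theorem act_lift_mul (a : AlgGrp.Action G X) {T : Over S} (g h : T ⟶ G) (y : T ⟶ X) :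
    lift (g * h) y ≫ a.act = lift g (lift h y ≫ a.act) ≫ a.act := by
  have h1 := congrArg (fun t => lift (lift g h) y ≫ t) a.mul_act
  rw [lift_whiskerRight_assoc, lift_lift_associator_hom_assoc, lift_whiskerLeft_assoc] at h1
  simpa only [Hom.mul_def] using h1

theorem act_lift_one (a : AlgGrp.Action G X) {T : Over S} (y : T ⟶ X) : lift (1 : T ⟶ G) y ≫ a.act = y := by
  have h1 := congrArg (fun t => lift (toUnit T) y ≫ t) a.one_act
  simp only [lift_whiskerRight_assoc, lift_leftUnitor_hom] at h1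
  exact h1

theorem leftMul_lift {T Z : Over S} (a b : Z ⟶ G) (t : Z ⟶ T) :
    lift a (lift b t) ≫ (leftMul G T).act = lift (a * b) t := by
  simp [leftMul, comp_lift, MonObj.comp_mul]

theorem exists_quot_hom_over [Scheme.fppfPrecoverage.HasIsos] (a : AlgGrp.Action G X) {T T' : Over S} (f : T ⟶ T')
    (x : T ⟶ X) (x' : T' ⟶ X) :
    (∀ h : (quotMap Scheme.fppfPrecoverage G a).obj ((ofOverCat X).obj (Over.mk x)) ⟶
        (quotMap Scheme.fppfPrecoverage G a).obj ((ofOverCat X).obj (Over.mk x')),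
        h.base = f → ∃ g : T ⟶ G, lift g (f ≫ x') ≫ a.act = x ∧
          h.top = lift (fst G T * (snd G T ≫ g)) (snd G T ≫ f)) ∧
    (∀ g : T ⟶ G, lift g (f ≫ x') ≫ a.act = x →
        ∃ h : (quotMap Scheme.fppfPrecoverage G a).obj ((ofOverCat X).obj (Over.mk x)) ⟶
            (quotMap Scheme.fppfPrecoverage G a).obj ((ofOverCat X).obj (Over.mk x')),
          h.base = f ∧ h.top = lift (fst G T * (snd G T ≫ g)) (snd G T ≫ f)) := by
  constructor
  · intro h hb
    let top : G ⊗ T ⟶ G ⊗ T' := h.top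
    have hw : top ≫ snd G T' = snd G T ≫ f := by rw [← hb]; exact h.cart.w
    let g : T ⟶ G := lift (1 : T ⟶ G) (𝟙 T) ≫ top ≫ fst G T'
    have hu : lift (1 : T ⟶ G) (𝟙 T) ≫ top = lift g f := by
      apply CartesianMonoidalCategory.hom_ext
      · simp [g]
      · rw [Category.assoc, hw, lift_snd_assoc, Category.id_comp, lift_snd]
    refine ⟨g, ?_, ?_⟩
    · have h1 : top ≫ (G ◁ x') ≫ a.act = (G ◁ x) ≫ a.act := h.wφ
      have h2 := congrArg (fun t => lift (1 : T ⟶ G) (𝟙 T) ≫ t) h1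
      simp only [← Category.assoc, hu] at h2
      simpa [lift_whiskerLeft, act_lift_one] using h2
    · have h1 : (leftMul G T).act ≫ top = (G ◁ top) ≫ (leftMul G T').act := h.eqv
      have h2 := congrArg (fun t => lift (fst G T) (lift (1 : G ⊗ T ⟶ G) (snd G T)) ≫ t) h1
      rw [← Category.assoc, leftMul_lift, _root_.mul_one, lift_fst_snd, Category.id_comp, lift_whiskerLeft_assoc,
        show lift (1 : G ⊗ T ⟶ G) (snd G T) = snd G T ≫ lift (1 : T ⟶ G) (𝟙 T) by simp [comp_lift],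
        Category.assoc, hu, comp_lift, leftMul_lift] at h2
      exact h2
  · intro g hg
    let e : G ⊗ T ≅ G ⊗ T :=
      { hom := lift (fst G T * (snd G T ≫ g)) (snd G T)
        inv := lift (fst G T * (snd G T ≫ g)⁻¹) (snd G T)
        hom_inv_id := by simp [MonObj.comp_mul, GrpObj.comp_inv]
        inv_hom_id := by simp [MonObj.comp_mul, GrpObj.comp_inv] }
    have he : e.hom ≫ (G ◁ f) = lift (fst G T * (snd G T ≫ g)) (snd G T ≫ f) := lift_whiskerLeft _ _ _
    refine ⟨{ base := f, top := lift (fst G T * (snd G T ≫ g)) (snd G T ≫ f), eqv := ?_, cart := ?_, wφ := ?_ }, rfl, rfl⟩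
    · have h1 : lift (fst G (G ⊗ T)) (lift (snd G (G ⊗ T) ≫ fst G T) (snd G (G ⊗ T) ≫ snd G T)) = 𝟙 _ := by
        simp [← comp_lift]
      show (leftMul G T).act ≫ lift (fst G T * (snd G T ≫ g)) (snd G T ≫ f) =
        (G ◁ lift (fst G T * (snd G T ≫ g)) (snd G T ≫ f)) ≫ (leftMul G T').act
      rw [show G ◁ lift (fst G T * (snd G T ≫ g)) (snd G T ≫ f) =
          lift (fst G (G ⊗ T)) (snd G (G ⊗ T) ≫ lift (fst G T * (snd G T ≫ g)) (snd G T ≫ f)) by ext <;> simp,
        comp_lift (snd G (G ⊗ T)), leftMul_lift]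
      simp [leftMul, comp_lift, MonObj.comp_mul, _root_.mul_assoc]
    · show IsPullback (lift (fst G T * (snd G T ≫ g)) (snd G T ≫ f)) (snd G T) (snd G T') f
      rw [← he]
      exact (isPullback_whiskerLeft f).of_iso e.symm (Iso.refl _) (Iso.refl _) (Iso.refl _)
        (by simp) (by simp [e]) (by simp) (by simp)
    · show lift (fst G T * (snd G T ≫ g)) (snd G T ≫ f) ≫ (G ◁ x') ≫ a.act = (G ◁ x) ≫ a.act
      rw [lift_whiskerLeft_assoc, act_lift_mul, Category.assoc, ← comp_lift_assoc, hg, ← lift_whiskerLeft_assoc,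
        lift_fst_snd, Category.id_comp]

theorem exists_triv_hom [Scheme.fppfPrecoverage.HasIsos] (a : AlgGrp.Action G X) (A : QuotObj Scheme.fppfPrecoverage G a) :
    ∃ (R : Presieve A.base.left) (_ : R ∈ Scheme.fppfPrecoverage A.base.left),
      ∀ ⦃T' : Scheme.{u}⦄ (f : T' ⟶ A.base.left), R f →
        ∃ (x : Over.mk (f ≫ A.base.hom) ⟶ X)
          (h : (quotMap Scheme.fppfPrecoverage G a).obj ((ofOverCat X).obj (Over.mk x)) ⟶ A),
          h.base = Over.homMk f rfl := by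
  obtain ⟨R, hR, hs⟩ := A.loc
  refine ⟨R, hR, fun T' f hf => ?_⟩
  obtain ⟨σ, hσ⟩ := hs f hf
  let T : Over S := Over.mk (f ≫ A.base.hom)
  let f' : T ⟶ A.base := Over.homMk f rfl
  let σ' : T ⟶ A.P := Over.homMk σ (by
    change σ ≫ A.P.hom = f ≫ A.base.hom
    rw [← Over.w A.π, ← Category.assoc]
    exact congrArg (· ≫ A.base.hom) hσ)
  have hσ' : σ' ≫ A.π = f' := Over.OverMorphism.ext hσ
  let x : T ⟶ X := σ' ≫ A.φ
  refine ⟨x, { base := f', top := (G ◁ σ') ≫ A.act.act, eqv := ?_, cart := ?_, wφ := ?_ }, rfl⟩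
  · show (leftMul G T).act ≫ (G ◁ σ') ≫ A.act.act = (G ◁ ((G ◁ σ') ≫ A.act.act)) ≫ A.act.act
    rw [← Category.assoc, show (leftMul G T).act ≫ (G ◁ σ') = lift (fst G (G ⊗ T) * (snd G (G ⊗ T) ≫ fst G T)) ((snd G (G ⊗ T) ≫ snd G T) ≫ σ') by
        ext <;> simp [leftMul], act_lift_mul,
      show G ◁ ((G ◁ σ') ≫ A.act.act) = lift (fst G (G ⊗ T)) (snd G (G ⊗ T) ≫ (G ◁ σ') ≫ A.act.act) by ext <;> simp,
      ← Category.assoc (snd G (G ⊗ T)) (G ◁ σ'),
      show snd G (G ⊗ T) ≫ (G ◁ σ') = lift (snd G (G ⊗ T) ≫ fst G T) ((snd G (G ⊗ T) ≫ snd G T) ≫ σ') by ext <;> simp]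
  · show IsPullback ((G ◁ σ') ≫ A.act.act) (snd G T) A.π f'
    rw [← hσ']
    exact (isPullback_whiskerLeft σ').paste_horiz A.cart
  · show ((G ◁ σ') ≫ A.act.act) ≫ A.φ = (G ◁ (σ' ≫ A.φ)) ≫ a.act
    rw [Category.assoc, A.eqv, MonoidalCategory.whiskerLeft_comp_assoc]

end Groth.Agent.AlgSt88
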