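import Groth.Agent.AlgSt88.LqfChart

/-! The relation of a chart with a property inherited from the diagonal. -/

set_option autoImplicit false
set_option maxHeartbeats 1000000
set_option linter.style.haveILetI false
set_option backward.isDefEq.respectTransparency false
set_option backward.isDefEq.respectTransparency.types false
universe u

open CategoryTheory CategoryTheory.Limits AlgebraicGeometry Opposite AlgSt FibCat

namespace Groth.Agent.AlgSt88

variable {S : Scheme.{u}} {𝒳 : AlgSt.Cat S}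

theorem exists_relation_prop {P : MorphismProperty (AlgSp.Sp S)} (hΔ : RepByAlgSpWith P (diag (toSelf 𝒳)))
    {U : Over S} (y : ofSch U ⥤ᵇ 𝒳) :
    ∃ (R : AlgSp.Space S) (k : R.obj ⟶ (AlgSp.yon S).obj (overProd U U)) (Φ : ofSp R.obj ⥤ᵇ fp y y),
      IsEquivOver Φ ∧
      Nonempty (BasedFunctor.comp Φ (fpFst y y) ≅ ofSpMap (k ≫ (AlgSp.yon S).map (overProdFst U U))) ∧
      Nonempty (BasedFunctor.comp Φ (fpSnd y y) ≅ ofSpMap (k ≫ (AlgSp.yon S).map (overProdSnd U U))) ∧
      P k := by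
  let r := fpToProd y y
  have h₂ : RepByAlgSpWith P r :=
    (repByAlgSpWith_precomp_equiv (f := fpFst (prodMap y y) (diag (toSelf 𝒳))) (isEquivOver_fpToDiag y y)).2
      (repByAlgSpWith_fpFst _ hΔ)
  let W := overProd U U
  let z := BasedFunctor.comp (ofOverCat W) (toProdOfSch U U)
  have hz : IsEquivOver z := isEquivOver_comp (isEquivOver_ofOverCat W) (isEquivOver_toProdOfSch U U)
  obtain ⟨F, e, he, hq⟩ := h₂ W z
  let k := spMapOfOver (BasedFunctor.comp e (fpFst z r))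
  let Φ : ofSp F.obj ⥤ᵇ fp y y := BasedFunctor.comp e (fpSnd z r)
  have hΦ : IsEquivOver Φ := isEquivOver_comp he
    (isEquivOver_of_iso (F := BasedFunctor.comp (fpSwap z r) (fpFst r z)) (Iso.refl _)
      (isEquivOver_comp isEquivOver_fpSwap (isEquivOver_fpFst r hz)))
  obtain ⟨γ⟩ : Nonempty (BasedFunctor.comp (BasedFunctor.comp e (fpFst z r)) (ofOverCat W) ≅ ofSpMap k) := by
    obtain ⟨γ⟩ := exists_hom_iso (BasedFunctor.comp (BasedFunctor.comp e (fpFst z r)) (ofOverCat W))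
    rw [← spMapOfOver_eq] at γ
    exact ⟨γ⟩
  obtain ⟨c₁⟩ := nonempty_ofSpMap_comp k ((AlgSp.yon S).map (overProdFst U U))
  obtain ⟨c₂⟩ := nonempty_ofSpMap_comp k ((AlgSp.yon S).map (overProdSnd U U))
  exact ⟨F, k, Φ, hΦ,
    ⟨bRight (bLeft e (fpIso z r)).symm (fpFst (toSelf (ofSch U)) (toSelf (ofSch U))) ≪≫
      bRight γ (ofSpMap ((AlgSp.yon S).map (overProdFst U U))) ≪≫ c₁.symm⟩,
    ⟨bRight (bLeft e (fpIso z r)).symm (fpSnd (toSelf (ofSch U)) (toSelf (ofSch U))) ≪≫
      bRight γ (ofSpMap ((AlgSp.yon S).map (overProdSnd U U))) ≪≫ c₂.symm⟩, hq⟩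

end Groth.Agent.AlgSt88
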