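import Groth.Agent.AlgSt88.RepBySp

/-! The relative diagonal of a map of presheaves representable by algebraic spaces. -/

set_option autoImplicit false
universe u

open CategoryTheory CategoryTheory.Limits AlgebraicGeometry Opposite AlgSp

namespace Groth.Agent.AlgSt88

variable {S : Scheme.{u}}

theorem psp_plift_fst {X Y Z W : PSp S} (a : W ⟶ X) (b : W ⟶ Y) {f : X ⟶ Z} {g : Y ⟶ Z} (w : a ≫ f = b ≫ g) :
    pullback.lift a b w ≫ pullback.fst f g = a := pullback.lift_fst _ _ _

theorem psp_plift_snd {X Y Z W : PSp S} (a : W ⟶ X) (b : W ⟶ Y) {f : X ⟶ Z} {g : Y ⟶ Z} (w : a ≫ f = b ≫ g) :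
    pullback.lift a b w ≫ pullback.snd f g = b := pullback.lift_snd _ _ _

attribute [local simp] psp_plift_fst psp_plift_snd sp_lift_fst sp_lift_snd sp_diag_fst sp_diag_snd

/-- An equalizer of two sections of an algebraic space over a scheme. -/
theorem exists_equalizer {P : Sp S} (hP : Representable (Limits.diag P)) {U : Over S}
    (s₁ s₂ : (yon S).obj U ⟶ P) :
    ∃ (V : Over S) (e : V ⟶ U), (yon S).map e ≫ s₁ = (yon S).map e ≫ s₂ ∧
      ∀ (W : Over S) (g : W ⟶ U), (yon S).map g ≫ s₁ = (yon S).map g ≫ s₂ → ∃! l : W ⟶ V, l ≫ e = g := by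
  obtain ⟨V, e, k, sq⟩ := hP (prod.lift s₁ s₂)
  have hk : k = (yon S).map e ≫ s₁ := by simpa using congrArg (· ≫ prod.fst) sq.w
  have hk' : k = (yon S).map e ≫ s₂ := by simpa using congrArg (· ≫ prod.snd) sq.w
  refine ⟨V, e, hk.symm.trans hk', fun W g hg => ?_⟩
  have w : ((yon S).map g ≫ s₁) ≫ Limits.diag _ = (yon S).map g ≫ prod.lift s₁ s₂ := by
    apply Limits.prod.hom_ext <;> simp [hg]
  obtain ⟨l, hl⟩ := (yon S).map_surjective (sq.lift _ _ w)
  have hle : l ≫ e = g := (yon S).map_injective (by rw [Functor.map_comp, hl, sq.lift_snd])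
  refine ⟨l, hle, fun l' hl' => (yon S).map_injective (sq.hom_ext ?_ ?_)⟩
  · rw [hl, sq.lift_fst, hk, ← Category.assoc, ← Functor.map_comp, hl']
  · rw [hl, sq.lift_snd, ← Functor.map_comp, hl']

/-- The section of a presheaf attached to a map from a representable. -/
theorem pyon_comp_app {U : Over S} {P : PSp S} (φ : (pyon S).obj U ⟶ P) {W : Over S} (g : W ⟶ U) :
    (pyon S).map g ≫ φ = uliftYonedaEquiv.symm (φ.app (op W) ⟨g⟩) := by
  apply uliftYonedaEquiv.injective
  rw [Equiv.apply_symm_apply]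
  change φ.app (op W) ⟨𝟙 W ≫ g⟩ = _
  rw [Category.id_comp]

theorem repBySp_diagonal {F G : PSp S} (a : F ⟶ G) (ha : RepBySp a) : RepBySp (pullback.diagonal a) := by
  intro U ξ F' fst snd sq
  let y : (pyon S).obj U ⟶ G := ξ ≫ pullback.fst a a ≫ a
  have hy : (ξ ≫ pullback.snd a a) ≫ a = y := by simp [y, pullback.condition]
  obtain ⟨hP, hA⟩ := ha y _ _ (IsPullback.of_hasPullback a y)
  let P : Sp S := ⟨pullback a y, hP⟩
  let p₁ : (pyon S).obj U ⟶ pullback a y := pullback.lift (ξ ≫ pullback.fst a a) (𝟙 _) (by simp [y])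
  let p₂ : (pyon S).obj U ⟶ pullback a y := pullback.lift (ξ ≫ pullback.snd a a) (𝟙 _) (by simp [hy])
  obtain ⟨V, e, he, huniv⟩ := exists_equalizer (P := P) hA.diag
    (ObjectProperty.homMk p₁) (ObjectProperty.homMk p₂)
  have h12 : ∀ {T : PSp S} (h : T ⟶ (pyon S).obj U),
      (h ≫ ξ ≫ pullback.fst a a = h ≫ ξ ≫ pullback.snd a a) ↔ h ≫ p₁ = h ≫ p₂ := fun h => by
    constructor
    · intro e'
      apply pullback.hom_ext <;> simp [p₁, p₂, e']
    · intro e'
      simpa [p₁, p₂] using congrArg (· ≫ pullback.fst a y) e'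
  have he' : (pyon S).map e ≫ p₁ = (pyon S).map e ≫ p₂ := congrArg (fun t => t.hom) he
  have hsq : IsPullback ((pyon S).map e ≫ ξ ≫ pullback.fst a a) ((pyon S).map e) (pullback.diagonal a) ξ := by
    refine isPullback_diagonal_of_equalizer a ξ _ ((h12 _).2 he') fun T h hh => ?_
    have hpt : ∀ (W : Over S) (x : T.obj (op W)), ∃! l : W ⟶ V, l ≫ e = (h.app (op W) x).down := fun W x => by
      refine huniv W (h.app (op W) x).down (ObjectProperty.hom_ext _ ?_)
      change (pyon S).map _ ≫ p₁ = (pyon S).map _ ≫ p₂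
      rw [pyon_comp_app, pyon_comp_app]
      exact congrArg _ (congrArg (fun t : T ⟶ pullback a y => t.app (op W) x) ((h12 h).1 hh))
    choose l hl hlu using hpt
    refine ⟨{ app := fun W => ↾fun x => ⟨l W.unop x⟩, naturality := ?_ }, ?_, ?_⟩
    · intro W W' g
      ext x
      refine congrArg ULift.up (hlu W'.unop (T.map g x) (g.unop ≫ l W.unop x) ?_).symm
      change (g.unop ≫ l W.unop x) ≫ e = _
      rw [Category.assoc, hl W.unop x]
      exact congrArg ULift.down (NatTrans.naturality_apply h g x).symm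
    · ext W x
      exact congrArg ULift.up (hl W.unop x)
    · intro m hm
      ext W x
      exact congrArg ULift.up (hlu W.unop x (m.app W x).down
        (congrArg ULift.down (congrArg (fun t : T ⟶ (pyon S).obj U => t.app W x) hm)))
  exact ((isAlgSpaceP_obj_iff ((yon S).obj V)).2 (IsAlgSpace.yon_obj V)).of_iso (hsq.isoIsPullback _ _ sq)

end Groth.Agent.AlgSt88
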