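import Groth.Agent.SpPts86.IdealBridge
import Groth.Agent.SpPts86.SchImagePoints
import Mathlib.Algebra.Category.Ring.Instances
import Groth.Agent.SpPts86.QCMor
import Groth.Agent.SpFP87.EtLocInst
import Groth.Agent.SpFP87.LocPRep
import Groth.Prelude.Def_AlgSpSub
import Groth.Prelude.Def_Neron
import Mathlib.AlgebraicGeometry.Morphisms.SchemeTheoreticallyDominant
import Mathlib.RingTheory.Flat.TorsionFree

/-! Scheme theoretic images of closed subspaces of the generic fibre over a Dedekind domain. -/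

set_option autoImplicit false
set_option maxHeartbeats 1000000
set_option linter.style.haveILetI false
set_option backward.isDefEq.respectTransparency false
set_option backward.isDefEq.respectTransparency.types false
universe u

open CategoryTheory CategoryTheory.Limits AlgebraicGeometry Opposite
open AlgSp Groth.Agent.SpFP87 Groth.Agent.SpPts86

namespace Groth.Agent.AlgSt88

variable {R : Type u} [CommRing R] [IsDedekindDomain R]

theorem ker_genPt : (Neron.genPt R).ker = ⊥ := by
  have hi : Function.Injective (algebraMap R (FractionRing R)) := IsFractionRing.injective R _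
  haveI : IsReduced (Spec (CommRingCat.of R)) := inferInstance
  exact SpPts86.ker_specMap_eq_bot _ hi

theorem flat_genPt : Flat (Neron.genPt R) := by
  show Flat (Spec.map (CommRingCat.ofHom (algebraMap R (FractionRing R))))
  rw [HasRingHomProperty.Spec_iff (P := @Flat)]
  exact RingHom.flat_algebraMap_iff.2 (IsLocalization.flat _ (nonZeroDivisors R))

/-- A closed subscheme whose ideal is the kernel of a morphism from a scheme over the fraction field is
flat over the Dedekind domain. -/
theorem flat_of_ker_eq {U W P : Scheme.{u}} (u₀ : U ⟶ Spec (CommRingCat.of R)) (w : W ⟶ U) [IsClosedImmersion w]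
    (h : P ⟶ U) [QuasiCompact h] (hker : w.ker = h.ker)
    (q : P ⟶ Spec (CommRingCat.of (FractionRing R))) (hq : h ≫ u₀ = q ≫ Neron.genPt R) :
    Flat (w ≫ u₀) := by
  let O : U.affineOpens → W.Opens := fun V => w ⁻¹ᵁ V.1
  have hO : iSup O = ⊤ := by
    rw [show iSup O = w ⁻¹ᵁ (iSup fun V : U.affineOpens => V.1) from (w.preimage_iSup _).symm,
      iSup_affineOpens_eq_top]
    rfl
  rw [IsZariskiLocalAtSource.iff_of_iSup_eq_top (P := @Flat) O hO]
  intro V
  haveI : IsAffine (O V) := V.2.preimage w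
  rw [HasRingHomProperty.iff_of_isAffine (P := @Flat), Scheme.Hom.comp_appTop,
    ← RingHom.Flat.respectsIso.cancel_left_isIso (Scheme.ΓSpecIso (CommRingCat.of R)).inv]
  rw [← Scheme.Hom.comp_appTop]
  let ψ : CommRingCat.of R ⟶ Γ(↑(O V), ⊤) := (Scheme.ΓSpecIso (CommRingCat.of R)).inv ≫ ((O V).ι ≫ w ≫ u₀).appTop
  show ψ.hom.Flat
  letI : Algebra R Γ(↑(O V), ⊤) := ψ.hom.toAlgebra
  suffices Module.IsTorsionFree R Γ(↑(O V), ⊤) from
    (RingHom.flat_algebraMap_iff (R := R) (S := Γ(↑(O V), ⊤))).2 inferInstance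
  constructor
  intro r hr a b hab
  rw [← sub_eq_zero]
  have h0 : ψ.hom r * (a - b) = 0 := by
    rw [mul_sub]
    exact sub_eq_zero.2 hab
  obtain ⟨x, hx⟩ : ∃ x, a - b = x := ⟨_, rfl⟩
  rw [hx] at h0 ⊢
  -- transport to the open
  have key : ∀ y : Γ(W, O V), (u₀.appLE ⊤ V.1 (by simp) ≫ w.app V.1).hom ((Scheme.ΓSpecIso (CommRingCat.of R)).inv r) * y = 0 →
      y = 0 := by
    intro y hy
    obtain ⟨y₀, rfl⟩ := w.app_surjective V.1 V.2 y
    rw [CommRingCat.comp_apply, ← map_mul] at hy
    have h1 : (u₀.appLE ⊤ V.1 (by simp)).hom ((Scheme.ΓSpecIso (CommRingCat.of R)).inv r) * y₀ ∈ h.ker.ideal V := by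
      rw [← hker, Scheme.Hom.ker_apply]
      exact hy
    rw [Scheme.Hom.ker_apply, RingHom.mem_ker, map_mul] at h1
    have hunit : IsUnit ((h.app V.1).hom ((u₀.appLE ⊤ V.1 (by simp)).hom ((Scheme.ΓSpecIso (CommRingCat.of R)).inv r))) := by
      rw [← CommRingCat.comp_apply, Scheme.Hom.app_eq_appLE, Scheme.Hom.appLE_comp_appLE]
      rw! [hq]
      rw [← Scheme.Hom.appLE_comp_appLE q (Neron.genPt R) ⊤ ⊤ (h ⁻¹ᵁ V.1) (by simp) (by simp), CommRingCat.comp_apply]
      refine IsUnit.map _ ?_
      rw [show (Neron.genPt R).appLE ⊤ ⊤ (by simp) = (Neron.genPt R).appTop from (Scheme.Hom.app_eq_appLE (f := Neron.genPt R) (U := ⊤)).symm]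
      change IsUnit ((Spec.map (CommRingCat.ofHom (algebraMap R (FractionRing R)))).appTop.hom _)
      rw [← CommRingCat.comp_apply, ← Scheme.ΓSpecIso_inv_naturality, CommRingCat.comp_apply]
      refine IsUnit.map _ (isUnit_iff_ne_zero.2 ?_)
      exact (map_ne_zero_iff _ (IsFractionRing.injective R (FractionRing R))).2 hr.ne_zero
    have h2 : (h.app V.1).hom y₀ = 0 := hunit.mul_right_eq_zero.1 h1
    show (w.app V.1).hom y₀ = 0
    have h3 : y₀ ∈ w.ker.ideal V := by rw [hker, Scheme.Hom.ker_apply]; exact h2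
    rwa [Scheme.Hom.ker_apply] at h3
  have e : ψ = (Scheme.ΓSpecIso (CommRingCat.of R)).inv ≫ u₀.appLE ⊤ V.1 (by simp) ≫ w.app V.1 ≫
      (O V).topIso.inv := by
    simp only [ψ, Scheme.Hom.comp_appTop, Category.assoc]
    congr 1
    simp [Scheme.Hom.appLE, O, ← Functor.map_comp]
  obtain ⟨y, rfl⟩ : ∃ y, (O V).topIso.inv.hom y = x := ⟨(O V).topIso.hom.hom x, by
    rw [← CommRingCat.comp_apply, Iso.hom_inv_id]; rfl⟩
  rw [key y ?_, map_zero]
  apply (ConcreteCategory.bijective_of_isIso (O V).topIso.inv).1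
  rw [map_mul, map_zero]
  rw [e] at h0
  exact h0

variable {Y YK H Z : Sp (Spec (CommRingCat.of R))}
  {pY : Y ⟶ (yon (Spec (CommRingCat.of R))).obj (Over.mk (𝟙 (Spec (CommRingCat.of R))))}
  {pr : YK ⟶ Y} {qK : YK ⟶ (yon (Spec (CommRingCat.of R))).obj (Over.mk (Neron.genPt R))}
  (hYK : IsPullback pr qK pY ((yon (Spec (CommRingCat.of R))).map (Over.mkIdTerminal.from (Over.mk (Neron.genPt R)))))

include hYK in
theorem genFib_props (hY : IsAlgSpace Y) (hYK' : IsAlgSpace YK) :
    Mono pr ∧ LocP @Flat pr ∧ RepWith @QuasiCompact pr := by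
  have hl : (Over.mkIdTerminal.from (Over.mk (Neron.genPt R))).left = Neron.genPt R :=
    (Category.comp_id _).symm.trans (Over.w (Over.mkIdTerminal.from (Over.mk (Neron.genPt R))))
  have hm : Mono (Over.mkIdTerminal.from (Over.mk (Neron.genPt R))) := by
    haveI : Mono (Neron.genPt R) := by
      haveI : Epi (CommRingCat.ofHom (algebraMap R (FractionRing R))) := IsLocalization.epi (nonZeroDivisors R) (FractionRing R)
      exact (inferInstance : Mono (Scheme.Spec.map (CommRingCat.ofHom (algebraMap R (FractionRing R))).op))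
    exact (Over.forget _).mono_of_mono_map (by rw [Over.forget_map, hl]; infer_instance)
  haveI : Mono pr := hYK.mono_fst_of_mono
  refine ⟨this, locP_of_repWith hYK'.diag hY ?_, ?_⟩
  · refine (repWith_isStableUnderBaseChange (S := Spec (CommRingCat.of R)) (@Flat : MorphismProperty Scheme.{u})).of_isPullback hYK.flip ?_
    rw [repWith_yon_map_iff, hl]
    exact flat_genPt
  · refine (repWith_isStableUnderBaseChange (S := Spec (CommRingCat.of R)) (@QuasiCompact : MorphismProperty Scheme.{u})).of_isPullback hYK.flip ?_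
    rw [repWith_yon_map_iff, hl]
    exact (inferInstance : QuasiCompact (Spec.map (CommRingCat.ofHom (algebraMap R (FractionRing R)))))

include hYK in
theorem schImage_genericFibre (hY : IsAlgSpace Y) (hYK' : IsAlgSpace YK) (hH : IsAlgSpace H) (hZ' : IsAlgSpace Z)
    {k : H ⟶ YK} (hk : RepWith @IsClosedImmersion k) {i : Z ⟶ Y} (hZ : IsSchImage (k ≫ pr) i) :
    LocP @Flat (i ≫ pY) ∧ (∃ m : H ⟶ Z, m ≫ i = k ≫ pr ∧ IsPullback m k i pr) ∧
      ∀ {Z₁ : Sp (Spec (CommRingCat.of R))} (i' : Z₁ ⟶ Y) (m' : H ⟶ Z₁), IsAlgSpace Z₁ →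
        RepWith @IsClosedImmersion i' → LocP @Flat (i' ≫ pY) → IsPullback m' k i' pr →
        ∃ (a : Z ⟶ Z₁) (b : Z₁ ⟶ Z), a ≫ i' = i ∧ b ≫ i = i' := by
  obtain ⟨hmono, hflat, hqc⟩ := genFib_props hYK hY hYK'
  haveI := hmono
  have hkq : RepWith @QuasiCompact k :=
    SpPts86.repWith_mono (fun _ _ g (hg : IsClosedImmersion g) => haveI := hg; (inferInstance : QuasiCompact g)) hk
  have hg : IsQuasiCompactMor (k ≫ pr) :=
    isQuasiCompactMor_comp hYK' hY (isQuasiCompactMor_of_repWith hYK' hkq) (isQuasiCompactMor_of_repWith hY hqc)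
  obtain ⟨U, a, ha, has⟩ := hY.atlas
  haveI := mono_of_repWith_le isClosedImmersion_le_monomorphisms hZ.1
  haveI := mono_of_repWith_le isClosedImmersion_le_monomorphisms hk
  refine ⟨?_, ?_, ?_⟩
  · -- flatness
    have hkr : Representable (k ≫ pr) :=
      ((repWith_isMultiplicative (S := Spec (CommRingCat.of R)) @QuasiCompact).comp_mem _ _ hkq hqc).rep
    let w := hZ.1.rep.snd a
    let h := hkr.snd a
    haveI : IsClosedImmersion w.left := hZ.1.property a _ _ (hZ.1.rep.isPullback a)
    haveI : QuasiCompact h.left :=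
      (repWith_quasiCompact_of_isQuasiCompactMor hkr hg).property a _ _ (hkr.isPullback a)
    have hker : w.left.ker = h.left.ker := by
      rw [← (isImCover_of_representable hkr a).imIdeal_eq, ← idealOf_schImage hY hg hZ hZ.1 a ha]
      rfl
    obtain ⟨q₀, hq₀⟩ := (yon _).map_surjective (hkr.fst a ≫ k ≫ qK)
    have hq : h.left ≫ U.hom = q₀.left ≫ Neron.genPt R := by
      rw [Over.w h]; exact (Over.w q₀).symm
    have hf : Flat (w.left ≫ U.hom) := flat_of_ker_eq U.hom w.left h.left hker q₀.left hq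
    obtain ⟨c, hc⟩ := (yon _).map_surjective (hZ.1.rep.fst a ≫ i ≫ pY)
    have hfst : RepWith (@Etale ⊓ @Surjective) (hZ.1.rep.fst a) :=
      (repWith_isStableUnderBaseChange (S := Spec (CommRingCat.of R)) (@Etale ⊓ @Surjective : MorphismProperty Scheme.{u})).of_isPullback
        (hZ.1.rep.isPullback a).flip ((SpFP87.repWith_inf_iff a).2 ⟨ha, has⟩)
    refine locP_of_chart (h := c) hZ'.diag (IsAlgSpace.yon_obj _).diag ((SpFP87.repWith_inf_iff _).1 hfst).1
      ((SpFP87.repWith_inf_iff _).1 hfst).2 (repWith_id _ _) (by rw [hc, Category.comp_id]) ?_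
    have hc' : c.left = w.left ≫ U.hom :=
      ((Category.comp_id _).symm.trans (Over.w c)).trans (Over.w w).symm
    rw [hc']; exact hf
  · -- the generic fibre
    obtain ⟨m, hm⟩ := hZ.2.1
    have sqZ := IsPullback.of_hasPullback i pr
    have sqV : IsPullback (𝟙 H) k (k ≫ pr) pr := by
      refine IsPullback.of_isLimit (PullbackCone.IsLimit.mk (Category.id_comp _) (fun c => c.fst)
        (fun c => Category.comp_id _) (fun c => ?_) (fun c l h1 _ => (Category.comp_id l).symm.trans h1))
      rw [← cancel_mono pr, Category.assoc]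
      exact c.condition
    have him := isSchImage_flat_pullback hY hYK' hg hZ hflat sqV sqZ
    obtain ⟨j, hj⟩ := him.2.2 k hH hk ⟨𝟙 H, Category.id_comp k⟩
    refine ⟨m, hm, ?_⟩
    let e : H ≅ pullback i pr :=
      { hom := sqZ.lift m k hm
        inv := j
        hom_inv_id := by rw [← cancel_mono k, Category.assoc, hj, sqZ.lift_snd, Category.id_comp]
        inv_hom_id := by
          refine sqZ.hom_ext ?_ ?_
          · rw [← cancel_mono i, Category.assoc, Category.assoc, sqZ.lift_fst_assoc, Category.id_comp, hm,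
              reassoc_of% hj, sqZ.w]
          · rw [Category.assoc, sqZ.lift_snd, hj, Category.id_comp] }
    exact IsPullback.of_iso sqZ e.symm (Iso.refl _) (Iso.refl _) (Iso.refl _) (by simp [e, ← cancel_mono i, hm, reassoc_of% hj, sqZ.w])
      (by simp [e, hj]) (by simp) (by simp)
  · -- uniqueness
    intro Z₁ i' m' hZ₁ hi' hf' sqm
    obtain ⟨a₁, ha₁⟩ := hZ.2.2 i' hZ₁ hi' ⟨m', sqm.w⟩
    obtain ⟨b, hb⟩ := exists_factor_of_idealOf_le hi' hZ.1 ha has (by
      let w := hi'.rep.snd a
      haveI : Flat (hi'.rep.pullback a).hom := by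
        obtain ⟨c, hc⟩ := (yon _).map_surjective (hi'.rep.fst a ≫ i' ≫ pY)
        have hfst : RepWith @Etale (hi'.rep.fst a) :=
          (repWith_isStableUnderBaseChange (S := Spec (CommRingCat.of R)) (@Etale : MorphismProperty Scheme.{u})).of_isPullback
            (hi'.rep.isPullback a).flip ha
        have := hf' (hi'.rep.fst a) (𝟙 _) c hfst (repWith_id _ _) (by rw [hc, Category.comp_id])
        rwa [show c.left = (hi'.rep.pullback a).hom from (Category.comp_id _).symm.trans (Over.w c)] at this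
      let W := hi'.rep.pullback a
      let p := pullback.fst W.hom (Neron.genPt R)
      haveI : IsSchemeTheoreticallyDominant (Neron.genPt R) := ⟨ker_genPt⟩
      let WK : Over (Spec (CommRingCat.of R)) := Over.mk (p ≫ W.hom)
      let p' : WK ⟶ W := Over.homMk p rfl
      let q' : WK ⟶ Over.mk (Neron.genPt R) := Over.homMk (pullback.snd W.hom (Neron.genPt R)) pullback.condition.symm
      let d : (yon _).obj WK ⟶ YK := hYK.lift ((yon _).map p' ≫ hi'.rep.fst a ≫ i') ((yon _).map q') (by
        obtain ⟨c, hc⟩ := (yon _).map_surjective (((yon _).map p' ≫ hi'.rep.fst a ≫ i') ≫ pY)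
        rw [← hc, ← Functor.map_comp]
        exact congrArg _ (Over.mkIdTerminal.hom_ext _ _))
      let β : (yon _).obj WK ⟶ H := sqm.lift ((yon _).map p' ≫ hi'.rep.fst a) d (by
        rw [Category.assoc]; exact (hYK.lift_fst _ _ _).symm)
      rw [idealOf_schImage hY hg hZ hZ.1 a ha]
      refine (imIdeal_le_ker β (p' ≫ w) ?_).trans (le_of_eq ?_)
      · rw [← Category.assoc, sqm.lift_snd, hYK.lift_fst, Functor.map_comp, Category.assoc,
          (hi'.rep.isPullback a).w]
      · rw [Over.comp_left]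
        exact ker_comp_of_ker_eq_bot p w.left (IsSchemeTheoreticallyDominant.ker_eq_bot p))
    exact ⟨a₁, b, ha₁, hb⟩

end Groth.Agent.AlgSt88
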