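import Groth.Agent.AlgSt88.SubstackCover
import Groth.Agent.AlgSt88.SpQ
import Groth.Agent.AlgSt88.PointsCmp
import Groth.Agent.SpPts86.ZarGlue

/-! A stack covered by open substacks which are schemes is a scheme. -/

set_option autoImplicit false
set_option linter.style.haveILetI false
set_option backward.isDefEq.respectTransparency false
set_option backward.isDefEq.respectTransparency.types false
universe w u

open CategoryTheory CategoryTheory.Limits AlgebraicGeometry Opposite AlgSt FibCat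

namespace Groth.Agent.AlgSt88

variable {S : Scheme.{u}} {𝒳 : AlgSt.Cat S}

theorem isRepresentable_of_substack_cover (h𝒳 : IsAlgStack Scheme.fppfPrecoverage 𝒳) {ι : Type w}
    (Q : ι → 𝒳.obj → Prop) (hQ : ∀ i, IsOpenSubstack 𝒳 (Q i) Scheme.fppfPrecoverage)
    (hcov : ⋃ i, Set.range (Points.map (subIncl 𝒳 (Q i))) = Set.univ)
    (hsch : ∀ i, FibCat.IsRepresentable (fullSub 𝒳 (Q i))) : FibCat.IsRepresentable 𝒳 := by
  have hsp : ∀ i, RepByAlgSp (fullSub 𝒳 (Q i)) := fun i => by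
    obtain ⟨V, Φ, hΦ⟩ := hsch i
    obtain ⟨E, hE, -, -⟩ := isEquivOver_inverse hΦ
    exact repByAlgSp_of_equiv (repByAlgSp_overCat V) hE
  obtain ⟨F, e, he⟩ := repByAlgSp_of_substack_cover h𝒳 Q hQ hcov hsp
  obtain ⟨G, hG, ⟨α⟩, -⟩ := isEquivOver_inverse he
  obtain ⟨U, u, hu, hu'⟩ := h𝒳.atlas
  have hidx : ∀ t : ↥U.left, ∃ i, Points.ofChart u t ∈ Set.range (Points.map (subIncl 𝒳 (Q i))) := fun t =>
    Set.mem_iUnion.1 (hcov ▸ Set.mem_univ (Points.ofChart u t))
  choose i hi using hidx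
  choose V Φ hΦ using hsch
  choose E hE a b using fun k => isEquivOver_inverse (hΦ k)
  let Ψ : ∀ t : ↥U.left, ofSch (V (i t)) ⥤ᵇ ofSp F.obj := fun t =>
    BasedFunctor.comp (BasedFunctor.comp (toOverCat (V (i t)))
      (BasedFunctor.comp (E (i t)) (subIncl 𝒳 (Q (i t))))) G
  let j : ∀ t : ↥U.left, (AlgSp.yon S).obj (V (i t)) ⟶ F.obj := fun t => homOfBased (Ψ t)
  have hj : ∀ t, AlgSp.RepWith @IsOpenImmersion (j t) := fun t =>
    prop_homOfBased (P := AlgSp.RepWith @IsOpenImmersion) (F := ⟨_, AlgSp.IsAlgSpace.yon_obj (V (i t))⟩) (G := F) inferInstance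
      (spaceDescends_repWith _)
      ((repByAlgSpWith_postcomp_equiv hG).2 ((repByAlgSpWith_precomp_equiv (isEquivOver_toOverCat _)).2
        ((repByAlgSpWith_precomp_equiv (hE _)).2 (hQ (i t)).2.2)))
  obtain ⟨W, ⟨φ⟩⟩ := SpPts86.exists_iso_of_open_cover (fun t => V (i t)) j hj (fun x => by
    obtain ⟨t, ht⟩ := surjective_ofChart h𝒳.isStack.1 u hu' (Points.map e (stPt _ x))
    obtain ⟨z, hz⟩ := hi t
    obtain ⟨z', rfl⟩ := (points_map_bijective (hE (i t))).2 z
    obtain ⟨z'', rfl⟩ := (points_map_bijective (isEquivOver_toOverCat (V (i t)))).2 z'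
    obtain ⟨v', rfl⟩ := stPt_bijective.2 z''
    obtain ⟨v, rfl⟩ := (AlgSp.Points.schemeHomeo (V (i t))).surjective v'
    refine ⟨t, v, stPt_bijective.1 ?_⟩
    obtain ⟨γ⟩ := exists_hom_iso (Ψ t)
    rw [AlgSp.Points.ofPt_eq_map_ofScheme, ← stPt_natural, ← points_map_congr γ,
      ← points_map_id (stPt _ x), ← points_map_congr α, points_map_comp e G, ← ht, ← hz]
    simp only [Ψ, points_map_comp]
    rfl)
  haveI : IsIso φ.hom := inferInstance
  obtain ⟨K, hK, -, -⟩ := isEquivOver_inverse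
    (isEquivOver_comp (isEquivOver_ofOverCat W) (isEquivOver_comp (isEquivOver_ofSpMap φ.hom) he))
  exact ⟨W, K, hK⟩

end Groth.Agent.AlgSt88
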