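import Groth.Agent.AlgSt88.FpMap

/-! Functors into the base category, and the product over it. -/

set_option autoImplicit false
set_option backward.isDefEq.respectTransparency false
set_option backward.isDefEq.respectTransparency.types false
universe v₄ u₄ v₃ u₃ v₂ u₂ v u

open CategoryTheory CategoryTheory.Limits FibCat

namespace Groth.Agent.AlgSt88

variable {C : Type u} [Category.{v} C] {𝒳 : BasedCategory.{v₂, u₂} C} {𝒲 : BasedCategory.{v₃, u₃} C}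
  {𝒲' : BasedCategory.{v₄, u₄} C}

/-- Two morphisms of the base over itself lying over one morphism are equal. -/
theorem self_hom_ext {a b : (selfOver C).obj} {R T : C} (g : R ⟶ T) {φ ψ : a ⟶ b}
    (hφ : (selfOver C).p.IsHomLift g φ) (hψ : (selfOver C).p.IsHomLift g ψ) : φ = ψ :=
  (@IsHomLift.fac' _ _ _ _ (selfOver C).p _ _ _ _ g φ hφ).trans
    (@IsHomLift.fac' _ _ _ _ (selfOver C).p _ _ _ _ g ψ hψ).symm

theorem self_map_eq (F : 𝒲 ⥤ᵇ selfOver C) {x y : 𝒲.obj} (f : x ⟶ y) :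
    F.map f = eqToHom (F.w_obj x) ≫ 𝒲.p.map f ≫ eqToHom (F.w_obj y).symm := by
  exact Functor.congr_hom F.w f

theorem self_lift_eqToHom {X Y Z : C} (h : X = Y) (hX : X = Z) : (selfOver C).p.IsHomLift (𝟙 Z) (eqToHom h) := by
  subst hX h
  exact IsHomLift.id rfl

/-- Any two functors into the base are isomorphic. -/
def selfIso (F G : 𝒲 ⥤ᵇ selfOver C) : F ≅ G :=
  BasedNatIso.mkNatIso
    (NatIso.ofComponents (fun x => eqToIso ((F.w_obj x).trans (G.w_obj x).symm))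
      (fun {x y} f => by
        rw [self_map_eq F, self_map_eq G]
        simp))
    (fun x => self_lift_eqToHom ((F.w_obj x).trans (G.w_obj x).symm) (F.w_obj x))

variable (a : 𝒲 ⥤ᵇ 𝒳) (b : 𝒲' ⥤ᵇ 𝒳)

/-- The product of two functors, into the product over the base. -/
def prodMap : fp (toSelf 𝒲) (toSelf 𝒲') ⥤ᵇ fp (toSelf 𝒳) (toSelf 𝒳) :=
  fpLift (BasedFunctor.comp (fpFst (toSelf 𝒲) (toSelf 𝒲')) a) (BasedFunctor.comp (fpSnd (toSelf 𝒲) (toSelf 𝒲')) b)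
    (selfIso _ _)

/-- A fibre product maps to the product. -/
def fpToProd : fp a b ⥤ᵇ fp (toSelf 𝒲) (toSelf 𝒲') := fpLift (fpFst a b) (fpSnd a b) (selfIso _ _)

/-- The comparison of a fibre product with the base change of the diagonal. -/
def fpToDiag : fp a b ⥤ᵇ fp (prodMap a b) (diag (toSelf 𝒳)) :=
  fpLift (fpToProd a b) (BasedFunctor.comp (fpFst a b) a)
    (fpNatIso (Φ := BasedFunctor.comp (fpToProd a b) (prodMap a b))
      (Ψ := BasedFunctor.comp (BasedFunctor.comp (fpFst a b) a) (diag (toSelf 𝒳)))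
      (Iso.refl _) (fpIso a b).symm
      (fun x => by
        refine self_hom_ext (𝟙 (𝒳.p.obj (a.obj x.obj.fst))) ?_ ?_
        · haveI h1 := ((BasedFunctor.comp (BasedFunctor.comp (fpFst a b) a) (diag (toSelf 𝒳))).obj x).property
          haveI h1' : (selfOver C).p.IsHomLift (𝟙 (𝒳.p.obj (a.obj x.obj.fst)))
              ((BasedFunctor.comp (BasedFunctor.comp (fpFst a b) a) (diag (toSelf 𝒳))).obj x).obj.iso.hom := h1
          haveI h2 : (selfOver C).p.IsHomLift (𝟙 (𝒳.p.obj (a.obj x.obj.fst))) ((toSelf 𝒳).map (𝟙 (a.obj x.obj.fst))) := by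
            haveI : 𝒳.p.IsHomLift (𝟙 (𝒳.p.obj (a.obj x.obj.fst))) (𝟙 (a.obj x.obj.fst)) := IsHomLift.id rfl
            infer_instance
          exact @IsHomLift.comp_of_lift_id _ _ _ _ (selfOver C).p _ _ _ _ _ _ h2 h1'
        · haveI h1 : (selfOver C).p.IsHomLift (𝟙 (𝒳.p.obj (a.obj x.obj.fst)))
              ((BasedFunctor.comp (fpToProd a b) (prodMap a b)).obj x).obj.iso.hom :=
            ((BasedFunctor.comp (fpToProd a b) (prodMap a b)).obj x).property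
          haveI h2 : 𝒳.p.IsHomLift (𝟙 (𝒳.p.obj (a.obj x.obj.fst))) x.obj.iso.hom := by
            rw [a.w_obj]; exact x.property
          haveI h3 : 𝒳.p.IsHomLift (𝟙 (𝒳.p.obj (a.obj x.obj.fst))) x.obj.iso.inv :=
            IsHomLift.lift_id_inv 𝒳.p (𝒳.p.obj (a.obj x.obj.fst)) x.obj.iso
          haveI h4 : (selfOver C).p.IsHomLift (𝟙 (𝒳.p.obj (a.obj x.obj.fst))) ((toSelf 𝒳).map x.obj.iso.inv) :=
            inferInstance
          exact @IsHomLift.comp_of_lift_id _ _ _ _ (selfOver C).p _ _ _ _ _ _ h1 h4))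

theorem isEquivOver_fpToDiag : IsEquivOver (fpToDiag a b) := by
  refine IsEquivData.isEquivOver ⟨?_, ?_, ?_⟩
  · intro x y f g h
    exact fpHom_ext (congrArg (fun t => t.hom.fst.hom.fst) h) (congrArg (fun t => t.hom.fst.hom.snd) h)
  · intro x y g
    have h1 : a.map g.hom.fst.hom.fst ≫ 𝟙 _ = 𝟙 _ ≫ g.hom.snd := congrArg (fun t => t.hom.fst) g.hom.w
    have h2 : b.map g.hom.fst.hom.snd ≫ y.obj.iso.inv = x.obj.iso.inv ≫ g.hom.snd :=
      congrArg (fun t => t.hom.snd) g.hom.w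
    rw [Category.comp_id, Category.id_comp] at h1
    refine ⟨fpHom g.hom.fst.hom.fst g.hom.fst.hom.snd ?_, fpHom_ext (fpHom_ext rfl rfl) h1⟩
    rw [← cancel_epi x.obj.iso.inv, Iso.inv_hom_id_assoc, h1, ← Category.assoc, ← h2, Category.assoc,
      Iso.inv_hom_id, Category.comp_id]
  · intro z
    let φ₁ : a.obj z.obj.fst.obj.fst ≅ z.obj.snd := (fpFst (toSelf 𝒳) (toSelf 𝒳)).toFunctor.mapIso z.obj.iso
    let φ₂ : b.obj z.obj.fst.obj.snd ≅ z.obj.snd := (fpSnd (toSelf 𝒳) (toSelf 𝒳)).toFunctor.mapIso z.obj.iso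
    haveI hz : (fp (toSelf 𝒳) (toSelf 𝒳)).p.IsHomLift (𝟙 (𝒲.p.obj z.obj.fst.obj.fst)) z.obj.iso.hom := z.property
    haveI hl₁ : 𝒳.p.IsHomLift (𝟙 (𝒲.p.obj z.obj.fst.obj.fst)) φ₁.hom :=
      BasedFunctor.preserves_isHomLift (fpFst (toSelf 𝒳) (toSelf 𝒳)) _ z.obj.iso.hom
    haveI hl₂ : 𝒳.p.IsHomLift (𝟙 (𝒲.p.obj z.obj.fst.obj.fst)) φ₂.hom :=
      BasedFunctor.preserves_isHomLift (fpSnd (toSelf 𝒳) (toSelf 𝒳)) _ z.obj.iso.hom
    haveI : 𝒳.p.IsHomLift (𝟙 (𝒲.p.obj z.obj.fst.obj.fst)) φ₂.inv := IsHomLift.lift_id_inv _ _ φ₂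
    let o : (fp a b).obj := ⟨⟨z.obj.fst.obj.fst, z.obj.fst.obj.snd, φ₁ ≪≫ φ₂.symm⟩,
      IsHomLift.comp_of_lift_id (p := 𝒳.p) (𝒲.p.obj z.obj.fst.obj.fst) φ₁.hom φ₂.inv⟩
    refine ⟨o, fpObjIso (fpObjIso (Iso.refl _) (Iso.refl _) ?_) φ₁ (fpHom_ext ?_ ?_), ?_⟩
    · refine self_hom_ext (𝟙 (𝒲.p.obj z.obj.fst.obj.fst)) ?_ ?_
      · haveI : (selfOver C).p.IsHomLift (𝟙 (𝒲.p.obj z.obj.fst.obj.fst)) z.obj.fst.obj.iso.hom := z.obj.fst.property
        change (selfOver C).p.IsHomLift _ ((toSelf 𝒲).map (𝟙 _) ≫ _)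
        rw [(toSelf 𝒲).map_id, Category.id_comp]
        assumption
      · haveI : (selfOver C).p.IsHomLift (𝟙 (𝒲.p.obj z.obj.fst.obj.fst)) ((fpToProd a b).obj o).obj.iso.hom :=
          ((fpToProd a b).obj o).property
        change (selfOver C).p.IsHomLift _ (_ ≫ (toSelf 𝒲').map (𝟙 _))
        rw [(toSelf 𝒲').map_id, Category.comp_id]
        assumption
    · change a.map (𝟙 _) ≫ φ₁.hom = 𝟙 _ ≫ φ₁.hom
      rw [a.map_id]
    · change b.map (𝟙 _) ≫ φ₂.hom = (φ₁ ≪≫ φ₂.symm).inv ≫ φ₁.hom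
      simp
    · exact fp_isHomLift _ (fp_isHomLift _ (IsHomLift.id rfl))

end Groth.Agent.AlgSt88
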