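import Groth.Agent.AlgSt88.SepQs
import Groth.Agent.AlgSt88.SepRep
import Groth.Agent.AlgSt88.UnivClosedQC
import Groth.Agent.AlgSt88.SpQDescend
import Groth.Agent.AlgSt88.SpQProps
import Groth.Agent.AlgSt88.SmoothLocusFun
import Groth.Agent.AlgSt88.UnivInjDiag
import Groth.Agent.AlgSt88.DiagDescent
import Groth.Agent.LimTop61.ProperImage
import Groth.Agent.S10536

/-! Separatedness descends along a surjective map with universally closed diagonal. -/

set_option autoImplicit false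
set_option maxHeartbeats 1000000
set_option linter.style.haveILetI false
set_option linter.unusedVariables false
set_option backward.isDefEq.respectTransparency false
set_option backward.isDefEq.respectTransparency.types false
universe u

open CategoryTheory CategoryTheory.Limits AlgebraicGeometry Opposite AlgSt FibCat

namespace Groth.Agent.AlgSt88

variable {S : Scheme.{u}} {𝒳 𝒴 𝒵 : AlgSt.Cat S}

/-- A morphism of spaces is proper if it is locally of finite type and becomes proper after a universally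
closed surjection. -/
theorem isProperMor_of_surjective_comp {G H B : AlgSp.Sp S} (hG : AlgSp.IsAlgSpace G) (hH : AlgSp.IsAlgSpace H)
    (hB : AlgSp.IsAlgSpace B) {a : G ⟶ H} {b : H ⟶ B} (ha : AlgSp.IsUnivClosedMor a)
    (has : AlgSp.IsSurjectiveMor a) (hb : AlgSp.LocP @LocallyOfFiniteType b) (hab : AlgSp.IsProperMor (a ≫ b)) :
    AlgSp.IsProperMor b := by
  have hs : ∀ w : AlgSp.Points H, ∃ (_ : PUnit.{1}), ∃ z, AlgSp.Points.map a z = w := fun w => ⟨⟨⟩, has w⟩
  have h1 : AlgSp.IsSeparatedMor b :=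
    LimTop61.ProperImage.isSeparatedMor_of_family (κ := PUnit.{1}) (Z := fun _ => G) hH hB (fun _ => hG) (fun _ => a)
      hs (fun _ => ha) (fun _ => hab.1)
  have h3 : AlgSp.IsUnivClosedMor b := SpPts86.isUnivClosedMor_of_surjective_comp hab.2.2 has
  exact ⟨h1, ⟨hb, isQuasiCompactMor_of_isUnivClosedMor hH hB h3⟩, h3⟩

/-- Properness descends along a universally closed surjection. -/
theorem repByAlgSpWith_proper_of_comp (hX : IsFibGrpd 𝒳.p) (hY : IsFibGrpd 𝒴.p)
    {f : 𝒳 ⥤ᵇ 𝒴} {g : 𝒴 ⥤ᵇ 𝒵} (hf : RepByAlgSpWith AlgSp.IsUnivClosedMor f) (hfs : Sj f)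
    (hg : RepByAlgSpWith (AlgSp.LocP @LocallyOfFiniteType) g)
    (hfg : RepByAlgSpWith AlgSp.IsProperMor (BasedFunctor.comp f g)) : RepByAlgSpWith AlgSp.IsProperMor g := by
  intro U y
  haveI := respectsIso_proper (S := S)
  obtain ⟨G, e, he, hb⟩ := hg U y
  let q : fp g y ⥤ᵇ 𝒴 := fpFst g y
  let e' : ofSp G.obj ⥤ᵇ fp g y := BasedFunctor.comp e (fpSwap y g)
  have he' : IsEquivOver e' := isEquivOver_comp he isEquivOver_fpSwap
  obtain ⟨F, a, ψ, hψ, ⟨α⟩, hQ⟩ := exists_space_fp hX hY (repByAlgSp1_of_with hf) G (BasedFunctor.comp e' q)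
  have ha : AlgSp.IsUnivClosedMor a := spaceDescends_univClosed F G a (hQ _ respectsIso_univClosed hf)
  have has : AlgSp.IsSurjectiveMor a := spaceDescends_surj F G a (hQ _ respectsIso_surj hfs)
  let χ : fp (BasedFunctor.comp e' q) f ⥤ᵇ fp y (BasedFunctor.comp f g) :=
    BasedFunctor.comp (fpMapFst q f e') (BasedFunctor.comp (fpSwap q f)
      (BasedFunctor.comp (fpPaste f g y) (fpSwap (BasedFunctor.comp f g) y)))
  have hχ : IsEquivOver χ :=
    isEquivOver_comp (isEquivOver_fpMapFst q f e' he') (isEquivOver_comp isEquivOver_fpSwap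
      (isEquivOver_comp (isEquivOver_fpPaste f g y) isEquivOver_fpSwap))
  have hmap : spMapOfOver (BasedFunctor.comp (BasedFunctor.comp ψ χ) (fpFst y (BasedFunctor.comp f g))) =
      a ≫ spMapOfOver (BasedFunctor.comp e (fpFst y g)) := by
    have h := spMapOfOver_congr (bRight α (BasedFunctor.comp e (fpFst y g)))
    rw [spMapOfOver_comp (ofSpMap a) (BasedFunctor.comp e (fpFst y g)), homOfBased_ofSpMap] at h
    exact h
  have hab := RepOver.any (hfg U y) (isEquivOver_comp hψ hχ)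
  rw [hmap] at hab
  exact ⟨G, e, he, isProperMor_of_surjective_comp F.property G.property (AlgSp.IsAlgSpace.yon_obj U) ha has hb hab⟩

theorem isSeparatedMor_of_comp_surj
    (h𝒳 : IsAlgStack Scheme.fppfPrecoverage 𝒳) (h𝒴 : IsAlgStack Scheme.fppfPrecoverage 𝒴)
    (h𝒵 : IsAlgStack Scheme.fppfPrecoverage 𝒵) (f : 𝒳 ⥤ᵇ 𝒴) (g : 𝒴 ⥤ᵇ 𝒵)
    (hf₁ : IsSurjective f) (hf₂ : LocQ (AlgSp.LocP @Flat) f)
    (hf₃ : LocQ (AlgSp.LocP @LocallyOfFinitePresentation) f) (hf₄ : IsSurjective (diag f))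
    (hf₅ : RepByAlgSpWith AlgSp.IsUnivClosedMor (diag f)) (hh : AlgSt.IsSeparatedMor (BasedFunctor.comp f g)) :
    AlgSt.IsSeparatedMor g := by
  have hX := h𝒳.isStack.1
  have hY := h𝒴.isStack.1
  have hZ := h𝒵.isStack.1
  have hg := lft_diag h𝒴 h𝒵 g
  have hXX := isFibGrpd_fp hX hX hY f f
  have h1 : RepByAlgSpWith AlgSp.IsProperMor (fpPost f f g) :=
    repByAlgSpWith_proper_of_comp hX hXX hf₅ (sj_of_isSurjective hX hXX (repByAlgSp1_of_with hf₅) hf₄)
      (repByAlgSpWith_fpPost f f hg) (repByAlgSpWith_of_iso (diagCompIso f g).symm hh)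
  let p := Fib44.diagPair g f f
  have h2 : RepByAlgSpWith AlgSp.IsProperMor (fpFst p (diag g)) :=
    repByAlgSpWith_of_iso (fpNatIso (Φ := fpFst p (diag g))
      (Ψ := BasedFunctor.comp (Fib44.diagCmp g f f) (fpPost f f g))
      (Iso.refl _) (Iso.refl _) (fun x => by
        change g.map (f.map (𝟙 x.obj.fst.obj.fst)) ≫ g.map (x.obj.iso.hom.hom.fst ≫ x.obj.iso.inv.hom.snd) =
          x.obj.fst.obj.iso.hom ≫ g.map (f.map (𝟙 x.obj.fst.obj.snd))
        rw [map_id' f, map_id' g]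
        have hrel : g.map x.obj.iso.hom.hom.fst = x.obj.fst.obj.iso.hom ≫ g.map x.obj.iso.hom.hom.snd :=
          (Category.comp_id _).symm.trans x.obj.iso.hom.hom.w
        rw [map_id' f, map_id' g, g.map_comp, hrel]
        have e : x.obj.iso.hom.hom.snd ≫ x.obj.iso.inv.hom.snd = 𝟙 _ :=
          congrArg (fun t => t.hom.snd) x.obj.iso.hom_inv_id
        refine (Category.id_comp _).trans ((Category.assoc _ _ _).trans ?_)
        rw [← g.map_comp, e]
        exact congrArg (x.obj.fst.obj.iso.hom ≫ ·) (map_id' g _))).symm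
      ((repByAlgSpWith_precomp_equiv (Fib44.diagCmp_isEquivOver g f f)).2 h1)
  obtain ⟨A, a, ha, ha'⟩ := exists_space_atlas h𝒳
  have hA : IsAlgStack Scheme.fppfPrecoverage (ofSch A) := (isDM_of_repByAlgSp (repByAlgSp_ofSp (spY A))).1
  let w : ofSch A ⥤ᵇ 𝒴 := BasedFunctor.comp a f
  let h := BasedFunctor.comp f g
  let z₁ := BasedFunctor.comp (fpMapSnd (BasedFunctor.comp a h) h a) (fpMapFst h h a)
  let zw := BasedFunctor.comp (fpMapSnd (BasedFunctor.comp w g) g w) (fpMapFst g g w)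
  have hA' := hA.isStack.1
  have hw : RepByAlgSp1 w := rep1_ofSch h𝒴 w
  have hwf : RepByAlgSpWith (AlgSp.LocP @Flat) w :=
    (locQ_iff_repByAlgSpWith smoothLocal_flat (stableBC_locP _) (fppf_local_of_fpqc (S10530.result S)) hA h𝒴 hw).1
      (locQ_comp smoothLocal_flat (fun _ _ _ hA hB hC _ _ h1 h2 => SpFP87.locP_comp hA hB hC h1 h2) hA h𝒳 h𝒴
        ((locQ_iff_repByAlgSpWith smoothLocal_flat (stableBC_locP _) (fppf_local_of_fpqc (S10530.result S)) hA h𝒳
          (repByAlgSp1_of_with ha)).2 (rep_flat_of_sm ha)) hf₂)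
  have hwp : RepByAlgSpWith (AlgSp.LocP @LocallyOfFinitePresentation) w :=
    (locQ_iff_repByAlgSpWith smoothLocal_lfp (stableBC_locP _) (fppf_local_of_fpqc (S10527.result S)) hA h𝒴 hw).1
      (locQ_comp smoothLocal_lfp (fun _ _ _ hA hB hC _ _ h1 h2 => SpFP87.locP_comp hA hB hC h1 h2) hA h𝒳 h𝒴
        ((locQ_iff_repByAlgSpWith smoothLocal_lfp (stableBC_locP _) (fppf_local_of_fpqc (S10527.result S)) hA h𝒳
          (repByAlgSp1_of_with ha)).2 (rep_lfp_of_sm ha)) hf₃)
  have hws : Sj w := sj_of_isSurjective hA' hY hw (surjective_comp (isSurjective_of_sj hX ha') hf₁)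
  have hsrc : IsAlgStack Scheme.fppfPrecoverage (fp (BasedFunctor.comp w g) (BasedFunctor.comp w g)) :=
    isAlgStack_fp h𝒵.isStack h𝒵.diag hA hA _ _
  have hmid := isFibGrpd_fp hA' hY hZ (BasedFunctor.comp w g) g
  have hYY : IsAlgStack Scheme.fppfPrecoverage (fp g g) := isAlgStack_fp h𝒵.isStack h𝒵.diag h𝒴 h𝒴 g g
  have hzf : RepByAlgSpWith (AlgSp.LocP @Flat) zw :=
    repByAlgSpWith_locP_comp @Flat hsrc.isStack.1 hmid (repByAlgSpWith_fpMapSnd _ g hwf) (repByAlgSpWith_fpMapFst g g hwf)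
  have hzp : RepByAlgSpWith (AlgSp.LocP @LocallyOfFinitePresentation) zw :=
    repByAlgSpWith_locP_comp @LocallyOfFinitePresentation hsrc.isStack.1 hmid (repByAlgSpWith_fpMapSnd _ g hwp)
      (repByAlgSpWith_fpMapFst g g hwp)
  have hzs : Sj zw :=
    repByAlgSpWith_surj_comp hsrc.isStack.1 hmid (repByAlgSpWith_fpMapSnd _ g hws) (repByAlgSpWith_fpMapFst g g hws)
  let ι : BasedFunctor.comp z₁ p ≅ zw := fpNatIso (Φ := BasedFunctor.comp z₁ p) (Ψ := zw)
    (Iso.refl _) (Iso.refl _) (fun x => by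
      change g.map (𝟙 _) ≫ x.obj.iso.hom = x.obj.iso.hom ≫ g.map (𝟙 _)
      rw [map_id' g, map_id' g]
      exact (Category.id_comp _).trans (Category.comp_id _).symm)
  have h3 : RepByAlgSpWith AlgSp.IsProperMor (fpFst (BasedFunctor.comp z₁ p) (diag g)) :=
    (repByAlgSpWith_precomp_equiv (isEquivOver_fpPaste z₁ p (diag g))).1 (repByAlgSpWith_fpFst z₁ h2)
  have h4 : RepByAlgSpWith (AlgSp.LocP @Flat) (BasedFunctor.comp z₁ p) := repByAlgSpWith_of_iso ι.symm hzf
  refine repByAlgSpWith_descend stableBC_proper (fppf_local_of_fpqc (S10536.result S)) h𝒴 hYY hsrc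
    (repByAlgSp1_of_with hg) (BasedFunctor.comp z₁ p) ?_ ?_ ?_ h3
  · exact (locQ_iff_repByAlgSpWith smoothLocal_flat (stableBC_locP _) (fppf_local_of_fpqc (S10530.result S)) hsrc hYY
      (repByAlgSp1_of_with h4)).2 h4
  · exact (locQ_iff_repByAlgSpWith smoothLocal_lfp (stableBC_locP _) (fppf_local_of_fpqc (S10527.result S)) hsrc hYY
      (repByAlgSp1_of_with h4)).2 (repByAlgSpWith_of_iso ι.symm hzp)
  · exact isSurjective_of_sj hYY.isStack.1 (repByAlgSpWith_of_iso ι.symm hzs)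

end Groth.Agent.AlgSt88
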