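import Groth.Agent.AlgSt88.SmoothLift
import Groth.Agent.AlgSt88.SmoothLocalInst
import Groth.Agent.AlgSt88.SmoothLoc
import Groth.Agent.SmallExt24.Basic
import Mathlib.RingTheory.SimpleModule.Basic

/-! The infinitesimal criterion for smoothness of morphisms of algebraic stacks. -/

set_option autoImplicit false
set_option maxHeartbeats 1000000
set_option linter.style.haveILetI false
set_option linter.unusedVariables false
set_option backward.isDefEq.respectTransparency false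
set_option backward.isDefEq.respectTransparency.types false
universe u

open CategoryTheory CategoryTheory.Limits AlgebraicGeometry Opposite AlgSt FibCat

namespace Groth.Agent.AlgSt88

variable {S : Scheme.{u}} {𝒳 𝒴 : AlgSt.Cat S}

/-- A smooth chart composed with a smooth morphism. -/
theorem sm_comp_of_locQ {K : Precoverage Scheme.{u}} (h𝒳 : IsAlgStack K 𝒳) (h𝒴 : IsAlgStack K 𝒴) {f : 𝒳 ⥤ᵇ 𝒴}
    (h : LocQ (AlgSp.LocP @Smooth) f) {Z : Over S} (p : ofSch Z ⥤ᵇ 𝒳) (hp : Sm p) :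
    Sm (BasedFunctor.comp p f) := by
  have hX := h𝒳.isStack.1
  have hY := h𝒴.isStack.1
  have hZ : IsFibGrpd (ofSch Z).p := Stk.isFibGrpd_ofPsh _
  let q := BasedFunctor.comp p f
  have hq1 : RepByAlgSp1 q :=
    repByAlgSp1_from_space hY ((diag_iff hY).1 h𝒴.diag) (repByAlgSp_ofSp (spY Z)) q
  obtain ⟨V, v, hv, hv'⟩ := h𝒴.atlas
  let y : ofSp (spY V).obj ⥤ᵇ 𝒴 := BasedFunctor.comp (toOverCat V) v
  have hy : Sm y := (repByAlgSpWith_precomp_equiv (isEquivOver_toOverCat V)).2 hv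
  have hy' : Sj y := (repByAlgSpWith_precomp_equiv (isEquivOver_toOverCat V)).2 hv'
  obtain ⟨F, a, e, he, ⟨α⟩, -⟩ := exists_space_fp hZ hY hq1 (spY V) y
  let E : ofSp F.obj ⥤ᵇ fp q y := BasedFunctor.comp e (fpSwap y q)
  have hE : IsEquivOver E := isEquivOver_comp he isEquivOver_fpSwap
  obtain ⟨g, hg, -, ⟨β⟩⟩ := isEquivOver_inverse (isEquivOver_fpPaste p f y)
  let E' : ofSp F.obj ⥤ᵇ fp p (fpFst f y) := BasedFunctor.comp E g
  have hE' : IsEquivOver E' := isEquivOver_comp hE hg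
  let l : ofSp F.obj ⥤ᵇ fp f y := BasedFunctor.comp E' (fpSnd p (fpFst f y))
  have hl : Sm l := (repByAlgSpWith_precomp_equiv hE').2 (repByAlgSpWith_fpSnd _ hp)
  have hh := (spQ_of_locQ h).prop smoothLocal_smooth hX hY (U := F) (V := spY V) y l hy hl
  rw [homOfBased_congr (F := F.obj) (G := (spY V).obj) (Φ := BasedFunctor.comp l (fpSnd f y))
    (Ψ := ofSpMap a) (bLeft E (bRight β (fpSnd q y)) ≪≫ α)] at hh
  refine repByAlgSpWith_of_repSp_cover hZ hY (stableBC_locP _) (fppf_local_of_fpqc (S10542.result S)) hq1 (spY V) y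
    (rep_flat_of_sm hy) (rep_lfp_of_sm hy) hy' ⟨F, e, he, ?_⟩
  rw [homOfBased_congr α]
  exact hh

theorem lift_of_locQ_smooth (h𝒳 : IsAlgStack Scheme.etalePrecoverage 𝒳) (h𝒴 : IsAlgStack Scheme.etalePrecoverage 𝒴)
    {f : 𝒳 ⥤ᵇ 𝒴} (h : LocQ (AlgSp.LocP @Smooth) f) {A A₀ : Type u} [CommRing A] [IsArtinianRing A] [IsLocalRing A]
    [CommRing A₀] [IsLocalRing A₀] (φ : A →+* A₀) (hφ : Function.Surjective φ) (sA : Spec (CommRingCat.of A) ⟶ S)
    (x : overCat (Over.mk (Spec.map (CommRingCat.ofHom φ) ≫ sA)) ⥤ᵇ 𝒳) (y : overCat (Over.mk sA) ⥤ᵇ 𝒴)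
    (α : BasedFunctor.comp x f ≅
      BasedFunctor.comp (overMap (Over.homMk (Spec.map (CommRingCat.ofHom φ)) rfl :
        Over.mk (Spec.map (CommRingCat.ofHom φ) ≫ sA) ⟶ Over.mk sA)) y) :
    ∃ (c : overCat (Over.mk sA) ⥤ᵇ fp f y),
      Nonempty (BasedFunctor.comp c (fpSnd f y) ≅ overMap (𝟙 (Over.mk sA))) ∧
      Nonempty (BasedFunctor.comp (overMap (Over.homMk (Spec.map (CommRingCat.ofHom φ)) rfl :
          Over.mk (Spec.map (CommRingCat.ofHom φ) ≫ sA) ⟶ Over.mk sA)) c ≅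
        fpLift x (overMap (Over.homMk (Spec.map (CommRingCat.ofHom φ)) rfl :
          Over.mk (Spec.map (CommRingCat.ofHom φ) ≫ sA) ⟶ Over.mk sA)) α) := by
  let T₀ : Over S := Over.mk (Spec.map (CommRingCat.ofHom φ) ≫ sA)
  let jj : T₀ ⟶ Over.mk sA := Over.homMk (Spec.map (CommRingCat.ofHom φ)) rfl
  haveI : IsArtinianRing A₀ := hφ.isArtinianRing
  haveI := henselianLocalRing_of_artinian A₀
  let π := IsLocalRing.residue A₀
  let ι : Over.mk (Spec.map (CommRingCat.ofHom π) ≫ T₀.hom) ⟶ T₀ := Over.homMk (Spec.map (CommRingCat.ofHom π)) rfl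
  obtain ⟨Z, -, p, u, hp, ⟨jp⟩⟩ := exists_affine_chart_stack_fieldPoint le_rfl h𝒳
    (sk := Spec.map (CommRingCat.ofHom π) ≫ T₀.hom) (BasedFunctor.comp (overMap ι) x)
  let pZ : ofSp (spY Z).obj ⥤ᵇ 𝒳 := BasedFunctor.comp (toOverCat Z) p
  have hpZ : Sm pZ := (repByAlgSpWith_precomp_equiv (isEquivOver_toOverCat Z)).2 hp
  obtain ⟨j₀⟩ := overMap_iso u
  obtain ⟨z', -, ⟨e'⟩⟩ := exists_lift_stack_henselian (spY Z) pZ hpZ π IsLocalRing.residue_surjective x ι rfl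
    ((AlgSp.yon S).map u) (bRight j₀ p ≪≫ jp)
  obtain ⟨g₀, hg₀⟩ := (AlgSp.yon S).map_surjective z'
  subst hg₀
  obtain ⟨j₁⟩ := overMap_iso g₀
  let β : BasedFunctor.comp (overMap g₀) p ≅ x := (bRight j₁ p).symm ≪≫ e'
  let q : overCat Z ⥤ᵇ 𝒴 := BasedFunctor.comp p f
  have hq : Sm q :=
    (repByAlgSpWith_precomp_equiv (isEquivOver_toOverCat Z)).1 (sm_comp_of_locQ h𝒳 h𝒴 h pZ hpZ)
  let L : overCat T₀ ⥤ᵇ fp q y := fpLift (overMap g₀) (overMap jj) (bRight β f ≪≫ α)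
  obtain ⟨K, hK1, ⟨hK2⟩⟩ := exists_lift_of_sm hq φ hφ jj rfl y L ⟨Iso.refl _⟩
  let M : fp q y ⥤ᵇ fp f y := fpLift (BasedFunctor.comp (fpFst q y) p) (fpSnd q y) (fpIso q y)
  refine ⟨BasedFunctor.comp K M, hK1, ⟨bRight hK2 M ≪≫ ?_⟩⟩
  refine fpNatIso (Φ := BasedFunctor.comp L M) (Ψ := fpLift x (overMap jj) α) β (Iso.refl _) (fun w => ?_)
  show f.map (β.hom.toNatTrans.app w) ≫ α.hom.toNatTrans.app w =
    (f.map (β.hom.toNatTrans.app w) ≫ α.hom.toNatTrans.app w) ≫ y.map (𝟙 _)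
  rw [map_id' y]
  exact (Category.comp_id _).symm

/-- The lifting hypothesis. -/
def ArtinLifting (f : 𝒳 ⥤ᵇ 𝒴) : Prop :=
  ∀ (A A₀ : Type u) [CommRing A] [IsArtinianRing A] [IsLocalRing A] [CommRing A₀] [IsLocalRing A₀]
    (φ : A →+* A₀) (_ : Function.Surjective φ) (_ : IsSimpleModule A (RingHom.ker φ))
    (sA : Spec (CommRingCat.of A) ⟶ S)
    (x : overCat (Over.mk (Spec.map (CommRingCat.ofHom φ) ≫ sA)) ⥤ᵇ 𝒳)
    (y : overCat (Over.mk sA) ⥤ᵇ 𝒴)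
    (α : BasedFunctor.comp x f ≅
      BasedFunctor.comp (overMap (Over.homMk (Spec.map (CommRingCat.ofHom φ)) rfl :
        Over.mk (Spec.map (CommRingCat.ofHom φ) ≫ sA) ⟶ Over.mk sA)) y),
    ∃ (c : overCat (Over.mk sA) ⥤ᵇ fp f y),
      Nonempty (BasedFunctor.comp c (fpSnd f y) ≅ overMap (𝟙 (Over.mk sA))) ∧
      Nonempty (BasedFunctor.comp (overMap (Over.homMk (Spec.map (CommRingCat.ofHom φ)) rfl :
          Over.mk (Spec.map (CommRingCat.ofHom φ) ≫ sA) ⟶ Over.mk sA)) c ≅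
        fpLift x (overMap (Over.homMk (Spec.map (CommRingCat.ofHom φ)) rfl :
          Over.mk (Spec.map (CommRingCat.ofHom φ) ≫ sA) ⟶ Over.mk sA)) α)

theorem isSimpleModule_span {B : Type u} [CommRing B] [IsLocalRing B] {ε : B} (hε : ε ≠ 0)
    (hm : ∀ m ∈ IsLocalRing.maximalIdeal B, ε * m = 0) : IsSimpleModule B (Ideal.span {ε}) := by
  rw [isSimpleModule_iff_isAtom]
  refine ⟨fun h => hε (by rwa [Ideal.span_singleton_eq_bot] at h), fun b hb => ?_⟩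
  rw [eq_bot_iff]
  intro x hx
  obtain ⟨c, rfl⟩ := Ideal.mem_span_singleton'.1 (hb.le hx)
  by_cases hc : IsUnit c
  · refine absurd (Ideal.span_le.2 (Set.singleton_subset_iff.2 ?_)) (not_le_of_gt hb)
    obtain ⟨c, rfl⟩ := hc
    have := b.smul_mem (↑c⁻¹ : B) hx
    rwa [smul_eq_mul, Units.inv_mul_cancel_left] at this
  · exact Submodule.mem_bot _ |>.2 (by rw [mul_comm]; exact hm c hc)

/-- The lifting property on charts. -/
theorem chart_lifts {f : 𝒳 ⥤ᵇ 𝒴} (H : ArtinLifting f) {U V : Over S} (y : ofSch V ⥤ᵇ 𝒴)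
    (l : ofSch U ⥤ᵇ fp f y) (hl : Sm l) (h : U ⟶ V)
    (w : BasedFunctor.comp l (fpSnd f y) ≅ ofSpMap ((AlgSp.yon S).map h))
    {B B' : Type u} [CommRing B] [CommRing B'] [IsArtinianRing B'] [IsLocalRing B] [IsLocalRing B']
    (φ : B' →+* B) (hφ : Function.Surjective φ) (hs : IsSimpleModule B' (RingHom.ker φ))
    (a₀ : Spec (CommRingCat.of B) ⟶ U.left) (b : Spec (CommRingCat.of B') ⟶ V.left)
    (hsq : Spec.map (CommRingCat.ofHom φ) ≫ b = a₀ ≫ h.left) :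
    ∃ γ : Spec (CommRingCat.of B') ⟶ U.left, Spec.map (CommRingCat.ofHom φ) ≫ γ = a₀ ∧ γ ≫ h.left = b := by
  let sA := b ≫ V.hom
  let T : Over S := Over.mk sA
  let T₀ : Over S := Over.mk (Spec.map (CommRingCat.ofHom φ) ≫ sA)
  let jj : T₀ ⟶ T := Over.homMk (Spec.map (CommRingCat.ofHom φ)) rfl
  let bb : T ⟶ V := Over.homMk b rfl
  let aa : T₀ ⟶ U := Over.homMk a₀ (by
    show a₀ ≫ U.hom = Spec.map _ ≫ b ≫ V.hom
    rw [← Over.w h, ← Category.assoc, ← hsq, Category.assoc])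
  have hab : aa ≫ h = jj ≫ bb := Over.OverMorphism.ext hsq.symm
  let Q : overCat U ⥤ᵇ fp f y := BasedFunctor.comp (ofOverCat U) l
  have hQ : Sm Q := (repByAlgSpWith_precomp_equiv (isEquivOver_ofOverCat U)).2 hl
  let m : overCat T ⥤ᵇ ofSch V := BasedFunctor.comp (overMap bb) (ofOverCat V)
  let yT : overCat T ⥤ᵇ 𝒴 := BasedFunctor.comp m y
  obtain ⟨wh⟩ : Nonempty (BasedFunctor.comp Q (fpSnd f y) ≅ BasedFunctor.comp (overMap h) (ofOverCat V)) := by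
    obtain ⟨κ⟩ := overMap_ofOverCat h
    exact ⟨bLeft (ofOverCat U) w ≪≫ κ.symm⟩
  obtain ⟨k₁⟩ := overMap_comp_iso aa h
  rw [hab] at k₁
  obtain ⟨k₂⟩ := overMap_comp_iso jj bb
  let wT : BasedFunctor.comp (BasedFunctor.comp (overMap aa) Q) (fpSnd f y) ≅
      BasedFunctor.comp (overMap jj) m :=
    bLeft (overMap aa) wh ≪≫ bRight (k₁ ≪≫ k₂.symm) (ofOverCat V)
  let xa : overCat T₀ ⥤ᵇ 𝒳 := BasedFunctor.comp (BasedFunctor.comp (overMap aa) Q) (fpFst f y)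
  let α : BasedFunctor.comp xa f ≅ BasedFunctor.comp (overMap jj) yT :=
    bLeft (BasedFunctor.comp (overMap aa) Q) (fpIso f y) ≪≫ bRight wT y
  obtain ⟨c, ⟨c₁⟩, ⟨c₂⟩⟩ := H B' B φ hφ hs sA xa yT α
  let c' : overCat T ⥤ᵇ fp f y := BasedFunctor.comp c (fpMapSnd f y m)
  let δ : BasedFunctor.comp (overMap aa) Q ≅ BasedFunctor.comp (fpLift xa (overMap jj) α) (fpMapSnd f y m) :=
    fpNatIso (Φ := BasedFunctor.comp (overMap aa) Q)
      (Ψ := BasedFunctor.comp (fpLift xa (overMap jj) α) (fpMapSnd f y m)) (Iso.refl _) wT (fun z => by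
        show f.map (𝟙 _) ≫ α.hom.toNatTrans.app z = _
        rw [map_id' f, Category.id_comp]
        rfl)
  let τ : BasedFunctor.comp (overMap aa) Q ≅ BasedFunctor.comp (overMap jj) c' :=
    δ ≪≫ (bRight c₂ (fpMapSnd f y m)).symm
  let L : overCat T₀ ⥤ᵇ fp Q c' := fpLift (overMap aa) (overMap jj) τ
  obtain ⟨K, ⟨K1⟩, ⟨K2⟩⟩ := exists_lift_of_sm hQ φ hφ jj rfl c' L ⟨Iso.refl _⟩
  obtain ⟨γ, ⟨εγ⟩⟩ := exists_overMap_iso (BasedFunctor.comp K (fpFst Q c'))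
  have h1 : jj ≫ γ = aa := by
    obtain ⟨k₃⟩ := overMap_comp_iso jj γ
    exact eq_of_overMap_iso ⟨k₃.symm ≪≫ bLeft (overMap jj) εγ.symm ≪≫ bRight K2 (fpFst Q c')⟩
  have h2 : γ ≫ h = bb := by
    obtain ⟨k₄⟩ := overMap_comp_iso γ h
    obtain ⟨i₁⟩ := overMap_comp_iso (𝟙 T) (𝟙 T)
    obtain ⟨k₅⟩ := overMap_comp_iso (𝟙 T) bb
    rw [Category.id_comp] at i₁ k₅
    obtain ⟨ω⟩ := ofOverCat_toOverCat V
    have e : BasedFunctor.comp (overMap (γ ≫ h)) (ofOverCat V) ≅ BasedFunctor.comp (overMap bb) (ofOverCat V) :=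
      bRight k₄.symm (ofOverCat V) ≪≫ bLeft (overMap γ) wh.symm ≪≫
        bRight (bRight εγ.symm Q ≪≫ bLeft K (fpIso Q c') ≪≫ bRight K1 c') (fpSnd f y) ≪≫
        bLeft (overMap (𝟙 T)) (bRight c₁ m) ≪≫ bRight (bRight i₁ (overMap bb) ≪≫ k₅) (ofOverCat V)
    exact eq_of_overMap_iso ⟨(bLeft (overMap (γ ≫ h)) ω).symm ≪≫ bRight e (toOverCat V) ≪≫ bLeft (overMap bb) ω⟩
  exact ⟨γ.left, congrArg (fun t => Over.Hom.left t) h1, congrArg (fun t => Over.Hom.left t) h2⟩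

theorem locQ_smooth_of_lift (h𝒳 : IsAlgStack Scheme.etalePrecoverage 𝒳) (h𝒴 : IsAlgStack Scheme.etalePrecoverage 𝒴)
    (hn : SmoothLocally (fun T => IsLocallyNoetherian T) 𝒴)
    {f : 𝒳 ⥤ᵇ 𝒴} (hft : LocQ (AlgSp.LocP @LocallyOfFiniteType) f) (H : ArtinLifting f) :
    LocQ (AlgSp.LocP @Smooth) f := by
  have hX := h𝒳.isStack.1
  have hY := h𝒴.isStack.1
  obtain ⟨U₀, u₀, hu₀, hu₀'⟩ := h𝒳.atlas
  let x₀ : ofSp (spY U₀).obj ⥤ᵇ 𝒳 := BasedFunctor.comp (toOverCat U₀) u₀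
  have hx₀ : Sm x₀ := (repByAlgSpWith_precomp_equiv (isEquivOver_toOverCat U₀)).2 hu₀
  have hx₀' : Sj x₀ := (repByAlgSpWith_precomp_equiv (isEquivOver_toOverCat U₀)).2 hu₀'
  obtain ⟨V, v, hv, hv'⟩ := h𝒴.atlas
  let y : ofSp (spY V).obj ⥤ᵇ 𝒴 := BasedFunctor.comp (toOverCat V) v
  have hy : Sm y := (repByAlgSpWith_precomp_equiv (isEquivOver_toOverCat V)).2 hv
  have hy' : Sj y := (repByAlgSpWith_precomp_equiv (isEquivOver_toOverCat V)).2 hv'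
  have hC : IsFibGrpd (fp f y).p := isFibGrpd_fp hX (Stk.isFibGrpd_ofPsh _) hY f y
  have hr : RepByAlgSp (fp x₀ (fpFst f y)) :=
    repByAlgSp_of_equiv' (repByAlgSp_fp (Stk.isFibGrpd_ofPsh _) hY (BasedFunctor.comp x₀ f)
      (repByAlgSp1_of_with hy) (repByAlgSp_ofSp (spY U₀))) (isEquivOver_fpPaste x₀ f y)
  obtain ⟨F, eF, heF⟩ := hr
  let l₀ : ofSp F.obj ⥤ᵇ fp f y := BasedFunctor.comp eF (fpSnd x₀ (fpFst f y))
  have hl₀ : Sm l₀ := (repByAlgSpWith_precomp_equiv heF).2 (repByAlgSpWith_fpSnd _ hx₀)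
  have hl₀' : Sj l₀ := (repByAlgSpWith_precomp_equiv heF).2 (repByAlgSpWith_fpSnd _ hx₀')
  obtain ⟨U, c, hc, hcs⟩ := F.property.atlas
  let l : ofSch U ⥤ᵇ fp f y := BasedFunctor.comp (ofSpMap c) l₀
  obtain ⟨hl, hl'⟩ : Sm l ∧ Sj l := ⟨(chart_comp hC hl₀ hc hcs).1, (chart_comp hC hl₀ hc hcs).2 hl₀'⟩
  obtain ⟨h, hh⟩ := (AlgSp.yon S).map_surjective (homOfBased (BasedFunctor.comp l (fpSnd f y)))
  obtain ⟨γ⟩ := exists_hom_iso (BasedFunctor.comp l (fpSnd f y))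
  rw [← hh] at γ
  have hlft : LocallyOfFiniteType h.left := by
    have := (spQ_of_locQ hft).prop smoothLocal_lft hX hY (U := spY U) (V := spY V) y l hy hl
    rw [← hh] at this
    exact (SpFP87.locP_yon_map_iff h).1 this
  haveI : IsLocallyNoetherian V.left := hn V v hv
  have hsm : Smooth h.left := by
    refine SmallExt24.smooth_of_lifts h.left fun B B' _ _ _ _ _ _ φ ε hφ hker hε a₀ b _ hsq => ?_
    by_cases h0 : ε = 0
    · subst h0
      rw [Ideal.span_singleton_eq_bot.2 rfl] at hker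
      haveI : IsIso (CommRingCat.ofHom φ) :=
        (ConcreteCategory.isIso_iff_bijective _).2 ⟨(RingHom.injective_iff_ker_eq_bot φ).2 hker, hφ⟩
      exact ⟨inv (Spec.map (CommRingCat.ofHom φ)) ≫ a₀, IsIso.hom_inv_id_assoc _ _, by
        rw [Category.assoc, ← hsq, IsIso.inv_hom_id_assoc]⟩
    · exact chart_lifts H y l hl h γ φ hφ (by rw [hker]; exact isSimpleModule_span h0 hε) a₀ b hsq
  obtain ⟨ι⟩ := overMap_iso h
  obtain ⟨ω⟩ := isEquivOver_toOverCat_ofOverCat V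
  refine ⟨U, V, BasedFunctor.comp (ofOverCat U) (BasedFunctor.comp l (fpFst f y)),
    BasedFunctor.comp (ofOverCat V) y, h, ?_, ?_, ?_, ?_, (SpFP87.locP_yon_map_iff h).2 hsm⟩
  · exact bLeft (ofOverCat U) (bLeft l (fpIso f y) ≪≫ bRight γ y) ≪≫
      (bLeft (BasedFunctor.comp (ofOverCat U) (ofSpMap ((AlgSp.yon S).map h))) (bRight ω y)).symm ≪≫
      bRight ι (BasedFunctor.comp (ofOverCat V) y)
  · exact (repByAlgSpWith_precomp_equiv (isEquivOver_ofOverCat U)).2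
      (sm_comp (Stk.isFibGrpd_ofPsh _) hC hl (repByAlgSpWith_fpFst f hy))
  · exact (repByAlgSpWith_precomp_equiv (isEquivOver_ofOverCat U)).2
      (repByAlgSpWith_surj_comp (Stk.isFibGrpd_ofPsh _) hC hl' (repByAlgSpWith_fpFst f hy'))
  · exact (repByAlgSpWith_precomp_equiv (isEquivOver_ofOverCat V)).2 hy

end Groth.Agent.AlgSt88
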