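import Groth.Agent.AlgSt88.FibPow

/-!
Finite fibre products of a family of separated charts of an algebraic space.
-/

universe u

set_option autoImplicit false

open CategoryTheory CategoryTheory.Limits AlgebraicGeometry
open AlgSp Groth.Agent.SpFP87

namespace Groth.Agent.AlgSt88

variable {S : Scheme.{u}} {F : Sp S}

theorem exists_famPow_fin (hF : IsAlgSpace F) {U : Over S} [IsSeparated U.hom] (n : ℕ)
    (q : Fin (n + 1) → ((yon S).obj U ⟶ F)) (hq : ∀ i, RepWith @Etale (q i)) :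
    ∃ (V : Over S) (pr : Fin (n + 1) → (V ⟶ U)),
      (∀ i, (yon S).map (pr i) ≫ q i = (yon S).map (pr 0) ≫ q 0) ∧
      (∀ (T : Over S) (f : Fin (n + 1) → (T ⟶ U)),
        (∀ i, (yon S).map (f i) ≫ q i = (yon S).map (f 0) ≫ q 0) → ∃! g : T ⟶ V, ∀ i, g ≫ pr i = f i) ∧
      Etale (pr 0).left ∧ IsSeparated (pr 0).left := by
  induction n with
  | zero =>
    refine ⟨U, fun _ => 𝟙 U, fun i => ?_, fun T f _ => ⟨f 0, fun i => ?_, fun g hg => ?_⟩, ?_, ?_⟩
    · rw [Fin.fin_one_eq_zero i]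
    · rw [Category.comp_id, Fin.fin_one_eq_zero i]
    · rw [← hg 0, Category.comp_id]
    · rw [Over.id_left]; infer_instance
    · rw [Over.id_left]; infer_instance
  | succ n ih =>
    obtain ⟨V, pr, he, hu, het, hsep⟩ := ih (fun i => q i.succ) fun i => hq _
    have : IsSeparated V.hom := by rw [← Over.w (pr 0)]; infer_instance
    have ha : RepWith @Etale ((yon S).map (pr 0) ≫ q (Fin.succ 0)) := SpPts86.repWith_etale_comp (pr 0) (hq _)
    obtain ⟨W, w₁, w₂, sq⟩ := exists_isPullback_yon hF.diag ((yon S).map (pr 0) ≫ q (Fin.succ 0)) (q 0)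
    let pr' : Fin (n + 1 + 1) → (W ⟶ U) := fun i => Fin.cases (motive := fun _ => W ⟶ U) w₂ (fun i => w₁ ≫ pr i) i
    have p0 : pr' 0 = w₂ := rfl
    have ps : ∀ i, pr' (Fin.succ i) = w₁ ≫ pr i := fun i => rfl
    refine ⟨W, pr', fun i => ?_, fun T f hf => ?_,
      by rw [p0]; exact etale_snd_of_isPullback sq ha,
      by rw [p0]; exact isSeparated_snd_of_isPullback sq⟩
    · induction i using Fin.cases with
      | zero => rfl
      | succ i => rw [ps, p0, Functor.map_comp, Category.assoc, he i, sq.w]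
    · obtain ⟨g, hg, hgu⟩ := hu T (fun i => f i.succ) fun i => by rw [hf i.succ, hf (Fin.succ 0)]
      have hw : (yon S).map g ≫ (yon S).map (pr 0) ≫ q (Fin.succ 0) = (yon S).map (f 0) ≫ q 0 := by
        rw [← Category.assoc, ← Functor.map_comp, hg 0, hf]
      obtain ⟨l, hl⟩ := (yon S).map_surjective (sq.lift _ _ hw)
      have hl₁ : l ≫ w₁ = g := (yon S).map_injective (by rw [Functor.map_comp, hl, sq.lift_fst])
      have hl₂ : l ≫ w₂ = f 0 := (yon S).map_injective (by rw [Functor.map_comp, hl, sq.lift_snd])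
      refine ⟨l, fun i => ?_, fun m hm => ?_⟩
      · induction i using Fin.cases with
        | zero => rw [p0, hl₂]
        | succ i => rw [ps, ← Category.assoc, hl₁, hg i]
      · apply (yon S).map_injective
        apply sq.hom_ext <;> rw [← Functor.map_comp, ← Functor.map_comp] <;> congr 1
        · rw [hl₁]
          refine hgu _ fun i => ?_
          rw [Category.assoc, ← ps]; exact hm i.succ
        · rw [hl₂, ← p0]; exact hm 0

/-- The fibre product of a nonempty finite family of charts. -/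
theorem exists_famPow (hF : IsAlgSpace F) {U : Over S} [IsSeparated U.hom] {ι : Type u} [Finite ι] (i₀ : ι)
    (q : ι → ((yon S).obj U ⟶ F)) (hq : ∀ i, RepWith @Etale (q i)) :
    ∃ (V : Over S) (pr : ι → (V ⟶ U)),
      (∀ i, (yon S).map (pr i) ≫ q i = (yon S).map (pr i₀) ≫ q i₀) ∧
      (∀ (T : Over S) (f : ι → (T ⟶ U)),
        (∀ i, (yon S).map (f i) ≫ q i = (yon S).map (f i₀) ≫ q i₀) → ∃! g : T ⟶ V, ∀ i, g ≫ pr i = f i) ∧
      ∃ i₁, Etale (pr i₁).left ∧ IsSeparated (pr i₁).left := by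
  have : Nonempty ι := ⟨i₀⟩
  obtain ⟨n, hn⟩ : ∃ n, Nat.card ι = n + 1 := Nat.exists_eq_succ_of_ne_zero Nat.card_pos.ne'
  obtain ⟨e⟩ : Nonempty (ι ≃ Fin (n + 1)) := ⟨hn ▸ Finite.equivFin ι⟩
  obtain ⟨V, pr, he, hu, het, hsep⟩ := exists_famPow_fin hF n (fun j => q (e.symm j)) fun j => hq _
  have key : ∀ i, (yon S).map (pr (e i)) ≫ q i = (yon S).map (pr 0) ≫ q (e.symm 0) := fun i => by
    have h := he (e i)
    rwa [e.symm_apply_apply] at h
  refine ⟨V, fun i => pr (e i), fun i => (key i).trans (key i₀).symm, fun T f hf => ?_, e.symm 0, ?_, ?_⟩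
  · obtain ⟨g, hg, hgu⟩ := hu T (fun j => f (e.symm j)) fun j => (hf (e.symm j)).trans (hf (e.symm 0)).symm
    refine ⟨g, fun i => (hg (e i)).trans (congrArg f (e.symm_apply_apply i)), fun g' hg' => hgu g' fun j => ?_⟩
    rw [← hg' (e.symm j)]
    exact congrArg (fun x => g' ≫ pr x) (e.apply_symm_apply j).symm
  · show Etale (pr (e (e.symm 0))).left
    rw [e.apply_symm_apply]; exact het
  · show IsSeparated (pr (e (e.symm 0))).left
    rw [e.apply_symm_apply]; exact hsep

end Groth.Agent.AlgSt88
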