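import Groth.Agent.AlgSt88.FieldStackPt
import Groth.Agent.AlgSt88.PowDatum
import Groth.Agent.AlgSt88.TwistFibPow
import Groth.Agent.AlgSt88.SmoothLoc

/-!
A point of an algebraic stack with values in a field lifts to an affine smooth chart.
-/

set_option autoImplicit false
set_option maxHeartbeats 1000000
set_option linter.style.haveILetI false
set_option backward.isDefEq.respectTransparency false
set_option backward.isDefEq.respectTransparency.types false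
universe u

open CategoryTheory CategoryTheory.Limits AlgebraicGeometry Opposite AlgSt FibCat
open Groth.Agent.SpPts86 (openOver openIncl)

namespace Groth.Agent.AlgSt88

variable {S : Scheme.{u}} {𝒵 : AlgSt.Cat S}

/-- The section of a presheaf given by a map out of a representable. -/
abbrev eltOf {T : Over S} {R : AlgSp.Sp S} (φ : (AlgSp.yon S).obj T ⟶ R) : R.obj.obj (op T) :=
  φ.hom.app (op T) ⟨𝟙 T⟩

theorem eltOf_comp {T T' : Over S} {R : AlgSp.Sp S} (f : T' ⟶ T) (φ : (AlgSp.yon S).obj T ⟶ R) :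
    eltOf ((AlgSp.yon S).map f ≫ φ) = R.obj.map f.op (eltOf φ) := by
  refine Eq.trans ?_ (NatTrans.naturality_apply φ.hom f.op (⟨𝟙 T⟩ : ULift.{u + 1} (T ⟶ T)))
  exact congrArg (φ.hom.app (op T')) (ULift.ext _ _ ((Category.id_comp f).trans (Category.comp_id f).symm))

theorem eltOf_ext {T : Over S} {R : AlgSp.Sp S} {φ ψ : (AlgSp.yon S).obj T ⟶ R} (h : eltOf φ = eltOf ψ) : φ = ψ :=
  ObjectProperty.hom_ext _ (uliftYonedaEquiv.{u + 1}.injective h)

theorem exists_eltOf {T : Over S} {R : AlgSp.Sp S} (x : R.obj.obj (op T)) :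
    ∃ φ : (AlgSp.yon S).obj T ⟶ R, eltOf φ = x :=
  ⟨ObjectProperty.homMk (uliftYonedaEquiv.{u + 1}.symm x), uliftYonedaEquiv.{u + 1}.apply_symm_apply x⟩

/-- An equivariant tuple from isomorphisms to an object of the base. -/
theorem exists_equivariant_tuple (hZ : IsFibGrpd 𝒵.p) {U T T' : Over S} {w : overCat U ⥤ᵇ 𝒵} {Γ : Type u}
    [Group Γ] (ρ : Γ →* Aut T') (m : T' ⟶ T) (hm : ∀ g, (ρ g).hom ≫ m = m) (a : T' ⟶ U) {x₀ : 𝒵.obj}
    (β : wObj w a ⟶ x₀) [𝒵.p.IsHomLift m β] :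
    ∃ (x : PowPt w Γ T') (βi : ∀ i, wObj w (x.u i) ⟶ x₀), (∀ i, x.u i = (ρ i).hom ≫ a) ∧
      (∀ i, 𝒵.p.IsHomLift m (βi i)) ∧ (∀ i j, x.α i j ≫ βi j = βi i) ∧
      (∀ g, PowPt.Rel (ρ g).hom (x.reindex (· * g)) x) ∧
      ∀ (g i : Γ) (e : (ρ g).hom ≫ x.u i = x.u (i * g)), wRes w (ρ g).hom e ≫ βi i = βi (i * g) := by
  let b : ∀ i, wObj w ((ρ i).hom ≫ a) ⟶ x₀ := fun i => wRes w (ρ i).hom rfl ≫ β
  have hb : ∀ i, 𝒵.p.IsHomLift m (b i) := fun i => by
    have : 𝒵.p.IsHomLift ((ρ i).hom ≫ m) (b i) :=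
      inferInstanceAs (𝒵.p.IsHomLift ((ρ i).hom ≫ m) (wRes w (ρ i).hom rfl ≫ β))
    exact isHomLift_congr (hm i) _
  obtain ⟨z, ψ, hψ⟩ := Fib44.exists_lift' 𝒵.p hZ (IsHomLift.codomain_eq 𝒵.p m β) m
  have := Fib44.isSC_of_fibGrpd 𝒵.p hZ m ψ
  let b' : ∀ i, wObj w ((ρ i).hom ≫ a) ⟶ z := fun i =>
    have := hb i
    Functor.IsCartesian.map 𝒵.p m ψ (b i)
  have hb' : ∀ i, 𝒵.p.IsHomLift (𝟙 T') (b' i) := fun i =>
    have := hb i
    Functor.IsCartesian.map_isHomLift 𝒵.p m ψ (b i)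
  have hbf : ∀ i, b' i ≫ ψ = b i := fun i =>
    have := hb i
    Functor.IsCartesian.fac 𝒵.p m ψ (b i)
  obtain ⟨α, hα, hαc, hαb⟩ := PowPt.exists_of_base hZ (fun i => (ρ i).hom ≫ a) b' hb'
  have hab : ∀ i j, α i j ≫ b j = b i := fun i j => by rw [← hbf, ← hbf, ← Category.assoc, hαb]
  have hres : ∀ (g i : Γ) (e : (ρ g).hom ≫ (ρ i).hom ≫ a = (ρ (i * g)).hom ≫ a),
      wRes w (ρ g).hom e ≫ b i = b (i * g) := fun g i e => by
    have e' : ((ρ g).hom ≫ (ρ i).hom) ≫ a = (ρ (i * g)).hom ≫ a := by rw [Category.assoc, e]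
    show wRes w (ρ g).hom e ≫ wRes w (ρ i).hom rfl ≫ β = wRes w (ρ (i * g)).hom rfl ≫ β
    rw [← Category.assoc, wRes_comp w _ _ e rfl e']
    congr 1
    exact congrArg w.map (Over.OverMorphism.ext (hom_mul ρ i g))
  refine ⟨⟨fun i => (ρ i).hom ≫ a, α, hα, hαc⟩, b, fun _ => rfl, hb, hab, fun g => ?_, hres⟩
  have hu : ∀ i, (ρ g).hom ≫ (ρ i).hom ≫ a = (ρ (i * g)).hom ≫ a := fun i => by
    rw [← Category.assoc, hom_mul]
  refine ⟨hu, fun i j => ?_⟩
  show α (i * g) (j * g) ≫ wRes w (ρ g).hom (hu j) = wRes w (ρ g).hom (hu i) ≫ α i j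
  have := hb j
  have := hα i j
  have := hα (i * g) (j * g)
  have := Fib44.isSC_of_fibGrpd 𝒵.p hZ m (b j)
  have h₁ : 𝒵.p.IsHomLift (ρ g).hom (α (i * g) (j * g) ≫ wRes w (ρ g).hom (hu j)) := by
    have : 𝒵.p.IsHomLift (𝟙 T' ≫ (ρ g).hom) (α (i * g) (j * g) ≫ wRes w (ρ g).hom (hu j)) := inferInstance
    exact isHomLift_congr (Category.id_comp _) _
  have h₂ : 𝒵.p.IsHomLift (ρ g).hom (wRes w (ρ g).hom (hu i) ≫ α i j) := by
    have : 𝒵.p.IsHomLift ((ρ g).hom ≫ 𝟙 T') (wRes w (ρ g).hom (hu i) ≫ α i j) := inferInstance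
    exact isHomLift_congr (Category.comp_id _) _
  apply Functor.IsStronglyCartesian.ext 𝒵.p m (b j) (ρ g).hom
  rw [Category.assoc, Category.assoc, hres, hab, hab, hres]

/-- A field-valued point of a stack lifts to an affine smooth chart. -/
theorem exists_affine_chart_stack_fieldPoint {K : Precoverage Scheme.{u}}
    (hK : QuotSh.J Scheme.etalePrecoverage S ≤ QuotSh.J K S) (h𝒵 : IsAlgStack K 𝒵)
    {k : Type u} [Field k] {sk : Spec (CommRingCat.of k) ⟶ S} (x : overCat (Over.mk sk) ⥤ᵇ 𝒵) :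
    ∃ (Z : Over S) (_ : IsAffine Z.left) (p : overCat Z ⥤ᵇ 𝒵) (u : Over.mk sk ⟶ Z),
      RepByAlgSpWith (AlgSp.LocP @Smooth) p ∧ Nonempty (BasedFunctor.comp (AlgSt.overMap u) p ≅ x) := by
  classical
  have hst := h𝒵.isStack
  have hZ : IsFibGrpd 𝒵.p := hst.1
  obtain ⟨L, _, _, _, _, U, hU, w, a, β, hw, hβ, hinj⟩ := exists_galois_point hZ h𝒵.atlas x
  let T : Over S := Over.mk sk
  let TL : Over S := fieldOver k L sk
  let x₀ : 𝒵.obj := x.obj (Fib44.idObj T)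
  let ρL := fieldAct k L sk
  let Γ : Type u := L ≃ₐ[k] L
  have hρL : ∀ g : Γ, (ρL g).hom = fieldConj k L sk g := fun g => rfl
  have hgalL := galCover_field k L (QuotSh.J Scheme.etalePrecoverage S) le_rfl sk
  obtain ⟨ω, βω, hωu, hβω, hωβ, hωrel, hωres⟩ :=
    exists_equivariant_tuple hZ ρL (fieldMap k L sk) hgalL.inv a β
  obtain ⟨hsR, haR, hpR⟩ := goodPow_finite hZ hw Γ 1
  let R : AlgSp.Sp S := ⟨powPsh w hZ Γ, hsR⟩
  let proj : Γ → (R ⟶ (AlgSp.yon S).obj U) := fun i => ObjectProperty.homMk (powProj hZ i)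
  let re : Γ → (R ⟶ R) := fun g => ObjectProperty.homMk (powReindex hZ (· * g))
  have re_comp : ∀ g g', re g ≫ re g' = re (g' * g) := fun g g' => by
    refine ObjectProperty.hom_ext _ ?_
    ext X y
    exact congrArg (fun f => PowPt.reindex f (y : PowPt w Γ (unop X))) (funext fun i => mul_assoc i g' g)
  have re_one : re 1 = 𝟙 R := by
    refine ObjectProperty.hom_ext _ ?_
    ext X y
    exact reindex_eq_self _ (fun i => mul_one i) (y : PowPt w Γ (unop X))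
  have re_iso : ∀ g, IsIso (re g) := fun g =>
    ⟨re g⁻¹, by rw [re_comp, inv_mul_cancel, re_one], by rw [re_comp, mul_inv_cancel, re_one]⟩
  obtain ⟨ωh, hωh⟩ := exists_eltOf (R := R) (T := TL) (ω : PowPt w Γ TL)
  have hconj : ∀ g, (AlgSp.yon S).map (ρL g).hom ≫ ωh = ωh ≫ re g := fun g => by
    refine eltOf_ext ?_
    rw [eltOf_comp, hωh]
    refine (powPsh_map_eq hZ _ (hωrel g)).trans ?_
    exact (congrArg (fun y => PowPt.reindex (· * g) (y : PowPt w Γ TL)) hωh).symm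
  obtain ⟨C, q, c, hC, hq, hc⟩ := exists_affine_chart_fieldPoint (F := R) haR ωh
  haveI : IsSeparated C.hom :=
    have : IsSeparated (C.hom ≫ terminal.from S) := by
      rw [terminal.comp_from]; infer_instance
    IsSeparated.of_comp C.hom (terminal.from S)
  have hqg : ∀ g, AlgSp.RepWith @Etale (q ≫ re g) := fun g =>
    have := re_iso g
    MorphismProperty.RespectsIso.postcomp (AlgSp.RepWith @Etale) (re g) q hq
  obtain ⟨V, pr, hprq, hVu, i₁, het, hsep⟩ := exists_famPow haR (1 : Γ) (fun g => q ≫ re g) hqg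
  let η : (AlgSp.yon S).obj V ⟶ R := (AlgSp.yon S).map (pr i₁) ≫ q ≫ re i₁
  have hpr : ∀ i, (AlgSp.yon S).map (pr i) ≫ q ≫ re i = η := fun i => (hprq i).trans (hprq i₁).symm
  have hcex : ∀ g : Γ, ∃ cg : V ⟶ V, ∀ i, cg ≫ pr i = pr (g⁻¹ * i) := fun g => by
    have key : ∀ i, (AlgSp.yon S).map (pr (g⁻¹ * i)) ≫ q ≫ re i = η ≫ re g := fun i => by
      rw [← hpr (g⁻¹ * i), Category.assoc, Category.assoc, re_comp, mul_inv_cancel_left]
    obtain ⟨cg, hcg, -⟩ := hVu V (fun i => pr (g⁻¹ * i)) fun i => (key i).trans (key 1).symm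
    exact ⟨cg, hcg⟩
  choose cV hcV using hcex
  have Vext : ∀ {X : Over S} {f f' : X ⟶ V}, (∀ i, f ≫ pr i = f' ≫ pr i) → f = f' := fun {X f f'} h =>
    (hVu X (fun i => f' ≫ pr i) fun i => by
      rw [Functor.map_comp, Functor.map_comp, Category.assoc, Category.assoc, hprq i]).unique h fun i => rfl
  have cV_mul : ∀ g g', cV g' ≫ cV g = cV (g * g') := fun g g' => Vext fun i => by
    rw [Category.assoc, hcV, hcV, hcV, mul_inv_rev, mul_assoc]
  have cV_one : cV 1 = 𝟙 V := Vext fun i => by rw [hcV, inv_one, one_mul, Category.id_comp]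
  let ρV : Γ →* Aut V := MonoidHom.mk' (fun g => ⟨cV g, cV g⁻¹,
      by rw [cV_mul, inv_mul_cancel, cV_one], by rw [cV_mul, mul_inv_cancel, cV_one]⟩)
    fun g g' => Iso.ext (cV_mul g g').symm
  have hη : ∀ g, (AlgSp.yon S).map (cV g) ≫ η = η ≫ re g := fun g => by
    show (AlgSp.yon S).map (cV g) ≫ (AlgSp.yon S).map (pr i₁) ≫ q ≫ re i₁ = _
    rw [← Functor.map_comp_assoc, hcV, ← hpr (g⁻¹ * i₁), Category.assoc, Category.assoc, re_comp,
      mul_inv_cancel_left]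
  have hptq : ∀ i : Γ, (AlgSp.yon S).map ((ρL i⁻¹).hom ≫ c) ≫ q ≫ re i = ωh := fun i => by
    rw [Functor.map_comp, Category.assoc, ← Category.assoc ((AlgSp.yon S).map c), hc, ← Category.assoc, hconj,
      Category.assoc, re_comp, mul_inv_cancel, re_one, Category.comp_id]
  obtain ⟨pt, hpt, -⟩ := hVu TL (fun i => (ρL i⁻¹).hom ≫ c) fun i => (hptq i).trans (hptq 1).symm
  have hptη : (AlgSp.yon S).map pt ≫ η = ωh := by
    show (AlgSp.yon S).map pt ≫ (AlgSp.yon S).map (pr i₁) ≫ q ≫ re i₁ = _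
    rw [← Functor.map_comp_assoc, hpt, hptq]
  have hpteq : ∀ g, (ρL g).hom ≫ pt = pt ≫ cV g := fun g => Vext fun i => by
    rw [Category.assoc, hpt, Category.assoc, hcV, hpt, ← Category.assoc, hom_mul, mul_inv_rev, inv_inv]
  haveI : IsSeparated (pr i₁).left := hsep
  haveI : Etale (pr i₁).left := het
  haveI : IsSeparated V.hom := by rw [← Over.w (pr i₁)]; infer_instance
  obtain ⟨W, ρW, hρW, hfree, hin⟩ := exists_free_locus ρV
  have hfix : ∀ g : Γ, g ≠ 1 → pt ≫ (ρV g).hom ≠ pt := fun g hg e => hg (hinj g (by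
    have e1 : (AlgSp.yon S).map (ρL g).hom ≫ ωh = ωh := by
      rw [← hptη, ← Functor.map_comp_assoc, hpteq]
      exact congrArg (fun t => (AlgSp.yon S).map t ≫ η) e
    have e2 : ω.reindex (· * g) = ω := by
      have h := congrArg eltOf ((hconj g).symm.trans e1)
      rw [show eltOf (ωh ≫ re g) = (re g).hom.app (op TL) (eltOf ωh) from rfl, hωh] at h
      exact h
    have e3 : ω.u (1 * g) = ω.u 1 := congrArg (fun y : PowPt w Γ TL => y.u 1) e2
    rw [hωu, hωu, one_mul, map_one] at e3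
    exact e3.trans (Category.id_comp a)))
  have hrange : Set.range pt.left ⊆ Set.range W.ι := by
    rintro _ ⟨y, rfl⟩
    rw [W.range_ι, show y = IsLocalRing.closedPoint L from Subsingleton.elim (α := PrimeSpectrum L) _ _]
    exact hin L _ pt hfix
  let W' : Over S := openOver V W
  let j : W' ⟶ V := openIncl V W
  haveI hjm : Mono j := (Over.forget S).mono_of_mono_map (inferInstanceAs (Mono W.ι))
  let cW : TL ⟶ W' := Over.homMk (IsOpenImmersion.lift W.ι pt.left hrange) (by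
    change _ ≫ W.ι ≫ V.hom = _
    rw [IsOpenImmersion.lift_fac_assoc]; exact Over.w pt)
  have hcW : cW ≫ j = pt := Over.OverMorphism.ext (IsOpenImmersion.lift_fac _ _ _)
  have hcWeq : ∀ g, (ρL g).hom ≫ cW = cW ≫ (ρW g).hom := fun g => by
    rw [← cancel_mono j, Category.assoc, hcW, Category.assoc, hρW, hpteq, ← Category.assoc, hcW]
    rfl
  have hWA : ∀ A : Set ↥W'.left, A.Finite →
      ∃ V' : W'.left.Opens, IsAffineOpen V' ∧ A ⊆ (V' : Set ↥W'.left) := fun A hA => by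
    haveI : LocallyQuasiFinite (W.ι ≫ (pr i₁).left) := SpFP87.etale_locallyQuasiFinite _ inferInstance
    exact Grpd80.exists_affine_of_lqf (W.ι ≫ (pr i₁).left) hA
  obtain ⟨M, m, hme, hms, hgal⟩ :=
    exists_galCover_quot (QuotSh.J Scheme.etalePrecoverage S) le_rfl ρW hfree hWA
  let φW : (AlgSp.yon S).obj W' ⟶ R := (AlgSp.yon S).map j ≫ η
  let xW : PowPt w Γ W' := eltOf φW
  have hWrel : ∀ g, PowPt.Rel (ρW g).hom (xW.reindex (· * g)) xW := fun g => by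
    have e : (AlgSp.yon S).map (ρW g).hom ≫ φW = φW ≫ re g := by
      show _ ≫ (AlgSp.yon S).map j ≫ η = ((AlgSp.yon S).map j ≫ η) ≫ re g
      rw [← Functor.map_comp_assoc, hρW, Functor.map_comp, Category.assoc, Category.assoc]
      exact congrArg ((AlgSp.yon S).map j ≫ ·) (hη g)
    have h := powPsh_map_rel hZ (ρW g).hom xW
    have h' : ((powPsh w hZ Γ).map (ρW g).hom.op xW : PowPt w Γ W') = xW.reindex (· * g) :=
      (eltOf_comp (ρW g).hom φW).symm.trans (congrArg eltOf e)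
    rwa [h'] at h
  have hcrel : PowPt.Rel cW ω xW := by
    have e : (AlgSp.yon S).map cW ≫ φW = ωh := by
      show _ ≫ (AlgSp.yon S).map j ≫ η = _
      rw [← Functor.map_comp_assoc, hcW, hptη]
    have h := powPsh_map_rel hZ cW xW
    have h' : ((powPsh w hZ Γ).map cW.op xW : PowPt w Γ TL) = ω :=
      ((eltOf_comp cW φW).symm.trans (congrArg eltOf e)).trans hωh
    rwa [h'] at h
  let aW : W' ⟶ U := xW.u 1
  have haW : (AlgSp.yon S).map aW = φW ≫ proj 1 :=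
    eltOf_ext (ULift.ext _ _ (Category.id_comp aW))
  have hsmaW : Smooth aW.left := by
    have hφ : AlgSp.RepWith @Etale φW := by
      have : Etale (j ≫ pr i₁).left := inferInstanceAs (Etale (W.ι ≫ (pr i₁).left))
      have e : φW = (AlgSp.yon S).map (j ≫ pr i₁) ≫ q ≫ re i₁ := by
        rw [Functor.map_comp, Category.assoc]
      rw [e]
      exact SpPts86.repWith_etale_comp _ (hqg i₁)
    exact smooth_left_comp (F := ⟨R, haR⟩) hφ (hpR 1) haW
  let D := powDatum ρW xW hWrel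
  have hgK := hgal.mono hK
  obtain ⟨z₀, e, he, hee⟩ := GalDatum.exists_descent (D := D) hst hgK (Fib44.obj_over w (Over.mk aW : Over U))
  have hz₀ : 𝒵.p.obj z₀ = M := IsHomLift.codomain_eq 𝒵.p m e
  let p : overCat M ⥤ᵇ 𝒵 := classify hZ z₀ hz₀
  obtain ⟨ε, hε⟩ := classify_mk_id hZ z₀ hz₀
  haveI := hε
  have hsmp : Sm p := by
    haveI : Smooth m.left := haveI := hme; inferInstance
    refine sm_of_sm_comp hZ h𝒵.diag m inferInstance hms p ?_
    let φ₁ : p.obj (Over.mk (𝟙 W' ≫ m) : Over M) ⟶ z₀ :=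
      p.map (Fib44.toId (Over.mk (𝟙 W' ≫ m))) ≫ ε.hom
    have h1 : (𝟙 W') ≫ xW.u 1 = 𝟙 W' ≫ aW := rfl
    let φ₂ : w.obj (Over.mk (𝟙 W' ≫ aW) : Over U) ⟶ z₀ := wRes w (𝟙 W') h1 ≫ e
    haveI hφ₁ : 𝒵.p.IsHomLift (𝟙 W' ≫ m) φ₁ := by
      haveI h₁ : 𝒵.p.IsHomLift (𝟙 W' ≫ m) (p.map (Fib44.toId (Over.mk (𝟙 W' ≫ m)))) :=
        Fib44.isHomLift_toId p (Over.mk (𝟙 W' ≫ m) : Over M)
      have : 𝒵.p.IsHomLift ((𝟙 W' ≫ m) ≫ 𝟙 M) φ₁ :=
        inferInstanceAs (𝒵.p.IsHomLift ((𝟙 W' ≫ m) ≫ 𝟙 M) (p.map (Fib44.toId (Over.mk (𝟙 W' ≫ m))) ≫ ε.hom))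
      exact isHomLift_congr (Category.comp_id _) _
    haveI hφ₂ : 𝒵.p.IsHomLift (𝟙 W' ≫ m) φ₂ :=
      haveI : 𝒵.p.IsHomLift m (e : wObj w (xW.u 1) ⟶ z₀) := he
      inferInstanceAs (𝒵.p.IsHomLift (𝟙 W' ≫ m) (wRes w (𝟙 W') h1 ≫ (e : wObj w (xW.u 1) ⟶ z₀)))
    obtain ⟨i, hi, -⟩ := exists_iso_of_lifts hZ (𝟙 W' ≫ m) φ₂ φ₁
    obtain ⟨ι⟩ := nonempty_iso_of_app_id hZ (y := BasedFunctor.comp (overMap aW) w)
      (y' := BasedFunctor.comp (overMap m) p) i hi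
    exact repByAlgSpWith_of_iso ι (sm_comp_overMap hZ aW hsmaW hw)
  have hinv : ∀ g, (ρL g).hom ≫ cW ≫ m = cW ≫ m := fun g => by
    rw [← Category.assoc, hcWeq, Category.assoc, hgal.inv]
  haveI : Etale (fieldMap k L sk).left := by
    have : Algebra.FormallyEtale k L := Algebra.FormallyEtale.of_isSeparable k L
    have : Algebra.FinitePresentation k L :=
      Algebra.FinitePresentation.of_finiteType.1 inferInstance
    have : Algebra.Etale k L := ⟨inferInstance, inferInstance⟩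
    exact (HasRingHomProperty.Spec_iff (P := @Etale)).2 (RingHom.etale_algebraMap.2 inferInstance)
  have hfm : SpFP87.fppfSurj (fieldMap k L sk).left :=
    (SpFP87.fppfSurj_iff _).2 ⟨⟨fun t => ⟨IsLocalRing.closedPoint L,
      Subsingleton.elim (α := PrimeSpectrum k) _ _⟩⟩, inferInstance, inferInstance⟩
  obtain ⟨uu, huu, -⟩ := SpPts86.existsUnique_descend_elem ((AlgSp.yon S).obj M).property (fieldMap k L sk) hfm
    (⟨cW ≫ m⟩ : ULift.{u + 1} (TL ⟶ M)) fun {X} p₁ p₂ h => by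
      obtain ⟨Q, hQ, hQg⟩ := hgalL.pairs p₁ p₂ h
      refine (((isSheaf_iff_isSheaf_of_type _ _).1
        (SpPts86.isSheaf_etale ((AlgSp.yon S).obj M))) Q hQ).isSeparatedFor.ext fun X' f hf => ?_
      obtain ⟨g, hg⟩ := hQg f hf
      refine ULift.ext _ _ ?_
      show f ≫ p₁ ≫ cW ≫ m = f ≫ p₂ ≫ cW ≫ m
      rw [← Category.assoc f p₂, ← hg, Category.assoc, Category.assoc]
      exact (congrArg (fun t => f ≫ p₁ ≫ t) (hinv g)).symm
  let u : T ⟶ M := (uu : ULift.{u + 1} (T ⟶ M)).down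
  have hu : fieldMap k L sk ≫ u = cW ≫ m := congrArg ULift.down huu
  let DL := powDatum ρL ω hωrel
  have hx₀ : 𝒵.p.obj x₀ = T := Fib44.obj_idObj x
  have hinvL : ∀ g, DL.act g ≫ βω 1 = βω 1 := fun g => by
    show (ω.α 1 (1 * g) ≫ wRes w (ρL g).hom ((hωrel g).choose 1)) ≫ βω 1 = βω 1
    rw [Category.assoc]
    exact (congrArg (ω.α 1 (1 * g) ≫ ·) (hωres g 1 ((hωrel g).choose 1))).trans (hωβ 1 (1 * g))
  obtain ⟨zk, ψk, hψk⟩ := Fib44.exists_lift' 𝒵.p hZ hz₀ u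
  haveI := Fib44.isSC_of_fibGrpd 𝒵.p hZ u ψk
  haveI : 𝒵.p.IsHomLift m (e : wObj w (xW.u 1) ⟶ z₀) := he
  let f₀ : wObj w (ω.u 1) ⟶ z₀ := wRes w cW (hcrel.choose 1) ≫ (e : wObj w (xW.u 1) ⟶ z₀)
  haveI hf₀ : 𝒵.p.IsHomLift (fieldMap k L sk ≫ u) f₀ := by
    rw [hu]
    exact inferInstanceAs (𝒵.p.IsHomLift (cW ≫ m) (wRes w cW (hcrel.choose 1) ≫ (e : wObj w (xW.u 1) ⟶ z₀)))
  let e' : DL.obj ⟶ zk := Functor.IsStronglyCartesian.map 𝒵.p u ψk (g := fieldMap k L sk) rfl f₀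
  haveI he' : 𝒵.p.IsHomLift (fieldMap k L sk) e' :=
    Functor.IsStronglyCartesian.map_isHomLift 𝒵.p u ψk (g := fieldMap k L sk) rfl f₀
  have hef : e' ≫ ψk = f₀ := Functor.IsStronglyCartesian.fac 𝒵.p u ψk (g := fieldMap k L sk) rfl f₀
  have hinv' : ∀ g, DL.act g ≫ e' = e' := fun g => by
    haveI := DL.lift g
    have : 𝒵.p.IsHomLift ((ρL g).hom ≫ fieldMap k L sk) (DL.act g ≫ e') := inferInstance
    haveI : 𝒵.p.IsHomLift (fieldMap k L sk) (DL.act g ≫ e') := isHomLift_congr (hgalL.inv g) _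
    apply Functor.IsStronglyCartesian.ext 𝒵.p u ψk (fieldMap k L sk)
    rw [Category.assoc, hef]
    have h := powDatum_act_res ρW ρL xW ω hWrel hωrel cW hcrel hcWeq g
    show DL.act g ≫ wRes w cW (hcrel.choose 1) ≫ (e : wObj w (xW.u 1) ⟶ z₀) = f₀
    rw [← Category.assoc]
    refine (congrArg (· ≫ (e : wObj w (xW.u 1) ⟶ z₀)) h).trans ?_
    rw [Category.assoc]
    exact congrArg (wRes w cW (hcrel.choose 1) ≫ ·) (hee g)
  haveI : 𝒵.p.IsHomLift (fieldMap k L sk) (βω 1 : DL.obj ⟶ x₀) := hβω 1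
  obtain ⟨χ, hχ, -⟩ := GalDatum.exists_hom_descent (D := DL) hst (hgalL.mono hK)
    (βω 1 : DL.obj ⟶ x₀) e' hinvL hinv'
  obtain ⟨O, hO, hpO, -⟩ := exists_isAffineOpen_mem_and_subset
    (x := u.left (IsLocalRing.closedPoint k)) (U := ⊤) trivial
  have hrg : Set.range u.left ⊆ Set.range O.ι := by
    rintro _ ⟨y, rfl⟩
    rw [O.range_ι, show y = IsLocalRing.closedPoint k from Subsingleton.elim (α := PrimeSpectrum k) _ _]
    exact hpO
  let u' : T ⟶ openOver M O := Over.homMk (IsOpenImmersion.lift O.ι u.left hrg) (by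
    change _ ≫ O.ι ≫ M.hom = _
    rw [IsOpenImmersion.lift_fac_assoc]; exact Over.w u)
  have hu' : u' ≫ openIncl M O = u := Over.OverMorphism.ext (IsOpenImmersion.lift_fac _ _ _)
  have hsmO : Smooth (openIncl M O).left := inferInstanceAs (Smooth O.ι)
  refine ⟨openOver M O, hO, BasedFunctor.comp (overMap (openIncl M O)) p, u',
    sm_comp_overMap hZ _ hsmO hsmp, ?_⟩
  let b : T ⟶ M := (𝟙 T ≫ u') ≫ openIncl M O
  have hb : b = u := by show (𝟙 T ≫ u') ≫ openIncl M O = u; rw [Category.id_comp, hu']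
  let φ : p.obj (Over.mk b : Over M) ⟶ z₀ := p.map (Fib44.toId (Over.mk b)) ≫ ε.hom
  haveI hφ : 𝒵.p.IsHomLift u φ := by
    haveI h₁ : 𝒵.p.IsHomLift b (p.map (Fib44.toId (Over.mk b))) := Fib44.isHomLift_toId p (Over.mk b : Over M)
    have : 𝒵.p.IsHomLift (b ≫ 𝟙 M) φ :=
      inferInstanceAs (𝒵.p.IsHomLift (b ≫ 𝟙 M) (p.map (Fib44.toId (Over.mk b)) ≫ ε.hom))
    exact isHomLift_congr ((Category.comp_id _).trans hb) _
  obtain ⟨i, hi, -⟩ := exists_iso_of_lifts hZ u φ ψk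
  haveI := Fib44.isIso_of_fibGrpd 𝒵.p hZ (𝟙 T) χ
  haveI := hi
  haveI : 𝒵.p.IsHomLift (𝟙 T) (inv χ) := inferInstance
  exact nonempty_iso_of_app_id hZ
    (y := BasedFunctor.comp (overMap u') (BasedFunctor.comp (overMap (openIncl M O)) p)) (y' := x)
    (i ≪≫ (asIso χ).symm) (inferInstanceAs (𝒵.p.IsHomLift (𝟙 T) (i.hom ≫ inv χ)))

end Groth.Agent.AlgSt88
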