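import Groth.Agent.AlgSt88.HenselStLift
import Groth.Agent.AlgSt88.SmoothQuotLift
import Groth.Agent.AlgSt88.StackFieldChart
import Groth.Agent.AlgSt88.HenselSmallCharts
import Groth.Agent.AlgSt88.SpQProps
import Groth.Agent.AlgSt88.ValWitness
import Groth.Agent.AlgSt88.DenseLiftSt
import Groth.Agent.AlgSt88.PLocus
import Mathlib.RingTheory.Henselian
import Mathlib.RingTheory.Artinian.Ring

/-! Lifting along smooth representable morphisms of stacks over Artinian local rings. -/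

set_option autoImplicit false
set_option maxHeartbeats 1000000
set_option linter.style.haveILetI false
set_option linter.unusedVariables false
set_option backward.isDefEq.respectTransparency false
set_option backward.isDefEq.respectTransparency.types false
universe u

open CategoryTheory CategoryTheory.Limits AlgebraicGeometry Opposite AlgSt FibCat

namespace Groth.Agent.AlgSt88

variable {S : Scheme.{u}} {𝒳 𝒴 𝒵 𝒲 : AlgSt.Cat S}

theorem henselianLocalRing_of_artinian (A : Type u) [CommRing A] [IsArtinianRing A] [IsLocalRing A] :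
    HenselianLocalRing A where
  is_henselian f hf a₀ h₁ h₂ := HenselianRing.is_henselian f hf a₀ h₁ (h₂.map (Ideal.Quotient.mk _))

theorem ofOverCat_toOverCat (U : Over S) :
    Nonempty (BasedFunctor.comp (ofOverCat U) (toOverCat U) ≅ BasedFunctor.id (overCat U)) :=
  nonempty_iso_of_app_id (isFibGrpd_overCat U) (Iso.refl _) (IsHomLift.id rfl)

theorem overMap_id_iso (U : Over S) : Nonempty (overMap (𝟙 U) ≅ BasedFunctor.id (overCat U)) :=
  nonempty_iso_of_app_id (isFibGrpd_overCat U)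
    (Over.isoMk (Iso.refl _) (by
      show 𝟙 U ≫ 𝟙 U = 𝟙 U ≫ 𝟙 U
      rfl))
    (IsHomLift.of_fac' _ _ _ rfl rfl (by simp [FibCat.overCat]; rfl))

theorem overMap_ofOverCat {U V : Over S} (k : U ⟶ V) :
    Nonempty (BasedFunctor.comp (overMap k) (ofOverCat V) ≅
      BasedFunctor.comp (ofOverCat U) (ofSpMap ((AlgSp.yon S).map k))) := by
  obtain ⟨ι⟩ := overMap_iso k
  obtain ⟨ω⟩ := isEquivOver_toOverCat_ofOverCat V
  exact ⟨bRight ι.symm (ofOverCat V) ≪≫ bLeft (BasedFunctor.comp (ofOverCat U) (ofSpMap ((AlgSp.yon S).map k))) ω⟩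

/-- A smooth morphism of algebraic spaces to a local Artinian base lifts points of closed subschemes. -/
theorem exists_lift_smooth_space {A A₀ : Type u} [CommRing A] [IsArtinianRing A] [IsLocalRing A] [CommRing A₀]
    [Nontrivial A₀] (φ : A →+* A₀) (hφ : Function.Surjective φ) {sA : Spec (CommRingCat.of A) ⟶ S}
    (j : Over.mk (Spec.map (CommRingCat.ofHom φ) ≫ sA) ⟶ Over.mk sA) (hj : j.left = Spec.map (CommRingCat.ofHom φ))
    (F : AlgSp.Space S) (a : F.obj ⟶ (AlgSp.yon S).obj (Over.mk sA)) (ha : AlgSp.LocP @Smooth a)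
    (t₀ : (AlgSp.yon S).obj (Over.mk (Spec.map (CommRingCat.ofHom φ) ≫ sA)) ⟶ F.obj)
    (ht : t₀ ≫ a = (AlgSp.yon S).map j) :
    ∃ σ : (AlgSp.yon S).obj (Over.mk sA) ⟶ F.obj, σ ≫ a = 𝟙 _ ∧ (AlgSp.yon S).map j ≫ σ = t₀ := by
  haveI := henselianLocalRing_of_artinian A
  let T : Over S := Over.mk sA
  let I := RingHom.ker φ
  have hI : I ≠ ⊤ := RingHom.ker_ne_top φ
  let T₁ : Over S := Over.mk (Spec.map (CommRingCat.ofHom (Ideal.Quotient.mk I)) ≫ sA)
  let e := RingHom.quotientKerEquivOfSurjective hφ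
  let i := RingEquiv.toCommRingCatIso e
  have he : CommRingCat.ofHom (Ideal.Quotient.mk I) ≫ i.hom = CommRingCat.ofHom φ := by
    ext x; rfl
  let c : Over.mk (Spec.map (CommRingCat.ofHom φ) ≫ sA) ≅ T₁ :=
    Over.isoMk (Scheme.Spec.mapIso i.op) (by
      show Spec.map i.hom ≫ Spec.map _ ≫ sA = _
      rw [← Category.assoc, ← Spec.map_comp, he]
      rfl)
  have := small_fieldPoints F.property (Spec.map (CommRingCat.ofHom (IsLocalRing.residue A)) ≫ sA)
  obtain ⟨Z, P, hZ, hP, hl⟩ := exists_chart_quotient_points F.property sA (equivShrink.{u} _).symm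
  let W := SpPts86.sigmaOver Z
  obtain ⟨h, hh⟩ := (AlgSp.yon S).map_surjective (P ≫ a)
  have hsm : Smooth h.left := ha (b := 𝟙 _) (h := h) P hP (AlgSp.repWith_id _ T) (by rw [Category.comp_id, hh])
  obtain ⟨g₁, hg₁⟩ := hl I ((AlgSp.yon S).map c.inv ≫ t₀)
  have hg : g₁ ≫ h = c.inv ≫ j := (AlgSp.yon S).map_injective (by
    rw [Functor.map_comp, hh, ← Category.assoc, hg₁, Category.assoc, ht, ← Functor.map_comp])
  obtain ⟨u, hu, hu'⟩ := exists_section_of_smooth_quotient I hI h.left g₁.left (by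
    have := congrArg CommaMorphism.left hg
    change g₁.left ≫ h.left = c.inv.left ≫ j.left at this
    rw [hj] at this
    refine this.trans ?_
    show Spec.map i.inv ≫ Spec.map (CommRingCat.ofHom φ) = _
    rw [← Spec.map_comp, ← he, Category.assoc, Iso.hom_inv_id, Category.comp_id])
  let w : T ⟶ W := Over.homMk u (by
    show u ≫ W.hom = sA
    rw [← Over.w h, ← Category.assoc, hu]
    exact Category.id_comp _)
  refine ⟨(AlgSp.yon S).map w ≫ P, ?_, ?_⟩
  · rw [Category.assoc, ← hh, ← Functor.map_comp, show w ≫ h = 𝟙 T from Over.OverMorphism.ext hu,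
      CategoryTheory.Functor.map_id]
  · have hjw : j ≫ w = c.hom ≫ g₁ := Over.OverMorphism.ext (by
      show j.left ≫ u = Spec.map i.hom ≫ g₁.left
      rw [← hu', hj, ← Category.assoc, ← Spec.map_comp, he])
    rw [← Category.assoc, ← Functor.map_comp, hjw, Functor.map_comp, Category.assoc, hg₁, ← Category.assoc,
      ← Functor.map_comp, Iso.hom_inv_id, CategoryTheory.Functor.map_id, Category.id_comp]

/-- Lifting along a smooth representable morphism. -/
theorem exists_lift_of_sm {𝒰 : AlgSt.Cat S} {q : 𝒰 ⥤ᵇ 𝒴} (hq : Sm q) {A A₀ : Type u} [CommRing A]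
    [IsArtinianRing A] [IsLocalRing A] [CommRing A₀] [Nontrivial A₀] (φ : A →+* A₀) (hφ : Function.Surjective φ)
    {sA : Spec (CommRingCat.of A) ⟶ S} (j : Over.mk (Spec.map (CommRingCat.ofHom φ) ≫ sA) ⟶ Over.mk sA)
    (hj : j.left = Spec.map (CommRingCat.ofHom φ)) (y : overCat (Over.mk sA) ⥤ᵇ 𝒴)
    (L : overCat (Over.mk (Spec.map (CommRingCat.ofHom φ) ≫ sA)) ⥤ᵇ fp q y)
    (hL : Nonempty (BasedFunctor.comp L (fpSnd q y) ≅ overMap j)) :
    ∃ K : overCat (Over.mk sA) ⥤ᵇ fp q y, Nonempty (BasedFunctor.comp K (fpSnd q y) ≅ overMap (𝟙 (Over.mk sA))) ∧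
      Nonempty (BasedFunctor.comp (overMap j) K ≅ L) := by
  let T : Over S := Over.mk sA
  let T₀ : Over S := Over.mk (Spec.map (CommRingCat.ofHom φ) ≫ sA)
  obtain ⟨lam⟩ := hL
  obtain ⟨F, e, he, ha⟩ := hq T y
  let E : ofSp F.obj ⥤ᵇ fp q y := BasedFunctor.comp e (fpSwap y q)
  have hE : IsEquivOver E := isEquivOver_comp he isEquivOver_fpSwap
  obtain ⟨G, -, ⟨α₁⟩, ⟨β₁⟩⟩ := isEquivOver_inverse hE
  let D : ofSp F.obj ⥤ᵇ overCat T := BasedFunctor.comp E (fpSnd q y)
  let a := spMapOfOver D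
  have ha' : AlgSp.LocP @Smooth a := ha
  obtain ⟨γ⟩ := exists_hom_iso (BasedFunctor.comp D (ofOverCat T))
  rw [← spMapOfOver_eq] at γ
  obtain ⟨ω⟩ := ofOverCat_toOverCat T
  have γ' : D ≅ BasedFunctor.comp (ofSpMap a) (toOverCat T) :=
    (bLeft D ω).symm ≪≫ bRight γ (toOverCat T)
  let M₀ : ofSch T₀ ⥤ᵇ ofSp F.obj := BasedFunctor.comp (BasedFunctor.comp (toOverCat T₀) L) G
  obtain ⟨μ⟩ := exists_hom_iso M₀
  let t₀ := homOfBased M₀
  obtain ⟨ω₀⟩ := isEquivOver_toOverCat_ofOverCat T₀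
  have hE₀ : Nonempty (BasedFunctor.comp (ofSpMap t₀) E ≅ BasedFunctor.comp (toOverCat T₀) L) :=
    ⟨bRight μ.symm E ≪≫ bLeft (BasedFunctor.comp (toOverCat T₀) L) β₁⟩
  obtain ⟨ε₀⟩ := hE₀
  have ht : t₀ ≫ a = (AlgSp.yon S).map j := by
    obtain ⟨κ⟩ := overMap_ofOverCat j
    have h := homOfBased_congr (F := (AlgSp.yon S).obj T₀) (G := (AlgSp.yon S).obj T)
      (bRight (bRight ε₀ (fpSnd q y)) (ofOverCat T) ≪≫
        bLeft (toOverCat T₀) (bRight lam (ofOverCat T) ≪≫ κ) ≪≫ bRight ω₀ (ofSpMap ((AlgSp.yon S).map j)))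
    rw [show BasedFunctor.comp (BasedFunctor.comp (BasedFunctor.comp (ofSpMap t₀) E) (fpSnd q y)) (ofOverCat T) =
        BasedFunctor.comp (ofSpMap t₀) (BasedFunctor.comp D (ofOverCat T)) from rfl, homOfBased_comp,
      homOfBased_ofSpMap, ← spMapOfOver_eq] at h
    exact h.trans (homOfBased_ofSpMap _)
  obtain ⟨σ, hσ, hjσ⟩ := exists_lift_smooth_space φ hφ j hj F a ha' t₀ ht
  let K : overCat T ⥤ᵇ fp q y := BasedFunctor.comp (BasedFunctor.comp (ofOverCat T) (ofSpMap σ)) E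
  refine ⟨K, ?_, ?_⟩
  · obtain ⟨η⟩ := nonempty_ofSpMap_comp σ a
    obtain ⟨ι⟩ := overMap_iso (𝟙 T)
    rw [hσ] at η
    rw [CategoryTheory.Functor.map_id] at ι
    exact ⟨bLeft (BasedFunctor.comp (ofOverCat T) (ofSpMap σ)) γ' ≪≫
      bRight (bLeft (ofOverCat T) η.symm) (toOverCat T) ≪≫ ι⟩
  · obtain ⟨κ⟩ := overMap_ofOverCat j
    obtain ⟨η⟩ := nonempty_ofSpMap_comp ((AlgSp.yon S).map j) σ
    rw [hjσ] at η
    obtain ⟨ω'⟩ := ofOverCat_toOverCat T₀
    exact ⟨bRight (bRight κ (ofSpMap σ) ≪≫ bLeft (ofOverCat T₀) η.symm) E ≪≫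
      bLeft (ofOverCat T₀) ε₀ ≪≫ bRight ω' L⟩

end Groth.Agent.AlgSt88
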