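import Groth.Agent.AlgSt88.Substack
import Groth.Agent.AlgSt88.SpQProps
import Groth.Agent.AlgSt88.SmoothLocalInst
import Groth.Agent.AlgSt88.AtlasFp
import Groth.Agent.AlgSt88.Top
import Groth.Agent.NeronHD28.Ext
import Groth.Agent.AlgSt88.SpQDescend

/-!
The largest open substack on which a morphism of algebraic stacks is smooth.
-/

set_option autoImplicit false
set_option linter.style.haveILetI false
set_option backward.isDefEq.respectTransparency false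
set_option backward.isDefEq.respectTransparency.types false
universe u

open CategoryTheory CategoryTheory.Limits AlgebraicGeometry Opposite AlgSt FibCat

namespace Groth.Agent.AlgSt88

variable {S : Scheme.{u}} {𝒳 𝒴 𝒲 : AlgSt.Cat S}

/-- The corestriction of a functor to a full subcategory. -/
def liftSub (F : 𝒲 ⥤ᵇ 𝒳) {Q : 𝒳.obj → Prop} (hQ : ∀ a, Q (F.obj a)) : 𝒲 ⥤ᵇ fullSub 𝒳 Q where
  toFunctor :=
    { obj := fun a => ⟨F.obj a, hQ a⟩
      map := fun k => ObjectProperty.homMk (F.map k)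
      map_id := fun a => ObjectProperty.hom_ext _ (F.map_id a)
      map_comp := fun k k' => ObjectProperty.hom_ext _ (F.map_comp k k') }
  w := F.w

theorem liftSub_comp (F : 𝒲 ⥤ᵇ 𝒳) {Q : 𝒳.obj → Prop} (hQ : ∀ a, Q (F.obj a)) :
    BasedFunctor.comp (liftSub F hQ) (subIncl 𝒳 Q) = F := rfl

theorem points_subIncl_injective (W : Set (Points 𝒳)) :
    Function.Injective (Points.map (subIncl 𝒳 (InPts W))) := by
  intro z z' h
  obtain ⟨p, rfl⟩ := Points.mk_surjective z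
  obtain ⟨q, rfl⟩ := Points.mk_surjective z'
  have key : Relation.EqvGen FPt.Rel (p.map (subIncl 𝒳 (InPts W))) (q.map (subIncl 𝒳 (InPts W))) :=
    Quot.eq.1 h
  let lift : ∀ (r : FPt 𝒳), InPts W r.obj → FPt (fullSub 𝒳 (InPts W)) := fun r hr =>
    { K := r.K, str := r.str, obj := ⟨r.obj, hr⟩, lies := r.lies }
  have main : ∀ {r r' : FPt 𝒳}, Relation.EqvGen FPt.Rel r r' → ∀ (hr : InPts W r.obj),
      ∃ hr' : InPts W r'.obj, Points.mk (lift r hr) = Points.mk (lift r' hr') := by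
    have step : ∀ {r r' : FPt 𝒳}, FPt.Rel r r' → ∀ (hr : InPts W r.obj),
        ∃ hr' : InPts W r'.obj, Points.mk (lift r hr) = Points.mk (lift r' hr') := by
      rintro r r' ⟨c, a, b, -⟩ hr
      have hc : InPts W c.obj := inPts_of_hom a hr
      have hr' : InPts W r'.obj := fun p' g => by
        have e1 : Points.mk p' = Points.mk r' := Points.sound ⟨p', 𝟙 _, g, trivial⟩
        have e2 : Points.mk r = Points.mk r' := Points.sound ⟨c, a, b, trivial⟩
        rw [e1, ← e2]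
        exact hr r (𝟙 _)
      exact ⟨hr', Points.sound ⟨lift c hc, ObjectProperty.homMk a, ObjectProperty.homMk b, trivial⟩⟩
    have all : ∀ {r r' : FPt 𝒳}, Relation.EqvGen FPt.Rel r r' →
        (∀ (hr : InPts W r.obj), ∃ hr' : InPts W r'.obj, Points.mk (lift r hr) = Points.mk (lift r' hr')) ∧
        (∀ (hr' : InPts W r'.obj), ∃ hr : InPts W r.obj, Points.mk (lift r hr) = Points.mk (lift r' hr')) := by
      intro r r' h
      induction h with
      | rel a b hab =>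
        refine ⟨step hab, fun hb => ?_⟩
        obtain ⟨c, u, v, -⟩ := hab
        obtain ⟨ha, e⟩ := step (r := b) (r' := a) ⟨c, v, u, trivial⟩ hb
        exact ⟨ha, e.symm⟩
      | refl a => exact ⟨fun ha => ⟨ha, rfl⟩, fun ha => ⟨ha, rfl⟩⟩
      | symm a b _ ih =>
        exact ⟨fun hb => let ⟨ha, e⟩ := ih.2 hb; ⟨ha, e.symm⟩, fun ha => let ⟨hb, e⟩ := ih.1 ha; ⟨hb, e.symm⟩⟩
      | trans a b c _ _ ih ih' =>
        refine ⟨fun ha => ?_, fun hc => ?_⟩
        · obtain ⟨hb, e⟩ := ih.1 ha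
          obtain ⟨hc, e'⟩ := ih'.1 hb
          exact ⟨hc, e.trans e'⟩
        · obtain ⟨hb, e'⟩ := ih'.2 hc
          obtain ⟨ha, e⟩ := ih.2 hb
          exact ⟨ha, e.trans e'⟩
    intro r r' h hr; exact (all h).1 hr
  obtain ⟨hq, e⟩ := main key p.obj.property
  exact e

theorem mk_of_hom (hW : IsFibGrpd 𝒲.p) (hX : IsFibGrpd 𝒳.p) (F : 𝒲 ⥤ᵇ 𝒳) (a : 𝒲.obj) (p : FPt 𝒳)
    (g : p.obj ⟶ F.obj a) : Points.mk p ∈ Set.range (Points.map F) := by
  obtain ⟨q, hq, φ, hφ⟩ := fg_exists_lift hW (x := a)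
    (eqToHom p.lies.symm ≫ 𝒳.p.map g ≫ eqToHom (F.w_obj a))
  obtain ⟨χ, -, -⟩ := fg_exists_fac hX g (F.map φ)
    (eqToHom (((F.w_obj q).trans hq).trans p.lies.symm)) (by rw [p_map_eq, hφ]; simp)
  refine ⟨Points.mk { K := p.K, str := p.str, obj := q, lies := hq }, ?_⟩
  exact Points.sound ⟨{ K := p.K, str := p.str, obj := F.obj q, lies := (F.w_obj q).trans hq }, 𝟙 _, χ, trivial⟩

theorem inPts_obj (hW : IsFibGrpd 𝒲.p) (hX : IsFibGrpd 𝒳.p) {W : Set (Points 𝒳)} (F : 𝒲 ⥤ᵇ 𝒳)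
    (hF : ∀ z, Points.map F z ∈ W) (a : 𝒲.obj) : InPts W (F.obj a) := fun p g => by
  obtain ⟨z, hz⟩ := mk_of_hom hW hX F a p g
  rw [← hz]
  exact hF z

theorem cancels_smooth_openImm :
    CancelsAlong (S := S) (AlgSp.LocP @Smooth) (AlgSp.RepWith @IsOpenImmersion) :=
  fun _ _ _ hX hY hZ _ _ hb hab => SpPts86.locP_of_comp (P := @Smooth) (Q := @Etale) (R := @Smooth)
    (fun f g h hg => haveI := hg; NeronHD28.smooth_of_comp_etale f g h) hX hY hZ hab
    (SpFP87.locP_of_repWith hY.diag hZ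
      (SpPts86.repWith_mono (fun _ _ g (hg : IsOpenImmersion g) => haveI := hg; (inferInstance : Etale g)) hb))

/-- The points near which a morphism of schemes is smooth. -/
def smoothPts {A B : Scheme.{u}} (k : A ⟶ B) : A.Opens := sSup {O : A.Opens | Smooth (O.ι ≫ k)}

theorem smooth_smoothPts {A B : Scheme.{u}} (k : A ⟶ B) : Smooth ((smoothPts k).ι ≫ k) := by
  let I := {O : A.Opens // Smooth (O.ι ≫ k)}
  have hle : ∀ i : I, i.1 ≤ smoothPts k := fun i => le_sSup i.2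
  let c : I → (smoothPts k).toScheme.Opens := fun i => (smoothPts k).ι ⁻¹ᵁ i.1
  have hc : (⨆ i, c i) = ⊤ := by
    refine eq_top_iff.2 fun x _ => ?_
    obtain ⟨O, hO, hxO⟩ := TopologicalSpace.Opens.mem_sSup.1 x.2
    exact TopologicalSpace.Opens.mem_iSup.2 ⟨⟨O, hO⟩, hxO⟩
  refine (IsZariskiLocalAtSource.iff_of_openCover (P := @Smooth)
    ((smoothPts k).toScheme.openCoverOfIsOpenCover c hc)).2 fun i => ?_
  show Smooth ((c i).ι ≫ (smoothPts k).ι ≫ k)
  have hr : Set.range ((c i).ι ≫ (smoothPts k).ι) ⊆ Set.range i.1.ι := by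
    rintro _ ⟨y, rfl⟩
    rw [i.1.range_ι]
    exact y.2
  haveI := i.2
  rw [← Category.assoc, ← IsOpenImmersion.lift_fac i.1.ι ((c i).ι ≫ (smoothPts k).ι) hr, Category.assoc]
  haveI : IsOpenImmersion (IsOpenImmersion.lift i.1.ι ((c i).ι ≫ (smoothPts k).ι) hr) := by
    have : IsOpenImmersion (IsOpenImmersion.lift i.1.ι ((c i).ι ≫ (smoothPts k).ι) hr ≫ i.1.ι) := by
      rw [IsOpenImmersion.lift_fac]; infer_instance
    exact IsOpenImmersion.of_comp _ i.1.ι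
  infer_instance

theorem nonempty_fpPaste_mapFst_iso {𝒳 𝒴 𝒵 𝒲 : AlgSt.Cat S} (f : 𝒳 ⥤ᵇ 𝒵) (g : 𝒴 ⥤ᵇ 𝒵) (u : 𝒲 ⥤ᵇ 𝒳) :
    Nonempty (BasedFunctor.comp (fpPaste u f g) (fpMapFst f g u) ≅ fpSnd u (fpFst f g)) :=
  ⟨fpNatIso (Φ := BasedFunctor.comp (fpPaste u f g) (fpMapFst f g u)) (Ψ := fpSnd u (fpFst f g))
    (fpIso u (fpFst f g)) (Iso.refl _) (fun x => (by
      change f.map x.obj.iso.hom ≫ x.obj.snd.obj.iso.hom =
        (f.map x.obj.iso.hom ≫ x.obj.snd.obj.iso.hom) ≫ g.map (𝟙 _)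
      rw [g.map_id, Category.comp_id]))⟩

/-- A chart gives an open substack on which the morphism is smooth. -/
theorem exists_smooth_substack_of_chart (h𝒳 : IsAlgStack Scheme.fppfPrecoverage 𝒳)
    (h𝒴 : IsAlgStack Scheme.fppfPrecoverage 𝒴) (f : 𝒳 ⥤ᵇ 𝒴) {V : Over S} (y : ofSch V ⥤ᵇ 𝒴) (hy : Sm y)
    {U : Over S} (l : ofSch U ⥤ᵇ fp f y) (hl : Sm l) (k : U ⟶ V)
    (hk : (AlgSp.yon S).map k = homOfBased (BasedFunctor.comp l (fpSnd f y))) :
    ∃ Q : 𝒳.obj → Prop, IsOpenSubstack 𝒳 Q Scheme.fppfPrecoverage ∧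
      LocQ (AlgSp.LocP @Smooth) (BasedFunctor.comp (subIncl 𝒳 Q) f) ∧
      Set.range (Points.map (subIncl 𝒳 Q)) =
        (fun u => Points.map (BasedFunctor.comp l (fpFst f y)) (stPt _ (AlgSp.Points.schemeHomeo U u))) ''
          (smoothPts k.left : Set ↥U.left) := by
  have hX := h𝒳.isStack.1
  have hY := h𝒴.isStack.1
  have hFU : IsFibGrpd (ofSch U).p := Stk.isFibGrpd_ofPsh _
  have hFV : IsFibGrpd (ofSch V).p := Stk.isFibGrpd_ofPsh _
  have hC : IsFibGrpd (fp f y).p := isFibGrpd_fp hX hFV hY f y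
  let U₁ := smoothPts k.left
  let U2 : Over S := Over.mk (U₁.ι ≫ U.hom)
  let j : U2 ⟶ U := Over.homMk U₁.ι rfl
  let x : ofSch U ⥤ᵇ 𝒳 := BasedFunctor.comp l (fpFst f y)
  have hx : Sm x := sm_comp hFU hC hl (repByAlgSpWith_fpFst f hy)
  let pt : ∀ (A : Over S), ↥A.left → Points (ofSch A) := fun A t => stPt _ (AlgSp.Points.schemeHomeo A t)
  let W : Set (Points 𝒳) := (fun u => Points.map x (pt U u)) '' (U₁ : Set ↥U.left)
  have hid : BasedFunctor.comp (toOverCat U) (ofOverCat U) ≅ BasedFunctor.id (ofSch U) :=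
    BasedNatIso.mkNatIso (NatIso.ofComponents (fun a => Iso.refl _)
      (fun {a b} f => Stk.EltObj.hom_ext ((Category.comp_id _).trans (Category.id_comp _).symm)))
      (fun a => IsHomLift.id rfl)
  let x₀ : overCat U ⥤ᵇ 𝒳 := BasedFunctor.comp (ofOverCat U) x
  have hx₀ : Sm x₀ := (repByAlgSpWith_precomp_equiv (isEquivOver_ofOverCat U)).2 hx
  have hW : IsOpen W := by
    have hm := isOpenMap_ofChart hX x₀ (rep_flat_of_sm hx₀) (rep_lfp_of_sm hx₀)
    have e : W = Points.ofChart x₀ '' (U₁ : Set ↥U.left) := by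
      refine Set.image_congr fun u _ => ?_
      rw [ofChart_eq]
      exact (points_map_congr (bRight hid x) _).symm
    rw [e]
    exact hm _ U₁.2
  have hQ := isOpenSubstack_inPts h𝒳 hW
  have hFQ : IsFibGrpd (fullSub 𝒳 (InPts W)).p := hQ.2.1.isStack.1
  let xj : ofSch U2 ⥤ᵇ 𝒳 := BasedFunctor.comp (ofSpMap ((AlgSp.yon S).map j)) x
  have hpt : ∀ u, Points.map xj (pt U2 u) = Points.map x (pt U (j.left u)) := fun u => by
    show Points.map (BasedFunctor.comp (ofSpMap ((AlgSp.yon S).map j)) x) _ = _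
    rw [points_map_comp]
    refine congrArg (Points.map x) ?_
    refine (stPt_natural _ _).trans ?_
    exact congrArg (stPt _) (AlgSp.Points.map_yon_map_apply j u)
  have hmem : ∀ a, InPts W (xj.obj a) := inPts_obj (Stk.isFibGrpd_ofPsh _) hX xj fun z => by
    obtain ⟨τ, rfl⟩ := stPt_bijective.2 z
    obtain ⟨u, rfl⟩ := (AlgSp.Points.schemeHomeo U2).surjective τ
    exact ⟨j.left u, u.2, (hpt u).symm⟩
  let x2 := liftSub xj hmem
  have hjs : AlgSp.LocP @Smooth ((AlgSp.yon S).map j) :=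
    (SpFP87.locP_yon_map_iff (P := @Smooth) j).2 (inferInstanceAs (Smooth U₁.ι))
  have hsj : Sm (ofSpMap ((AlgSp.yon S).map j)) :=
    repByAlgSpWith_ofSpMap (stableBC_locP _) (respectsIso_locP _) (F := spY U2) (G := spY U) _ hjs
  have hxj : Sm xj := sm_comp (Stk.isFibGrpd_ofPsh _) hFU hsj hx
  have hsm2 : Sm x2 :=
    repByAlgSpWith_of_comp (stableBC_locP _) (respectsIso_locP _) cancels_smooth_openImm hQ.2.2 hxj
  have hsur : IsSurjective x2 := fun z => by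
    have hz : Points.map (subIncl 𝒳 (InPts W)) z ∈ W := (range_subIncl_inPts W).le ⟨z, rfl⟩
    obtain ⟨u, hu, e⟩ := hz
    refine ⟨pt U2 ⟨u, hu⟩, points_subIncl_injective W ?_⟩
    rw [← points_map_comp x2 (subIncl 𝒳 (InPts W))]
    exact (hpt ⟨u, hu⟩).trans e
  have hSj : Sj x2 := sj_of_isSurjective (Stk.isFibGrpd_ofPsh _) hFQ (repByAlgSp1_of_with hsm2) hsur
  refine ⟨InPts W, hQ, ?_, range_subIncl_inPts W⟩
  refine (locQ_iff_spQ smoothLocal_smooth hQ.2.1 h𝒴).2 ?_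
  obtain ⟨γ⟩ := exists_hom_iso (BasedFunctor.comp l (fpSnd f y))
  rw [← hk] at γ
  have α : BasedFunctor.comp x2 (BasedFunctor.comp (subIncl 𝒳 (InPts W)) f) ≅
      BasedFunctor.comp (ofSpMap ((AlgSp.yon S).map j ≫ (AlgSp.yon S).map k)) y :=
    bLeft (ofSpMap ((AlgSp.yon S).map j)) (bLeft l (fpIso f y) ≪≫ bRight γ y)
  refine ⟨spY U2, spY V, x2, y, (AlgSp.yon S).map j ≫ (AlgSp.yon S).map k, α, hsm2, hSj, hy, ?_⟩
  rw [← Functor.map_comp]
  exact (SpFP87.locP_yon_map_iff (P := @Smooth) (j ≫ k)).2 (smooth_smoothPts k.left)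

/-- A chart is smooth at the points lying in an open substack on which the morphism is smooth. -/
theorem mem_smoothPts_of_substack (h𝒳 : IsAlgStack Scheme.fppfPrecoverage 𝒳)
    (h𝒴 : IsAlgStack Scheme.fppfPrecoverage 𝒴) (f : 𝒳 ⥤ᵇ 𝒴) {V : Over S} (y : ofSch V ⥤ᵇ 𝒴) (hy : Sm y)
    {U : Over S} (l : ofSch U ⥤ᵇ fp f y) (hl : Sm l) (k : U ⟶ V)
    (hk : (AlgSp.yon S).map k = homOfBased (BasedFunctor.comp l (fpSnd f y)))
    {Q' : 𝒳.obj → Prop} (hQ' : IsOpenSubstack 𝒳 Q' Scheme.fppfPrecoverage)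
    (hf' : LocQ (AlgSp.LocP @Smooth) (BasedFunctor.comp (subIncl 𝒳 Q') f)) (u : ↥U.left)
    (hu : Points.map (BasedFunctor.comp l (fpFst f y)) (stPt _ (AlgSp.Points.schemeHomeo U u)) ∈
      Set.range (Points.map (subIncl 𝒳 Q'))) :
    u ∈ smoothPts k.left := by
  have hX := h𝒳.isStack.1
  have hY := h𝒴.isStack.1
  have hFQ' : IsFibGrpd (fullSub 𝒳 Q').p := hQ'.2.1.isStack.1
  have hFU : IsFibGrpd (ofSch U).p := Stk.isFibGrpd_ofPsh _
  have hFV : IsFibGrpd (ofSch V).p := Stk.isFibGrpd_ofPsh _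
  have hC : IsFibGrpd (fp f y).p := isFibGrpd_fp hX hFV hY f y
  let m := fpMapFst f y (subIncl 𝒳 Q')
  have hm : RepByAlgSpWith (AlgSp.RepWith @IsOpenImmersion) m := repByAlgSpWith_fpMapFst f y hQ'.2.2
  have hD : IsFibGrpd (fp (BasedFunctor.comp (subIncl 𝒳 Q') f) y).p := isFibGrpd_fp hFQ' hFV hY _ _
  obtain ⟨F, π, e, he, ⟨απ⟩, hπ⟩ := exists_space_fp hD hC (repByAlgSp1_of_with hm) (spY U) l
  have hπo : AlgSp.RepWith @IsOpenImmersion π :=
    spaceDescends_repWith _ F (spY U) π (hπ _ inferInstance hm)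
  let lF : ofSp F.obj ⥤ᵇ fp (BasedFunctor.comp (subIncl 𝒳 Q') f) y := BasedFunctor.comp e (fpSnd l m)
  have hlF : Sm lF := (repByAlgSpWith_precomp_equiv he).2 (repByAlgSpWith_fpSnd m hl)
  have hP := (spQ_of_locQ hf').prop smoothLocal_smooth hFQ' hY (U := F) (V := spY V) y lF hy hlF
  have e5 : homOfBased (BasedFunctor.comp lF (fpSnd (BasedFunctor.comp (subIncl 𝒳 Q') f) y)) =
      π ≫ (AlgSp.yon S).map k := by
    have h1 : homOfBased (BasedFunctor.comp (BasedFunctor.comp e (fpFst l m)) (BasedFunctor.comp l (fpSnd f y))) =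
        homOfBased (BasedFunctor.comp lF (fpSnd (BasedFunctor.comp (subIncl 𝒳 Q') f) y)) :=
      homOfBased_congr (F := F.obj) (G := (AlgSp.yon S).obj V) (bLeft e (bRight (fpIso l m) (fpSnd f y)))
    rw [← h1, homOfBased_comp, homOfBased_congr απ, homOfBased_ofSpMap, hk]
  rw [e5] at hP
  -- a point of the chart over the point
  obtain ⟨z, hz⟩ := hu
  obtain ⟨u', hu'', rfl⟩ : ∃ u', Points.map l u' = Points.map l (stPt _ (AlgSp.Points.schemeHomeo U u)) ∧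
      u' = stPt _ (AlgSp.Points.schemeHomeo U u) := ⟨_, rfl, rfl⟩
  rw [points_map_comp] at hz
  obtain ⟨w₁, hu'⟩ : ∃ w₁, Points.map l (stPt _ (AlgSp.Points.schemeHomeo U u)) = w₁ := ⟨_, rfl⟩
  rw [hu'] at hz
  obtain ⟨w, -, hw⟩ := exists_points_fp hX hC hFQ' (fpFst f y) (subIncl 𝒳 Q') z w₁ hz
  obtain ⟨σ⟩ := nonempty_fpPaste_mapFst_iso f y (subIncl 𝒳 Q')
  have hw₂ : Points.map m (Points.map (fpPaste (subIncl 𝒳 Q') f y) w) = w₁ := by
    rw [← points_map_comp]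
    exact (points_map_congr σ w).trans hw
  obtain ⟨v, hv, -⟩ := exists_points_fp hC hD hFU m l _ _ (hu'.trans hw₂.symm)
  obtain ⟨v', rfl⟩ := (points_map_bijective he).2 v
  obtain ⟨τ, rfl⟩ := stPt_bijective.2 v'
  rw [← points_map_comp, points_map_congr απ] at hv
  have hv' := (stPt_natural π τ).symm.trans hv
  obtain ⟨W₀, i, fst, sq⟩ := hπo.1 (𝟙 ((AlgSp.yon S).obj U))
  haveI hi : IsOpenImmersion i.left := hπo.2 _ _ _ sq
  haveI : IsIso fst := sq.isIso_fst_of_isIso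
  have hfac : fst ≫ π = (AlgSp.yon S).map i := sq.w.trans (Category.comp_id _)
  have hsm : AlgSp.LocP @Smooth (fst ≫ π ≫ (AlgSp.yon S).map k) := by
    haveI := respectsIso_locP (S := S) @Smooth
    exact MorphismProperty.RespectsIso.precomp _ fst _ hP
  rw [← Category.assoc, hfac, ← Functor.map_comp] at hsm
  haveI hs : Smooth (i.left ≫ k.left) := (SpFP87.locP_yon_map_iff (P := @Smooth) (i ≫ k)).1 hsm
  have hO : Smooth (i.left.opensRange.ι ≫ k.left) := by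
    have hr : i.left.opensRange.ι = i.left.isoOpensRange.inv ≫ i.left :=
      (Scheme.Hom.isoOpensRange_inv_comp i.left).symm
    rw [hr, Category.assoc]
    infer_instance
  have hle : i.left.opensRange ≤ smoothPts k.left := le_sSup hO
  obtain ⟨t, ht⟩ := (AlgSp.Points.schemeHomeo W₀).surjective (AlgSp.Points.map (inv fst) τ)
  have e : i.left t = u := (AlgSp.Points.schemeHomeo U).injective ((stPt_bijective (F := (AlgSp.yon S).obj U)).1 (by
    rw [← hv', ← AlgSp.Points.map_yon_map_apply i t, ht, ← hfac, ← AlgSp.Points.map_comp,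
      IsIso.inv_hom_id_assoc]))
  exact hle ⟨t, e⟩

/-- There is a largest open substack on which a morphism is smooth. -/
theorem exists_largest_smooth (h𝒳 : IsAlgStack Scheme.fppfPrecoverage 𝒳)
    (h𝒴 : IsAlgStack Scheme.fppfPrecoverage 𝒴) (f : 𝒳 ⥤ᵇ 𝒴) :
    ∃ Q : 𝒳.obj → Prop, IsOpenSubstack 𝒳 Q Scheme.fppfPrecoverage ∧
      LocQ (AlgSp.LocP @Smooth) (BasedFunctor.comp (subIncl 𝒳 Q) f) ∧
      ∀ Q' : 𝒳.obj → Prop, IsOpenSubstack 𝒳 Q' Scheme.fppfPrecoverage →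
        LocQ (AlgSp.LocP @Smooth) (BasedFunctor.comp (subIncl 𝒳 Q') f) → ∀ a, Q' a → Q a := by
  have hX := h𝒳.isStack.1
  have hY := h𝒴.isStack.1
  obtain ⟨V, y, hy, hy'⟩ := exists_space_atlas h𝒴
  obtain ⟨U, l, hl, hl'⟩ := exists_lift_chart h𝒳 h𝒴 f (V := spY V) y
  obtain ⟨k, hk⟩ := (AlgSp.yon S).map_surjective (homOfBased (BasedFunctor.comp l (fpSnd f y)))
  obtain ⟨Q, hQ, hQs, hr⟩ := exists_smooth_substack_of_chart h𝒳 h𝒴 f y hy l hl k hk
  refine ⟨Q, hQ, hQs, fun Q' hQ' hf' => (substack_le_iff h𝒳 hQ' hQ).2 fun z hz => ?_⟩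
  obtain ⟨w₁, hw₁⟩ := isSurjective_fpFst hY (Stk.isFibGrpd_ofPsh _) hX f (isSurjective_of_sj hY hy') z
  obtain ⟨u', hu'⟩ := isSurjective_of_sj (isFibGrpd_fp hX (Stk.isFibGrpd_ofPsh _) hY f y) hl' w₁
  obtain ⟨τ, rfl⟩ := stPt_bijective.2 u'
  obtain ⟨u, rfl⟩ := (AlgSp.Points.schemeHomeo U).surjective τ
  have e : Points.map (BasedFunctor.comp l (fpFst f y)) (stPt _ (AlgSp.Points.schemeHomeo U u)) = z := by
    rw [points_map_comp, hu', hw₁]
  rw [hr]
  exact ⟨u, mem_smoothPts_of_substack h𝒳 h𝒴 f y hy l hl k hk hQ' hf' u (e.symm ▸ hz), e⟩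

end Groth.Agent.AlgSt88
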