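import Groth.Agent.AlgSt88.SmoothLocus
import Groth.Agent.Unr55.FppfScheme
import Groth.Agent.S2155
import Mathlib.AlgebraicGeometry.Morphisms.Flat

/-!
Descent of the smooth locus along a flat base change.
-/

set_option autoImplicit false
set_option linter.style.haveILetI false
set_option backward.isDefEq.respectTransparency false
universe u

open CategoryTheory CategoryTheory.Limits AlgebraicGeometry

namespace Groth.Agent.AlgSt88

theorem smoothPts_eq_smoothLocus {X Y : Scheme.{u}} (f : X ⟶ Y) [LocallyOfFinitePresentation f] :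
    smoothPts f = f.smoothLocus := by
  refine le_antisymm (sSup_le fun O (hO : Smooth (O.ι ≫ f)) x hx => ?_) (le_sSup ?_)
  · have h : O.ι ⁻¹ᵁ f.smoothLocus = ⊤ := by
      rw [Scheme.Hom.preimage_smoothLocus_eq]
      exact (O.ι ≫ f).smoothLocus_eq_top
    exact h.ge (Set.mem_univ (⟨x, hx⟩ : O.toScheme))
  · show Smooth (f.smoothLocus.ι ≫ f)
    rw [← Scheme.Hom.smoothLocus_eq_top_iff, ← Scheme.Hom.preimage_smoothLocus_eq, Scheme.Opens.ι_preimage_self]

theorem smoothPts_comap {X Y : Scheme.{u}} (f : X ⟶ Y) (O : X.Opens) :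
    O.ι ⁻¹ᵁ smoothPts f ≤ smoothPts (O.ι ≫ f) ∧ ∀ x : O.toScheme, x ∈ smoothPts (O.ι ≫ f) → O.ι x ∈ smoothPts f := by
  refine ⟨fun x hx => ?_, fun x hx => ?_⟩
  · obtain ⟨(A : X.Opens), hA, hxA⟩ := TopologicalSpace.Opens.mem_sSup.1 (show O.ι x ∈ smoothPts f from hx)
    refine TopologicalSpace.Opens.mem_sSup.2 ⟨O.ι ⁻¹ᵁ A, ?_, hxA⟩
    haveI : Smooth (A.ι ≫ f) := hA
    show Smooth ((O.ι ⁻¹ᵁ A).ι ≫ O.ι ≫ f)
    rw [← morphismRestrict_ι_assoc]
    infer_instance
  · obtain ⟨(A : O.toScheme.Opens), hA, hxA⟩ := TopologicalSpace.Opens.mem_sSup.1 hx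
    haveI : Smooth (A.ι ≫ O.ι ≫ f) := hA
    refine TopologicalSpace.Opens.mem_sSup.2 ⟨(A.ι ≫ O.ι).opensRange, ?_, ⟨⟨x, hxA⟩, rfl⟩⟩
    show Smooth ((A.ι ≫ O.ι).opensRange.ι ≫ f)
    rw [← Scheme.Hom.isoOpensRange_inv_comp (A.ι ≫ O.ι), Category.assoc, Category.assoc]
    infer_instance

theorem mem_smoothPts_of_lfp {X Y X' Y' : Scheme.{u}} {f : X ⟶ Y} {g : Y' ⟶ Y} {f' : X' ⟶ Y'} {g' : X' ⟶ X}
    (h : IsPullback g' f' f g) [Flat g] [LocallyOfFinitePresentation f] {t : X'} (ht : t ∈ smoothPts f') :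
    g' t ∈ smoothPts f := by
  haveI : LocallyOfFinitePresentation f' := MorphismProperty.of_isPullback h inferInstance
  rw [smoothPts_eq_smoothLocus] at ht ⊢
  rw [S2155.result f g f' g' h (Or.inr inferInstance)] at ht
  exact ht

/-- The smooth locus descends along a flat base change. -/
theorem mem_smoothPts_of_baseChange {X Y X' Y' : Scheme.{u}} {f : X ⟶ Y} {g : Y' ⟶ Y} {f' : X' ⟶ Y'} {g' : X' ⟶ X}
    (h : IsPullback g' f' f g) [Flat g] (hfp : LocallyOfFinitePresentation g ∨ LocallyOfFinitePresentation f)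
    {t : X'} (ht : t ∈ smoothPts f') : g' t ∈ smoothPts f := by
  rcases hfp with hg | hf
  · haveI := hg
    haveI hg'f : Flat g' := MorphismProperty.of_isPullback h.flip inferInstance
    haveI hg'p : LocallyOfFinitePresentation g' := MorphismProperty.of_isPullback h.flip inferInstance
    haveI : UniversallyOpen g' := inferInstance
    let P := smoothPts f'
    let O : X.Opens := ⟨g' '' (P : Set X'), g'.isOpenMap _ P.2⟩
    have hle : P ≤ g' ⁻¹ᵁ O := fun x hx => ⟨x, hx, rfl⟩
    let c : P.toScheme ⟶ O.toScheme := X'.homOfLE hle ≫ (g' ∣_ O)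
    haveI : Flat (g' ∣_ O) := MorphismProperty.of_isPullback (isPullback_morphismRestrict g' O).flip inferInstance
    haveI : LocallyOfFinitePresentation (g' ∣_ O) :=
      MorphismProperty.of_isPullback (isPullback_morphismRestrict g' O).flip inferInstance
    have hcomp : c ≫ O.ι = P.ι ≫ g' := by simp [c]
    haveI : Surjective c := ⟨fun o => by
      obtain ⟨x, hx, e⟩ := o.2
      refine ⟨⟨x, hx⟩, Subtype.ext ?_⟩
      exact (congrArg (fun k : P.toScheme ⟶ X => k ⟨x, hx⟩) hcomp).trans e⟩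
    haveI : LocallyOfFinitePresentation (O.ι ≫ f) := by
      haveI := smooth_smoothPts f'
      haveI : LocallyOfFinitePresentation (c ≫ O.ι ≫ f) := by
        rw [← Category.assoc, hcomp, Category.assoc, h.w, ← Category.assoc]
        infer_instance
      exact Unr55.locallyOfFinitePresentation_of_fppf_comp c (O.ι ≫ f)
    have hm := (smoothPts_comap f O).2 _ (mem_smoothPts_of_lfp ((isPullback_morphismRestrict g' O).paste_vert h)
      (t := ⟨t, ⟨t, ht, rfl⟩⟩) ((smoothPts_comap f' _).1 ht))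
    rwa [← Scheme.Hom.comp_apply, morphismRestrict_ι, Scheme.Hom.comp_apply] at hm
  · haveI := hf
    exact mem_smoothPts_of_lfp h ht

end Groth.Agent.AlgSt88
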