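import Groth.Agent.AlgSt88.SmoothLocusFun
import Groth.Agent.AlgSt88.SmoothPtsDescend

/-!
Base change of the smooth locus of a morphism of algebraic stacks along a flat morphism.
-/

set_option autoImplicit false
set_option maxHeartbeats 1000000
set_option linter.style.haveILetI false
set_option backward.isDefEq.respectTransparency false
set_option backward.isDefEq.respectTransparency.types false
universe u

open CategoryTheory CategoryTheory.Limits AlgebraicGeometry Opposite AlgSt FibCat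

namespace Groth.Agent.AlgSt88

variable {S : Scheme.{u}} {𝒳 𝒴 𝒴' : AlgSt.Cat S}

/-- A chart of a base change by schemes. -/
theorem exists_bc_chart_yon {f : 𝒳 ⥤ᵇ 𝒴} {U V G T : Over S} {k : U ⟶ V} {b : G ⟶ V} {q : T ⟶ U} {qh : T ⟶ G}
    (sq : IsPullback q qh k b) (y : ofSch V ⥤ᵇ 𝒴) (l : ofSch U ⥤ᵇ fp f y)
    (hk : (AlgSp.yon S).map k = homOfBased (BasedFunctor.comp l (fpSnd f y))) :
    ∃ l' : ofSch T ⥤ᵇ fp f (BasedFunctor.comp (ofSpMap ((AlgSp.yon S).map b)) y),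
      (∀ Q : MorphismProperty (AlgSp.Sp S), RepByAlgSpWith Q l → RepByAlgSpWith Q l') ∧
      homOfBased (BasedFunctor.comp l' (fpSnd f _)) = (AlgSp.yon S).map qh ∧
      BasedFunctor.comp l' (fpFst f _) =
        BasedFunctor.comp (ofSpMap ((AlgSp.yon S).map q)) (BasedFunctor.comp l (fpFst f y)) := by
  obtain ⟨α⟩ := exists_hom_iso (BasedFunctor.comp l (fpSnd f y))
  rw [← hk] at α
  have sqP := (sq.flip.map (AlgSp.yon S)).map (sheafToPresheaf (QuotSh.J Scheme.fppfPrecoverage S) (Type (u + 1)))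
  let bs := ofSpMap ((AlgSp.yon S).map b)
  let ly : ofSch U ⥤ᵇ fp y f := BasedFunctor.comp l (fpSwap f y)
  let c := fpCongr (F := bs) (F' := bs) (G := ofSpMap ((AlgSp.yon S).map k))
      (G' := BasedFunctor.comp ly (fpFst y f)) (Iso.refl _) α.symm
  let Φ : ofSch T ⥤ᵇ fp bs (BasedFunctor.comp ly (fpFst y f)) := BasedFunctor.comp (pshFpLift sqP.w) c
  let Θ : fp bs (fpFst y f) ⥤ᵇ fp f (BasedFunctor.comp bs y) :=
    BasedFunctor.comp (fpPaste bs y f) (fpSwap _ f)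
  refine ⟨BasedFunctor.comp (BasedFunctor.comp Φ (fpMapSnd bs (fpFst y f) ly)) Θ, fun Q hQ => ?_, ?_, ?_⟩
  · exact (repByAlgSpWith_postcomp_equiv (f := BasedFunctor.comp Φ (fpMapSnd bs (fpFst y f) ly))
      (isEquivOver_comp (isEquivOver_fpPaste _ _ _) isEquivOver_fpSwap)).2
      ((repByAlgSpWith_precomp_equiv (a := Φ)
        (isEquivOver_comp (isEquivOver_pshFpLift sqP) (isEquivOver_fpCongr _ _))).2
        (repByAlgSpWith_fpMapSnd _ _ ((repByAlgSpWith_postcomp_equiv isEquivOver_fpSwap).2 hQ)))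
  · change homOfBased (ofSpMap ((AlgSp.yon S).map qh)) = _
    exact homOfBased_ofSpMap _
  · rfl

theorem smooth_baseChange_substack (h𝒳 : IsAlgStack Scheme.fppfPrecoverage 𝒳)
    (h𝒴 : IsAlgStack Scheme.fppfPrecoverage 𝒴)
    (h𝒴' : IsAlgStack Scheme.fppfPrecoverage 𝒴') (f : 𝒳 ⥤ᵇ 𝒴) (y : 𝒴' ⥤ᵇ 𝒴)
    {Q : 𝒳.obj → Prop} (hQ₁ : IsOpenSubstack 𝒳 Q Scheme.fppfPrecoverage)
    (hQ₂ : LocQ (AlgSp.LocP @Smooth) (BasedFunctor.comp (subIncl 𝒳 Q) f)) :
    IsOpenSubstack (fp y f) (fun b ↦ Q b.obj.snd) Scheme.fppfPrecoverage ∧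
      LocQ (AlgSp.LocP @Smooth) (BasedFunctor.comp (subIncl (fp y f) fun b ↦ Q b.obj.snd) (fpFst y f)) := by
  have hC := isAlgStack_fp h𝒴.isStack h𝒴.diag h𝒴' h𝒳 y f
  have hQ' := isOpenSubstack_comap hC h𝒳 (fpSnd y f) hQ₁
  refine ⟨hQ', ?_⟩
  have hP := smoothLocal_smooth (S := S)
  have hPc := stableComp_locP (S := S) @Smooth
  let f₀ := BasedFunctor.comp (subIncl 𝒳 Q) f
  let D := fp y f₀
  have hD : IsAlgStack Scheme.fppfPrecoverage D := isAlgStack_fp h𝒴.isStack h𝒴.diag h𝒴' hQ₁.2.1 y f₀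
  have hs : LocQ (AlgSp.LocP @Smooth) (fpFst y f₀) :=
    (locQ_iff_spQ hP hD h𝒴').2 (spQ_fpFst hP (stableBC_locP _) hQ₁.2.1 h𝒴 h𝒴' y (spQ_of_locQ hQ₂))
  obtain ⟨U, x, hx, hx'⟩ := exists_space_atlas hQ'.2.1
  refine locQ_of_sm_surj hP hQ'.2.1 h𝒴' x hx hx' ?_
  let G := BasedFunctor.comp x (subIncl (fp y f) fun b ↦ Q b.obj.snd)
  let L := liftSub (BasedFunctor.comp G (fpSnd y f)) (Q := Q) (fun z => (x.obj z).property)
  let E : ofSch U ⥤ᵇ D :=
    fpLift (F := y) (G := f₀) (BasedFunctor.comp G (fpFst y f)) L (bLeft G (fpIso y f))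
  have hG : Sm G := sm_comp (Stk.isFibGrpd_ofPsh _) hQ'.2.1.isStack.1 hx
    (repByAlgSpWith_mono_spaces (fun _ _ hA hB _ ha => openImm_smooth hA hB ha) hQ'.2.2)
  obtain ⟨σ⟩ : Nonempty (BasedFunctor.comp E (fpMapSnd y f (subIncl 𝒳 Q)) ≅ G) :=
    ⟨fpNatIso (Φ := BasedFunctor.comp E (fpMapSnd y f (subIncl 𝒳 Q))) (Ψ := G) (Iso.refl _) (Iso.refl _)
      (fun a => by
        change y.map (𝟙 (G.obj a).obj.fst) ≫ (G.obj a).obj.iso.hom = (G.obj a).obj.iso.hom ≫ f.map (𝟙 (G.obj a).obj.snd)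
        rw [map_id', map_id', Category.id_comp, Category.comp_id])⟩
  have hE : Sm E := repByAlgSpWith_of_comp (stableBC_locP _) (respectsIso_locP _) cancels_smooth_openImm
    (repByAlgSpWith_fpMapSnd y f hQ₁.2.2) (repByAlgSpWith_of_iso σ.symm hG)
  exact locQ_comp hP hPc (isDM_ofSp (spY U)).1 hD h𝒴' ((locQ_iff_sm hD E).2 hE) hs

/-- The smooth locus commutes with flat base change. -/
theorem largest_smooth_baseChange (h𝒳 : IsAlgStack Scheme.fppfPrecoverage 𝒳)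
    (h𝒴 : IsAlgStack Scheme.fppfPrecoverage 𝒴)
    (h𝒴' : IsAlgStack Scheme.fppfPrecoverage 𝒴')
    (f : 𝒳 ⥤ᵇ 𝒴) (y : 𝒴' ⥤ᵇ 𝒴) (hy : LocQ (AlgSp.LocP @Flat) y)
    (hfp : LocQ (AlgSp.LocP @LocallyOfFinitePresentation) y ∨
      LocQ (AlgSp.LocP @LocallyOfFinitePresentation) f)
    (Q : 𝒳.obj → Prop) (hQ₁ : IsOpenSubstack 𝒳 Q Scheme.fppfPrecoverage)
    (hQ₃ : ∀ Q' : 𝒳.obj → Prop, IsOpenSubstack 𝒳 Q' Scheme.fppfPrecoverage →
      LocQ (AlgSp.LocP @Smooth) (BasedFunctor.comp (subIncl 𝒳 Q') f) → ∀ a, Q' a → Q a)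
    (Q' : (fp y f).obj → Prop) (hQ' : IsOpenSubstack (fp y f) Q' Scheme.fppfPrecoverage)
    (hf' : LocQ (AlgSp.LocP @Smooth) (BasedFunctor.comp (subIncl (fp y f) Q') (fpFst y f))) :
    ∀ b, Q' b → Q b.obj.snd := by
  have hX := h𝒳.isStack.1
  have hY := h𝒴.isStack.1
  have hY' := h𝒴'.isStack.1
  have hA := isAlgStack_fp h𝒴.isStack h𝒴.diag h𝒴' h𝒳 y f
  suffices hle : ∀ z ∈ Set.range (Points.map (subIncl (fp y f) Q')),
      Points.map (fpSnd y f) z ∈ Set.range (Points.map (subIncl 𝒳 Q)) by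
    intro b hb
    refine (substack_le_iff hA hQ' (isOpenSubstack_comap hA h𝒳 (fpSnd y f) hQ₁)).2 (fun z hz => ?_) b hb
    obtain ⟨q, hq⟩ := Points.mk_surjective z
    have h2 := hle z hz
    rw [← hq] at h2 ⊢
    have hmem : Q (q.obj.obj.snd) := by
      rw [openSubstack_eq_inPts h𝒳 hQ₁]
      intro p g
      obtain ⟨r, k, e⟩ := exists_mk_map hA.isStack.1 hX (fpSnd y f) q.obj p g
      rw [← e, Points.sound (p := r) (q := q) ⟨r, 𝟙 _, k, trivial⟩]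
      exact h2
    exact ⟨Points.mk { K := q.K, str := q.str, obj := ⟨q.obj, hmem⟩, lies := q.lies }, rfl⟩
  intro z hz
  obtain ⟨V, y₀, hy₀, hy₀'⟩ := exists_space_atlas h𝒴
  obtain ⟨U, l, hl, hl'⟩ := exists_lift_chart h𝒳 h𝒴 f (V := spY V) y₀
  obtain ⟨k, hk⟩ := (AlgSp.yon S).map_surjective (homOfBased (BasedFunctor.comp l (fpSnd f y₀)))
  obtain ⟨G, lw, hlw, hlw'⟩ := exists_lift_chart h𝒴' h𝒴 y (V := spY V) y₀
  obtain ⟨hw, hhw⟩ := (AlgSp.yon S).map_surjective (homOfBased (BasedFunctor.comp lw (fpSnd y y₀)))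
  have hW0 : IsFibGrpd (fp y y₀).p := isFibGrpd_fp hY' (Stk.isFibGrpd_ofPsh _) hY y y₀
  let w : ofSch G ⥤ᵇ 𝒴' := BasedFunctor.comp lw (fpFst y y₀)
  have hsw : Sm w := sm_comp (Stk.isFibGrpd_ofPsh _) hW0 hlw (repByAlgSpWith_fpFst y hy₀)
  have hsw' : Sj w := repByAlgSpWith_surj_comp (Stk.isFibGrpd_ofPsh _) hW0 hlw' (repByAlgSpWith_fpFst y hy₀')
  obtain ⟨γ⟩ := exists_hom_iso (BasedFunctor.comp lw (fpSnd y y₀))
  rw [← hhw] at γ
  let sq := IsPullback.of_hasPullback k hw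
  obtain ⟨l₁, hl₁, el₁, ef₁⟩ := exists_bc_chart_yon (f := f) sq y₀ l hk
  let T := pullback k hw
  let ι : BasedFunctor.comp (ofSpMap ((AlgSp.yon S).map hw)) y₀ ≅ BasedFunctor.comp w y :=
    (bRight γ y₀).symm ≪≫ (bLeft lw (fpIso y y₀)).symm
  let ls : ofSch T ⥤ᵇ fp (BasedFunctor.comp w y) f :=
    BasedFunctor.comp (BasedFunctor.comp l₁ (fpCongr (Iso.refl f) ι)) (fpSwap f (BasedFunctor.comp w y))
  have hls : ∀ P : MorphismProperty (AlgSp.Sp S), RepByAlgSpWith P l → RepByAlgSpWith P ls := fun P h =>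
    (repByAlgSpWith_postcomp_equiv isEquivOver_fpSwap).2
      ((repByAlgSpWith_postcomp_equiv (isEquivOver_fpCongr _ _)).2 (hl₁ P h))
  obtain ⟨ψ, hψ, -, ⟨β⟩⟩ := isEquivOver_inverse (isEquivOver_fpPaste w y f)
  let l₄ : ofSch T ⥤ᵇ fp (fpFst y f) w := BasedFunctor.comp (BasedFunctor.comp ls ψ) (fpSwap w (fpFst y f))
  have hl₄ : ∀ P : MorphismProperty (AlgSp.Sp S), RepByAlgSpWith P l → RepByAlgSpWith P l₄ := fun P h =>
    (repByAlgSpWith_postcomp_equiv isEquivOver_fpSwap).2 ((repByAlgSpWith_postcomp_equiv hψ).2 (hls P h))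
  have e₄ : (AlgSp.yon S).map (pullback.snd k hw) = homOfBased (BasedFunctor.comp l₄ (fpSnd (fpFst y f) w)) := by
    refine el₁.symm.trans (homOfBased_congr (F := (AlgSp.yon S).obj T) (G := (AlgSp.yon S).obj G) ?_)
    exact (bLeft ls (bRight β (fpFst (BasedFunctor.comp w y) f))).symm
  obtain ⟨σ⟩ := nonempty_fpPaste_mapFst_iso y f w
  have κ : BasedFunctor.comp (BasedFunctor.comp l₄ (fpFst (fpFst y f) w)) (fpSnd y f) ≅
      BasedFunctor.comp l₁ (fpFst f _) :=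
    bRight (bLeft (BasedFunctor.comp ls ψ) σ.symm) (fpSnd y f) ≪≫
      bLeft ls (bRight β (BasedFunctor.comp (fpMapFst y f w) (fpSnd y f)))
  -- a point of the chart over `z`
  have hT : IsFibGrpd (fp (fpFst y f) w).p := isFibGrpd_fp hA.isStack.1 (Stk.isFibGrpd_ofPsh _) hY' _ _
  obtain ⟨z₁, hz₁⟩ := isSurjective_fpFst hY' (Stk.isFibGrpd_ofPsh _) hA.isStack.1 (fpFst y f)
    (isSurjective_of_sj hY' hsw') z
  obtain ⟨v, hv⟩ := isSurjective_of_sj hT (hl₄ _ hl') z₁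
  obtain ⟨τ, rfl⟩ := stPt_bijective.2 v
  obtain ⟨t, rfl⟩ := (AlgSp.Points.schemeHomeo T).surjective τ
  have ht : t ∈ smoothPts (pullback.snd k hw).left := by
    refine mem_smoothPts_of_substack hA h𝒴' (fpFst y f) w hsw l₄ (hl₄ _ hl) _ e₄ hQ' hf' t ?_
    rw [points_map_comp, hv, hz₁]
    exact hz
  -- descent
  have hwf : Flat hw.left := (SpFP87.locP_yon_map_iff (P := @Flat) hw).1
    (hhw ▸ (spQ_of_locQ hy).prop smoothLocal_flat hY' hY (U := spY G) (V := spY V) y₀ lw hy₀ hlw)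
  have hfp' : LocallyOfFinitePresentation hw.left ∨ LocallyOfFinitePresentation k.left := by
    rcases hfp with h | h
    · exact Or.inl ((SpFP87.locP_yon_map_iff (P := @LocallyOfFinitePresentation) hw).1
        (hhw ▸ (spQ_of_locQ h).prop smoothLocal_lfp hY' hY (U := spY G) (V := spY V) y₀ lw hy₀ hlw))
    · exact Or.inr ((SpFP87.locP_yon_map_iff (P := @LocallyOfFinitePresentation) k).1
        (hk ▸ (spQ_of_locQ h).prop smoothLocal_lfp hX hY (U := spY U) (V := spY V) y₀ l hy₀ hl))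
  haveI : Flat ((Over.forget S).map hw) := hwf
  have hu : (pullback.fst k hw).left t ∈ smoothPts k.left :=
    mem_smoothPts_of_baseChange (sq.map (Over.forget S)) hfp' ht
  -- the open substack of the chart
  obtain ⟨Q₁, hQ₁', hQ₁s, hr⟩ := exists_smooth_substack_of_chart h𝒳 h𝒴 f y₀ hy₀ l hl k hk
  refine (substack_le_iff h𝒳 hQ₁' hQ₁).1 (hQ₃ Q₁ hQ₁' hQ₁s) ?_
  rw [hr]
  refine ⟨_, hu, ?_⟩
  have e : Points.map (fpSnd y f) z = Points.map (BasedFunctor.comp (BasedFunctor.comp l₄ (fpFst (fpFst y f) w))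
      (fpSnd y f)) (stPt _ (AlgSp.Points.schemeHomeo T t)) := by
    rw [points_map_comp, points_map_comp, hv, hz₁]
  rw [e, points_map_congr κ, ef₁, points_map_comp (ofSpMap ((AlgSp.yon S).map (pullback.fst k hw))),
    stPt_natural, AlgSp.Points.map_yon_map_apply]

end Groth.Agent.AlgSt88
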