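import Groth.Prelude
import Groth.Agent.S10138
import Groth.Agent.AlgSt88.LocalBase
import Groth.Agent.SpFP87.Covers

/-! Sheaf torsors under a group algebraic space are algebraic spaces. -/

set_option autoImplicit false
set_option linter.style.haveILetI false
set_option backward.isDefEq.respectTransparency false
set_option backward.isDefEq.respectTransparency.types false
universe u

open CategoryTheory CategoryTheory.Limits MonoidalCategory CartesianMonoidalCategory AlgebraicGeometry AlgSt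

namespace Groth.Agent.AlgSt88

variable {S : Scheme.{u}} {B : AlgSp.Sp S} {G : Over B} [GrpObj G] {X : Over B} {aX : AlgSp.GAction G X}

/-- The base change of a torsor along a section is trivial. -/
theorem isPullback_spTorsor {K : Precoverage Scheme.{u}} (A : SpQuotObj K G aX) {T' : Over B} (s : T' ⟶ A.P) :
    IsPullback ((G ◁ s) ≫ A.act.act) (snd G T') A.π (s ≫ A.π) :=
  (AlgSt.isPullback_whiskerLeft' (G := G) s).paste_horiz A.cart

theorem isAlgSpace_spTorsor (hB : AlgSp.IsAlgSpace B) (hG : AlgSp.IsAlgSpace G.left)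
    (A : SpQuotObj Scheme.fppfPrecoverage G aX) : AlgSp.IsAlgSpace A.P.left := by
  obtain ⟨R, hR, hsec⟩ := A.loc
  obtain ⟨ι, Z, φ, rfl⟩ := R.exists_eq_ofArrows
  obtain ⟨hsurj, hfl⟩ := (Scheme.ofArrows_mem_precoverage_iff _).1 hR
  have hex : ∀ x : A.base.left, ∃ (T' : Scheme.{u}) (f : T' ⟶ A.base.left) (t : T'),
      ((@Flat ⊓ @LocallyOfFinitePresentation : MorphismProperty Scheme.{u}) f ∧ Presieve.ofArrows Z φ f) ∧ f t = x := fun x => by
    obtain ⟨i, t, ht⟩ := hsurj x
    exact ⟨Z i, φ i, t, ⟨hfl i, .mk i⟩, ht⟩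
  choose T' f t hf ht using hex
  choose s hs using fun x => hsec (f x) (hf x).2
  let Ti : A.base.left → Over S := fun x => Over.mk (f x ≫ A.base.hom)
  let g : ∀ x, (AlgSp.yon S).obj (Ti x) ⟶ (AlgSp.yon S).obj A.base := fun x => (AlgSp.yon S).map (Over.homMk (f x))
  let Xi : A.base.left → AlgSp.Space S := fun x => ⟨(AlgSp.yon S).obj (Ti x), AlgSp.IsAlgSpace.yon_obj _⟩
  have hcov : AlgSp.IsFppfCover (fun x => (Xi x).obj) g := by
    refine ⟨fun x => ?_, fun z => ?_⟩
    · obtain ⟨h1, h2⟩ := (hf x).1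
      exact ⟨(SpFP87.locP_yon_map_iff (Over.homMk (f x) : Ti x ⟶ A.base)).2 h1,
        (SpFP87.locP_yon_map_iff (Over.homMk (f x) : Ti x ⟶ A.base)).2 h2⟩
    · obtain ⟨x, rfl⟩ := (AlgSp.Points.schemeHomeo A.base).surjective z
      refine ⟨x, AlgSp.Points.schemeHomeo (Ti x) (t x), ?_⟩
      rw [AlgSp.Points.map_yon_map_apply]
      exact congrArg _ (ht x)
  refine S10138.result S ⟨_, AlgSp.IsAlgSpace.yon_obj A.base⟩ Xi g hcov A.P.left A.π.left fun x P fst snd' sq => ?_
  let T'' : Over B := Over.mk (s x ≫ A.P.hom)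
  let s' : T'' ⟶ A.P := Over.homMk (s x)
  have sq1 := (isPullback_spTorsor A s').map (Over.forget B)
  have hsl : (s' ≫ A.π).left = g x := hs x
  have sq2 : IsPullback ((G ◁ s') ≫ A.act.act).left (CartesianMonoidalCategory.snd G T'').left A.π.left (g x) := by
    rw [← hsl]; exact sq1
  have halg : AlgSp.IsAlgSpace (G ⊗ T'').left :=
    SpFP87.isAlgSpace_of_isPullback ((AlgSt.isPullback_fst_snd' G T'').map (Over.forget B)) hG
      (AlgSp.IsAlgSpace.yon_obj _) hB.diag
  exact halg.of_iso (sq2.isoIsPullback _ _ sq)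

end Groth.Agent.AlgSt88
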