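import Groth.Agent.AlgSt88.SpQuotStackFam
import Groth.Agent.AlgSt88.QuotStackCover
import Groth.Agent.AlgSt88.SpTorsor
import Groth.Agent.Fib44.Post

/-! Quotient categories with sheaf torsors are stacks. -/

set_option autoImplicit false
set_option linter.style.haveILetI false
set_option backward.isDefEq.respectTransparency false
set_option backward.isDefEq.respectTransparency.types false
universe u

open CategoryTheory CategoryTheory.Limits MonoidalCategory CartesianMonoidalCategory MonObj GrpObj AlgebraicGeometry AlgSt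

namespace Groth.Agent.AlgSt88

variable {S : Scheme.{u}} {K : Precoverage Scheme.{u}} {B : AlgSp.Sp S} {G X : Over B} [GrpObj G]
  {a : AlgSp.GAction G X}
variable {U : Over S} {R : Sieve U} (Φ : Stk.sieveCat R ⥤ᵇ SpQuotSt K G a)

theorem sFamBase_mem (c : R.arrows.category) : R (sFamBase Φ c) := R.downward_closed c.property _

theorem exists_spBase (hR : R ∈ AlgSp.J S U) :
    ∃ bU : (AlgSp.yon S).obj U ⟶ B, ∀ c, (AlgSp.yon S).map (sFamBase Φ c) ≫ bU = (Φ.obj c).b := by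
  obtain ⟨bU, hb⟩ := yon_glue hR
    (fun g hg => (AlgSp.yon S).map (eqToHom (Fib44.obj_sieve Φ (Fib44.sObj R g hg)).symm) ≫ (Φ.obj (Fib44.sObj R g hg)).b)
    (fun {W W'} j g h h' => by
      let kk : Fib44.sObj R (j ≫ g) h' ⟶ Fib44.sObj R g h := Fib44.sHom R j rfl
      rw [← (Φ.map kk).wb, ← Category.assoc, ← Functor.map_comp, sFam_map_base, eqToHom_trans_assoc,
        eqToHom_refl, Category.id_comp, Functor.map_comp, Category.assoc]
      rfl)
  refine ⟨bU, fun c => ?_⟩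
  let c' : R.arrows.category := Fib44.sObj R c.obj.hom c.property
  let kk : c ⟶ c' := Fib44.sHom R (𝟙 c.obj.left) (Category.id_comp _)
  have h1 := (Φ.map kk).wb
  rw [sFam_map_base] at h1
  simp only [sFamBase, Functor.map_comp, Category.assoc]
  rw [hb c.obj.hom c.property]
  simp only [Functor.map_comp, Category.assoc] at h1
  rw [show (AlgSp.yon S).map kk.hom.left = 𝟙 _ from (AlgSp.yon S).map_id _] at h1
  simpa using h1

/-- A cartesian family over the sheaf torsors of a family. -/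
structure SpCartFam where
  /-- the section on the glued scheme -/
  bU : (AlgSp.yon S).obj U ⟶ B
  wb : ∀ c, (AlgSp.yon S).map (sFamBase Φ c) ≫ bU = (Φ.obj c).b
  /-- the glued sheaf -/
  P : Over B
  /-- the projection -/
  π : P ⟶ Over.mk bU
  /-- the comparison maps -/
  gam : ∀ c : R.arrows.category, (Φ.obj c).P ⟶ P
  cart : ∀ c, IsPullback (gam c) (Φ.obj c).π π (bHom (sFamBase Φ c) (wb c))
  nat : ∀ {b c : R.arrows.category} (k : b ⟶ c), (Φ.map k).top ≫ gam c = gam b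

theorem exists_spCartFam (hR : R ∈ AlgSp.J S U) : Nonempty (SpCartFam Φ) := by
  obtain ⟨bU, hb⟩ := exists_spBase Φ hR
  let P : Over B := Over.mk (famπ Φ ≫ bU)
  have hw : ∀ c, famγ Φ c ≫ P.hom = (Φ.obj c).P.hom := fun c => by
    show famγ Φ c ≫ famπ Φ ≫ bU = _
    rw [← Category.assoc, famγ_π, Category.assoc, ← Over.w (Φ.obj c).π]
    simp only [sπ, Over.mk_hom, ← hb c, sFamBase, Functor.map_comp, Category.assoc]
  let gam : ∀ c, (Φ.obj c).P ⟶ P := fun c => Over.homMk (famγ Φ c) (hw c)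
  refine ⟨⟨bU, hb, P, Over.homMk (famπ Φ), gam, fun c => ?_, fun {b c} k => Over.OverMorphism.ext (famγ_nat k)⟩⟩
  have h : IsPullback (famγ Φ c) (Φ.obj c).π.left (famπ Φ) ((AlgSp.yon S).map (sFamBase Φ c)) := by
    have h1 : IsPullback (famγ Φ c) (sπ Φ c ≫ (AlgSp.yon S).map (eqToHom (Fib44.obj_sieve Φ c).symm)) (famπ Φ)
        ((AlgSp.yon S).map (sFamBase Φ c)) := (isPullback_famγ c).of_iso (Iso.refl _) (Iso.refl _)
      ((AlgSp.yon S).mapIso (eqToIso (Fib44.obj_sieve Φ c).symm)) (Iso.refl _) (by simp) (by simp) (by simp)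
        (by simp [sFamBase, eqToHom_map])
    simpa [sπ, eqToHom_map] using h1
  exact IsPullback.of_map (Over.forget B) (Over.OverMorphism.ext h.w) h

namespace SpCartFam

variable {Φ} (F : SpCartFam Φ)

theorem exists_pt {V : Over S} {w : (AlgSp.yon S).obj V ⟶ B} (t : Over.mk w ⟶ F.P) (ht : R (pb (t ≫ F.π))) :
    ∃ p : Over.mk w ⟶ (Φ.obj (Fib44.sObj R _ ht)).P, p ≫ F.gam _ = t ∧
      pb (p ≫ (Φ.obj (Fib44.sObj R _ ht)).π) = eqToHom (Fib44.obj_sieve Φ (Fib44.sObj R _ ht)).symm := by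
  let c : R.arrows.category := Fib44.sObj R _ ht
  have e : eqToHom (Fib44.obj_sieve Φ c).symm ≫ sFamBase Φ c = pb (t ≫ F.π) := by
    rw [sFamBase, eqToHom_trans_assoc, eqToHom_refl, Category.id_comp]; rfl
  have hw : (AlgSp.yon S).map (eqToHom (Fib44.obj_sieve Φ c).symm) ≫ (Φ.obj c).b = w := by
    rw [← F.wb c, ← Category.assoc, ← Functor.map_comp, e]
    exact pb_wb (t ≫ F.π)
  refine ⟨(F.cart c).lift t (bHom _ hw) (Over.OverMorphism.ext ?_), (F.cart c).lift_fst _ _ _,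
    by rw [(F.cart c).lift_snd, pb_bHom]⟩
  have h1 := congrArg (AlgSp.yon S).map e
  rw [Functor.map_comp, pb, map_pm] at h1
  exact h1.symm

theorem gam_π (c : R.arrows.category) : F.gam c ≫ F.π = (Φ.obj c).π ≫ bHom (sFamBase Φ c) (F.wb c) := (F.cart c).w

theorem pb_gam_π {V : Over S} {w : (AlgSp.yon S).obj V ⟶ B} (c : R.arrows.category) (p : Over.mk w ⟶ (Φ.obj c).P) :
    pb ((p ≫ F.gam c) ≫ F.π) = pb (p ≫ (Φ.obj c).π) ≫ sFamBase Φ c := by
  rw [Category.assoc, F.gam_π, ← Category.assoc]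
  apply (AlgSp.yon S).map_injective
  rw [pb, map_pm, Functor.map_comp, pb, map_pm]
  rfl

theorem exists_fac {V : Over S} {w : (AlgSp.yon S).obj V ⟶ B} (t : Over.mk w ⟶ F.P) (ht : R (pb (t ≫ F.π))) :
    ∃ (c : R.arrows.category) (p : Over.mk w ⟶ (Φ.obj c).P), p ≫ F.gam c = t :=
  let ⟨p, hp, _⟩ := F.exists_pt t ht; ⟨_, p, hp⟩

/-- A compatible family of maps from the torsors descends to the glued sheaf. -/
theorem exists_desc (hR : R ∈ AlgSp.J S U) {Y Q : Over B}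
    (f : ∀ c : R.arrows.category, Y ⊗ (Φ.obj c).P ⟶ Q)
    (hf : ∀ {b c : R.arrows.category} (k : b ⟶ c), (Y ◁ (Φ.map k).top) ≫ f c = f b) :
    ∃ m : Y ⊗ F.P ⟶ Q, ∀ c, (Y ◁ F.gam c) ≫ m = f c := by
  have key : ∀ {V : Over S} {w : (AlgSp.yon S).obj V ⟶ B} (s : Over.mk w ⟶ Y ⊗ F.P),
      R (pb (s ≫ snd Y F.P ≫ F.π)) → ∃ q : Over.mk w ⟶ Q,
      ∀ (c : R.arrows.category) (p : Over.mk w ⟶ (Φ.obj c).P), p ≫ F.gam c = s ≫ snd Y F.P →
        lift (s ≫ fst Y F.P) p ≫ f c = q := by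
    intro V w s hs
    have hs' : R (pb ((s ≫ snd Y F.P) ≫ F.π)) := by rwa [Category.assoc]
    obtain ⟨p₀, hp₀, hp₀'⟩ := F.exists_pt _ hs'
    refine ⟨lift (s ≫ fst Y F.P) p₀ ≫ f _, fun c p hp => ?_⟩
    let k : Fib44.sObj R _ hs' ⟶ c :=
      Fib44.sHom R (pb (p ≫ (Φ.obj c).π) ≫ eqToHom (Fib44.obj_sieve Φ c)) (by
        show (pb (p ≫ (Φ.obj c).π) ≫ eqToHom (Fib44.obj_sieve Φ c)) ≫ c.obj.hom = pb ((s ≫ snd Y F.P) ≫ F.π)
        rw [Category.assoc, show eqToHom _ ≫ c.obj.hom = sFamBase Φ c from rfl, ← F.pb_gam_π, hp])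
    have he : p₀ ≫ (Φ.map k).top = p := by
      apply (F.cart c).hom_ext
      · rw [Category.assoc, F.nat, hp₀, hp]
      · rw [Category.assoc, (Φ.map k).cart.w, ← Category.assoc, ← bHom_pb (p ≫ (Φ.obj c).π),
          ← bHom_pb (p₀ ≫ _)]
        ext : 1
        simp [hp₀', sFam_map_base, k, eqToHom_map]
    rw [← hf k, lift_whiskerLeft_assoc, he]
  choose g hg using @key
  obtain ⟨m, hm⟩ := ov_glue_exists (snd Y F.P ≫ F.π) hR g (fun {V V' w w'} e he s h h' => by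
    have h₂ : R (pb ((s ≫ snd Y F.P) ≫ F.π)) := by rwa [Category.assoc]
    obtain ⟨c, p, hp⟩ := F.exists_fac (s ≫ snd Y F.P) h₂
    rw [← hg s h c p hp, ← hg (bHom e he ≫ s) h' c (bHom e he ≫ p) (by rw [Category.assoc, hp, Category.assoc]),
      show lift ((bHom e he ≫ s) ≫ fst Y F.P) (bHom e he ≫ p) = bHom e he ≫ lift (s ≫ fst Y F.P) p by
        rw [comp_lift, Category.assoc],
      Category.assoc])
  refine ⟨m, fun c => ?_⟩
  refine ov_glue_eq (((Y ◁ F.gam c) ≫ snd Y F.P ≫ F.π)) hR fun {V w} t ht => ?_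
  rw [← Category.assoc] at ht
  rw [← Category.assoc, hm _ ht, ← hg _ ht c (t ≫ snd Y (Φ.obj c).P) (by simp)]
  congr 1
  ext <;> simp

theorem ext_tensor (hR : R ∈ AlgSp.J S U) {Y Q : Over B} {m m' : Y ⊗ F.P ⟶ Q}
    (h : ∀ c, (Y ◁ F.gam c) ≫ m = (Y ◁ F.gam c) ≫ m') : m = m' :=
  ov_glue_eq (snd Y F.P ≫ F.π) hR fun {V w} s hs => by
    have hs₂ : R (pb ((s ≫ snd Y F.P) ≫ F.π)) := by rwa [Category.assoc]
    obtain ⟨c, p, hp⟩ := F.exists_fac (s ≫ snd Y F.P) hs₂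
    have hs' : s = lift (s ≫ fst Y F.P) p ≫ (Y ◁ F.gam c) := by
      rw [lift_whiskerLeft, hp, ← comp_lift, lift_fst_snd, Category.comp_id]
    rw [hs', Category.assoc, Category.assoc, h c]

theorem exists_map (hR : R ∈ AlgSp.J S U) {Q : Over B} (f : ∀ c : R.arrows.category, (Φ.obj c).P ⟶ Q)
    (hf : ∀ {b c : R.arrows.category} (k : b ⟶ c), (Φ.map k).top ≫ f c = f b) :
    ∃ m : F.P ⟶ Q, ∀ c, F.gam c ≫ m = f c := by
  obtain ⟨m, hm⟩ := F.exists_desc hR (Y := 𝟙_ (Over B)) (fun c => (λ_ _).hom ≫ f c)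
    (fun k => by rw [leftUnitor_naturality_assoc, hf])
  exact ⟨(λ_ F.P).inv ≫ m, fun c => by rw [leftUnitor_inv_naturality_assoc, hm, Iso.inv_hom_id_assoc]⟩

theorem exists_glue (hR : R ∈ AlgSp.J S U) (hloc : HasSecLoc K F.π.left) :
    ∃ (x : SpQuotObj K G a) (gam : ∀ c : R.arrows.category, Φ.obj c ⟶ x),
      Fib44.IsGlue Φ x gam := by
  obtain ⟨act, hact⟩ := F.exists_desc hR (Y := G) (fun c => (Φ.obj c).act.act ≫ F.gam c) (fun k => by
    rw [← reassoc_of% (Φ.map k).eqv, F.nat])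
  have hπ : act ≫ F.π = snd G F.P ≫ F.π := F.ext_tensor hR fun c => by
    rw [reassoc_of% hact c, F.gam_π, ← Category.assoc, (Φ.obj c).cart.w, Category.assoc, whiskerLeft_snd_assoc,
      F.gam_π]
  have one_act : (η[G] ▷ F.P) ≫ act = (λ_ F.P).hom := F.ext_tensor hR fun c => by
    rw [whisker_exchange_assoc, hact, reassoc_of% (Φ.obj c).act.one_act, leftUnitor_naturality]
  have mul_act : (μ[G] ▷ F.P) ≫ act = (α_ G G F.P).hom ≫ (G ◁ act) ≫ act := F.ext_tensor hR fun c => by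
    rw [whisker_exchange_assoc, hact, reassoc_of% (Φ.obj c).act.mul_act, ← hact c,
      ← MonoidalCategory.whiskerLeft_comp_assoc G (Φ.obj c).act.act, ← hact c,
      MonoidalCategory.whiskerLeft_comp_assoc]
    simp
  have hcart : IsPullback act (snd G F.P) F.π F.π := by
    have hom_ext : ∀ {T : Over B} (m m' : T ⟶ G ⊗ F.P), m ≫ act = m' ≫ act → m ≫ snd G F.P = m' ≫ snd G F.P →
        m = m' := fun {T} m m' e₁ e₂ => ov_glue_eq (m ≫ snd G F.P ≫ F.π) hR fun {V w} t ht => by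
      have ht₂ : R (pb ((t ≫ m ≫ snd G F.P) ≫ F.π)) := by simpa only [Category.assoc] using ht
      obtain ⟨c, p, hp⟩ := F.exists_fac (t ≫ m ≫ snd G F.P) ht₂
      have hp' : p ≫ F.gam c = t ≫ m' ≫ snd G F.P := by rw [hp, e₂]
      have hl : ∀ n : T ⟶ G ⊗ F.P, p ≫ F.gam c = t ≫ n ≫ snd G F.P →
          t ≫ n = lift (t ≫ n ≫ fst G F.P) p ≫ (G ◁ F.gam c) := fun n h => by
        rw [lift_whiskerLeft, h, ← Category.assoc, ← Category.assoc t n, ← comp_lift, lift_fst_snd,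
          Category.comp_id]
      rw [hl m hp.symm.symm, hl m' hp']
      congr 1
      apply (Φ.obj c).cart.hom_ext
      · apply (F.cart c).hom_ext
        · rw [Category.assoc, Category.assoc, ← hact c, ← reassoc_of% hl m hp, ← reassoc_of% hl m' hp', e₁]
        · rw [Category.assoc, Category.assoc, (Φ.obj c).cart.w, lift_snd_assoc, lift_snd_assoc]
      · rw [lift_snd, lift_snd]
    refine IsPullback.mk' hπ (fun T m m' e₁ e₂ => hom_ext m m' e₁ e₂) fun T p q hpq => ?_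
    have key : ∀ {V : Over S} {w : (AlgSp.yon S).obj V ⟶ B} (t : Over.mk w ⟶ T), R (pb (t ≫ q ≫ F.π)) →
        ∃ m : Over.mk w ⟶ G ⊗ F.P, m ≫ act = t ≫ p ∧ m ≫ snd G F.P = t ≫ q := by
      intro V w t ht
      have h₂ : R (pb ((t ≫ q) ≫ F.π)) := by rwa [Category.assoc]
      obtain ⟨q', hq', hq''⟩ := F.exists_pt _ h₂
      let p' := (F.cart (Fib44.sObj R _ h₂)).lift (t ≫ p) (q' ≫ (Φ.obj _).π)
        (by rw [Category.assoc, Category.assoc, hpq, ← F.gam_π, reassoc_of% hq'])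
      refine ⟨(Φ.obj (Fib44.sObj R _ h₂)).cart.lift p' q' ((F.cart _).lift_snd _ _ _) ≫ (G ◁ F.gam _), ?_, ?_⟩
      · rw [Category.assoc, hact, (Φ.obj _).cart.lift_fst_assoc]
        exact (F.cart _).lift_fst _ _ _
      · rw [Category.assoc, whiskerLeft_snd, (Φ.obj _).cart.lift_snd_assoc, hq']
    choose g hg hg' using @key
    obtain ⟨m, hm⟩ := ov_glue_exists (q ≫ F.π) hR g (fun {V V' w w'} e he t h h' =>
      hom_ext _ _ (by rw [hg, Category.assoc, Category.assoc, hg]) (by rw [hg', Category.assoc, Category.assoc, hg']))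
    exact ⟨m, ov_glue_eq (q ≫ F.π) hR fun t h => by rw [← Category.assoc, hm t h, hg],
      ov_glue_eq (q ≫ F.π) hR fun t h => by rw [← Category.assoc, hm t h, hg']⟩
  obtain ⟨φ, hφ⟩ := F.exists_map hR (fun c => (Φ.obj c).φ) (fun k => (Φ.map k).wφ)
  have eqv : act ≫ φ = (G ◁ φ) ≫ a.act := F.ext_tensor hR fun c => by
    rw [reassoc_of% hact c, hφ, ← MonoidalCategory.whiskerLeft_comp_assoc, hφ, (Φ.obj c).eqv]
  refine ⟨⟨U, F.bU, F.P, ⟨act, one_act, mul_act⟩, F.π, hcart, hloc, φ, eqv⟩,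
    fun c => ⟨sFamBase Φ c, F.wb c, F.gam c, (hact c).symm, F.cart c, hφ c⟩, rfl, fun c => ?_, fun b c k => ?_⟩
  · exact IsHomLift.of_fac' _ _ _ (Fib44.obj_sieve Φ c) rfl (by simp [sFamBase]; rfl)
  · exact SpQuotObj.hom_ext (sFamBase_map Φ k) (F.nat k)

end SpCartFam

omit Φ in
theorem hasSecLoc_eqToHom {P : AlgSp.Sp S} {T T' : Over S} (π : P ⟶ (AlgSp.yon S).obj T) (h : T = T')
    (hl : HasSecLoc K π) : HasSecLoc K (π ≫ (AlgSp.yon S).map (eqToHom h)) := by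
  subst h
  simpa using hl

omit Φ in
theorem hasSecLoc_of_cover [K.IsStableUnderComposition] {P : AlgSp.Sp S} (π : P ⟶ (AlgSp.yon S).obj U)
    {R₀ : Presieve U.left} (hR₀ : R₀ ∈ K U.left)
    (h : ∀ ⦃W : Scheme.{u}⦄ (g : W ⟶ U.left), R₀ g → ∃ (Q : AlgSp.Sp S)
      (p : Q ⟶ (AlgSp.yon S).obj (Over.mk (g ≫ U.hom))) (m : Q ⟶ P),
      m ≫ π = p ≫ (AlgSp.yon S).map (Over.homMk g) ∧ HasSecLoc K p) :
    HasSecLoc K π := by
  obtain ⟨Idx, V, f, rfl⟩ := R₀.exists_eq_ofArrows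
  choose Y p m hm hloc using fun i => h (f i) ⟨i⟩
  choose Q hQ hsec using hloc
  choose σ W g hg using fun i => (Q i).exists_eq_ofArrows
  refine ⟨_, Precoverage.comp_mem_coverings f hR₀ g (fun i => hg i ▸ hQ i), ?_⟩
  rintro S' q ⟨⟨i, j⟩⟩
  have hmem : Q i (g i j) := by rw [hg i]; exact ⟨j⟩
  obtain ⟨s, hs⟩ := hsec i (g i j) hmem
  let e : Over.mk ((g i j ≫ f i) ≫ U.hom) ⟶ Over.mk (g i j ≫ (Over.mk (f i ≫ U.hom)).hom) :=
    Over.homMk (𝟙 _) (by simp)
  refine ⟨(AlgSp.yon S).map e ≫ s ≫ m i, ?_⟩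
  refine ((Category.assoc _ _ _).trans (congrArg _ ((Category.assoc _ _ _).trans (congrArg _ (hm i))))).trans ?_
  rw [reassoc_of% hs, ← Functor.map_comp, ← Functor.map_comp]
  exact congrArg _ (Over.OverMorphism.ext (by simp [e]))

theorem objGlue_spQuotSt {a : AlgSp.GAction G X} {U : Over S} {R : Sieve U} (hR : R ∈ AlgSp.J S U)
    {R₀ : Presieve U.left} [K.IsStableUnderComposition] (hR₀ : R₀ ∈ K U.left)
    (hle : ∀ ⦃W : Scheme.{u}⦄ (g : W ⟶ U.left), R₀ g → R (Over.homMk g rfl : Over.mk (g ≫ U.hom) ⟶ U)) :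
    Fib44.ObjGlue (SpQuotSt K G a) R := by
  intro Φ
  obtain ⟨F⟩ := exists_spCartFam Φ hR
  refine F.exists_glue hR (hasSecLoc_of_cover F.π.left hR₀ fun W g hg => ?_)
  let c : R.arrows.category := Fib44.sObj R _ (hle g hg)
  refine ⟨_, sπ Φ c, (F.gam c).left, ?_, hasSecLoc_eqToHom _ _ (Φ.obj c).loc⟩
  have h := congrArg (fun t => t.left) (F.gam_π c)
  refine h.trans ?_
  show (Φ.obj c).π.left ≫ (AlgSp.yon S).map (sFamBase Φ c) = _
  rw [sFamBase, Functor.map_comp, ← Category.assoc]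
  rfl

theorem isStack_spQuotSt (a : AlgSp.GAction G X) :
    Stk.IsStack (AlgSp.J S) (SpQuotSt Scheme.fppfPrecoverage G a) := by
  refine Fib44.isStack_iff.2 ⟨isFibGrpd_spQuotSt a, fun U R hR => ?_⟩
  obtain ⟨R₀, hR₀, hR₀R⟩ := exists_precoverage_le (K := Scheme.fppfPrecoverage.{u}) hR
  exact ⟨morGlue_spQuotSt a R hR, objGlue_spQuotSt hR hR₀ hR₀R⟩

theorem isStack_fullSub_spQuotSt (a : AlgSp.GAction G X) (hB : AlgSp.IsAlgSpace B) (hG : AlgSp.IsAlgSpace G.left) :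
    Stk.IsStack (AlgSp.J S)
      (fullSub (SpQuotSt Scheme.fppfPrecoverage G a) (fun A => AlgSp.IsAlgSpace A.P.left)) := by
  let inv : SpQuotSt Scheme.fppfPrecoverage G a ⥤ᵇ
      fullSub (SpQuotSt Scheme.fppfPrecoverage G a) (fun A => AlgSp.IsAlgSpace A.P.left) :=
    { toFunctor := ObjectProperty.lift _ (𝟭 _) (fun A => isAlgSpace_spTorsor hB hG A)
      w := rfl }
  refine (Fib44.isStack_iff_of_isEquivOver (F := subIncl _ _) ⟨inv, ⟨Iso.refl _⟩, ⟨Iso.refl _⟩⟩ (AlgSp.J S)).2 (isStack_spQuotSt a)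

end Groth.Agent.AlgSt88
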