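import Groth.Agent.AlgSt88.SpQuotRep
import Groth.Agent.AlgSt88.SpQuotStack
import Groth.Agent.AlgSt88.DiagLifts

/-! The diagonal of a quotient category with sheaf torsors. -/

set_option autoImplicit false
set_option linter.style.haveILetI false
set_option backward.isDefEq.respectTransparency false
set_option backward.isDefEq.respectTransparency.types false
universe u

open CategoryTheory CategoryTheory.Limits MonoidalCategory CartesianMonoidalCategory AlgebraicGeometry AlgSt FibCat

namespace Groth.Agent.AlgSt88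

variable {S : Scheme.{u}} {B : AlgSp.Sp S} {G X : Over B} [GrpObj G] {a : AlgSp.GAction G X}
  [HI : Precoverage.HasIsos Scheme.fppfPrecoverage.{u}]

/-- The morphisms along which a map acquires a section. -/
def sectionSieve {U : Over S} {P : AlgSp.Sp S} (π : P ⟶ (AlgSp.yon S).obj U) : Sieve U where
  arrows := fun V c => ∃ s : (AlgSp.yon S).obj V ⟶ P, s ≫ π = (AlgSp.yon S).map c
  downward_closed := by
    rintro V W c ⟨s, hs⟩ g
    exact ⟨(AlgSp.yon S).map g ≫ s, by rw [Category.assoc, hs, Functor.map_comp]⟩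

theorem sectionSieve_mem {U : Over S} {P : AlgSp.Sp S} {π : P ⟶ (AlgSp.yon S).obj U}
    (h : HasSecLoc Scheme.fppfPrecoverage π) : sectionSieve π ∈ AlgSp.J S U := by
  obtain ⟨R₀, hR₀, hsec⟩ := h
  show sectionSieve π ∈ (Scheme.fppfTopology.over S) U
  rw [GrothendieckTopology.mem_over_iff]
  refine Scheme.fppfTopology.superset_covering (S := Sieve.generate R₀) ?_
    (Precoverage.generate_mem_toGrothendieck hR₀)
  exact (Sieve.generate_le_iff _ _).2 fun W g hg => (Sieve.overEquiv_iff _ g).2 (hsec g hg)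

theorem liftsLocally_spQuotMap : LiftsLocally (spQuotMap Scheme.fppfPrecoverage G a) := by
  intro U y
  refine ⟨(sectionSieve (syA y).π.left).pullback (eqToHom (syA_base y).symm),
    GrothendieckTopology.pullback_stable _ _ (sectionSieve_mem (syA y).loc), fun V c hc => ?_⟩
  obtain ⟨s, hs⟩ := hc
  refine exists_lift_of_section (sFibFun y) c s ?_
  rw [spMap_sFibFun, syπ, reassoc_of% hs, ← Functor.map_comp, Category.assoc, eqToHom_trans, eqToHom_refl]
  exact congrArg _ (Category.comp_id c)

theorem repByAlgSp1_diag_spQuotSt (hB : AlgSp.IsAlgSpace B) (hG : AlgSp.IsAlgSpace G.left)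
    (hX : AlgSp.IsAlgSpace X.left) :
    RepByAlgSp1 (diag (toSelf (SpQuotSt Scheme.fppfPrecoverage G a))) :=
  repByAlgSp1_diag_of_lifts (isStack_spQuotSt a) (Stk.isFibGrpd_ofPsh _) (repByAlgSp_ofSp ⟨X.left, hX⟩)
    (spQuotMap Scheme.fppfPrecoverage G a)
    (repByAlgSpWith_top_iff.1 (repByAlgSpWith_spQuotMap ⊤ hB hG fun _ => trivial)) liftsLocally_spQuotMap

end Groth.Agent.AlgSt88
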