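import Groth.Prelude
import Mathlib.CategoryTheory.Sites.SheafOfTypes

/-! Maps of sheaves on schemes over a base are glued on points. -/

set_option autoImplicit false
set_option linter.style.haveILetI false
set_option backward.isDefEq.respectTransparency false
set_option backward.isDefEq.respectTransparency.types false
universe u

open CategoryTheory CategoryTheory.Limits Opposite AlgebraicGeometry

namespace Groth.Agent.AlgSt88

variable {S : Scheme.{u}} {F P Q : AlgSp.Sp S} {V V' U : Over S}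

/-- Sections are maps from representables. -/
noncomputable abbrev sEq : ((AlgSp.yon S).obj V ⟶ F) ≃ F.obj.obj (op V) := (AlgSp.J S).uliftYonedaEquiv

theorem sEq_precomp (f : V' ⟶ V) (s : (AlgSp.yon S).obj V ⟶ F) :
    sEq ((AlgSp.yon S).map f ≫ s) = F.obj.map f.op (sEq s) :=
  ((AlgSp.J S).uliftYonedaEquiv_naturality s f).symm

theorem isSheaf_sp (F : AlgSp.Sp S) : Presieve.IsSheaf (AlgSp.J S) F.obj :=
  (isSheaf_iff_isSheaf_of_type _ _).1 F.property

theorem yon_ext_cover {R : Sieve V} (hR : R ∈ AlgSp.J S V) {f f' : (AlgSp.yon S).obj V ⟶ F}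
    (h : ∀ {W : Over S} (g : W ⟶ V), R g → (AlgSp.yon S).map g ≫ f = (AlgSp.yon S).map g ≫ f') : f = f' :=
  sEq.injective (((isSheaf_sp F) R hR).isSeparatedFor.ext fun W g hg => by
    rw [← sEq_precomp, ← sEq_precomp, h g hg])

theorem yon_glue {R : Sieve V} (hR : R ∈ AlgSp.J S V)
    (x : ∀ {W : Over S} (g : W ⟶ V), R g → ((AlgSp.yon S).obj W ⟶ F))
    (hx : ∀ {W W' : Over S} (k : W' ⟶ W) (g : W ⟶ V) (h : R g) (h' : R (k ≫ g)),
      x (k ≫ g) h' = (AlgSp.yon S).map k ≫ x g h) :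
    ∃ f : (AlgSp.yon S).obj V ⟶ F, ∀ {W : Over S} (g : W ⟶ V) (h : R g), (AlgSp.yon S).map g ≫ f = x g h := by
  let y : Presieve.FamilyOfElements F.obj R.arrows := fun W g h => sEq (x g h)
  have hy : y.Compatible := by
    rw [Presieve.compatible_iff_sieveCompatible]
    intro W W' g k h
    exact (congrArg sEq (hx k g h _)).trans (sEq_precomp k _)
  refine ⟨sEq.symm (((isSheaf_sp F) R hR).amalgamate y hy), fun {W} g h => sEq.injective ?_⟩
  rw [sEq_precomp, Equiv.apply_symm_apply]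
  exact ((isSheaf_sp F) R hR).valid_glue hy g h

/-- The morphism of schemes under a point of a representable. -/
noncomputable def pm (t : (AlgSp.yon S).obj V ⟶ (AlgSp.yon S).obj U) : V ⟶ U := (AlgSp.yon S).preimage t

@[simp] theorem map_pm (t : (AlgSp.yon S).obj V ⟶ (AlgSp.yon S).obj U) : (AlgSp.yon S).map (pm t) = t :=
  (AlgSp.yon S).map_preimage t

@[simp] theorem pm_map (g : V ⟶ U) : pm ((AlgSp.yon S).map g) = g :=
  (AlgSp.yon S).map_injective (map_pm _)

theorem pm_comp (g : V' ⟶ V) (t : (AlgSp.yon S).obj V ⟶ (AlgSp.yon S).obj U) :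
    pm ((AlgSp.yon S).map g ≫ t) = g ≫ pm t :=
  (AlgSp.yon S).map_injective (by rw [map_pm, Functor.map_comp, map_pm])

theorem sp_pts_ext (k k' : P ⟶ Q) (h : ∀ {V : Over S} (t : (AlgSp.yon S).obj V ⟶ P), t ≫ k = t ≫ k') : k = k' := by
  refine ObjectProperty.hom_ext _ (NatTrans.ext (funext fun V => ?_))
  apply ConcreteCategory.hom_ext
  intro s
  have h1 := congrArg sEq (h (V := unop V) (sEq.symm s))
  rw [GrothendieckTopology.uliftYonedaEquiv_comp, GrothendieckTopology.uliftYonedaEquiv_comp,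
    Equiv.apply_symm_apply] at h1
  exact h1

variable (π : P ⟶ (AlgSp.yon S).obj U) {R : Sieve U}

theorem sp_glue_hom_eq (hR : R ∈ AlgSp.J S U) {k k' : P ⟶ Q}
    (h : ∀ {V : Over S} (t : (AlgSp.yon S).obj V ⟶ P), R (pm (t ≫ π)) → t ≫ k = t ≫ k') : k = k' :=
  sp_pts_ext k k' fun {V} t => yon_ext_cover ((AlgSp.J S).pullback_stable (pm (t ≫ π)) hR) fun g hg => by
    rw [← Category.assoc, ← Category.assoc]
    exact h _ (by rw [Category.assoc, pm_comp]; exact hg)

theorem sp_glue_hom_exists (hR : R ∈ AlgSp.J S U)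
    (f : ∀ {V : Over S} (t : (AlgSp.yon S).obj V ⟶ P), R (pm (t ≫ π)) → ((AlgSp.yon S).obj V ⟶ Q))
    (hf : ∀ {V V' : Over S} (g : V' ⟶ V) (t : (AlgSp.yon S).obj V ⟶ P) (h : R (pm (t ≫ π)))
      (h' : R (pm (((AlgSp.yon S).map g ≫ t) ≫ π))),
      f ((AlgSp.yon S).map g ≫ t) h' = (AlgSp.yon S).map g ≫ f t h) :
    ∃ k : P ⟶ Q, ∀ {V : Over S} (t : (AlgSp.yon S).obj V ⟶ P) (h : R (pm (t ≫ π))), t ≫ k = f t h := by
  have key : ∀ {V : Over S} (t : (AlgSp.yon S).obj V ⟶ P), ∃ q : (AlgSp.yon S).obj V ⟶ Q,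
      ∀ {W : Over S} (g : W ⟶ V) (h : R (pm (((AlgSp.yon S).map g ≫ t) ≫ π))),
        (AlgSp.yon S).map g ≫ q = f ((AlgSp.yon S).map g ≫ t) h := by
    intro V t
    have hmem : ∀ {W : Over S} (g : W ⟶ V), R.pullback (pm (t ≫ π)) g →
        R (pm (((AlgSp.yon S).map g ≫ t) ≫ π)) := fun g hg => by rw [Category.assoc, pm_comp]; exact hg
    obtain ⟨q, hq⟩ := yon_glue ((AlgSp.J S).pullback_stable (pm (t ≫ π)) hR)
      (fun g hg => f ((AlgSp.yon S).map g ≫ t) (hmem g hg)) (fun {W W'} k g h h' => by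
        have e : (AlgSp.yon S).map (k ≫ g) ≫ t = (AlgSp.yon S).map k ≫ (AlgSp.yon S).map g ≫ t := by
          rw [Functor.map_comp, Category.assoc]
        have := hf k ((AlgSp.yon S).map g ≫ t) (hmem g h) (by rw [← e]; exact hmem _ h')
        rw [← this]
        congr 1)
    exact ⟨q, fun g h => hq g (by rw [Category.assoc, pm_comp] at h; exact h)⟩
  choose q hq using @key
  have fc : ∀ {V : Over S} (t t' : (AlgSp.yon S).obj V ⟶ P) (e : t = t') (h : R (pm (t ≫ π))) (h' : R (pm (t' ≫ π))),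
      f t h = f t' h' := fun t t' e h h' => by subst e; rfl
  let app : P.obj ⟶ Q.obj :=
    { app := fun V => TypeCat.ofHom fun s => sEq (q (sEq.symm s : (AlgSp.yon S).obj (unop V) ⟶ P))
      naturality := fun {V V'} g => by
        apply ConcreteCategory.hom_ext
        intro s
        show sEq (q (sEq.symm (P.obj.map g s))) = Q.obj.map g (sEq (q (sEq.symm s)))
        rw [show sEq.symm (P.obj.map g s) = (AlgSp.yon S).map g.unop ≫ sEq.symm s from sEq.injective (by
          rw [Equiv.apply_symm_apply, sEq_precomp, Equiv.apply_symm_apply]; rfl)]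
        refine Eq.trans (congrArg sEq ?_) (sEq_precomp g.unop _)
        refine yon_ext_cover ((AlgSp.J S).pullback_stable
          (pm (((AlgSp.yon S).map g.unop ≫ sEq.symm s) ≫ π)) hR) fun k hk => ?_
        have hm : R (pm (((AlgSp.yon S).map k ≫ (AlgSp.yon S).map g.unop ≫ sEq.symm s) ≫ π)) := by
          rw [Category.assoc, pm_comp]; exact hk
        have hm' : R (pm (((AlgSp.yon S).map (k ≫ g.unop) ≫ sEq.symm s) ≫ π)) := by
          rw [Functor.map_comp, Category.assoc ((AlgSp.yon S).map k)]; exact hm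
        refine (hq _ k hm).trans ?_
        refine (fc _ ((AlgSp.yon S).map (k ≫ g.unop) ≫ sEq.symm s) (by rw [Functor.map_comp, Category.assoc]) hm hm').trans ?_
        refine (hq _ (k ≫ g.unop) hm').symm.trans ?_
        exact (congrArg (fun z => z ≫ q (sEq.symm s)) ((AlgSp.yon S).map_comp k g.unop)).trans (Category.assoc _ _ _) }
  refine ⟨ObjectProperty.homMk app, fun {V} t h => ?_⟩
  have e1 : t ≫ (ObjectProperty.homMk app : P ⟶ Q) = q t := sEq.injective (by
    rw [GrothendieckTopology.uliftYonedaEquiv_comp]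
    show sEq (q (sEq.symm (sEq t))) = _
    rw [Equiv.symm_apply_apply])
  rw [e1]
  have h' : R (pm (((AlgSp.yon S).map (𝟙 V) ≫ t) ≫ π)) := by
    rw [Category.assoc, pm_comp, Category.id_comp]; exact h
  have e2 : (AlgSp.yon S).map (𝟙 V) ≫ q t = q t := by rw [CategoryTheory.Functor.map_id, Category.id_comp]
  exact e2.symm.trans ((hq t (𝟙 V) h').trans (fc _ t (by rw [CategoryTheory.Functor.map_id, Category.id_comp]) h' h))

end Groth.Agent.AlgSt88

namespace Groth.Agent.AlgSt88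

open AlgSt MonoidalCategory CartesianMonoidalCategory

variable {S : Scheme.{u}} {B : AlgSp.Sp S} {P Q : Over B} {U V V' : Over S} {bU : (AlgSp.yon S).obj U ⟶ B}
  {w : (AlgSp.yon S).obj V ⟶ B} {w' : (AlgSp.yon S).obj V' ⟶ B}

/-- The morphism of schemes under a morphism over the base sheaf. -/
noncomputable def pb (t : Over.mk w ⟶ Over.mk bU) : V ⟶ U := pm t.left

theorem pb_wb (t : Over.mk w ⟶ Over.mk bU) : (AlgSp.yon S).map (pb t) ≫ bU = w := by
  rw [pb, map_pm]; exact Over.w t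

theorem bHom_pb (t : Over.mk w ⟶ Over.mk bU) : bHom (pb t) (pb_wb t) = t := Over.OverMorphism.ext (map_pm _)

theorem pb_bHom (f : V ⟶ U) (h : (AlgSp.yon S).map f ≫ bU = w) : pb (bHom f h) = f := pm_map f

theorem pb_comp (g : V' ⟶ V) (h : (AlgSp.yon S).map g ≫ w = w') (t : Over.mk w ⟶ Over.mk bU) :
    pb (bHom g h ≫ t) = g ≫ pb t := pm_comp g t.left

theorem ov_glue_eq (π : P ⟶ Over.mk bU) {R : Sieve U} (hR : R ∈ AlgSp.J S U) {k k' : P ⟶ Q}
    (h : ∀ {V : Over S} {w : (AlgSp.yon S).obj V ⟶ B} (t : Over.mk w ⟶ P), R (pb (t ≫ π)) → t ≫ k = t ≫ k') :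
    k = k' :=
  Over.OverMorphism.ext (sp_glue_hom_eq π.left hR fun {V} t ht =>
    congrArg (fun z => z.left) (h (Over.homMk t : Over.mk (t ≫ P.hom) ⟶ P) ht))

theorem ov_glue_exists (π : P ⟶ Over.mk bU) {R : Sieve U} (hR : R ∈ AlgSp.J S U)
    (f : ∀ {V : Over S} {w : (AlgSp.yon S).obj V ⟶ B} (t : Over.mk w ⟶ P), R (pb (t ≫ π)) → (Over.mk w ⟶ Q))
    (hf : ∀ {V V' : Over S} {w : (AlgSp.yon S).obj V ⟶ B} {w' : (AlgSp.yon S).obj V' ⟶ B} (g : V' ⟶ V)
      (hg : (AlgSp.yon S).map g ≫ w = w') (t : Over.mk w ⟶ P) (h : R (pb (t ≫ π)))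
      (h' : R (pb ((bHom g hg ≫ t) ≫ π))), f (bHom g hg ≫ t) h' = bHom g hg ≫ f t h) :
    ∃ k : P ⟶ Q, ∀ {V : Over S} {w : (AlgSp.yon S).obj V ⟶ B} (t : Over.mk w ⟶ P) (h : R (pb (t ≫ π))),
      t ≫ k = f t h := by
  let mkP : ∀ {V : Over S} (t : (AlgSp.yon S).obj V ⟶ P.left), Over.mk (t ≫ P.hom) ⟶ P := fun t => Over.homMk t
  have hc : ∀ {V : Over S} {w w₁ : (AlgSp.yon S).obj V ⟶ B} (t : Over.mk w ⟶ P) (t₁ : Over.mk w₁ ⟶ P)
      (e : t.left = t₁.left) (h : R (pb (t ≫ π))) (h₁ : R (pb (t₁ ≫ π))), (f t h).left = (f t₁ h₁).left := by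
    intro V w w₁ t t₁ e h h₁
    obtain rfl : w = w₁ := by
      have e1 := Over.w t; have e2 := Over.w t₁
      rw [e] at e1
      exact e1.symm.trans e2
    obtain rfl : t = t₁ := Over.OverMorphism.ext e
    rfl
  obtain ⟨k, hk⟩ := sp_glue_hom_exists π.left hR (fun t h => (f (mkP t) h).left) (fun {V V'} g t h h' => by
    have hg : (AlgSp.yon S).map g ≫ (t ≫ P.hom) = ((AlgSp.yon S).map g ≫ t) ≫ P.hom := (Category.assoc _ _ _).symm
    have := hf g hg (mkP t) h h'
    exact (hc (mkP ((AlgSp.yon S).map g ≫ t)) (bHom g hg ≫ mkP t) rfl h' h').trans (congrArg (fun z => z.left) this))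
  have hw : k ≫ Q.hom = P.hom := sp_glue_hom_eq π.left hR fun {V} t ht => by
    rw [← Category.assoc, hk t ht]; exact Over.w (f (mkP t) ht)
  refine ⟨Over.homMk k hw, fun {V w} t h => Over.OverMorphism.ext ?_⟩
  exact (hk t.left h).trans (hc (mkP t.left) t rfl h h)

end Groth.Agent.AlgSt88

namespace Groth.Agent.AlgSt88

variable {S : Scheme.{u}} {U : Over S} {A C D P : AlgSp.Sp S}

/-- The map to the sheaf of the base. -/
noncomputable def sp_glue_terminal (T : AlgSp.Sp S) : T ⟶ (AlgSp.yon S).obj (Over.mk (𝟙 S)) :=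
  ObjectProperty.homMk
    { app := fun V => TypeCat.ofHom fun _ => ULift.up (Over.mkIdTerminal.from (unop V))
      naturality := fun V V' g => by
        apply ConcreteCategory.hom_ext
        intro s
        exact congrArg ULift.up (Over.mkIdTerminal.hom_ext _ _) }

/-- A square of sheaves is cartesian when it is so on points. -/
theorem sp_isPullback_of_points {γ : A ⟶ P} {a : A ⟶ C} {π : P ⟶ D} {f : C ⟶ D} (w : γ ≫ π = a ≫ f)
    (hinj : ∀ {V : Over S} (t t' : (AlgSp.yon S).obj V ⟶ A), t ≫ γ = t' ≫ γ → t ≫ a = t' ≫ a → t = t')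
    (hex : ∀ {V : Over S} (p : (AlgSp.yon S).obj V ⟶ P) (q : (AlgSp.yon S).obj V ⟶ C), p ≫ π = q ≫ f →
      ∃ t : (AlgSp.yon S).obj V ⟶ A, t ≫ γ = p ∧ t ≫ a = q) : IsPullback γ a π f := by
  refine IsPullback.mk' w (fun T m m' e₁ e₂ => sp_pts_ext m m' fun t => hinj _ _
    (by rw [Category.assoc, Category.assoc, e₁]) (by rw [Category.assoc, Category.assoc, e₂])) fun T p q e => ?_
  obtain ⟨k, hk⟩ := sp_glue_hom_exists (P := T) (Q := A) (U := Over.mk (𝟙 S))
    (sp_glue_terminal T) ((AlgSp.J S).top_mem _)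
    (fun t _ => (hex (t ≫ p) (t ≫ q) (by rw [Category.assoc, Category.assoc, e])).choose)
    (fun g t _ _ => by
      have h1 := (hex (t ≫ p) (t ≫ q) (by rw [Category.assoc, Category.assoc, e])).choose_spec
      have h2 := (hex (((AlgSp.yon S).map g ≫ t) ≫ p) (((AlgSp.yon S).map g ≫ t) ≫ q)
        (by rw [Category.assoc, Category.assoc, Category.assoc, Category.assoc, e])).choose_spec
      exact hinj _ _ (by rw [h2.1, Category.assoc, Category.assoc, h1.1]) (by rw [h2.2, Category.assoc, Category.assoc, h1.2]))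
  refine ⟨k, sp_pts_ext _ _ fun t => ?_, sp_pts_ext _ _ fun t => ?_⟩
  · rw [← Category.assoc, hk t trivial]
    exact (hex (t ≫ p) (t ≫ q) (by rw [Category.assoc, Category.assoc, e])).choose_spec.1
  · rw [← Category.assoc, hk t trivial]
    exact (hex (t ≫ p) (t ≫ q) (by rw [Category.assoc, Category.assoc, e])).choose_spec.2

end Groth.Agent.AlgSt88
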