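import Groth.Agent.AlgSt88.SpQuotStackFib
import Groth.Agent.AlgSt88.SpSheaf
import Groth.Agent.AlgSt88.EquivCrit
import Groth.Agent.AlgSt88.FpMap
import Groth.Agent.AlgSt88.SpHom

/-! The fibre of the canonical functor to a quotient category with sheaf torsors is the torsor. -/

set_option autoImplicit false
set_option linter.style.haveILetI false
set_option backward.isDefEq.respectTransparency false
set_option backward.isDefEq.respectTransparency.types false
universe u

open CategoryTheory CategoryTheory.Limits MonoidalCategory CartesianMonoidalCategory MonObj AlgebraicGeometry AlgSt FibCat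

namespace Groth.Agent.AlgSt88

variable {S : Scheme.{u}} {B : AlgSp.Sp S} {G X : Over B} [GrpObj G]

theorem gact_lift_mul (a : AlgSp.GAction G X) {T : Over B} (g h : T ⟶ G) (y : T ⟶ X) :
    lift (g * h) y ≫ a.act = lift g (lift h y ≫ a.act) ≫ a.act := by
  have h1 := congrArg (fun t => lift (lift g h) y ≫ t) a.mul_act
  rw [lift_whiskerRight_assoc, lift_lift_associator_hom_assoc, lift_whiskerLeft_assoc] at h1
  simpa only [Hom.mul_def] using h1

theorem gact_lift_one (a : AlgSp.GAction G X) {T : Over B} (y : T ⟶ X) : lift (1 : T ⟶ G) y ≫ a.act = y := by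
  have h1 := congrArg (fun t => lift (toUnit T) y ≫ t) a.one_act
  simp only [lift_whiskerRight_assoc, lift_leftUnitor_hom] at h1
  exact h1

theorem spLeftMul_lift {T Z : Over B} (a b : Z ⟶ G) (t : Z ⟶ T) :
    lift a (lift b t) ≫ (spLeftMul G T).act = lift (a * b) t := by
  simp [spLeftMul, comp_lift, MonObj.comp_mul]

variable {a : AlgSp.GAction G X} [HI : Precoverage.HasIsos Scheme.fppfPrecoverage.{u}]

theorem secYon_eq {F : AlgSp.Sp S} (z : (ofSp F).obj) : sEq ((AlgSp.J S).uliftYonedaEquiv.symm z.sec) = z.sec :=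
  Equiv.apply_symm_apply _ _

theorem secYon_ofSpMap {P : Over B} (φ : P ⟶ X) (w : (ofSp P.left).obj) :
    secYon ((ofSpMap φ.left).obj w) = secYon w ≫ φ.left := by
  apply sEq.injective
  refine (Equiv.apply_symm_apply _ _).trans ?_
  rw [GrothendieckTopology.uliftYonedaEquiv_comp]
  exact (congrArg _ (Equiv.apply_symm_apply _ _)).symm

theorem unit_point_top {T Y : Over B} (A : SpQuotObj Scheme.fppfPrecoverage G a) (p : T ⟶ A.P) (q : Y ⟶ T) :
    lift (1 : Y ⟶ G) q ≫ (G ◁ p) ≫ A.act.act = q ≫ p := by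
  rw [lift_whiskerLeft_assoc, gact_lift_one]

/-- The morphism from a trivial torsor given by a point of a torsor. -/
noncomputable def spPointHom (A : SpQuotObj Scheme.fppfPrecoverage G a) (x : (ofSp X.left).obj)
    (p : Over.mk (secYon x ≫ X.hom) ⟶ A.P) (hp : p ≫ A.φ = secOver x) :
    (spQuotMap Scheme.fppfPrecoverage G a).obj x ⟶ A where
  base := pb (p ≫ A.π)
  wb := pb_wb _
  top := (G ◁ p) ≫ A.act.act
  eqv := by
    let T : Over B := Over.mk (secYon x ≫ X.hom)
    show (spLeftMul G T).act ≫ (G ◁ p) ≫ A.act.act = (G ◁ ((G ◁ p) ≫ A.act.act)) ≫ A.act.act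
    rw [← Category.assoc, show (spLeftMul G T).act ≫ (G ◁ p) =
        lift (fst G (G ⊗ T) * (snd G (G ⊗ T) ≫ fst G T)) ((snd G (G ⊗ T) ≫ snd G T) ≫ p) by
        ext : 1 <;> simp [spLeftMul], gact_lift_mul,
      show G ◁ ((G ◁ p) ≫ A.act.act) = lift (fst G (G ⊗ T)) (snd G (G ⊗ T) ≫ (G ◁ p) ≫ A.act.act) by ext : 1 <;> simp <;> rfl,
      ← Category.assoc (snd G (G ⊗ T)) (G ◁ p),
      show snd G (G ⊗ T) ≫ (G ◁ p) = lift (snd G (G ⊗ T) ≫ fst G T) ((snd G (G ⊗ T) ≫ snd G T) ≫ p) by
        ext : 1 <;> simp]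
  cart := by
    rw [bHom_pb]
    exact (AlgSt.isPullback_whiskerLeft' p).paste_horiz A.cart
  wφ := by
    show ((G ◁ p) ≫ A.act.act) ≫ A.φ = (G ◁ secOver x) ≫ a.act
    rw [Category.assoc, A.eqv, ← hp, MonoidalCategory.whiskerLeft_comp_assoc]

theorem spTriv_hom_top (x : (ofSp X.left).obj) {A : SpQuotObj Scheme.fppfPrecoverage G a}
    (h : (spQuotMap Scheme.fppfPrecoverage G a).obj x ⟶ A) :
    h.top = (G ◁ (lift (1 : Over.mk (secYon x ≫ X.hom) ⟶ G) (𝟙 _) ≫ h.top)) ≫ A.act.act := by
  let T : Over B := Over.mk (secYon x ≫ X.hom)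
  have h1 : (spLeftMul G T).act ≫ h.top = (G ◁ h.top) ≫ A.act.act := h.eqv
  have h2 := congrArg (fun t => lift (fst G T) (lift (1 : G ⊗ T ⟶ G) (snd G T)) ≫ t) h1
  rw [← Category.assoc, spLeftMul_lift, _root_.mul_one, lift_fst_snd, lift_whiskerLeft_assoc,
    show lift (1 : G ⊗ T ⟶ G) (snd G T) = snd G T ≫ lift (1 : T ⟶ G) (𝟙 T) by simp [comp_lift],
    Category.assoc] at h2
  refine ((Category.id_comp h.top).symm.trans h2).trans ?_
  exact congrArg (· ≫ A.act.act) (lift_fst_comp_snd_comp (𝟙 G) _ |>.trans (by simp; rfl))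

theorem exists_spQuot_iso_fac {A A' C : SpQuotObj Scheme.fppfPrecoverage G a} (m : A' ⟶ A) (n : C ⟶ A)
    (b : A'.base ≅ C.base) (hb : b.hom ≫ n.base = m.base) :
    ∃ i : A' ≅ C, i.hom.base = b.hom ∧ i.hom ≫ n = m := by
  obtain ⟨i, ⟨hi, hi'⟩, -⟩ := existsUnique_spQuot_fac m n b.hom hb
  obtain ⟨j, ⟨hj, hj'⟩, -⟩ := existsUnique_spQuot_fac n m b.inv (by rw [← hb, Iso.inv_hom_id_assoc])
  refine ⟨⟨i, j, spQuot_hom_ext' m ?_ ?_, spQuot_hom_ext' n ?_ ?_⟩, hi, hi'⟩
  · show i.base ≫ j.base = 𝟙 _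
    rw [hi, hj, Iso.hom_inv_id]
  · rw [Category.assoc, hj', hi', Category.id_comp]
  · show j.base ≫ i.base = 𝟙 _
    rw [hi, hj, Iso.inv_hom_id]
  · rw [Category.assoc, hi', hj', Category.id_comp]

section Fibre

variable {U : Over S} (y : overCat U ⥤ᵇ SpQuotSt Scheme.fppfPrecoverage G a)

/-- The object classified by a functor from a slice. -/
abbrev syA : SpQuotObj Scheme.fppfPrecoverage G a := y.obj (Over.mk (𝟙 U))

theorem syA_base : (syA y).base = U := y.w_obj (Over.mk (𝟙 U))

/-- The projection of the torsor to the base of the slice. -/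
noncomputable def syπ : (syA y).P.left ⟶ (AlgSp.yon S).obj U :=
  (syA y).π.left ≫ (AlgSp.yon S).map (eqToHom (syA_base y))

/-- The comparison with the universal object. -/
noncomputable def syHom (f : Over U) : y.obj f ⟶ syA y :=
  y.map (Over.homMk f.hom (Category.comp_id _) : f ⟶ Over.mk (𝟙 U))

theorem sy_map_base {f g : Over U} (k : f ⟶ g) :
    (y.map k).base = eqToHom (y.w_obj f) ≫ k.left ≫ eqToHom (y.w_obj g).symm :=
  Functor.congr_hom y.w k

theorem syHom_comp {f g : Over U} (k : f ⟶ g) : y.map k ≫ syHom y g = syHom y f := by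
  rw [syHom, syHom, ← y.map_comp]
  exact congrArg (fun t => y.map t) (Over.OverMorphism.ext (Over.w k))

/-- The point of `X` under a point of the torsor. -/
noncomputable abbrev syX (w : (ofSp (syA y).P.left).obj) : (ofSp X.left).obj := (ofSpMap (syA y).φ.left).obj w

/-- A point of the torsor as a morphism over the base sheaf. -/
noncomputable def syPt (w : (ofSp (syA y).P.left).obj) : Over.mk (secYon (syX y w) ≫ X.hom) ⟶ (syA y).P :=
  Over.homMk (secYon w) (by
    show secYon w ≫ (syA y).P.hom = secYon (syX y w) ≫ X.hom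
    rw [secYon_ofSpMap, Category.assoc, Over.w (syA y).φ])

theorem syPt_φ (w : (ofSp (syA y).P.left).obj) : syPt y w ≫ (syA y).φ = secOver (syX y w) :=
  Over.OverMorphism.ext (secYon_ofSpMap (syA y).φ w).symm

/-- The structure morphism of a point of the torsor. -/
noncomputable def syStr (w : (ofSp (syA y).P.left).obj) : w.base ⟶ U := pm (secYon w ≫ syπ y)

theorem pb_syPt (w : (ofSp (syA y).P.left).obj) :
    pb (syPt y w ≫ (syA y).π) ≫ eqToHom (syA_base y) = syStr y w := by
  apply (AlgSp.yon S).map_injective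
  rw [syStr, map_pm, Functor.map_comp, pb, map_pm]
  exact Category.assoc _ _ _

/-- The morphism from the trivial torsor given by a point. -/
noncomputable abbrev syPointHom (w : (ofSp (syA y).P.left).obj) :
    (spQuotMap Scheme.fppfPrecoverage G a).obj (syX y w) ⟶ syA y :=
  spPointHom (syA y) (syX y w) (syPt y w) (syPt_φ y w)

theorem exists_sFibIso (w : (ofSp (syA y).P.left).obj) :
    ∃ i : y.obj (Over.mk (syStr y w)) ≅ (spQuotMap Scheme.fppfPrecoverage G a).obj (syX y w),
      i.hom.base = eqToHom (y.w_obj (Over.mk (syStr y w))) ∧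
        i.hom ≫ syPointHom y w = syHom y (Over.mk (syStr y w)) := by
  refine exists_spQuot_iso_fac _ _ (eqToIso (y.w_obj (Over.mk (syStr y w)))) ?_
  show eqToHom (y.w_obj (Over.mk (syStr y w))) ≫ pb (syPt y w ≫ (syA y).π) = (y.map _).base
  rw [sy_map_base]
  refine congrArg (eqToHom _ ≫ ·) ?_
  show _ = syStr y w ≫ _
  rw [← pb_syPt, Category.assoc, eqToHom_trans, eqToHom_refl, Category.comp_id]

/-- The comparison of the two objects over a point of the torsor. -/
noncomputable def sFibIso (w : (ofSp (syA y).P.left).obj) :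
    y.obj (Over.mk (syStr y w)) ≅ (spQuotMap Scheme.fppfPrecoverage G a).obj (syX y w) :=
  (exists_sFibIso y w).choose

theorem sFibIso_base (w : (ofSp (syA y).P.left).obj) :
    (sFibIso y w).hom.base = eqToHom (y.w_obj (Over.mk (syStr y w))) :=
  (exists_sFibIso y w).choose_spec.1

theorem sFibIso_comp (w : (ofSp (syA y).P.left).obj) :
    (sFibIso y w).hom ≫ syPointHom y w = syHom y (Over.mk (syStr y w)) :=
  (exists_sFibIso y w).choose_spec.2

theorem syStr_map {w w' : (ofSp (syA y).P.left).obj} (ψ : w ⟶ w') : ψ.hom ≫ syStr y w' = syStr y w := by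
  rw [syStr, syStr, ← pm_comp, ← Category.assoc, secYon_comp]

theorem syPointHom_map {w w' : (ofSp (syA y).P.left).obj} (ψ : w ⟶ w') :
    syPointHom y w = (spQuotMap Scheme.fppfPrecoverage G a).map ((ofSpMap (syA y).φ.left).map ψ) ≫ syPointHom y w' := by
  have hw : (AlgSp.yon S).map ψ.hom ≫ secYon (syX y w') ≫ X.hom = secYon (syX y w) ≫ X.hom := by
    rw [← Category.assoc]
    exact congrArg (· ≫ X.hom) (secYon_comp ((ofSpMap (syA y).φ.left).map ψ))
  have hp : bHom ψ.hom hw ≫ syPt y w' = syPt y w := Over.OverMorphism.ext (secYon_comp ψ)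
  refine SpQuotObj.hom_ext ?_ ?_
  · show pb (syPt y w ≫ _) = ψ.hom ≫ pb (syPt y w' ≫ _)
    rw [← hp, Category.assoc, pb_comp]
  · show (G ◁ syPt y w) ≫ (syA y).act.act = (G ◁ bHom ψ.hom hw) ≫ (G ◁ syPt y w') ≫ (syA y).act.act
    rw [← MonoidalCategory.whiskerLeft_comp_assoc, hp]

theorem sFibIso_natural {w w' : (ofSp (syA y).P.left).obj} (ψ : w ⟶ w') :
    y.map (Over.homMk ψ.hom (syStr_map y ψ) : Over.mk (syStr y w) ⟶ Over.mk (syStr y w')) ≫ (sFibIso y w').hom =
      (sFibIso y w).hom ≫ (spQuotMap Scheme.fppfPrecoverage G a).map ((ofSpMap (syA y).φ.left).map ψ) := by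
  refine spQuot_hom_ext' (syPointHom y w') ?_ ?_
  · show (y.map _).base ≫ (sFibIso y w').hom.base = (sFibIso y w).hom.base ≫ ψ.hom
    rw [sFibIso_base, sFibIso_base, sy_map_base]
    simp
  · rw [Category.assoc, sFibIso_comp, syHom_comp, Category.assoc]
    exact (sFibIso_comp y w).symm.trans (congrArg ((sFibIso y w).hom ≫ ·) (syPointHom_map y ψ))

/-- The functor from the torsor to the fibre product. -/
noncomputable def sFibFun : ofSp (syA y).P.left ⥤ᵇ fp y (spQuotMap Scheme.fppfPrecoverage G a) where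
  toFunctor :=
    { obj := fun w =>
        ⟨{ fst := Over.mk (syStr y w)
           snd := syX y w
           iso := sFibIso y w },
          IsHomLift.of_fac' _ _ _ (y.w_obj _) rfl ((sFibIso_base y w).trans (by simp))⟩
      map := fun {w w'} ψ =>
        fpHom (Over.homMk ψ.hom (syStr_map y ψ)) ((ofSpMap (syA y).φ.left).map ψ) (sFibIso_natural y ψ)
      map_id := fun w => fpHom_ext (Over.OverMorphism.ext rfl) (Stk.EltObj.hom_ext rfl)
      map_comp := fun f g => fpHom_ext (Over.OverMorphism.ext rfl) (Stk.EltObj.hom_ext rfl) }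
  w := rfl

theorem isEquivOver_sFibFun : IsEquivOver (sFibFun y) := by
  apply IsEquivData.isEquivOver
  refine ⟨fun {w w'} f g h => ?_, fun {w w'} k => ?_, fun z => ?_⟩
  · exact Stk.EltObj.hom_ext (congrArg (fun t => t.hom.fst.left) h)
  · let f : w.base ⟶ w'.base := k.hom.fst.left
    let l : syX y w ⟶ syX y w' := k.hom.snd
    have hw : y.map k.hom.fst ≫ (sFibIso y w').hom =
        (sFibIso y w).hom ≫ (spQuotMap Scheme.fppfPrecoverage G a).map l := k.hom.w
    have hl : l.hom = f := by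
      have h := congrArg (fun t => t.base) hw
      change (y.map k.hom.fst).base ≫ (sFibIso y w').hom.base = (sFibIso y w).hom.base ≫ l.hom at h
      rw [sFibIso_base, sFibIso_base, sy_map_base] at h
      exact ((cancel_epi _).1 (h.symm.trans (by simp [f])))
    have h1 : syPointHom y w = (spQuotMap Scheme.fppfPrecoverage G a).map l ≫ syPointHom y w' := by
      rw [← cancel_epi (sFibIso y w).hom, sFibIso_comp, ← Category.assoc, ← hw, Category.assoc, sFibIso_comp]
      exact (syHom_comp y k.hom.fst).symm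
    have hwb : (AlgSp.yon S).map l.hom ≫ secYon (syX y w') ≫ X.hom = secYon (syX y w) ≫ X.hom := by
      rw [← Category.assoc]
      exact congrArg (· ≫ X.hom) (secYon_comp l)
    have h2 : (G ◁ syPt y w) ≫ (syA y).act.act = (G ◁ bHom l.hom hwb) ≫ (G ◁ syPt y w') ≫ (syA y).act.act :=
      congrArg (fun t => t.top) h1
    have h3 := congrArg (fun t => lift (1 : Over.mk (secYon (syX y w) ≫ X.hom) ⟶ G) (𝟙 _) ≫ t) h2
    simp only [← MonoidalCategory.whiskerLeft_comp_assoc] at h3
    rw [unit_point_top, unit_point_top, Category.id_comp, Category.id_comp] at h3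
    have h4 : (AlgSp.yon S).map f ≫ secYon w' = secYon w := by
      rw [← hl]; exact (congrArg (fun t => t.left) h3).symm
    have hs : (syA y).P.left.obj.map f.op w'.sec = w.sec := by
      have h5 := congrArg sEq h4
      rw [sEq_precomp] at h5
      exact (congrArg ((syA y).P.left.obj.map f.op) (secYon_eq w')).symm.trans (h5.trans (secYon_eq w))
    exact ⟨⟨f, hs⟩, fpHom_ext (Over.OverMorphism.ext rfl) (Stk.EltObj.hom_ext hl.symm)⟩
  · obtain ⟨⟨g, q, i⟩, hz⟩ := z
    obtain ⟨T, x⟩ := q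
    have hh : (SpQuotSt Scheme.fppfPrecoverage G a).p.IsHomLift (𝟙 g.left) i.hom := hz
    obtain rfl : g.left = T :=
      (IsHomLift.codomain_eq (SpQuotSt Scheme.fppfPrecoverage G a).p (𝟙 g.left) i.hom).symm
    have hib : i.hom.base = eqToHom (y.w_obj g) := by
      have h := IsHomLift.fac' (SpQuotSt Scheme.fppfPrecoverage G a).p (𝟙 g.left) i.hom
      exact h.trans (by simp)
    have hinv : i.inv.base = eqToHom (y.w_obj g).symm := by
      have h : i.hom.base ≫ i.inv.base = 𝟙 _ := congrArg (fun t => t.base) i.hom_inv_id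
      rw [hib] at h
      calc i.inv.base = eqToHom (y.w_obj g).symm ≫ eqToHom (y.w_obj g) ≫ i.inv.base := by simp
        _ = _ := (congrArg (eqToHom (y.w_obj g).symm ≫ ·) h).trans (Category.comp_id _)
    let q : (ofSp X.left).obj := ⟨g.left, x⟩
    let h : (spQuotMap Scheme.fppfPrecoverage G a).obj q ⟶ syA y := i.inv ≫ syHom y g
    let p : Over.mk (secYon q ≫ X.hom) ⟶ (syA y).P := lift (1 : Over.mk (secYon q ≫ X.hom) ⟶ G) (𝟙 _) ≫ h.top
    have htop : h.top = (G ◁ p) ≫ (syA y).act.act := spTriv_hom_top q h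
    have hx : p ≫ (syA y).φ = secOver q := by
      have h1 : h.top ≫ (syA y).φ = (G ◁ secOver q) ≫ a.act := h.wφ
      show (lift _ _ ≫ h.top) ≫ _ = _
      rw [Category.assoc, h1, lift_whiskerLeft_assoc, Category.id_comp, gact_lift_one]
    have hπ : p ≫ (syA y).π = bHom h.base h.wb := by
      have h1 : h.top ≫ (syA y).π = snd G _ ≫ bHom h.base h.wb := h.cart.w
      show (lift _ _ ≫ h.top) ≫ _ = _
      rw [Category.assoc, h1]
      exact (lift_snd_assoc _ _ _).trans (Category.id_comp _)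
    have hbase : h.base = g.hom ≫ eqToHom (syA_base y).symm := by
      show i.inv.base ≫ (y.map _).base = _
      rw [hinv, sy_map_base]
      simp
    let w : (ofSp (syA y).P.left).obj := ⟨g.left, sEq p.left⟩
    have hsec : secYon w = p.left := Equiv.symm_apply_apply _ _
    have hg : syStr y w = g.hom := by
      apply (AlgSp.yon S).map_injective
      have h6 : p.left ≫ (syA y).π.left = (AlgSp.yon S).map h.base := congrArg (fun t => t.left) hπ
      rw [syStr, map_pm, hsec, syπ, reassoc_of% h6, hbase, ← Functor.map_comp]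
      simp
    have hxw : ((ofSpMap (syA y).φ.left).obj w).sec = x := by
      have h1 : secYon (syX y w) = secYon q := by
        rw [secYon_ofSpMap, hsec]; exact congrArg (fun t => t.left) hx
      exact (secYon_eq (syX y w)).symm.trans ((congrArg sEq h1).trans (secYon_eq q))
    let e₁ : Over.mk (syStr y w) ≅ g := Over.isoMk (Iso.refl _) ((Category.id_comp _).trans hg.symm)
    let e₂ : syX y w ≅ q := eltIso hxw
    refine ⟨w, fpObjIso e₁ e₂ ?_, fp_isHomLift _ (IsHomLift.of_fac' _ _ _ rfl rfl (by simp [e₁]; rfl))⟩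
    show y.map e₁.hom ≫ i.hom = (sFibIso y w).hom ≫ (spQuotMap Scheme.fppfPrecoverage G a).map e₂.hom
    refine spQuot_hom_ext' h ?_ ?_
    · show (y.map e₁.hom).base ≫ i.hom.base = (sFibIso y w).hom.base ≫ 𝟙 _
      rw [sy_map_base, sFibIso_base, hib]
      simp [e₁]
      rfl
    · refine ((Category.assoc _ _ _).trans ((congrArg (y.map e₁.hom ≫ ·) (Iso.hom_inv_id_assoc i _)).trans
        (syHom_comp y e₁.hom))).trans (Eq.trans ?_ (Category.assoc _ _ _).symm)
      refine (sFibIso_comp y w).symm.trans (congrArg ((sFibIso y w).hom ≫ ·) ?_)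
      have hwb : (AlgSp.yon S).map (𝟙 g.left) ≫ secYon q ≫ X.hom = secYon (syX y w) ≫ X.hom := by
        rw [← Category.assoc]
        exact congrArg (· ≫ X.hom) (secYon_comp e₂.hom)
      have hpw : syPt y w = bHom (𝟙 g.left) hwb ≫ p := Over.OverMorphism.ext (by
        show secYon w = (AlgSp.yon S).map (𝟙 g.left) ≫ p.left
        rw [hsec, CategoryTheory.Functor.map_id, Category.id_comp])
      refine SpQuotObj.hom_ext ?_ ?_
      · show pb (syPt y w ≫ (syA y).π) = 𝟙 g.left ≫ h.base
        rw [hpw, Category.assoc, pb_comp, hπ, pb_bHom]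
      · show (G ◁ syPt y w) ≫ (syA y).act.act = (G ◁ bHom (𝟙 g.left) hwb) ≫ h.top
        rw [htop, ← MonoidalCategory.whiskerLeft_comp_assoc, hpw]

theorem spMap_sFibFun :
    spMapOfOver (BasedFunctor.comp (sFibFun y) (fpFst y (spQuotMap Scheme.fppfPrecoverage G a))) = syπ y := by
  refine sp_pts_ext _ _ fun {T} t => sEq.injective ?_
  rw [GrothendieckTopology.uliftYonedaEquiv_comp, GrothendieckTopology.uliftYonedaEquiv_comp]
  show (⟨secHom _ ⟨T, sEq t⟩⟩ : ULift.{u + 1} (T ⟶ U)) = _
  refine Eq.trans ?_ (GrothendieckTopology.uliftYonedaEquiv_comp (AlgSp.J S) t (syπ y))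
  apply ULift.ext
  show eqToHom _ ≫ syStr y ⟨T, sEq t⟩ = (sEq (t ≫ syπ y)).down
  rw [syStr, show secYon (⟨T, sEq t⟩ : (ofSp (syA y).P.left).obj) = t from Equiv.symm_apply_apply _ _]
  obtain ⟨g, hg⟩ := (AlgSp.yon S).map_surjective (t ≫ syπ y)
  rw [← hg, pm_map, eqToHom_refl, Category.id_comp]
  show g = 𝟙 T ≫ g
  rw [Category.id_comp]

end Fibre

end Groth.Agent.AlgSt88
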