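import Groth.Agent.AlgSt88.SpQuotFib
import Groth.Agent.AlgSt88.SpTorsor
import Groth.Agent.AlgSt88.Cancel
import Groth.Agent.AlgSt88.Rep

/-! The canonical functor to a quotient category with sheaf torsors is representable. -/

set_option autoImplicit false
set_option linter.style.haveILetI false
set_option backward.isDefEq.respectTransparency false
set_option backward.isDefEq.respectTransparency.types false
universe u

open CategoryTheory CategoryTheory.Limits MonoidalCategory CartesianMonoidalCategory AlgebraicGeometry AlgSt FibCat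

namespace Groth.Agent.AlgSt88

variable {S : Scheme.{u}} {B : AlgSp.Sp S} {G X : Over B} [GrpObj G] {a : AlgSp.GAction G X}

theorem exists_spTorsor_cover (A : SpQuotObj Scheme.fppfPrecoverage G a) :
    ∃ (ι : Type u) (T : ι → Over S) (g : ∀ i, (AlgSp.yon S).obj (T i) ⟶ (AlgSp.yon S).obj A.base)
      (s : ∀ i, (AlgSp.yon S).obj (T i) ⟶ A.P.left),
      AlgSp.IsFppfCover (fun i => (AlgSp.yon S).obj (T i)) g ∧ ∀ i, s i ≫ A.π.left = g i := by
  obtain ⟨R, hR, hsec⟩ := A.loc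
  obtain ⟨κ, Z, φ, rfl⟩ := R.exists_eq_ofArrows
  obtain ⟨hsurj, hfl⟩ := (Scheme.ofArrows_mem_precoverage_iff _).1 hR
  have hex : ∀ x : A.base.left, ∃ (T' : Scheme.{u}) (f : T' ⟶ A.base.left) (t : T'),
      ((@Flat ⊓ @LocallyOfFinitePresentation : MorphismProperty Scheme.{u}) f ∧ Presieve.ofArrows Z φ f) ∧ f t = x := fun x => by
    obtain ⟨i, t, ht⟩ := hsurj x
    exact ⟨Z i, φ i, t, ⟨hfl i, .mk i⟩, ht⟩
  choose T' f t hf ht using hex
  choose s hs using fun x => hsec (f x) (hf x).2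
  let Ti : A.base.left → Over S := fun x => Over.mk (f x ≫ A.base.hom)
  let g : ∀ x, (AlgSp.yon S).obj (Ti x) ⟶ (AlgSp.yon S).obj A.base := fun x => (AlgSp.yon S).map (Over.homMk (f x))
  refine ⟨A.base.left, Ti, g, s, ⟨fun x => ?_, fun z => ?_⟩, hs⟩
  · obtain ⟨h1, h2⟩ := (hf x).1
    exact ⟨(SpFP87.locP_yon_map_iff (Over.homMk (f x) : Ti x ⟶ A.base)).2 h1,
      (SpFP87.locP_yon_map_iff (Over.homMk (f x) : Ti x ⟶ A.base)).2 h2⟩
  · obtain ⟨x, rfl⟩ := (AlgSp.Points.schemeHomeo A.base).surjective z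
    refine ⟨x, AlgSp.Points.schemeHomeo (Ti x) (t x), ?_⟩
    rw [AlgSp.Points.map_yon_map_apply]
    exact congrArg _ (ht x)

theorem isSurjectiveMor_spTorsor (A : SpQuotObj Scheme.fppfPrecoverage G a) :
    AlgSp.IsSurjectiveMor A.π.left := fun z => by
  obtain ⟨ι, T, g, s, hg, hs⟩ := exists_spTorsor_cover A
  obtain ⟨i, w, rfl⟩ := hg.2 z
  exact ⟨AlgSp.Points.map (s i) w, by rw [← AlgSp.Points.map_comp, hs i]⟩

theorem prop_spTorsor (P : MorphismProperty (AlgSp.Sp S)) (hb : StableBC P)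
    (hloc : AlgSp.IsLocalOnBase AlgSp.IsFppfCover P) (hB : AlgSp.IsAlgSpace B) (hG : AlgSp.IsAlgSpace G.left)
    (hP : P G.hom) (A : SpQuotObj Scheme.fppfPrecoverage G a) : P A.π.left := by
  obtain ⟨ι, T, g, s, hg, hs⟩ := exists_spTorsor_cover A
  let T'' : ι → Over B := fun i => Over.mk (s i ≫ A.P.hom)
  let s' : ∀ i, T'' i ⟶ A.P := fun i => Over.homMk (s i)
  have sq : ∀ i, IsPullback (fst G (T'' i)).left (snd G (T'' i)).left G.hom (T'' i).hom :=
    fun i => (AlgSt.isPullback_fst_snd' G (T'' i)).map (Over.forget B)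
  have halg : ∀ i, AlgSp.IsAlgSpace (G ⊗ T'' i).left := fun i =>
    SpFP87.isAlgSpace_of_isPullback (sq i) hG (AlgSp.IsAlgSpace.yon_obj _) hB.diag
  refine (hloc (fun i => (AlgSp.yon S).obj (T i)) g (AlgSp.IsAlgSpace.yon_obj _) (fun i => AlgSp.IsAlgSpace.yon_obj _)
    hg A.π.left (isAlgSpace_spTorsor hB hG A) (fun i => (G ⊗ T'' i).left) (fun i => (snd G (T'' i)).left)
    (fun i => ((G ◁ s' i) ≫ A.act.act).left) halg fun i => ?_).2 fun i => ?_
  · have h := (isPullback_spTorsor A (s' i)).map (Over.forget B)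
    have hsl : (s' i ≫ A.π).left = g i := hs i
    rw [← hsl]
    exact h
  · exact hb hG hB (halg i) (AlgSp.IsAlgSpace.yon_obj _) _ _ _ _ (sq i) hP

variable [HI : Precoverage.HasIsos Scheme.fppfPrecoverage.{u}]

theorem repByAlgSpWith_spQuotMap (P : MorphismProperty (AlgSp.Sp S)) (hB : AlgSp.IsAlgSpace B)
    (hG : AlgSp.IsAlgSpace G.left) (h : ∀ {U : Over S} (y : overCat U ⥤ᵇ SpQuotSt Scheme.fppfPrecoverage G a), P (syπ y)) :
    RepByAlgSpWith P (spQuotMap Scheme.fppfPrecoverage G a) := fun U y =>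
  ⟨⟨(syA y).P.left, isAlgSpace_spTorsor hB hG _⟩, sFibFun y, isEquivOver_sFibFun y,
    (congrArg (fun t => P t) (spMap_sFibFun y)).mpr (h y)⟩

theorem repByAlgSpWith_surj_spQuotMap (hB : AlgSp.IsAlgSpace B) (hG : AlgSp.IsAlgSpace G.left) :
    RepByAlgSpWith AlgSp.IsSurjectiveMor (spQuotMap Scheme.fppfPrecoverage G a) :=
  repByAlgSpWith_spQuotMap _ hB hG fun {U} y z => by
    haveI : IsIso ((AlgSp.yon S).map (eqToHom (syA_base y))) := inferInstance
    obtain ⟨w, hw⟩ := isSurjectiveMor_spTorsor (syA y) (AlgSp.Points.map ((AlgSp.yon S).map (eqToHom (syA_base y).symm)) z)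
    refine ⟨w, ?_⟩
    rw [syπ, AlgSp.Points.map_comp, hw, ← AlgSp.Points.map_comp,
      ← Functor.map_comp, eqToHom_trans, eqToHom_refl, CategoryTheory.Functor.map_id, AlgSp.Points.map_id]

theorem repByAlgSpWith_spQuotMap_of_local (P : MorphismProperty (AlgSp.Sp S)) (hb : StableBC P)
    (hloc : AlgSp.IsLocalOnBase AlgSp.IsFppfCover P) (hB : AlgSp.IsAlgSpace B) (hG : AlgSp.IsAlgSpace G.left)
    (hP : P G.hom) : RepByAlgSpWith P (spQuotMap Scheme.fppfPrecoverage G a) :=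
  repByAlgSpWith_spQuotMap _ hB hG fun {U} y => by
    have hY : AlgSp.IsAlgSpace (syA y).P.left := isAlgSpace_spTorsor hB hG _
    have sq : IsPullback (𝟙 (syA y).P.left) (syπ y) (syA y).π.left
        ((AlgSp.yon S).map (eqToHom (syA_base y).symm)) := IsPullback.of_horiz_isIso ⟨by
      rw [syπ, Category.assoc, ← Functor.map_comp, eqToHom_trans, eqToHom_refl, CategoryTheory.Functor.map_id,
        Category.id_comp]
      exact (Category.comp_id _).symm⟩
    exact hb hY (AlgSp.IsAlgSpace.yon_obj _) hY (AlgSp.IsAlgSpace.yon_obj _) _ _ _ _ sq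
      (prop_spTorsor P hb hloc hB hG hP (syA y))

end Groth.Agent.AlgSt88
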