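import Groth.Agent.AlgSt88.SpQuotStackGlue

/-! The sheaf glued from a family of sheaf torsors on a sieve. -/

set_option autoImplicit false
set_option linter.style.haveILetI false
set_option backward.isDefEq.respectTransparency false
set_option backward.isDefEq.respectTransparency.types false
universe u

open CategoryTheory CategoryTheory.Limits MonoidalCategory CartesianMonoidalCategory Opposite AlgebraicGeometry AlgSt

namespace Groth.Agent.AlgSt88

variable {S : Scheme.{u}} {K : Precoverage Scheme.{u}} {B : AlgSp.Sp S} {G X : Over B} [GrpObj G]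
  {a : AlgSp.GAction G X}
variable {U : Over S} {R : Sieve U} (Φ : Stk.sieveCat R ⥤ᵇ SpQuotSt K G a)

/-- The base of a member, mapped to the base of the family. -/
noncomputable def sFamBase (c : R.arrows.category) : (Φ.obj c).base ⟶ U :=
  eqToHom (Fib44.obj_sieve Φ c) ≫ c.obj.hom

theorem sFam_map_base {b c : R.arrows.category} (k : b ⟶ c) :
    (Φ.map k).base = eqToHom (Fib44.obj_sieve Φ b) ≫ k.hom.left ≫ eqToHom (Fib44.obj_sieve Φ c).symm :=
  Functor.congr_hom Φ.w k

theorem sFamBase_map {b c : R.arrows.category} (k : b ⟶ c) : (Φ.map k).base ≫ sFamBase Φ c = sFamBase Φ b := by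
  simp [sFamBase, sFam_map_base, Over.w k.hom]

/-- The total sheaf of a member, over the scheme of the member. -/
noncomputable def sπ (c : R.arrows.category) : (Φ.obj c).P.left ⟶ (AlgSp.yon S).obj c.obj.left :=
  (Φ.obj c).π.left ≫ (AlgSp.yon S).map (eqToHom (Fib44.obj_sieve Φ c))

theorem isPullback_sπ {b c : R.arrows.category} (k : b ⟶ c) :
    IsPullback (Φ.map k).top.left (sπ Φ b) (sπ Φ c) ((AlgSp.yon S).map k.hom.left) := by
  refine ((Φ.map k).cart.map (Over.forget B)).paste_vert (IsPullback.of_vert_isIso ⟨?_⟩)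
  show (AlgSp.yon S).map (Φ.map k).base ≫ _ = _ ≫ _
  rw [← Functor.map_comp, ← Functor.map_comp, sFam_map_base]
  simp

/-- A point of the glued sheaf. -/
structure FamPt (V : Over S) : Type (u + 1) where
  m : V ⟶ U
  σ : ∀ (c : R.arrows.category) (g : c.obj.left ⟶ V), g ≫ m = c.obj.hom →
    ((AlgSp.yon S).obj c.obj.left ⟶ (Φ.obj c).P.left)
  hπ : ∀ c g h, σ c g h ≫ sπ Φ c = 𝟙 _
  nat : ∀ {b c : R.arrows.category} (k : b ⟶ c) (g : c.obj.left ⟶ V) (h : g ≫ m = c.obj.hom)
    (h' : (k.hom.left ≫ g) ≫ m = b.obj.hom),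
    (AlgSp.yon S).map k.hom.left ≫ σ c g h = σ b (k.hom.left ≫ g) h' ≫ (Φ.map k).top.left

variable {Φ}

theorem FamPt.ext' {V : Over S} {x y : FamPt Φ V} (hmm : x.m = y.m)
    (hσ : ∀ c g (h : g ≫ x.m = c.obj.hom) (h' : g ≫ y.m = c.obj.hom), x.σ c g h = y.σ c g h') : x = y := by
  obtain ⟨m, σ, p₁, p₂⟩ := x
  obtain ⟨m', σ', p₃, p₄⟩ := y
  obtain rfl : m = m' := hmm
  obtain rfl : σ = σ' := funext fun c => funext fun g => funext fun h => hσ c g h h
  rfl

theorem FamPt.σ_congr {V : Over S} (x : FamPt Φ V) (c : R.arrows.category) {g g' : c.obj.left ⟶ V} (e : g = g')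
    (h : g ≫ x.m = c.obj.hom) (h' : g' ≫ x.m = c.obj.hom) : x.σ c g h = x.σ c g' h' := by
  subst e; rfl

theorem FamPt.congr_σ {V : Over S} {x y : FamPt Φ V} (e : x = y) (c : R.arrows.category) (g : c.obj.left ⟶ V)
    (h : g ≫ x.m = c.obj.hom) (h' : g ≫ y.m = c.obj.hom) : x.σ c g h = y.σ c g h' := by
  subst e; rfl

/-- Restriction of points. -/
noncomputable def FamPt.res {V V' : Over S} (h : V' ⟶ V) (x : FamPt Φ V) : FamPt Φ V' where
  m := h ≫ x.m
  σ c g e := x.σ c (g ≫ h) (by rw [Category.assoc]; exact e)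
  hπ c g e := x.hπ _ _ _
  nat {b c} k g e e' := by
    rw [x.nat k (g ≫ h) (by rw [Category.assoc]; exact e)
      (by rw [Category.assoc, Category.assoc]; simpa using e')]
    exact congrArg (· ≫ (Φ.map k).top.left) (x.σ_congr b (Category.assoc _ _ _).symm _ _)

variable (Φ)

/-- The presheaf of points. -/
noncomputable def famPsh : (Over S)ᵒᵖ ⥤ Type (u + 1) where
  obj V := FamPt Φ (unop V)
  map h := TypeCat.ofHom fun x => x.res h.unop
  map_id V := by
    apply ConcreteCategory.hom_ext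
    intro x
    exact FamPt.ext' (Category.id_comp _) fun c g e e' => x.σ_congr c (Category.comp_id g) _ _
  map_comp {V V' V''} h h' := by
    apply ConcreteCategory.hom_ext
    intro x
    exact FamPt.ext' (Category.assoc _ _ _) fun c g e e' => x.σ_congr c (Category.assoc _ _ _).symm _ _

theorem isSeparated_famPsh : Presieve.IsSeparated (AlgSp.J S) (famPsh Φ) := by
  intro V T hT x y y' hy hy'
  have hm : y.m = y'.m := (AlgSp.yon S).map_injective (yon_ext_cover hT fun {W} g hg => by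
    rw [← Functor.map_comp, ← Functor.map_comp]
    exact congrArg _ ((congrArg FamPt.m (hy g hg)).trans (congrArg FamPt.m (hy' g hg)).symm))
  refine FamPt.ext' hm fun c g h h' => yon_ext_cover ((AlgSp.J S).pullback_stable g hT) fun {W} l hl => ?_
  let c' : R.arrows.category := Fib44.sObj R (l ≫ c.obj.hom) (R.downward_closed c.property l)
  let k : c' ⟶ c := Fib44.sHom R l rfl
  have e : (l ≫ g) ≫ y.m = c'.obj.hom := (Category.assoc _ _ _).trans (congrArg (l ≫ ·) h)
  have e' : (l ≫ g) ≫ y'.m = c'.obj.hom := (Category.assoc _ _ _).trans (congrArg (l ≫ ·) h')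
  show (AlgSp.yon S).map k.hom.left ≫ y.σ c g h = (AlgSp.yon S).map k.hom.left ≫ y'.σ c g h'
  rw [y.nat k g h e, y'.nat k g h' e']
  congr 1
  have h1 := FamPt.congr_σ ((hy _ hl).trans (hy' _ hl).symm) c' (𝟙 W)
    (show 𝟙 W ≫ (l ≫ g) ≫ y.m = c'.obj.hom by rw [Category.id_comp]; exact e)
    (show 𝟙 W ≫ (l ≫ g) ≫ y'.m = c'.obj.hom by rw [Category.id_comp]; exact e')
  exact ((y.σ_congr c' (Category.id_comp _).symm _ _).trans h1).trans (y'.σ_congr c' (Category.id_comp _) _ _)

theorem isSheaf_famPsh : Presieve.IsSheaf (AlgSp.J S) (famPsh Φ) := by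
  intro V T hT
  rw [← Presieve.isSeparatedFor_and_exists_isAmalgamation_iff_isSheafFor]
  refine ⟨isSeparated_famPsh Φ T hT, fun x hx => ?_⟩
  rw [Presieve.compatible_iff_sieveCompatible] at hx
  obtain ⟨M, hM⟩ := yon_glue (F := (AlgSp.yon S).obj U) hT (fun g hg => (AlgSp.yon S).map (x g hg).m)
    (fun {W W'} k g h h' => by
      rw [← Functor.map_comp]
      exact congrArg _ (congrArg FamPt.m (hx g k h)))
  let m : V ⟶ U := pm M
  have hm : ∀ {W : Over S} (g : W ⟶ V) (h : T g), g ≫ m = (x g h).m := fun g h => by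
    refine (AlgSp.yon S).map_injective ?_
    rw [Functor.map_comp, map_pm]; exact hM g h
  have key : ∀ (c : R.arrows.category) (g : c.obj.left ⟶ V), g ≫ m = c.obj.hom →
      ∃ s : (AlgSp.yon S).obj c.obj.left ⟶ (Φ.obj c).P.left, ∀ {W : Over S} (l : W ⟶ c.obj.left)
        (hl : T (l ≫ g)) (c' : R.arrows.category) (q : c'.obj.left ⟶ W) (k : c' ⟶ c) (_ : k.hom.left = q ≫ l)
        (e : q ≫ (x (l ≫ g) hl).m = c'.obj.hom),
        (AlgSp.yon S).map k.hom.left ≫ s = (x (l ≫ g) hl).σ c' q e ≫ (Φ.map k).top.left := by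
    intro c g hg
    let cO : ∀ {W : Over S} (_ : W ⟶ c.obj.left), R.arrows.category := fun l =>
      Fib44.sObj R (l ≫ c.obj.hom) (R.downward_closed c.property l)
    let kO : ∀ {W : Over S} (l : W ⟶ c.obj.left), cO l ⟶ c := fun l => Fib44.sHom R l rfl
    have eO : ∀ {W : Over S} (l : W ⟶ c.obj.left) (hl : T (l ≫ g)), 𝟙 W ≫ (x (l ≫ g) hl).m = (cO l).obj.hom :=
      fun l hl => by rw [Category.id_comp, ← hm _ hl, Category.assoc, hg]; rfl
    obtain ⟨s, hs⟩ := yon_glue (F := (Φ.obj c).P.left) ((AlgSp.J S).pullback_stable g hT)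
      (fun {W} l hl => (x (l ≫ g) hl).σ (cO l) (𝟙 W) (eO l hl) ≫ (Φ.map (kO l)).top.left)
      (fun {W W'} j l h h' => by
        let kk : cO (j ≫ l) ⟶ cO l := Fib44.sHom R j (Category.assoc _ _ _).symm
        have ek : kk ≫ kO l = kO (j ≫ l) := ObjectProperty.hom_ext _ (Over.OverMorphism.ext rfl)
        have e2 : (j ≫ 𝟙 W) ≫ (x (l ≫ g) h).m = (cO (j ≫ l)).obj.hom := by
          rw [Category.comp_id, ← hm _ h, Category.assoc, hg]; exact (Category.assoc _ _ _).symm
        show _ = (AlgSp.yon S).map kk.hom.left ≫ _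
        rw [← Category.assoc ((AlgSp.yon S).map kk.hom.left), (x (l ≫ g) h).nat kk (𝟙 W) (eO l h) e2,
          Category.assoc _ (Φ.map kk).top.left]
        have e3 : (Φ.map kk).top.left ≫ (Φ.map (kO l)).top.left = (Φ.map (kO (j ≫ l))).top.left := by
          rw [← ek, Φ.map_comp]; rfl
        rw [e3]
        refine congrArg (· ≫ (Φ.map (kO (j ≫ l))).top.left) ?_
        have hmem : T (j ≫ l ≫ g) := T.downward_closed h j
        have hxx : x ((j ≫ l) ≫ g) h' = (x (l ≫ g) h).res j := by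
          have h3 : ∀ (q : W' ⟶ V) (hq : T q), q = j ≫ l ≫ g → x q hq = (x (l ≫ g) h).res j := by
            intro q hq e
            subst e
            exact hx (l ≫ g) j h
          exact h3 _ _ (Category.assoc _ _ _)
        refine (FamPt.congr_σ hxx (cO (j ≫ l)) (𝟙 W') (eO _ h') ?_).trans ?_
        · show 𝟙 W' ≫ j ≫ (x (l ≫ g) h).m = _
          rw [Category.id_comp, ← hm _ h, ← Category.assoc, ← Category.assoc, Category.assoc, hg]
          rfl
        · exact (x (l ≫ g) h).σ_congr _ (show 𝟙 W' ≫ j = j ≫ 𝟙 W by simp) _ _)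
    refine ⟨s, fun {W} l hl c' q k hk e => ?_⟩
    let kk : c' ⟶ cO l := Fib44.sHom R q (by
      show q ≫ l ≫ c.obj.hom = _
      rw [← Category.assoc, ← hk]; exact Over.w k.hom)
    have ek : kk ≫ kO l = k := ObjectProperty.hom_ext _ (Over.OverMorphism.ext hk.symm)
    have e2 : (q ≫ 𝟙 W) ≫ (x (l ≫ g) hl).m = c'.obj.hom := by rw [Category.comp_id]; exact e
    have e3 : (Φ.map kk).top.left ≫ (Φ.map (kO l)).top.left = (Φ.map k).top.left := by
      rw [← ek, Φ.map_comp]; rfl
    rw [hk, Functor.map_comp, Category.assoc, hs l hl, ← e3, ← Category.assoc, ← Category.assoc]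
    refine congrArg (· ≫ (Φ.map (kO l)).top.left) ?_
    exact ((x (l ≫ g) hl).nat kk (𝟙 W) (eO l hl) e2).trans
      (congrArg (· ≫ (Φ.map kk).top.left) ((x (l ≫ g) hl).σ_congr _ (Category.comp_id q) _ _))
  choose s hs using key
  let pt : FamPt Φ V :=
    { m := m
      σ := s
      hπ := fun c g hg => yon_ext_cover ((AlgSp.J S).pullback_stable g hT) fun {W} l hl => by
        let c' : R.arrows.category := Fib44.sObj R (l ≫ c.obj.hom) (R.downward_closed c.property l)
        let k : c' ⟶ c := Fib44.sHom R l rfl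
        have e : 𝟙 W ≫ (x (l ≫ g) hl).m = c'.obj.hom := by
          rw [Category.id_comp, ← hm _ hl, Category.assoc, hg]; rfl
        rw [← Category.assoc]
        show ((AlgSp.yon S).map k.hom.left ≫ s c g hg) ≫ _ = (AlgSp.yon S).map k.hom.left ≫ _
        rw [hs c g hg l hl c' (𝟙 W) k (Category.id_comp l).symm e, Category.assoc,
          (isPullback_sπ Φ k).w, reassoc_of% (x (l ≫ g) hl).hπ c' (𝟙 W) e, Category.comp_id]
      nat := fun {b c} k g h h' => yon_ext_cover ((AlgSp.J S).pullback_stable (k.hom.left ≫ g) hT) fun {W} l hl => by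
        let b' : R.arrows.category := Fib44.sObj R (l ≫ b.obj.hom) (R.downward_closed b.property l)
        let j : b' ⟶ b := Fib44.sHom R l rfl
        have hl' : T ((l ≫ k.hom.left) ≫ g) := by rw [Category.assoc]; exact hl
        have e : 𝟙 W ≫ (x (l ≫ k.hom.left ≫ g) hl).m = b'.obj.hom := by
          rw [Category.id_comp, ← hm _ hl, Category.assoc, h']; rfl
        have e' : 𝟙 W ≫ (x ((l ≫ k.hom.left) ≫ g) hl').m = b'.obj.hom := by
          rw [Category.id_comp, ← hm _ hl', Category.assoc, Category.assoc, ← Category.assoc k.hom.left, h']; rfl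
        rw [← Category.assoc, ← Functor.map_comp]
        change (AlgSp.yon S).map (j ≫ k).hom.left ≫ s c g h = (AlgSp.yon S).map j.hom.left ≫ _
        rw [← Category.assoc, hs c g h (l ≫ k.hom.left) hl' b' (𝟙 W) (j ≫ k) (Category.id_comp _).symm e',
          hs b _ h' l hl b' (𝟙 W) j (Category.id_comp l).symm e, Category.assoc _ (Φ.map j).top.left]
        refine congrArg₂ (fun y z => y ≫ z) ?_ ?_
        · have h3 : ∀ (q₁ q₂ : W ⟶ V) (h₁ : T q₁) (h₂ : T q₂), q₁ = q₂ → x q₁ h₁ = x q₂ h₂ := by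
            rintro q₁ q₂ h₁ h₂ rfl; rfl
          exact FamPt.congr_σ (h3 _ _ hl' hl (Category.assoc _ _ _)) _ _ _ _
        · rw [Φ.map_comp]; rfl }
  refine ⟨pt, fun W g hg => FamPt.ext' (hm g hg) fun c q h h' => ?_⟩
  have hq : T (q ≫ g) := T.downward_closed hg q
  show s c (q ≫ g) _ = _
  have e : q ≫ g ≫ m = c.obj.hom := h
  have hl : T (𝟙 c.obj.left ≫ q ≫ g) := by rw [Category.id_comp]; exact hq
  have e2 : 𝟙 c.obj.left ≫ (x (𝟙 _ ≫ q ≫ g) hl).m = c.obj.hom := by
    rw [← hm _ hl]; simpa using e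
  have h1 := hs c (q ≫ g) (by rw [Category.assoc]; exact e) (𝟙 _) hl c (𝟙 _) (𝟙 c) (Category.id_comp _).symm e2
  rw [Φ.map_id] at h1
  have h2 : s c (q ≫ g) (by rw [Category.assoc]; exact e) = (x (𝟙 _ ≫ q ≫ g) hl).σ c (𝟙 _) e2 := by
    simpa using h1
  refine h2.trans ?_
  have h3 : ∀ (r : c.obj.left ⟶ V) (hr : T r), r = q ≫ g → x r hr = (x g hg).res q := by
    intro r hr e; subst e; exact hx g q hg
  refine (FamPt.congr_σ (h3 _ hl (Category.id_comp _)) c (𝟙 _) e2 ?_).trans
    ((x g hg).σ_congr c (Category.id_comp q) _ _)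
  show 𝟙 _ ≫ q ≫ (x g hg).m = _
  rw [Category.id_comp]; exact h'

/-- The glued sheaf. -/
noncomputable def famSp : AlgSp.Sp S := ⟨famPsh Φ, (isSheaf_iff_isSheaf_of_type _ _).2 (isSheaf_famPsh Φ)⟩

/-- The projection of the glued sheaf. -/
noncomputable def famπ : famSp Φ ⟶ (AlgSp.yon S).obj U :=
  ObjectProperty.homMk
    { app := fun V => TypeCat.ofHom fun x => ULift.up (FamPt.m x)
      naturality := fun V V' g => by
        apply ConcreteCategory.hom_ext
        intro s
        rfl }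

variable {Φ}

theorem sEq_map {V : Over S} (g : V ⟶ U) : sEq ((AlgSp.yon S).map g) = ULift.up g := by
  show ULift.up (𝟙 V ≫ g) = _
  rw [Category.id_comp]

theorem pt_π {V : Over S} (t : (AlgSp.yon S).obj V ⟶ famSp Φ) :
    t ≫ famπ Φ = (AlgSp.yon S).map (FamPt.m (sEq t)) := by
  apply sEq.injective
  rw [GrothendieckTopology.uliftYonedaEquiv_comp, sEq_map]
  rfl

/-- A point of a member gives a point of the glued sheaf. -/
noncomputable def memPt (c : R.arrows.category) {V : Over S} (p : (AlgSp.yon S).obj V ⟶ (Φ.obj c).P.left) :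
    FamPt Φ V where
  m := pm (p ≫ sπ Φ c) ≫ c.obj.hom
  σ c' g h :=
    let k : c' ⟶ c := Fib44.sHom R (g ≫ pm (p ≫ sπ Φ c)) (by rw [Category.assoc]; exact h)
    (isPullback_sπ Φ k).lift ((AlgSp.yon S).map g ≫ p) (𝟙 _) (by
      rw [Category.assoc, Category.id_comp]
      show _ = (AlgSp.yon S).map (g ≫ pm (p ≫ sπ Φ c))
      rw [Functor.map_comp, map_pm])
  hπ c' g h := (isPullback_sπ Φ _).lift_snd _ _ _
  nat {b c'} k g h h' := by
    let n := pm (p ≫ sπ Φ c)
    let k₁ : c' ⟶ c := Fib44.sHom R (g ≫ n) (by rw [Category.assoc]; exact h)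
    let k₂ : b ⟶ c := Fib44.sHom R ((k.hom.left ≫ g) ≫ n) (by rw [Category.assoc]; exact h')
    have e : k ≫ k₁ = k₂ := ObjectProperty.hom_ext _ (Over.OverMorphism.ext (Category.assoc _ _ _).symm)
    have e' : (Φ.map k).top.left ≫ (Φ.map k₁).top.left = (Φ.map k₂).top.left := by
      rw [← e, Φ.map_comp]; rfl
    apply (isPullback_sπ Φ k₁).hom_ext
    · refine (Category.assoc _ _ _).trans (Eq.trans ?_ (Category.assoc _ _ _).symm)
      refine Eq.trans (congrArg _ ((isPullback_sπ Φ k₁).lift_fst _ _ _)) ?_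
      refine Eq.trans ?_ (((congrArg _ e').trans ((isPullback_sπ Φ k₂).lift_fst _ _ _)).symm)
      rw [← Category.assoc ((AlgSp.yon S).map k.hom.left), ← Functor.map_comp]
    · refine (Category.assoc _ _ _).trans (Eq.trans ?_ (Category.assoc _ _ _).symm)
      refine Eq.trans (congrArg _ ((isPullback_sπ Φ k₁).lift_snd _ _ _)) ?_
      refine Eq.trans ?_ ((congrArg _ (isPullback_sπ Φ k).w).trans ((isPullback_sπ Φ k₂).lift_snd_assoc _ _ _ _)).symm
      rw [Category.comp_id, Category.id_comp]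

theorem sπ_lift_congr {c' c : R.arrows.category} {k k' : c' ⟶ c}
    {r r' : (AlgSp.yon S).obj c'.obj.left ⟶ (Φ.obj c).P.left} (ek : k = k') (er : r = r')
    (w : r ≫ sπ Φ c = 𝟙 _ ≫ (AlgSp.yon S).map k.hom.left)
    (w' : r' ≫ sπ Φ c = 𝟙 _ ≫ (AlgSp.yon S).map k'.hom.left) :
    (isPullback_sπ Φ k).lift r (𝟙 _) w = (isPullback_sπ Φ k').lift r' (𝟙 _) w' := by
  subst ek er; rfl

theorem memPt_res (c : R.arrows.category) {V V' : Over S} (g : V' ⟶ V)
    (p : (AlgSp.yon S).obj V ⟶ (Φ.obj c).P.left) : memPt c ((AlgSp.yon S).map g ≫ p) = (memPt c p).res g := by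
  refine FamPt.ext' ?_ fun c' q h h' => ?_
  · show pm _ ≫ _ = g ≫ pm _ ≫ _
    rw [Category.assoc, pm_comp, Category.assoc]
  · refine sπ_lift_congr (ObjectProperty.hom_ext _ (Over.OverMorphism.ext ?_)) ?_ _ _
    · show q ≫ pm _ = (q ≫ g) ≫ pm _
      rw [Category.assoc, pm_comp, Category.assoc]
    · rw [← Category.assoc, ← Functor.map_comp]

variable (Φ)

/-- The comparison map of a member. -/
noncomputable def famγ (c : R.arrows.category) : (Φ.obj c).P.left ⟶ famSp Φ :=
  ObjectProperty.homMk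
    { app := fun V => TypeCat.ofHom fun s => memPt c (sEq.symm s : (AlgSp.yon S).obj (unop V) ⟶ _)
      naturality := fun V V' g => by
        apply ConcreteCategory.hom_ext
        intro s
        show memPt c (sEq.symm ((Φ.obj c).P.left.obj.map g s)) = (memPt c (sEq.symm s)).res g.unop
        rw [← memPt_res]
        congr 1
        apply sEq.injective
        rw [Equiv.apply_symm_apply, sEq_precomp, Equiv.apply_symm_apply]
        rfl }

variable {Φ}

theorem sEq_γ (c : R.arrows.category) {V : Over S} (p : (AlgSp.yon S).obj V ⟶ (Φ.obj c).P.left) :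
    sEq (p ≫ famγ Φ c) = memPt c p := by
  rw [GrothendieckTopology.uliftYonedaEquiv_comp]
  show memPt c (sEq.symm (sEq p)) = _
  rw [Equiv.symm_apply_apply]

theorem famγ_π (c : R.arrows.category) : famγ Φ c ≫ famπ Φ = sπ Φ c ≫ (AlgSp.yon S).map c.obj.hom :=
  sp_pts_ext _ _ fun t => by
    rw [← Category.assoc, pt_π, sEq_γ, ← Category.assoc]
    show (AlgSp.yon S).map (pm (t ≫ sπ Φ c) ≫ c.obj.hom) = _
    rw [Functor.map_comp, map_pm]

theorem famγ_nat {b c : R.arrows.category} (k : b ⟶ c) : (Φ.map k).top.left ≫ famγ Φ c = famγ Φ b :=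
  sp_pts_ext _ _ fun {V} t => sEq.injective (by
    rw [← Category.assoc, sEq_γ, sEq_γ]
    have hn : pm ((t ≫ (Φ.map k).top.left) ≫ sπ Φ c) = pm (t ≫ sπ Φ b) ≫ k.hom.left :=
      (AlgSp.yon S).map_injective (by
        rw [Functor.map_comp, map_pm, map_pm, Category.assoc, (isPullback_sπ Φ k).w, Category.assoc])
    refine FamPt.ext' ?_ fun c' g h h' => ?_
    · show pm _ ≫ _ = pm _ ≫ _
      rw [hn, Category.assoc, Over.w k.hom]
    · let k₁ : c' ⟶ b := Fib44.sHom R (g ≫ pm (t ≫ sπ Φ b)) (by rw [Category.assoc]; exact h')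
      let k₂ : c' ⟶ c := Fib44.sHom R (g ≫ pm ((t ≫ (Φ.map k).top.left) ≫ sπ Φ c))
        (by rw [Category.assoc]; exact h)
      have e : k₁ ≫ k = k₂ := ObjectProperty.hom_ext _ (Over.OverMorphism.ext (by
        show (g ≫ _) ≫ k.hom.left = g ≫ _
        rw [hn, Category.assoc]))
      have e' : (Φ.map k₁).top.left ≫ (Φ.map k).top.left = (Φ.map k₂).top.left := by
        rw [← e, Φ.map_comp]; rfl
      apply (isPullback_sπ Φ k₂).hom_ext
      · refine ((isPullback_sπ Φ k₂).lift_fst _ _ _).trans ?_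
        rw [← e', ← Category.assoc _ (Φ.map k₁).top.left]
        exact ((Category.assoc _ _ _).symm.trans
          (congrArg (· ≫ (Φ.map k).top.left) ((isPullback_sπ Φ k₁).lift_fst _ _ _).symm))
      · exact ((isPullback_sπ Φ k₂).lift_snd _ _ _).trans ((isPullback_sπ Φ k₁).lift_snd _ _ _).symm)

theorem isPullback_famγ (c : R.arrows.category) :
    IsPullback (famγ Φ c) (sπ Φ c) (famπ Φ) ((AlgSp.yon S).map c.obj.hom) := by
  refine sp_isPullback_of_points (famγ_π c) (fun {V} t t' h1 h2 => ?_) (fun {V} p q hpq => ?_)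
  · have hr : ∀ (r : (AlgSp.yon S).obj V ⟶ (Φ.obj c).P.left), R (pm (r ≫ sπ Φ c) ≫ c.obj.hom) :=
      fun r => R.downward_closed c.property _
    let c' : R.arrows.category := Fib44.sObj R (pm (t ≫ sπ Φ c) ≫ c.obj.hom) (hr t)
    have e : memPt c t = memPt c t' := by rw [← sEq_γ, ← sEq_γ, h1]
    have hh : (𝟙 V) ≫ pm (t ≫ sπ Φ c) ≫ c.obj.hom = c'.obj.hom := Category.id_comp _
    have hh' : (𝟙 V) ≫ pm (t' ≫ sπ Φ c) ≫ c.obj.hom = c'.obj.hom := by rw [← h2]; exact Category.id_comp _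
    have h3 := FamPt.congr_σ e c' (𝟙 V) hh hh'
    let k : c' ⟶ c := Fib44.sHom R (𝟙 V ≫ pm (t ≫ sπ Φ c)) (by rw [Category.assoc]; exact hh)
    let k' : c' ⟶ c := Fib44.sHom R (𝟙 V ≫ pm (t' ≫ sπ Φ c)) (by rw [Category.assoc]; exact hh')
    have hk : k = k' := ObjectProperty.hom_ext _ (Over.OverMorphism.ext (by
      show 𝟙 V ≫ _ = 𝟙 V ≫ _
      rw [h2]))
    have a1 : (memPt c t).σ c' (𝟙 V) hh ≫ (Φ.map k).top.left = (AlgSp.yon S).map (𝟙 V) ≫ t :=
      (isPullback_sπ Φ k).lift_fst _ _ _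
    have a2 : (memPt c t').σ c' (𝟙 V) hh' ≫ (Φ.map k').top.left = (AlgSp.yon S).map (𝟙 V) ≫ t' :=
      (isPullback_sπ Φ k').lift_fst _ _ _
    rw [CategoryTheory.Functor.map_id, Category.id_comp] at a1 a2
    rw [← a1, ← a2, h3, hk]
  · have hm : FamPt.m (sEq p) = pm q ≫ c.obj.hom := (AlgSp.yon S).map_injective (by
      rw [← pt_π, hpq, Functor.map_comp, map_pm])
    let c' : R.arrows.category := Fib44.sObj R (pm q ≫ c.obj.hom) (R.downward_closed c.property _)
    let k : c' ⟶ c := Fib44.sHom R (pm q) rfl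
    have hh : 𝟙 V ≫ FamPt.m (sEq p) = c'.obj.hom := by rw [Category.id_comp, hm]; rfl
    have hq : (FamPt.σ (sEq p) c' (𝟙 V) hh ≫ (Φ.map k).top.left) ≫ sπ Φ c = q := by
      rw [Category.assoc, (isPullback_sπ Φ k).w, reassoc_of% FamPt.hπ (sEq p) c' (𝟙 V) hh]
      exact map_pm q
    refine ⟨FamPt.σ (sEq p) c' (𝟙 V) hh ≫ (Φ.map k).top.left, sEq.injective ((sEq_γ _ _).trans ?_), hq⟩
    refine FamPt.ext' ?_ fun c'' g h h' => ?_
    · show pm _ ≫ _ = _
      rw [hq, hm]
    · let k'' : c'' ⟶ c := Fib44.sHom R (g ≫ pm ((FamPt.σ (sEq p) c' (𝟙 V) hh ≫ (Φ.map k).top.left) ≫ sπ Φ c))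
        (by rw [Category.assoc]; exact h)
      let kk : c'' ⟶ c' := Fib44.sHom R g (by
        show g ≫ pm q ≫ c.obj.hom = _
        rw [← hm]; exact h')
      have ek : kk ≫ k = k'' := ObjectProperty.hom_ext _ (Over.OverMorphism.ext (by
        show g ≫ pm q = g ≫ pm _
        rw [hq]))
      have e2 : (g ≫ 𝟙 V) ≫ FamPt.m (sEq p) = c''.obj.hom := by rw [Category.comp_id]; exact h'
      apply (isPullback_sπ Φ k'').hom_ext
      · refine ((isPullback_sπ Φ k'').lift_fst _ _ _).trans ?_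
        have e3 : (Φ.map kk).top.left ≫ (Φ.map k).top.left = (Φ.map k'').top.left := by
          rw [← ek, Φ.map_comp]; rfl
        refine (Category.assoc _ _ _).symm.trans ((congrArg (· ≫ (Φ.map k).top.left)
          (FamPt.nat (sEq p) kk (𝟙 V) hh e2)).trans ?_)
        rw [Category.assoc, e3]
        exact congrArg (· ≫ (Φ.map k'').top.left) (FamPt.σ_congr _ _ (Category.comp_id g) _ _)
      · exact ((isPullback_sπ Φ k'').lift_snd _ _ _).trans (FamPt.hπ _ _ _ _).symm

end Groth.Agent.AlgSt88
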