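import Groth.Prelude
import Groth.Agent.Fib44.Basic

/-! Quotient categories with sheaf torsors are fibred in groupoids. -/

set_option autoImplicit false
set_option linter.style.haveILetI false
set_option backward.isDefEq.respectTransparency false
set_option backward.isDefEq.respectTransparency.types false
universe u

open CategoryTheory CategoryTheory.Limits MonoidalCategory CartesianMonoidalCategory MonObj GrpObj AlgebraicGeometry AlgSt

namespace Groth.Agent.AlgSt88

variable {S : Scheme.{u}} {K : Precoverage Scheme.{u}} {B : AlgSp.Sp S} {G X : Over B} [GrpObj G]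
  {a : AlgSp.GAction G X}

theorem bHom_congr {T T' : Over S} {b : (AlgSp.yon S).obj T ⟶ B} {b' : (AlgSp.yon S).obj T' ⟶ B} {f f' : T ⟶ T'}
    (e : f = f') (w : (AlgSp.yon S).map f ≫ b' = b) (w' : (AlgSp.yon S).map f' ≫ b' = b) :
    bHom f w = bHom f' w' := by
  subst e; rfl

theorem spQuot_hom_ext' {A A' C : SpQuotObj K G a} {f g : A' ⟶ C} (n : C ⟶ A)
    (hb : f.base = g.base) (h : f ≫ n = g ≫ n) : f = g :=
  SpQuotObj.hom_ext hb (n.cart.hom_ext (congrArg (fun t => t.top) h)
    (f.cart.w.trans ((congrArg (A'.π ≫ ·) (bHom_congr hb f.wb g.wb)).trans g.cart.w.symm)))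

theorem existsUnique_spQuot_fac {A A' C : SpQuotObj K G a} (m : A' ⟶ A) (n : C ⟶ A) (b : A'.base ⟶ C.base)
    (hb : b ≫ n.base = m.base) : ∃! i : A' ⟶ C, i.base = b ∧ i ≫ n = m := by
  have hwb : (AlgSp.yon S).map b ≫ C.b = A'.b := by
    rw [← n.wb, ← m.wb, ← hb, Functor.map_comp, Category.assoc]
  have hbb : bHom b hwb ≫ bHom n.base n.wb = bHom m.base m.wb := by
    ext : 1
    simp [← hb]
  let top : A'.P ⟶ C.P := n.cart.lift m.top (A'.π ≫ bHom b hwb) (by rw [m.cart.w, Category.assoc, hbb])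
  have h1 : top ≫ n.top = m.top := n.cart.lift_fst _ _ _
  have h2 : top ≫ C.π = A'.π ≫ bHom b hwb := n.cart.lift_snd _ _ _
  refine ⟨{ base := b, wb := hwb, top := top, eqv := ?_, cart := ?_, wφ := ?_ }, ⟨rfl, SpQuotObj.hom_ext hb h1⟩,
    fun i hi => spQuot_hom_ext' n hi.1 (hi.2.trans (SpQuotObj.hom_ext hb h1).symm)⟩
  · apply n.cart.hom_ext
    · rw [Category.assoc, Category.assoc, h1, m.eqv, n.eqv, ← MonoidalCategory.whiskerLeft_comp_assoc, h1]
    · rw [Category.assoc, Category.assoc, C.cart.w, h2, whiskerLeft_snd_assoc, h2, ← Category.assoc, A'.cart.w,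
        Category.assoc]
  · have hm : IsPullback (top ≫ n.top) A'.π A.π (bHom b hwb ≫ bHom n.base n.wb) := by rw [h1, hbb]; exact m.cart
    exact IsPullback.of_right hm h2 n.cart
  · rw [← n.wφ, reassoc_of% h1, m.wφ]

variable [K.IsStableUnderBaseChange]

theorem exists_spPullObj (A : SpQuotObj K G a) {T : Over S} (b : T ⟶ A.base) :
    ∃ (A' : SpQuotObj K G a) (m : A' ⟶ A) (h : A'.base = T), m.base = eqToHom h ≫ b := by
  let β : Over.mk ((AlgSp.yon S).map b ≫ A.b) ⟶ Over.mk A.b := bHom b rfl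
  have hp : IsPullback (pullback.fst A.π β) (pullback.snd A.π β) A.π β := IsPullback.of_hasPullback _ _
  let P : Over B := pullback A.π β
  let π' : P ⟶ Over.mk ((AlgSp.yon S).map b ≫ A.b) := pullback.snd A.π β
  let t : P ⟶ A.P := pullback.fst A.π β
  let act : G ⊗ P ⟶ P := hp.lift ((G ◁ t) ≫ A.act.act) (snd G P ≫ π') (by
    rw [Category.assoc, A.cart.w, whiskerLeft_snd_assoc, hp.w, Category.assoc])
  have h1 : act ≫ t = (G ◁ t) ≫ A.act.act := hp.lift_fst _ _ _
  have h2 : act ≫ π' = snd G P ≫ π' := hp.lift_snd _ _ _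
  have one_act : (η[G] ▷ P) ≫ act = (λ_ P).hom := by
    apply hp.hom_ext
    · rw [Category.assoc, h1, ← whisker_exchange_assoc, A.act.one_act, leftUnitor_naturality]
    · rw [Category.assoc, h2, whiskerRight_snd_assoc, leftUnitor_hom]
  have mul_act : (μ[G] ▷ P) ≫ act = (α_ G G P).hom ≫ (G ◁ act) ≫ act := by
    apply hp.hom_ext
    · rw [Category.assoc, h1, Category.assoc, Category.assoc, h1, ← whisker_exchange_assoc, A.act.mul_act,
        ← MonoidalCategory.whiskerLeft_comp_assoc, h1, MonoidalCategory.whiskerLeft_comp_assoc]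
      simp
    · rw [Category.assoc, h2, Category.assoc, Category.assoc, h2, whiskerRight_snd_assoc, whiskerLeft_snd_assoc,
        h2, associator_hom_snd_snd_assoc]
  have hcart : IsPullback act (snd G P) π' π' := by
    have h3 : IsPullback ((G ◁ t) ≫ A.act.act) (snd G P) A.π (t ≫ A.π) :=
      (AlgSt.isPullback_whiskerLeft' t).paste_horiz A.cart
    rw [hp.w, ← h1] at h3
    exact IsPullback.of_right h3 h2 hp
  have hloc : HasSecLoc K π'.left := by
    obtain ⟨R, hR, hsec⟩ := A.loc
    refine ⟨_, Precoverage.pullbackArrows_mem b.left hR, ?_⟩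
    rintro S' f ⟨Z, g, hg⟩
    obtain ⟨s, hs⟩ := hsec g hg
    have hpl : IsPullback t.left π'.left A.π.left β.left := hp.map (Over.forget B)
    let k : Over.mk (pullback.snd g b.left ≫ T.hom) ⟶ Over.mk (g ≫ A.base.hom) :=
      Over.homMk (pullback.fst g b.left) (by
        change pullback.fst g b.left ≫ g ≫ A.base.hom = pullback.snd g b.left ≫ T.hom
        rw [pullback.condition_assoc, Over.w b])
    refine ⟨hpl.lift ((AlgSp.yon S).map k ≫ s) ((AlgSp.yon S).map (Over.homMk (pullback.snd g b.left))) ?_,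
      hpl.lift_snd _ _ _⟩
    change ((AlgSp.yon S).map k ≫ s) ≫ A.π.left = _ ≫ (AlgSp.yon S).map b
    rw [Category.assoc, hs, ← Functor.map_comp, ← Functor.map_comp]
    exact congrArg _ (Over.OverMorphism.ext pullback.condition)
  refine ⟨⟨T, _, P, ⟨act, one_act, mul_act⟩, π', hcart, hloc, t ≫ A.φ, ?_⟩, ⟨b, rfl, t, h1, hp, rfl⟩, rfl,
    by simp⟩
  rw [reassoc_of% h1, A.eqv, MonoidalCategory.whiskerLeft_comp_assoc]

theorem isFibGrpd_spQuotSt (a : AlgSp.GAction G X) : FibCat.IsFibGrpd (SpQuotSt K G a).p where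
  exists_lift {A T} b := by
    obtain ⟨A', m, h, hm⟩ := exists_spPullObj A b
    exact ⟨A', m, IsHomLift.of_fac' _ _ _ h rfl (hm.trans (by simp))⟩
  isStronglyCartesian {A' A} m :=
    { toIsHomLift := IsHomLift.map _ m
      universal_property' := fun {C} g ψ hψ => by
        have hf : ψ.base = g ≫ m.base := by
          have := IsHomLift.fac' (SpQuotSt K G a).p (g ≫ (SpQuotSt K G a).p.map m) ψ
          exact this.trans (by simp; rfl)
        obtain ⟨i, ⟨hi, hi'⟩, hu⟩ := existsUnique_spQuot_fac ψ m g hf.symm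
        refine ⟨i, ⟨IsHomLift.of_fac' _ _ _ rfl rfl (hi.trans (by simp)), hi'⟩, fun j hj => hu j ⟨?_, hj.2⟩⟩
        have := hj.1
        exact (IsHomLift.fac' (SpQuotSt K G a).p g j).trans (by simp) }

end Groth.Agent.AlgSt88
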