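import Groth.Agent.AlgSt88.SpQuotStackFib
import Groth.Agent.AlgSt88.SpSheaf
import Groth.Agent.Fib44.Descent

/-! Morphisms of quotient categories with sheaf torsors glue. -/

set_option autoImplicit false
set_option linter.style.haveILetI false
set_option backward.isDefEq.respectTransparency false
set_option backward.isDefEq.respectTransparency.types false
universe u

open CategoryTheory CategoryTheory.Limits MonoidalCategory CartesianMonoidalCategory MonObj GrpObj AlgebraicGeometry AlgSt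

namespace Groth.Agent.AlgSt88

variable {S : Scheme.{u}} {K : Precoverage Scheme.{u}} {B : AlgSp.Sp S} {G X : Over B} [GrpObj G]
  {a : AlgSp.GAction G X}

theorem pb_comp' {P : Over B} {U : Over S} {bU : (AlgSp.yon S).obj U ⟶ B} {V V' : Over S}
    {w : (AlgSp.yon S).obj V ⟶ B} {w' : (AlgSp.yon S).obj V' ⟶ B} (g : V' ⟶ V)
    (h : (AlgSp.yon S).map g ≫ w = w') (t : Over.mk w ⟶ P) (π : P ⟶ Over.mk bU) :
    pb ((bHom g h ≫ t) ≫ π) = g ≫ pb (t ≫ π) := by
  rw [Category.assoc, pb_comp]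

/-- A point over a member lifts to the torsor of that member. -/
theorem exists_spLift {A z : SpQuotObj K G a} (u : z ⟶ A) {V : Over S} {w : (AlgSp.yon S).obj V ⟶ B}
    (t : Over.mk w ⟶ A.P) (hz : z.base = V) (hu : u.base = eqToHom hz ≫ pb (t ≫ A.π)) :
    ∃ p : Over.mk w ⟶ z.P, p ≫ u.top = t ∧ pb (p ≫ z.π) = eqToHom hz.symm := by
  have hw : (AlgSp.yon S).map (eqToHom hz.symm) ≫ z.b = w := by
    rw [← u.wb, ← Category.assoc, ← Functor.map_comp, hu, eqToHom_trans_assoc, eqToHom_refl, Category.id_comp]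
    exact pb_wb (t ≫ A.π)
  have hc : t ≫ A.π = bHom (eqToHom hz.symm) hw ≫ bHom u.base u.wb := by
    rw [← bHom_pb (t ≫ A.π)]
    ext : 1
    simp [hu, pb, map_pm]
  exact ⟨u.cart.lift t (bHom (eqToHom hz.symm) hw) hc, u.cart.lift_fst _ _ _,
    by rw [u.cart.lift_snd, pb_bHom]⟩

/-- A family of local isomorphisms between two objects. -/
structure SpLocFam (A A' : SpQuotObj K G a) (e : A.base = A'.base) (R : Sieve A.base) where
  /-- the membership relation -/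
  F : ∀ {z : SpQuotObj K G a}, (z ⟶ A) → (z ⟶ A') → Prop
  base : ∀ {z : SpQuotObj K G a} {u : z ⟶ A} {v : z ⟶ A'}, F u v → v.base = u.base ≫ eqToHom e
  mem : ∀ {z : SpQuotObj K G a} {u : z ⟶ A} {v : z ⟶ A'}, F u v → R u.base
  ex : ∀ {W : Over S} (b : W ⟶ A.base), R b →
    ∃ (z : SpQuotObj K G a) (u : z ⟶ A) (v : z ⟶ A') (h : z.base = W), F u v ∧ u.base = eqToHom h ≫ b
  fac : ∀ {z z' : SpQuotObj K G a} {u : z ⟶ A} {v : z ⟶ A'} {u' : z' ⟶ A} {v' : z' ⟶ A'}, F u v → F u' v' →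
    ∀ b : z'.base ⟶ z.base, b ≫ u.base = u'.base → ∃ i : z' ⟶ z, i.base = b ∧ i ≫ u = u' ∧ i ≫ v = v'

namespace SpLocFam

variable {A A' : SpQuotObj K G a} {e : A.base = A'.base} {R : Sieve A.base} (L : SpLocFam A A' e R)

include L in
theorem wb (hR : R ∈ AlgSp.J S A.base) : (AlgSp.yon S).map (eqToHom e) ≫ A'.b = A.b :=
  yon_ext_cover hR fun {W} g hg => by
    obtain ⟨z, u, v, hz, hF, hu⟩ := L.ex g hg
    have h1 : (AlgSp.yon S).map (eqToHom hz.symm ≫ v.base) ≫ A'.b =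
        (AlgSp.yon S).map (eqToHom hz.symm ≫ u.base) ≫ A.b := by
      simp only [Functor.map_comp, Category.assoc, u.wb, v.wb]
    rw [L.base hF, hu] at h1
    simpa [eqToHom_map] using h1

theorem exists_top (hR : R ∈ AlgSp.J S A.base) :
    ∃ k : A.P ⟶ A'.P, ∀ {z : SpQuotObj K G a} (u : z ⟶ A) (v : z ⟶ A'), L.F u v → u.top ≫ k = v.top := by
  have key : ∀ {V : Over S} {w : (AlgSp.yon S).obj V ⟶ B} (t : Over.mk w ⟶ A.P), R (pb (t ≫ A.π)) →
      ∃ q : Over.mk w ⟶ A'.P, ∀ {z : SpQuotObj K G a} (u : z ⟶ A) (v : z ⟶ A'), L.F u v →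
        ∀ p : Over.mk w ⟶ z.P, p ≫ u.top = t → p ≫ v.top = q := by
    intro V w t ht
    obtain ⟨z₀, u₀, v₀, h₀, hF₀, hu₀⟩ := L.ex _ ht
    obtain ⟨p₀, hp₀, hp₀'⟩ := exists_spLift u₀ t h₀ hu₀
    refine ⟨p₀ ≫ v₀.top, fun {z} u v hF p hp => ?_⟩
    obtain ⟨i, hi, hiu, hiv⟩ := L.fac hF hF₀ (eqToHom h₀ ≫ pb (p ≫ z.π)) (by
      rw [hu₀, Category.assoc, ← hp, Category.assoc, u.cart.w, ← Category.assoc p, ← bHom_pb (p ≫ z.π)]
      refine congrArg (eqToHom h₀ ≫ ·) ((AlgSp.yon S).map_injective ?_)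
      rw [pb_bHom]
      simp [pb, map_pm])
    have he : p₀ ≫ i.top = p := by
      apply u.cart.hom_ext
      · rw [hp, Category.assoc, show i.top ≫ u.top = u₀.top from congrArg (fun s => s.top) hiu, hp₀]
      · rw [Category.assoc, i.cart.w, ← Category.assoc, ← bHom_pb (p ≫ z.π), ← bHom_pb (p₀ ≫ z₀.π)]
        ext : 1
        simp [hi, hp₀', eqToHom_map]
    rw [← show i.top ≫ v.top = v₀.top from congrArg (fun s => s.top) hiv, reassoc_of% he]
  choose f hf using @key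
  obtain ⟨k, hk⟩ := ov_glue_exists A.π hR f (fun {V V' w w'} g hg t h h' => by
    obtain ⟨z, u, v, hz, hF, hu⟩ := L.ex _ h
    obtain ⟨p, hp, -⟩ := exists_spLift u t hz hu
    rw [← hf t h u v hF p hp, ← hf (bHom g hg ≫ t) h' u v hF (bHom g hg ≫ p) (by rw [Category.assoc, hp]),
      Category.assoc])
  refine ⟨k, fun {z} u v hF => ?_⟩
  refine ov_glue_eq (u.top ≫ A.π) hR fun {V w} t ht => ?_
  rw [← Category.assoc] at ht
  rw [← Category.assoc, hk (t ≫ u.top) ht, ← hf (t ≫ u.top) ht u v hF t rfl]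

theorem fac_of_mem {V : Over S} {w : (AlgSp.yon S).obj V ⟶ B} (t : Over.mk w ⟶ A.P) (ht : R (pb (t ≫ A.π))) :
    ∃ (z : SpQuotObj K G a) (u : z ⟶ A) (v : z ⟶ A') (p : Over.mk w ⟶ z.P), L.F u v ∧ p ≫ u.top = t := by
  obtain ⟨z, u, v, hz, hF, hu⟩ := L.ex _ ht
  obtain ⟨p, hp, -⟩ := exists_spLift u t hz hu
  exact ⟨z, u, v, p, hF, hp⟩

/-- The family in the opposite direction. -/
def symm : SpLocFam A' A e.symm (R.pullback (eqToHom e.symm)) where
  F v u := L.F u v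
  base h := by rw [L.base h]; simp
  mem h := by simpa [Sieve.pullback_apply, L.base h] using L.mem h
  ex b hb := by
    obtain ⟨z, u, v, hz, hF, hu⟩ := L.ex _ hb
    exact ⟨z, v, u, hz, hF, by rw [L.base hF, hu]; simp⟩
  fac h h' b hb := by
    obtain ⟨i, h1, h2, h3⟩ := L.fac h h' b (by
      rw [← cancel_mono (eqToHom e), Category.assoc, ← L.base h, hb, L.base h'])
    exact ⟨i, h1, h3, h2⟩

theorem exists_hom (hR : R ∈ AlgSp.J S A.base) :
    ∃ k : A ⟶ A', k.base = eqToHom e ∧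
      ∀ {z : SpQuotObj K G a} (u : z ⟶ A) (v : z ⟶ A'), L.F u v → u ≫ k = v := by
  obtain ⟨k, hk⟩ := L.exists_top hR
  have hR' : R.pullback (eqToHom e.symm) ∈ AlgSp.J S A'.base := GrothendieckTopology.pullback_stable _ _ hR
  obtain ⟨l, hl⟩ := L.symm.exists_top hR'
  have hwb := L.wb hR
  have hπ : k ≫ A'.π = A.π ≫ bHom (eqToHom e) hwb := ov_glue_eq A.π hR fun t ht => by
    obtain ⟨z, u, v, p, hF, rfl⟩ := L.fac_of_mem t ht
    rw [Category.assoc, Category.assoc, reassoc_of% hk u v hF, v.cart.w, u.cart.w_assoc,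
      ← bHom_comp u.base (eqToHom e) u.wb hwb (by rw [← L.base hF]; exact v.wb)]
    exact congrArg (fun q => p ≫ z.π ≫ q) (bHom_congr (L.base hF) _ _)
  have hiso : IsIso k := by
    refine ⟨l, ov_glue_eq A.π hR fun t ht => ?_, ov_glue_eq A'.π hR' fun t ht => ?_⟩
    · obtain ⟨z, u, v, p, hF, rfl⟩ := L.fac_of_mem t ht
      rw [Category.assoc, reassoc_of% hk u v hF, hl v u hF, Category.comp_id]
    · obtain ⟨z, v, u, p, hF, rfl⟩ := L.symm.fac_of_mem t ht
      rw [Category.assoc, reassoc_of% hl v u hF, hk u v hF, Category.comp_id]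
  have heqv : A.act.act ≫ k = (G ◁ k) ≫ A'.act.act := ov_glue_eq (snd G A.P ≫ A.π) hR fun s hs => by
    obtain ⟨z, u, v, p, hF, hp⟩ := L.fac_of_mem (s ≫ snd G A.P) (by rwa [Category.assoc])
    have hs' : s = lift (s ≫ fst G A.P) p ≫ (G ◁ u.top) := by
      rw [lift_whiskerLeft, hp, ← comp_lift, lift_fst_snd, Category.comp_id]
    rw [hs', Category.assoc, Category.assoc, ← reassoc_of% u.eqv, hk u v hF, v.eqv,
      ← MonoidalCategory.whiskerLeft_comp_assoc, hk u v hF]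
  have hφ : k ≫ A'.φ = A.φ := ov_glue_eq A.π hR fun t ht => by
    obtain ⟨z, u, v, p, hF, rfl⟩ := L.fac_of_mem t ht
    rw [Category.assoc, Category.assoc, reassoc_of% hk u v hF, v.wφ, u.wφ]
  have : IsIso (bHom (eqToHom e) hwb) := by
    haveI : IsIso ((Over.forget B).map (bHom (eqToHom e) hwb)) :=
      inferInstanceAs (IsIso ((AlgSp.yon S).map (eqToHom e)))
    exact isIso_of_reflects_iso _ (Over.forget B)
  refine ⟨⟨eqToHom e, hwb, k, heqv, IsPullback.of_horiz_isIso ⟨hπ⟩, hφ⟩, rfl, fun {z} u v hF => ?_⟩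
  exact SpQuotObj.hom_ext (L.base hF).symm (hk u v hF)

end SpLocFam

variable [K.IsStableUnderBaseChange]

theorem spQuot_ext_of_cover {A A' : SpQuotObj K G a} {k k' : A ⟶ A'} {R : Sieve A.base} (hR : R ∈ AlgSp.J S A.base)
    (hb : k.base = k'.base)
    (h : ∀ {z : SpQuotObj K G a} (u : z ⟶ A), R u.base → u ≫ k = u ≫ k') : k = k' := by
  refine SpQuotObj.hom_ext hb (ov_glue_eq A.π hR fun {V w} t ht => ?_)
  obtain ⟨z, u, hz, hu⟩ := exists_spPullObj A (pb (t ≫ A.π))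
  have hm : R u.base := by rw [hu]; exact R.downward_closed ht _
  obtain ⟨p, hp, -⟩ := exists_spLift u t hz hu
  rw [← hp, Category.assoc, Category.assoc]
  exact congrArg (fun q : z ⟶ A' => p ≫ q.top) (h u hm)

theorem morGlue_spQuotSt (a : AlgSp.GAction G X) {U : Over S} (R : Sieve U) (hR : R ∈ AlgSp.J S U) :
    Fib44.MorGlue (SpQuotSt K G a) R := by
  intro A A' hA hB θ hθ hnat
  obtain rfl : U = A.base := hA.symm
  have e : A.base = A'.base := hB.symm
  have hθb : ∀ {z : SpQuotObj K G a} (φ : z ⟶ A) (h : R (φ.base ≫ eqToHom hA)),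
      (θ φ h).base = φ.base ≫ eqToHom e := by
    intro z φ h
    have hl : (SpQuotSt K G a).p.IsHomLift (φ.base ≫ eqToHom hA) (θ φ h) := hθ φ h
    have h1 := @IsHomLift.fac' _ _ _ _ (SpQuotSt K G a).p _ _ _ _ (φ.base ≫ eqToHom hA) (θ φ h) hl
    change (θ φ h).base = _ at h1
    rw [h1]
    simp
  have hm : ∀ {z : SpQuotObj K G a} (φ : z ⟶ A), R φ.base → R (φ.base ≫ eqToHom hA) := fun φ h => by
    simpa using h
  let L : SpLocFam A A' e R :=
    { F := fun {z} u v => ∃ h : R (u.base ≫ eqToHom hA), θ u h = v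
      base := fun {z u v} ⟨h, hv⟩ => hv ▸ hθb u h
      mem := fun {z u v} ⟨h, _⟩ => by simpa using h
      ex := fun {W} b hb => by
        obtain ⟨z, u, hz, hu⟩ := exists_spPullObj A b
        have h : R u.base := by rw [hu]; exact R.downward_closed hb _
        exact ⟨z, u, _, hz, ⟨hm u h, rfl⟩, hu⟩
      fac := fun {z z' u v u' v'} ⟨h, hv⟩ ⟨h', hv'⟩ b hb => by
        obtain ⟨i, ⟨hi, hi'⟩, -⟩ := existsUnique_spQuot_fac u' u b hb
        subst hi' hv hv'
        exact ⟨i, hi, rfl, (hnat i u h h').symm⟩ }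
  obtain ⟨k, hk, hkf⟩ := L.exists_hom hR
  refine ⟨k, ⟨IsHomLift.of_fac' _ _ _ rfl hB (hk.trans (by simp)), fun z φ h => hkf φ _ ⟨h, rfl⟩⟩,
    fun k' hk' => ?_⟩
  have := hk'.1
  refine spQuot_ext_of_cover hR ?_ fun u hu => (hk'.2 u (hm u hu)).trans (hkf u _ ⟨hm u hu, rfl⟩).symm
  rw [hk]
  exact (IsHomLift.fac' (SpQuotSt K G a).p (𝟙 A.base) k').trans (by simp)

end Groth.Agent.AlgSt88
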