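import Mathlib.Topology.Spectral.ConstructibleTopology
import Mathlib.Topology.Spectral.Hom

/-! Open quotients of spectral spaces by spectral relations are spectral. -/

set_option autoImplicit false
set_option linter.style.haveILetI false

open Topology TopologicalSpace

namespace Groth.Agent.AlgSt88.SpectralQuot

variable {A R Z : Type*} [TopologicalSpace A] [TopologicalSpace R] [TopologicalSpace Z]

theorem compactSpace_cons [SpectralSpace A] : @CompactSpace A (constructibleTopology A) := by
  refine @CompactSpace.mk A (constructibleTopology A) ?_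
  rw [← (WithTopology.ofTopology_surjective (X := A) (constructibleTopology A)).range_eq]
  exact @isCompact_range (WithConstructibleTopology A) A _ (constructibleTopology A) inferInstance _
    (WithTopology.continuous_ofTopology _)

theorem continuous_cons {g : R → A} (hg : IsSpectralMap g) :
    Continuous[constructibleTopology R, constructibleTopology A] g := by
  refine continuous_generateFrom_iff.2 fun s hs => ?_
  apply TopologicalSpace.isOpen_generateFrom_of_mem
  rcases hs with ⟨ho, hc⟩ | ⟨ho, hc⟩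
  · exact Or.inl ⟨hg.continuous.isOpen_preimage s ho, hc.preimage_of_isOpen hg ho⟩
  · refine Or.inr ⟨ho.preimage hg.continuous, ?_⟩
    rw [← Set.preimage_compl]
    exact hc.preimage_of_isOpen hg ho.isOpen_compl

theorem isClosed_cons_of_isCompact_isOpen {B : Set A} (ho : IsOpen B) (hc : IsCompact B) :
    IsClosed[constructibleTopology A] B :=
  @IsClosed.mk A (constructibleTopology A) _
    (TopologicalSpace.isOpen_generateFrom_of_mem (Or.inr ⟨ho.isClosed_compl, by rwa [compl_compl]⟩))

theorem isClosed_cons_of_isClosed [PrespectralSpace A] {C : Set A} (hC : IsClosed C) :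
    IsClosed[constructibleTopology A] C := by
  obtain ⟨T, hU, hT⟩ := (PrespectralSpace.isTopologicalBasis (X := A)).open_eq_sUnion hC.isOpen_compl
  refine @IsClosed.mk A (constructibleTopology A) _ ?_
  rw [hT]
  exact @isOpen_sUnion A (constructibleTopology A) _ fun s hs =>
    TopologicalSpace.isOpen_generateFrom_of_mem (Or.inl (hU hs))

theorem isClosed_cons_singleton [T0Space A] [PrespectralSpace A] (a : A) :
    IsClosed[constructibleTopology A] ({a} : Set A) := by
  have e : ({a} : Set A) = closure {a} ∩ ⋂ B : {B : Set A // (IsOpen B ∧ IsCompact B) ∧ a ∈ B}, B.1 := by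
    refine Set.Subset.antisymm (fun x hx => ?_) fun x ⟨h1, h2⟩ => ?_
    · rw [Set.mem_singleton_iff.1 hx]
      exact ⟨subset_closure rfl, Set.mem_iInter.2 fun B => B.2.2⟩
    · exact (inseparable_iff_specializes_and.2
        ⟨(PrespectralSpace.isTopologicalBasis (X := A)).nhds_hasBasis.specializes_iff.2
          fun B hB => Set.mem_iInter.1 h2 ⟨B, hB.1, hB.2⟩, specializes_iff_mem_closure.2 h1⟩).eq
  rw [e]
  exact @IsClosed.inter A _ _ (constructibleTopology A) (isClosed_cons_of_isClosed isClosed_closure)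
    (@isClosed_iInter A _ (constructibleTopology A) _ fun B => isClosed_cons_of_isCompact_isOpen B.2.1.1 B.2.1.2)

theorem specializes_of_compactOpen [PrespectralSpace A] {x y : A}
    (h : ∀ B : Set A, IsOpen B → IsCompact B → y ∈ B → x ∈ B) : x ⤳ y := by
  rw [specializes_iff_forall_open]
  intro O hO hy
  obtain ⟨B, ⟨hBo, hBc⟩, hyB, hBO⟩ := (PrespectralSpace.isTopologicalBasis (X := A)).exists_subset_of_mem_open hy hO
  exact hBO (h B hBo hBc hyB)

theorem spectralSpace [SpectralSpace A] [SpectralSpace R] {p q : R → A} (hp : IsSpectralMap p)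
    (hq : IsSpectralMap q) {f : A → Z} (hf : Continuous f) (ho : IsOpenMap f) (hs : Function.Surjective f)
    (hfpq : ∀ r, f (p r) = f (q r)) (hlift : ∀ a b, f a = f b → ∃ r, p r = a ∧ q r = b) : SpectralSpace Z := by
  have hsat : ∀ B : Set A, f ⁻¹' (f '' B) = p '' (q ⁻¹' B) := fun B => by
    ext a
    constructor
    · rintro ⟨b, hb, e⟩
      obtain ⟨r, hr, hr'⟩ := hlift a b e.symm
      exact ⟨r, by rw [Set.mem_preimage, hr']; exact hb, hr⟩
    · rintro ⟨r, hr, rfl⟩
      exact ⟨q r, hr, (hfpq r).symm⟩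
  have hpre : ∀ W : Set Z, IsOpen W → IsCompact W → IsCompact (f ⁻¹' W) := fun W hW hWc => by
    choose! B hB hzB hBW using fun (z : Z) (hz : z ∈ W) =>
      (PrespectralSpace.isTopologicalBasis (X := A)).exists_subset_of_mem_open
        (show Function.surjInv hs z ∈ f ⁻¹' W by
          rw [Set.mem_preimage, Function.surjInv_eq hs]; exact hz) (hW.preimage hf)
    obtain ⟨t, ht, hcov⟩ := hWc.elim_nhds_subcover (fun z => f '' B z) fun z hz =>
      (ho _ (hB z hz).1).mem_nhds ⟨_, hzB z hz, Function.surjInv_eq hs z⟩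
    have e : f ⁻¹' W = ⋃ z ∈ t, p '' (q ⁻¹' B z) := by
      refine Set.Subset.antisymm (fun a ha => ?_) (Set.iUnion₂_subset fun z hz => ?_)
      · obtain ⟨z, hz, hza⟩ := Set.mem_iUnion₂.1 (hcov ha)
        exact Set.mem_iUnion₂.2 ⟨z, hz, hsat (B z) ▸ hza⟩
      · rw [← hsat]
        exact Set.preimage_mono (Set.image_subset_iff.2 (hBW z (ht z hz)))
    rw [e]
    exact t.finite_toSet.isCompact_biUnion fun z hz =>
      ((hB z (ht z hz)).2.preimage_of_isOpen hq (hB z (ht z hz)).1).image hp.continuous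
  haveI : CompactSpace Z := ⟨by rw [← hs.range_eq]; exact isCompact_range hf⟩
  haveI : QuasiSeparatedSpace Z := ⟨fun U V hU hUc hV hVc => by
    rw [← Set.image_preimage_eq (U ∩ V) hs, Set.preimage_inter]
    exact (QuasiSeparatedSpace.inter_isCompact _ _ (hU.preimage hf) (hpre U hU hUc) (hV.preimage hf)
      (hpre V hV hVc)).image hf⟩
  haveI : PrespectralSpace Z := ⟨isTopologicalBasis_of_isOpen_of_nhds (fun U hU => hU.1) fun z O hz hO => by
    obtain ⟨a, rfl⟩ := hs z
    obtain ⟨B, ⟨hBo, hBc⟩, haB, hBO⟩ :=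
      (PrespectralSpace.isTopologicalBasis (X := A)).exists_subset_of_mem_open (show a ∈ f ⁻¹' O from hz) (hO.preimage hf)
    exact ⟨f '' B, ⟨ho B hBo, hBc.image hf⟩, ⟨a, haB, rfl⟩, Set.image_subset_iff.2 hBO⟩⟩
  have hcA := compactSpace_cons (A := A)
  have hcR := compactSpace_cons (A := R)
  have hfib : ∀ a, @IsCompact A (constructibleTopology A) (f ⁻¹' {f a}) := fun a => by
    rw [← Set.image_singleton, hsat]
    exact @IsCompact.image R A (constructibleTopology R) (constructibleTopology A) _ _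
      (@IsClosed.isCompact R (constructibleTopology R) _ hcR
        (@IsClosed.preimage R A (constructibleTopology R) (constructibleTopology A) _ (continuous_cons hq) _
          (isClosed_cons_singleton a))) (continuous_cons hp)
  have hgen : ∀ a b, f a ⤳ f b → ∃ a', f a' = f a ∧ a' ⤳ b := fun a b h => by
    let ι := {B : Set A // (IsOpen B ∧ IsCompact B) ∧ b ∈ B}
    obtain ⟨a', ha', hB⟩ := @IsCompact.inter_iInter_nonempty A (constructibleTopology A) _ ι (hfib a)
      (fun B => B.1) (fun B => isClosed_cons_of_isCompact_isOpen B.2.1.1 B.2.1.2) fun s => by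
        have hbO : b ∈ ⋂ B ∈ s, (B : ι).1 := Set.mem_iInter₂.2 fun B _ => B.2.2
        have hO : IsOpen (⋂ B ∈ s, (B : ι).1) := isOpen_biInter_finset fun B _ => B.2.1.1
        obtain ⟨a', ha', e⟩ := specializes_iff_forall_open.1 h _ (ho _ hO) ⟨b, hbO, rfl⟩
        exact ⟨a', e, ha'⟩
    exact ⟨a', ha', specializes_of_compactOpen fun B h1 h2 h3 => Set.mem_iInter.1 hB ⟨B, ⟨h1, h2⟩, h3⟩⟩
  haveI : T0Space Z := ⟨fun x y hxy => by
    obtain ⟨a, rfl⟩ := hs x
    obtain ⟨⟨a₀, ha₀⟩, hmax⟩ := exists_maximal_of_chains_bounded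
      (α := {a' : A // f a' = f a}) (r := fun u v => v.1 ⤳ u.1) (fun c hc => by
        by_cases hne : c.Nonempty
        · obtain ⟨u, hu, hB⟩ := @IsCompact.inter_iInter_nonempty A (constructibleTopology A) _
            {e : ↥c × Set A // (IsOpen e.2 ∧ IsCompact e.2) ∧ (e.1.1.1 : A) ∈ e.2} (hfib a) (fun e => e.1.2)
            (fun e => isClosed_cons_of_isCompact_isOpen e.2.1.1 e.2.1.2) fun s => by
              classical
              obtain ⟨m, hm⟩ : ∃ m : ↥c, ∀ e ∈ s, m.1.1 ⤳ e.1.1.1.1 := by
                induction s using Finset.induction_on with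
                | empty => exact ⟨⟨hne.some, hne.some_mem⟩, by simp⟩
                | insert e s _ ih =>
                  obtain ⟨m, hm⟩ := ih
                  rcases eq_or_ne m.1 e.1.1.1 with h1 | h1
                  · exact ⟨m, Finset.forall_mem_insert _ _ _ |>.2 ⟨by rw [h1], hm⟩⟩
                  rcases hc m.2 e.1.1.2 h1 with h2 | h2
                  · exact ⟨e.1.1, Finset.forall_mem_insert _ _ _ |>.2 ⟨specializes_rfl, fun x hx => h2.trans (hm x hx)⟩⟩
                  · exact ⟨m, Finset.forall_mem_insert _ _ _ |>.2 ⟨h2, hm⟩⟩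
              exact ⟨m.1.1, m.1.2, Set.mem_iInter₂.2 fun e he =>
                (hm e he).mem_open e.2.1.1 e.2.2⟩
          exact ⟨⟨u, hu⟩, fun v hv => specializes_of_compactOpen fun B h1 h2 h3 =>
            Set.mem_iInter.1 hB ⟨(⟨v, hv⟩, B), ⟨h1, h2⟩, h3⟩⟩
        · exact ⟨⟨a, rfl⟩, fun v hv => (hne ⟨v, hv⟩).elim⟩)
      (fun {u v w} h1 h2 => h2.trans h1)
    obtain ⟨y', rfl⟩ := hs y
    obtain ⟨b, hb, hb₀⟩ := hgen y' a₀ (by rw [ha₀]; exact hxy.specializes')
    obtain ⟨a', ha', hab⟩ := hgen a b (by rw [hb]; exact hxy.specializes)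
    have h1 : a₀ ⤳ a' := hmax ⟨a', ha'⟩ (hab.trans hb₀)
    have h2 : a₀ = b := (inseparable_iff_specializes_and.2 ⟨h1.trans hab, hb₀⟩).eq
    rw [← ha₀, h2, hb]⟩
  haveI : QuasiSober Z := ⟨fun {C} hC hCc => by
    let ι := {W : Set Z // (IsOpen W ∧ IsCompact W) ∧ (C ∩ W).Nonempty}
    obtain ⟨a, ha, haW⟩ := @IsCompact.inter_iInter_nonempty A (constructibleTopology A) _ ι
      (@IsClosed.isCompact A (constructibleTopology A) _ hcA (isClosed_cons_of_isClosed (hCc.preimage hf)))
      (fun W => f ⁻¹' W.1)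
      (fun W => isClosed_cons_of_isCompact_isOpen (W.2.1.1.preimage hf) (hpre W.1 W.2.1.1 W.2.1.2)) fun s => by
        classical
        obtain ⟨z, hzC, hz⟩ := isIrreducible_iff_sInter.1 hC (s.image fun W : ι => W.1)
          (fun U hU => by obtain ⟨W, -, rfl⟩ := Finset.mem_image.1 hU; exact W.2.1.1)
          (fun U hU => by obtain ⟨W, -, rfl⟩ := Finset.mem_image.1 hU; exact W.2.2)
        obtain ⟨a, rfl⟩ := hs z
        exact ⟨a, hzC, Set.mem_iInter₂.2 fun W hW => hz W.1 (Finset.mem_image.2 ⟨W, hW, rfl⟩)⟩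
    refine ⟨f a, isGenericPoint_iff_specializes.2 fun z => ⟨fun h => h.mem_closed hCc ha, fun hz => ?_⟩⟩
    exact specializes_of_compactOpen fun W h1 h2 h3 => Set.mem_iInter.1 haW ⟨W, ⟨h1, h2⟩, z, hz, h3⟩⟩
  exact {}

end Groth.Agent.AlgSt88.SpectralQuot
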