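import Groth.Agent.AlgSt88.QC
import Groth.Agent.AlgSt88.DiagRep
import Groth.Agent.AlgSt88.SpectralQuot

/-! Spectral spaces of points of stacks with quasi-compact diagonal. -/

set_option autoImplicit false
set_option maxHeartbeats 1000000
set_option linter.style.haveILetI false
set_option backward.isDefEq.respectTransparency false
set_option backward.isDefEq.respectTransparency.types false
universe u

open CategoryTheory CategoryTheory.Limits AlgebraicGeometry Opposite Topology AlgSt FibCat

namespace Groth.Agent.AlgSt88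

variable {S : Scheme.{u}} {𝒳 : AlgSt.Cat S}

theorem spectralSpace_affine (X : Scheme.{u}) [IsAffine X] : SpectralSpace X := { }

/-- The image of an affine smooth chart of a stack with quasi-compact diagonal is spectral. -/
theorem spectralSpace_range_ofChart [QuasiSeparatedSpace S] (h𝒳 : IsAlgStack Scheme.fppfPrecoverage 𝒳)
    (hΔ : RepByAlgSpWith AlgSp.IsQuasiCompactMor (diag (toSelf 𝒳))) (U : Over S) [IsAffine U.left]
    (x : overCat U ⥤ᵇ 𝒳) (hx : Sm x) : SpectralSpace ↥(Set.range (Points.ofChart x)) := by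
  have hX := h𝒳.isStack.1
  let P : Over S := Over.mk (pullback.fst U.hom U.hom ≫ U.hom)
  let p₁ : P ⟶ U := Over.homMk (pullback.fst U.hom U.hom) rfl
  let p₂ : P ⟶ U := Over.homMk (pullback.snd U.hom U.hom) pullback.condition.symm
  haveI : QuasiCompact U.hom := quasiCompact_of_compactSpace U.hom
  haveI : CompactSpace P.left := QuasiCompact.compactSpace_of_compactSpace (pullback.fst U.hom U.hom)
  let δ : overCat P ⥤ᵇ fp (toSelf (overCat U)) (toSelf (overCat U)) :=
    fpLift (overMap p₁) (overMap p₂) (selfIso _ _)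
  have hδ : IsEquivOver δ := by
    refine IsEquivData.isEquivOver ⟨?_, ?_, ?_⟩
    · intro a b k k' h
      have h' : (overMap p₁).map k = (overMap p₁).map k' := congrArg (fun t => t.hom.fst) h
      exact Over.OverMorphism.ext (show k.left = k'.left from congrArg (fun t => t.left) h')
    · intro a b k
      have hl : k.hom.fst.left = k.hom.snd.left := by
        have h' : (overCat U).p.map ((fpSnd (toSelf (overCat U)) (toSelf (overCat U))).map k) =
            (fp (toSelf (overCat U)) (toSelf (overCat U))).p.map k := by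
          rw [p_map_eq]
          exact (Category.id_comp _).trans (Category.comp_id _)
        exact h'.symm
      have hk : k.hom.fst.left ≫ b.hom = a.hom := by
        apply Over.OverMorphism.ext
        apply pullback.hom_ext
        · exact (Category.assoc _ _ _).trans (congrArg (fun t => t.left) (Over.w k.hom.fst))
        · rw [hl]
          exact (Category.assoc _ _ _).trans (congrArg (fun t => t.left) (Over.w k.hom.snd))
      exact ⟨Over.homMk k.hom.fst.left hk, fpHom_ext (Over.OverMorphism.ext rfl) (Over.OverMorphism.ext hl)⟩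
    · intro z
      obtain ⟨⟨a, b, i⟩, hz⟩ := z
      haveI hz' : (selfOver (Over S)).p.IsHomLift (𝟙 a.left) i.hom := hz
      have hab : a.left = b.left :=
        (IsHomLift.domain_eq (selfOver (Over S)).p (𝟙 a.left) i.hom).trans
          (IsHomLift.codomain_eq (selfOver (Over S)).p (𝟙 a.left) i.hom).symm
      obtain ⟨T, g, rfl⟩ := a.mk_surjective
      obtain ⟨T', g', rfl⟩ := b.mk_surjective
      obtain rfl : T = T' := hab
      let l : T ⟶ P := Over.homMk (pullback.lift g.left g'.left ((Over.w g).trans (Over.w g').symm)) (by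
        change pullback.lift _ _ _ ≫ pullback.fst U.hom U.hom ≫ U.hom = _
        rw [pullback.lift_fst_assoc]
        exact Over.w g)
      have h1 : l ≫ p₁ = g := Over.OverMorphism.ext (pullback.lift_fst _ _ _)
      have h2 : l ≫ p₂ = g' := Over.OverMorphism.ext (pullback.lift_snd _ _ _)
      refine ⟨Over.mk l, fpObjIso (Over.isoMk (Iso.refl T) ((Category.id_comp g).trans h1.symm))
        (Over.isoMk (Iso.refl T) ((Category.id_comp g').trans h2.symm))
        (self_hom_ext (𝟙 T) ?_ ?_), fp_isHomLift _ ?_⟩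
      · exact @IsHomLift.comp_of_lift_id _ _ _ _ (selfOver (Over S)).p T _ _ _ _ _
          (IsHomLift.of_fac' _ _ _ rfl rfl (by simp [self_map_eq]; rfl)) hz'
      · exact @IsHomLift.comp_of_lift_id _ _ _ _ (selfOver (Over S)).p T _ _ _ _ _
          ((δ.obj (Over.mk l)).property) (IsHomLift.of_fac' _ _ _ rfl rfl (by simp [self_map_eq]; rfl))
      · exact IsHomLift.of_fac' (overCat U).p _ _ rfl rfl (show 𝟙 T = 𝟙 T ≫ 𝟙 T ≫ 𝟙 T by simp)
  let c : overCat P ⥤ᵇ fp (toSelf 𝒳) (toSelf 𝒳) := BasedFunctor.comp δ (prodMap x x)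
  obtain ⟨F, e, he, hqc⟩ := hΔ P c
  let a : F.obj ⟶ (AlgSp.yon S).obj P := spMapOfOver (BasedFunctor.comp e (fpFst c (diag (toSelf 𝒳))))
  haveI : CompactSpace (AlgSp.Points ((AlgSp.yon S).obj P)) := (AlgSp.Points.schemeHomeo P).compactSpace
  have hF : AlgSp.IsQuasiCompactSp F.obj := hqc (AlgSp.IsAlgSpace.yon_obj P)
    (SpPts86.isQuasiCompactSp_of_compactSpace (AlgSp.IsAlgSpace.yon_obj P)) (𝟙 _) (𝟙 _) a
    (IsPullback.of_horiz_isIso ⟨by simp [a]⟩)
  haveI := SpPts86.compactSpace_points_of_isQuasiCompactSp hF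
  obtain ⟨R, π, hR, -, hπ⟩ := SpPts86.exists_affine_chart_of_compactSpace F.property
  haveI := hR
  obtain ⟨k, hk⟩ := (AlgSp.yon S).map_surjective (π ≫ a)
  obtain ⟨γ⟩ := exists_hom_iso (BasedFunctor.comp (BasedFunctor.comp e (fpFst c (diag (toSelf 𝒳)))) (ofOverCat P))
  have hz : ∀ r : ↥R.left, Points.map (fpFst c (diag (toSelf 𝒳)))
      (Points.map e (stPt F.obj (AlgSp.Points.map π (AlgSp.Points.ofScheme R r)))) =
      Points.map (toOverCat P) (stPt _ (AlgSp.Points.ofScheme P (k.left r))) := fun r => by
    refine (points_map_bijective (isEquivOver_ofOverCat P)).1 ?_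
    simp only [← points_map_comp]
    change Points.map (BasedFunctor.comp (BasedFunctor.comp e (fpFst c (diag (toSelf 𝒳)))) (ofOverCat P)) _ = _
    rw [points_map_congr γ, ← spMapOfOver_eq,
      stPt_natural, ← AlgSp.Points.map_comp, ← hk]
    obtain ⟨p, hp⟩ := AlgSp.Points.mk_surjective (AlgSp.Points.ofScheme P (k.left r))
    rw [show AlgSp.Points.map ((AlgSp.yon S).map k) (AlgSp.Points.ofScheme R r) = AlgSp.Points.ofScheme P (k.left r)
      from AlgSp.Points.map_yon_map_apply k r, ← hp]
    exact (Points.sound ⟨(fptOfSp p).map (BasedFunctor.comp (toOverCat P) (ofOverCat P)), 𝟙 _,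
      ⟨𝟙 _, ((AlgSp.yon S).obj P).obj.map_id_apply _ _⟩, trivial⟩).symm
  let f : ↥U.left → ↥(Set.range (Points.ofChart x)) := Set.rangeFactorization (Points.ofChart x)
  haveI := spectralSpace_affine U.left
  haveI := spectralSpace_affine R.left
  haveI : QuasiCompact (k ≫ p₁).left := quasiCompact_of_compactSpace _
  haveI : QuasiCompact (k ≫ p₂).left := quasiCompact_of_compactSpace _
  have hval : ∀ (i : P ⟶ U) (t : ↥P.left), Points.map (BasedFunctor.comp (overMap i) x)
      (Points.map (toOverCat P) (stPt _ (AlgSp.Points.ofScheme P t))) = Points.ofChart x (i.left t) := fun i t => by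
    rw [← ofChart_overMap, ofChart_eq, ← points_map_comp]
  have hopen : IsOpenMap (Points.ofChart x) :=
    isOpenMap_ofChart hX x (rep_flat_of_sm hx) (rep_lfp_of_sm hx)
  refine SpectralQuot.spectralSpace (A := U.left) (R := R.left)
    (Scheme.Hom.isSpectralMap (k ≫ p₁).left) (Scheme.Hom.isSpectralMap (k ≫ p₂).left) (f := f)
    ((continuous_ofChart h𝒳 x).subtype_mk _) (hopen.subtype_mk _) Set.rangeFactorization_surjective
    (fun r => Subtype.ext ?_) (fun s t hst => ?_)
  · change Points.ofChart x (p₁.left (k.left r)) = Points.ofChart x (p₂.left (k.left r))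
    rw [← hval p₁, ← hval p₂, ← hz r]
    obtain ⟨w, hw⟩ : ∃ w, w = Points.map e (stPt F.obj (AlgSp.Points.map π (AlgSp.Points.ofScheme R r))) := ⟨_, rfl⟩
    rw [← hw, ← points_map_comp, ← points_map_comp]
    have h1 := points_map_congr (bRight (fpIso c (diag (toSelf 𝒳))) (fpFst (toSelf 𝒳) (toSelf 𝒳))) w
    have h2 := points_map_congr (bRight (fpIso c (diag (toSelf 𝒳))) (fpSnd (toSelf 𝒳) (toSelf 𝒳))) w
    exact h1.trans h2.symm
  · have hst' : Points.ofChart x s = Points.ofChart x t := congrArg Subtype.val hst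
    let pt : ↥U.left → Points (overCat U) := fun s => Points.map (toOverCat U) (stPt _ (AlgSp.Points.ofScheme U s))
    have hpt : ∀ s, Points.map x (pt s) = Points.ofChart x s := fun s =>
      (points_map_comp _ _ _).symm.trans (ofChart_eq x s).symm
    obtain ⟨w, hw1, hw2⟩ := exists_points_fp hX (isFibGrpd_overCat U) (isFibGrpd_overCat U) x x (pt s) (pt t)
      ((hpt s).trans (hst'.trans (hpt t).symm))
    let Γ := fpMapFst (prodMap x x) (diag (toSelf 𝒳)) δ
    obtain ⟨v, hv⟩ := (points_map_bijective (isEquivOver_fpMapFst (prodMap x x) (diag (toSelf 𝒳)) δ hδ)).2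
      (Points.map (fpToDiag x x) w)
    obtain ⟨v', rfl⟩ := (points_map_bijective he).2 v
    obtain ⟨φ, rfl⟩ := stPt_bijective.2 v'
    obtain ⟨φ', hφ'⟩ := SpPts86.surjective_ofPt hπ φ
    rw [AlgSp.Points.ofPt_eq_map_ofScheme] at hφ'
    refine ⟨φ', ?_⟩
    subst hφ'
    have h0 : Points.map δ (Points.map (toOverCat P) (stPt _ (AlgSp.Points.ofScheme P (k.left φ')))) =
        Points.map (fpToProd x x) w := by
      rw [← hz]
      have h3 := congrArg (Points.map (fpFst (prodMap x x) (diag (toSelf 𝒳)))) hv
      rw [← points_map_comp (fpToDiag x x)] at h3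
      refine Eq.trans ?_ h3
      simp only [← points_map_comp]
      rfl
    have key : ∀ (i : P ⟶ U) (pr : fp (toSelf (overCat U)) (toSelf (overCat U)) ⥤ᵇ overCat U),
        BasedFunctor.comp δ pr = overMap i → Points.map (BasedFunctor.comp (fpToProd x x) pr) w =
          pt (i.left (k.left φ')) := fun i pr hi => by
      rw [points_map_comp, ← h0, ← points_map_comp, hi]
      refine (points_map_bijective (isEquivOver_ofOverCat U)).1 ?_
      obtain ⟨ι⟩ := toOver_overMap i
      rw [← points_map_comp (toOverCat P), points_map_congr ι, points_map_comp, stPt_natural]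
      rw [show AlgSp.Points.map ((AlgSp.yon S).map i) (AlgSp.Points.ofScheme P (k.left φ')) =
        AlgSp.Points.ofScheme U (i.left (k.left φ')) from AlgSp.Points.map_yon_map_apply i _]
    have inj : Function.Injective pt := fun s t h => (AlgSp.Points.schemeHomeo U).injective
      (stPt_bijective.1 ((points_map_bijective (isEquivOver_toOverCat U)).1 h))
    exact ⟨inj ((key p₁ (fpFst (toSelf (overCat U)) (toSelf (overCat U))) rfl).symm.trans hw1),
      inj ((key p₂ (fpSnd (toSelf (overCat U)) (toSelf (overCat U))) rfl).symm.trans hw2)⟩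

end Groth.Agent.AlgSt88
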