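import Groth.Agent.AlgSt88.StackFieldChart
import Groth.Agent.AlgSt88.HenselLift

/-!
The isomorphism classes of field-valued points of an algebraic stack form a small set.
-/

set_option autoImplicit false
set_option linter.style.haveILetI false
set_option backward.isDefEq.respectTransparency false
set_option backward.isDefEq.respectTransparency.types false
universe u

open CategoryTheory CategoryTheory.Limits AlgebraicGeometry Opposite AlgSt FibCat

namespace Groth.Agent.AlgSt88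

variable {S : Scheme.{u}} {𝒵 : AlgSt.Cat S}

/-- A compatible family of isomorphisms of an equivariant tuple with an object. -/
def TupleOver {k : Type u} [Field k] {L : Type u} [Field L] [Algebra k L] {sk : Spec (CommRingCat.of k) ⟶ S}
    {U : Over S} (w : overCat U ⥤ᵇ 𝒵) (ω : PowPt w (L ≃ₐ[k] L) (fieldOver k L sk)) (x₀ : 𝒵.obj) : Prop :=
  ∃ (β : ∀ i, wObj w (ω.u i) ⟶ x₀), (∀ i, 𝒵.p.IsHomLift (fieldMap k L sk) (β i)) ∧
    (∀ i j, ω.α i j ≫ β j = β i) ∧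
    (∀ g, PowPt.Rel (fieldAct k L sk g).hom (ω.reindex (· * g)) ω) ∧
    ∀ (g i : L ≃ₐ[k] L) (e : (fieldAct k L sk g).hom ≫ ω.u i = ω.u (i * g)),
      wRes w (fieldAct k L sk g).hom e ≫ β i = β (i * g)

theorem iso_of_tupleOver {K : Precoverage Scheme.{u}} (hK : QuotSh.J Scheme.etalePrecoverage S ≤ QuotSh.J K S)
    (hst : Stk.IsStack (QuotSh.J K S) 𝒵) {k : Type u} [Field k] {L : Type u} [Field L] [Algebra k L]
    [FiniteDimensional k L] [IsGalois k L] {sk : Spec (CommRingCat.of k) ⟶ S} {U : Over S} {w : overCat U ⥤ᵇ 𝒵}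
    (ω : PowPt w (L ≃ₐ[k] L) (fieldOver k L sk)) (x y : overCat (Over.mk sk) ⥤ᵇ 𝒵)
    (hx : TupleOver w ω (x.obj (Fib44.idObj (Over.mk sk)))) (hy : TupleOver w ω (y.obj (Fib44.idObj (Over.mk sk)))) :
    Nonempty (x ≅ y) := by
  obtain ⟨β, hβ, hβα, hrel, hβr⟩ := hx
  obtain ⟨β', hβ', hβα', -, hβr'⟩ := hy
  let D := powDatum (fieldAct k L sk) ω hrel
  have hinv : ∀ {z : 𝒵.obj} (b : ∀ i, wObj w (ω.u i) ⟶ z), (∀ i j, ω.α i j ≫ b j = b i) →
      (∀ (g i : L ≃ₐ[k] L) (e : (fieldAct k L sk g).hom ≫ ω.u i = ω.u (i * g)),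
        wRes w (fieldAct k L sk g).hom e ≫ b i = b (i * g)) → ∀ g, D.act g ≫ b 1 = b 1 := fun {z} b hb hb' g => by
    show (ω.α 1 (1 * g) ≫ wRes w (fieldAct k L sk g).hom ((hrel g).choose 1)) ≫ b 1 = b 1
    rw [Category.assoc]
    exact (congrArg (ω.α 1 (1 * g) ≫ ·) (hb' g 1 ((hrel g).choose 1))).trans (hb 1 (1 * g))
  haveI : 𝒵.p.IsHomLift (fieldMap k L sk) (β 1 : D.obj ⟶ _) := hβ 1
  haveI : 𝒵.p.IsHomLift (fieldMap k L sk) (β' 1 : D.obj ⟶ _) := hβ' 1
  obtain ⟨χ, hχ, -⟩ := GalDatum.exists_hom_descent (D := D) hst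
    ((galCover_field k L (QuotSh.J Scheme.etalePrecoverage S) le_rfl sk).mono hK)
    (β 1 : D.obj ⟶ _) (β' 1 : D.obj ⟶ _) (hinv β hβα hβr) (hinv β' hβα' hβr')
  haveI := Fib44.isIso_of_fibGrpd 𝒵.p hst.1 (𝟙 (Over.mk sk)) χ
  exact nonempty_iso_of_app_id hst.1 (asIso χ) hχ

/-- Representatives of the field-valued points of an algebraic stack. -/
theorem exists_small_fieldPoints {K : Precoverage Scheme.{u}}
    (hK : QuotSh.J Scheme.etalePrecoverage S ≤ QuotSh.J K S) (h𝒵 : IsAlgStack K 𝒵)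
    (k : Type u) [Field k] (sk : Spec (CommRingCat.of k) ⟶ S) :
    ∃ (ι : Type u) (X : ι → (overCat (Over.mk sk) ⥤ᵇ 𝒵)),
      ∀ x : overCat (Over.mk sk) ⥤ᵇ 𝒵, ∃ i, Nonempty (X i ≅ x) := by
  classical
  have hst := h𝒵.isStack
  have hZ : IsFibGrpd 𝒵.p := hst.1
  obtain ⟨U, w, hw, hw'⟩ := h𝒵.atlas
  let I : Type u := {N : IntermediateField k (SeparableClosure k) // FiniteDimensional k N ∧ IsGalois k N}
  let G : I → Type u := fun N => N.1 ≃ₐ[k] N.1
  have hfin : ∀ N : I, Finite (G N) := fun N => have := N.2.1; inferInstance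
  have hgood : ∀ N : I, GoodPow w hZ (G N) := fun N => have := hfin N; goodPow_finite hZ hw (G N) 1
  choose hs ha _hp using hgood
  let R : I → AlgSp.Sp S := fun N => ⟨powPsh w hZ (G N), hs N⟩
  let H : I → Type (u + 1) := fun N => (AlgSp.yon S).obj (fieldOver k N.1 sk) ⟶ R N
  have hsm : ∀ N, Small.{u} (H N) := fun N =>
    small_fieldPoints (ha N) (Spec.map (CommRingCat.ofHom (algebraMap k N.1)) ≫ sk)
  let d : Type u := Σ N : I, Shrink.{u} (H N)
  let om : ∀ i : d, PowPt w (G i.1) (fieldOver k i.1.1 sk) := fun i =>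
    eltOf (R := R i.1) ((equivShrink (H i.1)).symm i.2)
  let Rel : d → (overCat (Over.mk sk) ⥤ᵇ 𝒵) → Prop := fun i x =>
    TupleOver w (om i) (x.obj (Fib44.idObj (Over.mk sk)))
  refine ⟨{i : d // ∃ x, Rel i x}, fun i => i.2.choose, fun x => ?_⟩
  obtain ⟨L, _, _, _, _, a₀, β₀, hβ₀⟩ := exists_galois_point_atlas w hw hw' x
  let φ : L →ₐ[k] SeparableClosure k := IsSepClosed.lift
  let N₀ : IntermediateField k (SeparableClosure k) := φ.fieldRange
  let e : L ≃ₐ[k] N₀ := AlgEquiv.ofInjectiveField φ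
  have hN : FiniteDimensional k N₀ ∧ IsGalois k N₀ :=
    ⟨Module.Finite.equiv e.toLinearEquiv, IsGalois.of_algEquiv e⟩
  let N : I := ⟨N₀, hN⟩
  haveI := hN.1
  haveI := hN.2
  let c : fieldOver k N₀ sk ⟶ fieldOver k L sk := Over.homMk (Spec.map (CommRingCat.ofHom e.toAlgHom.toRingHom)) (by
    change Spec.map _ ≫ Spec.map _ ≫ sk = Spec.map _ ≫ sk
    rw [← Category.assoc, specMap_algHom])
  have hcm : c ≫ fieldMap k L sk = fieldMap k N₀ sk := Over.OverMorphism.ext (specMap_algHom k e.toAlgHom)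
  let β : wObj w (c ≫ a₀) ⟶ x.obj (Fib44.idObj (Over.mk sk)) := wRes w c rfl ≫ β₀
  haveI : 𝒵.p.IsHomLift (fieldMap k N₀ sk) β := by
    haveI := hβ₀
    have : 𝒵.p.IsHomLift (c ≫ fieldMap k L sk) β :=
      inferInstanceAs (𝒵.p.IsHomLift (c ≫ fieldMap k L sk) (wRes w c rfl ≫ β₀))
    exact isHomLift_congr hcm _
  obtain ⟨ω, βω, -, hβω, hωβ, hωrel, hωres⟩ := exists_equivariant_tuple hZ (fieldAct k N₀ sk)
    (fieldMap k N₀ sk) (fun g => Over.OverMorphism.ext (specMap_algHom k g.symm.toAlgHom)) (c ≫ a₀) β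
  obtain ⟨ωh, hωh⟩ := exists_eltOf (R := R N) (T := fieldOver k N₀ sk) (ω : PowPt w (G N) (fieldOver k N₀ sk))
  let i : d := ⟨N, equivShrink (H N) ωh⟩
  have hi : om i = ω := by
    show eltOf (R := R N) ((equivShrink (H N)).symm (equivShrink (H N) ωh)) = ω
    rw [Equiv.symm_apply_apply, hωh]
  have hrel : Rel i x := by
    show TupleOver w (om i) _
    rw [hi]
    exact ⟨βω, hβω, hωβ, hωrel, hωres⟩
  refine ⟨⟨i, x, hrel⟩, ?_⟩
  exact iso_of_tupleOver hK hst (om i) _ x (⟨x, hrel⟩ : ∃ x, Rel i x).choose_spec hrel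

end Groth.Agent.AlgSt88
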