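import Mathlib.AlgebraicGeometry.Morphisms.FiniteType
import Mathlib.AlgebraicGeometry.Morphisms.QuasiCompact
import Mathlib.AlgebraicGeometry.Fiber
import Mathlib.RingTheory.TensorProduct.MvPolynomial
import Mathlib.LinearAlgebra.TensorProduct.Finiteness

/-! Separating a point from a closed set over an affine base at a finite stage. -/

set_option autoImplicit false
set_option maxHeartbeats 1000000
set_option linter.style.haveILetI false
set_option backward.isDefEq.respectTransparency false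
set_option backward.isDefEq.respectTransparency.types false
universe u

open CategoryTheory CategoryTheory.Limits AlgebraicGeometry TensorProduct

namespace Groth.Agent.AlgSt88.UCLimit

theorem exists_finite_stage {A D B : Type u} [CommRing A] [CommRing D] [CommRing B] [Algebra A D] [Algebra A B]
    (C : Set (PrimeSpectrum (D ⊗[A] B))) (hC : IsClosed C) (t : PrimeSpectrum B)
    (ht : ∀ q ∈ C, PrimeSpectrum.comap (Algebra.TensorProduct.includeRight : B →ₐ[A] D ⊗[A] B).toRingHom q ≠ t) :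
    ∃ (n : ℕ) (β : Fin n → B) (W₀ : Set (PrimeSpectrum (D ⊗[A] MvPolynomial (Fin n) A))), IsOpen W₀ ∧
      (∀ q ∈ C, PrimeSpectrum.comap
        (Algebra.TensorProduct.map (AlgHom.id A D) (MvPolynomial.aeval (R := A) β)).toRingHom q ∉ W₀) ∧
      ∀ q : PrimeSpectrum (D ⊗[A] B),
        PrimeSpectrum.comap (Algebra.TensorProduct.includeRight : B →ₐ[A] D ⊗[A] B).toRingHom q = t →
        PrimeSpectrum.comap
          (Algebra.TensorProduct.map (AlgHom.id A D) (MvPolynomial.aeval (R := A) β)).toRingHom q ∈ W₀ := by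
  classical
  let π : Spec (CommRingCat.of (D ⊗[A] B)) ⟶ Spec (CommRingCat.of B) :=
    Spec.map (CommRingCat.ofHom (Algebra.TensorProduct.includeRight : B →ₐ[A] D ⊗[A] B).toRingHom)
  have hfib : IsCompact (π ⁻¹' {t}) := by
    haveI : CompactSpace ↥(π.fiber t) := inferInstance
    rw [← Scheme.Hom.range_fiberι π t]
    exact isCompact_range (π.fiberι t).continuous
  have hx : ∀ q : PrimeSpectrum (D ⊗[A] B), ∃ f : D ⊗[A] B, π q = t →
      q ∈ PrimeSpectrum.basicOpen f ∧ (PrimeSpectrum.basicOpen f : Set (PrimeSpectrum (D ⊗[A] B))) ⊆ Cᶜ := by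
    intro q
    by_cases hq : π q = t
    · obtain ⟨_, ⟨f, rfl⟩, h1, h2⟩ := PrimeSpectrum.isTopologicalBasis_basic_opens.exists_subset_of_mem_open
        (show q ∈ Cᶜ from fun h => ht q h hq) hC.isOpen_compl
      exact ⟨f, fun _ => ⟨h1, h2⟩⟩
    · exact ⟨0, fun h => absurd h hq⟩
  choose f hf using hx
  obtain ⟨F, hFsub, hFfin, hF⟩ := hfib.elim_finite_subcover_image (b := π ⁻¹' {t})
    (c := fun q => (PrimeSpectrum.basicOpen (f q) : Set (PrimeSpectrum (D ⊗[A] B))))
    (fun q _ => (PrimeSpectrum.basicOpen (f q)).isOpen) (fun q hq => Set.mem_biUnion hq (hf q hq).1)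
  choose G hG using fun q => TensorProduct.exists_finset (f q)
  let s : Finset B := hFfin.toFinset.biUnion fun q => (G q).image Prod.snd
  let β : Fin s.card → B := fun i => (s.equivFin.symm i : B)
  let M := Algebra.TensorProduct.map (AlgHom.id A D) (MvPolynomial.aeval (R := A) β)
  have hlift : ∀ q ∈ F, ∃ g, M g = f q := by
    intro q hq
    rw [hG q]
    refine (Submodule.sum_mem (LinearMap.range M.toLinearMap) fun z hz => ?_ : _)
    have hzs : z.2 ∈ s := Finset.mem_biUnion.2 ⟨q, hFfin.mem_toFinset.2 hq, Finset.mem_image.2 ⟨z, hz, rfl⟩⟩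
    refine ⟨z.1 ⊗ₜ MvPolynomial.X (s.equivFin ⟨z.2, hzs⟩), ?_⟩
    show M (z.1 ⊗ₜ MvPolynomial.X (s.equivFin ⟨z.2, hzs⟩)) = z.1 ⊗ₜ z.2
    rw [Algebra.TensorProduct.map_tmul, MvPolynomial.aeval_X, AlgHom.id_apply]
    simp [β]
  choose g hg using hlift
  let W₀ : Set (PrimeSpectrum (D ⊗[A] MvPolynomial (Fin s.card) A)) :=
    ⋃ q, ⋃ hq : q ∈ F, (PrimeSpectrum.basicOpen (g q hq) : Set _)
  have key : ∀ (q : _) (hq : q ∈ F) (p : PrimeSpectrum (D ⊗[A] B)),
      PrimeSpectrum.comap M.toRingHom p ∈ PrimeSpectrum.basicOpen (g q hq) ↔ p ∈ PrimeSpectrum.basicOpen (f q) := by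
    intro q hq p
    show M (g q hq) ∉ p.asIdeal ↔ f q ∉ p.asIdeal
    rw [hg]
  refine ⟨s.card, β, W₀, isOpen_iUnion fun q => isOpen_iUnion fun hq => (PrimeSpectrum.basicOpen _).isOpen,
    fun p hp hW => ?_, fun p hp => ?_⟩
  · obtain ⟨q, hq, hW⟩ := Set.mem_iUnion₂.1 hW
    exact (hf q (hFsub hq)).2 ((key q hq p).1 hW) hp
  · obtain ⟨q, hq, hW⟩ := Set.mem_iUnion₂.1 (hF hp)
    exact Set.mem_iUnion₂.2 ⟨q, hq, (key q hq p).2 hW⟩

theorem exists_stage_spec {A D B : Type u} [CommRing A] [CommRing D] [CommRing B] [Algebra A D] [Algebra A B]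
    (C : Set ↥(pullback (Spec.map (CommRingCat.ofHom (algebraMap A D))) (Spec.map (CommRingCat.ofHom (algebraMap A B)))))
    (hC : IsClosed C) (t : Spec (CommRingCat.of B)) (ht : ∀ q ∈ C, (pullback.snd (Spec.map (CommRingCat.ofHom (algebraMap A D))) (Spec.map (CommRingCat.ofHom (algebraMap A B)))) q ≠ t) :
    ∃ (n : ℕ) (β : Fin n → B)
      (w : Spec.map (CommRingCat.ofHom (algebraMap A B)) =
        Spec.map (CommRingCat.ofHom (MvPolynomial.aeval (R := A) β).toRingHom) ≫
          Spec.map (CommRingCat.ofHom (algebraMap A (MvPolynomial (Fin n) A))))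
      (W₀ : Set ↥(pullback (Spec.map (CommRingCat.ofHom (algebraMap A D)))
        (Spec.map (CommRingCat.ofHom (algebraMap A (MvPolynomial (Fin n) A)))))),
      IsOpen W₀ ∧
      (∀ q ∈ C, pullback.map (Spec.map (CommRingCat.ofHom (algebraMap A D))) (Spec.map (CommRingCat.ofHom (algebraMap A B)))
        _ _ (𝟙 _) (Spec.map (CommRingCat.ofHom (MvPolynomial.aeval (R := A) β).toRingHom)) (𝟙 _) (by simp)
        ((Category.comp_id _).trans w) q ∉ W₀) ∧
      ∀ q, (pullback.snd (Spec.map (CommRingCat.ofHom (algebraMap A D))) (Spec.map (CommRingCat.ofHom (algebraMap A B)))) q = t →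
        pullback.map (Spec.map (CommRingCat.ofHom (algebraMap A D))) (Spec.map (CommRingCat.ofHom (algebraMap A B)))
        _ _ (𝟙 _) (Spec.map (CommRingCat.ofHom (MvPolynomial.aeval (R := A) β).toRingHom)) (𝟙 _) (by simp)
        ((Category.comp_id _).trans w) q ∈ W₀ := by
  let e := pullbackSpecIso A D B
  have hsnd : ∀ x, PrimeSpectrum.comap (Algebra.TensorProduct.includeRight : B →ₐ[A] D ⊗[A] B).toRingHom x =
      (pullback.snd (Spec.map (CommRingCat.ofHom (algebraMap A D))) (Spec.map (CommRingCat.ofHom (algebraMap A B)))) (e.inv x) := fun x => by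
    rw [← Scheme.Hom.comp_apply]
    exact congrArg (fun k : Spec (CommRingCat.of (D ⊗[A] B)) ⟶ _ => k x) (pullbackSpecIso_inv_snd A D B).symm
  obtain ⟨n, β, W, hW, h1, h2⟩ := exists_finite_stage (A := A) (D := D) (B := B) (e.inv ⁻¹' C)
    (hC.preimage e.inv.continuous) t (fun x hx => hsnd x ▸ ht _ hx)
  let e₀ := pullbackSpecIso A D (MvPolynomial (Fin n) A)
  have w : Spec.map (CommRingCat.ofHom (algebraMap A B)) =
      Spec.map (CommRingCat.ofHom (MvPolynomial.aeval (R := A) β).toRingHom) ≫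
        Spec.map (CommRingCat.ofHom (algebraMap A (MvPolynomial (Fin n) A))) := by
    rw [← Spec.map_comp, ← CommRingCat.ofHom_comp]
    congr 2
    exact (MvPolynomial.aeval (R := A) β).comp_algebraMap.symm
  refine ⟨n, β, w, e₀.hom ⁻¹' W, hW.preimage e₀.hom.continuous, ?_⟩
  let M := Algebra.TensorProduct.map (AlgHom.id A D) (MvPolynomial.aeval (R := A) β)
  have hM : pullback.map (Spec.map (CommRingCat.ofHom (algebraMap A D))) (Spec.map (CommRingCat.ofHom (algebraMap A B)))
      _ _ (𝟙 _) (Spec.map (CommRingCat.ofHom (MvPolynomial.aeval (R := A) β).toRingHom)) (𝟙 _) (by simp)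
      ((Category.comp_id _).trans w) ≫ e₀.hom = e.hom ≫ Spec.map (CommRingCat.ofHom M.toRingHom) := by
    rw [← cancel_mono e₀.inv, Category.assoc, Iso.hom_inv_id, Category.comp_id]
    apply pullback.hom_ext
    · rw [pullback.lift_fst, Category.comp_id, Category.assoc, Category.assoc, pullbackSpecIso_inv_fst, ← Spec.map_comp,
        ← pullbackSpecIso_hom_fst A D B, ← CommRingCat.ofHom_comp]
      congr 3
      ext d
      simp [M]
    · rw [pullback.lift_snd, Category.assoc, Category.assoc, pullbackSpecIso_inv_snd, ← Spec.map_comp,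
        ← pullbackSpecIso_hom_snd A D B, Category.assoc, ← Spec.map_comp, ← CommRingCat.ofHom_comp,
        ← CommRingCat.ofHom_comp]
      congr 3
  have hM' : ∀ q, e₀.hom (pullback.map (Spec.map (CommRingCat.ofHom (algebraMap A D)))
      (Spec.map (CommRingCat.ofHom (algebraMap A B))) _ _ (𝟙 _)
      (Spec.map (CommRingCat.ofHom (MvPolynomial.aeval (R := A) β).toRingHom)) (𝟙 _) (by simp)
      ((Category.comp_id _).trans w) q) = PrimeSpectrum.comap M.toRingHom (e.hom q) := fun q => by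
    rw [← Scheme.Hom.comp_apply, hM]
    rfl
  have hq : ∀ q, e.inv (e.hom q) = q := fun q => by
    rw [← Scheme.Hom.comp_apply, Iso.hom_inv_id]; rfl
  refine ⟨fun q hqC h => h1 (e.hom q) (by rw [Set.mem_preimage, hq]; exact hqC) (hM' q ▸ h), fun q hqt => ?_⟩
  rw [Set.mem_preimage, hM']
  exact h2 _ (by rw [hsnd, hq, hqt])

/-- Affine version. -/
theorem exists_stage {U V T : Scheme.{u}} [IsAffine U] [IsAffine V] [IsAffine T] (h : U ⟶ V) (k : T ⟶ V)
    (C : Set ↥(pullback h k)) (hC : IsClosed C) (t : T) (ht : ∀ q ∈ C, pullback.snd h k q ≠ t) :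
    ∃ (T₀ : Scheme.{u}) (_ : IsAffine T₀) (k₀ : T₀ ⟶ V) (_ : LocallyOfFiniteType k₀) (m : T ⟶ T₀)
      (pM : pullback h k ⟶ pullback h k₀) (W₀ : Set ↥(pullback h k₀)),
      m ≫ k₀ = k ∧ IsPullback pM (pullback.snd h k) (pullback.snd h k₀) m ∧
      pM ≫ pullback.fst h k₀ = pullback.fst h k ∧ IsOpen W₀ ∧ (∀ q ∈ C, pM q ∉ W₀) ∧
      ∀ q, pullback.snd h k q = t → pM q ∈ W₀ := by
  let A := Γ(V, ⊤)
  letI : Algebra A Γ(U, ⊤) := h.appTop.hom.toAlgebra
  letI : Algebra A Γ(T, ⊤) := k.appTop.hom.toAlgebra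
  let φ := pullback.map (Spec.map h.appTop) (Spec.map k.appTop) h k U.isoSpec.inv T.isoSpec.inv V.isoSpec.inv
    (Scheme.isoSpec_inv_naturality h) (Scheme.isoSpec_inv_naturality k)
  have hφ₂ : φ ≫ pullback.snd h k = pullback.snd _ _ ≫ T.isoSpec.inv := pullback.lift_snd _ _ _
  obtain ⟨n, β, w, W₁, hW₁, h1, h2⟩ := exists_stage_spec (A := A) (D := Γ(U, ⊤)) (B := Γ(T, ⊤)) (φ ⁻¹' C)
    (hC.preimage φ.continuous) (T.isoSpec.hom t) (fun q hq e => ht _ hq (by
      rw [← Scheme.Hom.comp_apply, hφ₂, Scheme.Hom.comp_apply]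
      refine (congrArg T.isoSpec.inv e).trans ?_
      rw [← Scheme.Hom.comp_apply, Iso.hom_inv_id]
      rfl))
  let b₀ : Spec (CommRingCat.of (MvPolynomial (Fin n) A)) ⟶ Spec (CommRingCat.of A) :=
    Spec.map (CommRingCat.ofHom (algebraMap A (MvPolynomial (Fin n) A)))
  let k₀ := b₀ ≫ V.isoSpec.inv
  let m₀ := Spec.map (CommRingCat.ofHom (MvPolynomial.aeval (R := A) β).toRingHom)
  let m := T.isoSpec.hom ≫ m₀
  haveI : LocallyOfFiniteType b₀ := (HasRingHomProperty.Spec_iff (P := @LocallyOfFiniteType)).2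
    (RingHom.finiteType_algebraMap.2 (inferInstanceAs (Algebra.FiniteType A (MvPolynomial (Fin n) A))))
  have hmk : m ≫ k₀ = k := by
    have : m₀ ≫ b₀ = Spec.map k.appTop := w.symm
    simp only [m, k₀, Category.assoc]
    rw [reassoc_of% this, Scheme.isoSpec_inv_naturality, Iso.hom_inv_id_assoc]
  let pM : pullback h k ⟶ pullback h k₀ :=
    pullback.lift (pullback.fst h k) (pullback.snd h k ≫ m) (by rw [Category.assoc, hmk, pullback.condition])
  have sq : IsPullback pM (pullback.snd h k) (pullback.snd h k₀) m := by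
    refine IsPullback.of_right (h₁₂ := pullback.fst h k₀) (v₁₃ := h) (h₂₂ := k₀) ?_ (pullback.lift_snd _ _ _)
      (IsPullback.of_hasPullback h k₀)
    rw [pullback.lift_fst, hmk]
    exact IsPullback.of_hasPullback h k
  let φ₀ := pullback.map (Spec.map h.appTop) b₀ h k₀ U.isoSpec.inv (𝟙 _) V.isoSpec.inv
    (Scheme.isoSpec_inv_naturality h) (by simp [k₀])
  let ψ₀ := pullback.map h k₀ (Spec.map h.appTop) b₀ U.isoSpec.hom (𝟙 _) V.isoSpec.hom
    (Scheme.isoSpec_hom_naturality h).symm (by simp [k₀])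
  refine ⟨_, inferInstance, k₀, inferInstance, m, pM, ψ₀ ⁻¹' W₁, hmk, sq, pullback.lift_fst _ _ _,
    hW₁.preimage ψ₀.continuous, fun q hq => ?_, fun q hq => ?_⟩
  all_goals
    let ψ := pullback.map h k (Spec.map h.appTop) (Spec.map k.appTop) U.isoSpec.hom T.isoSpec.hom V.isoSpec.hom
      (Scheme.isoSpec_hom_naturality h).symm (Scheme.isoSpec_hom_naturality k).symm
    have hψ : ψ ≫ φ = 𝟙 _ := by
      apply pullback.hom_ext <;> simp [ψ, φ]
    have hψq : φ (ψ q) = q := by rw [← Scheme.Hom.comp_apply, hψ]; rfl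
    have hψM : ψ₀ (pM q) = pullback.map (Spec.map (CommRingCat.ofHom (algebraMap A Γ(U, ⊤))))
        (Spec.map (CommRingCat.ofHom (algebraMap A Γ(T, ⊤)))) _ b₀ (𝟙 _) m₀ (𝟙 _) ((Category.comp_id _).trans (Category.id_comp _).symm)
        ((Category.comp_id _).trans w) (ψ q) := by
      refine (Scheme.Hom.comp_apply _ _ _).symm.trans
        ((congrArg (fun g : pullback h k ⟶ _ => g q) ?_).trans (Scheme.Hom.comp_apply _ _ _))
      apply pullback.hom_ext
      · erw [Category.assoc, Category.assoc, pullback.lift_fst, pullback.lift_fst, Category.comp_id]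
        erw [pullback.lift_fst_assoc, pullback.lift_fst]
      · erw [Category.assoc, Category.assoc, pullback.lift_snd, Category.comp_id, pullback.lift_snd]
        exact (((congrArg (ψ ≫ ·) (pullback.lift_snd _ _ _)).trans (Category.assoc _ _ _).symm).trans
          ((congrArg (· ≫ m₀) (pullback.lift_snd _ _ _)).trans (Category.assoc _ _ _))).symm
  · intro hW
    exact h1 (ψ q) (by rw [Set.mem_preimage, hψq]; exact hq) (hψM ▸ hW)
  · rw [Set.mem_preimage, hψM]
    refine h2 (ψ q) ?_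
    rw [← hq, ← Scheme.Hom.comp_apply]
    exact congrArg (fun g : pullback h k ⟶ _ => g q) (pullback.lift_snd _ _ _)

end Groth.Agent.AlgSt88.UCLimit
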