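import Groth.Agent.AlgSt88.UCTop
import Groth.Agent.AlgSt88.UCLimit

/-! Universal closedness over a Noetherian affine chart from the valuative criterion for discrete valuation rings. -/

set_option autoImplicit false
set_option maxHeartbeats 1000000
set_option linter.style.haveILetI false
set_option linter.unusedVariables false
set_option backward.isDefEq.respectTransparency false
set_option backward.isDefEq.respectTransparency.types false
universe u

open CategoryTheory CategoryTheory.Limits AlgebraicGeometry Opposite AlgSt FibCat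

namespace Groth.Agent.AlgSt88

variable {S : Scheme.{u}} {𝒳 𝒴 : AlgSt.Cat S}

/-- The valuative hypothesis. -/
def DvrLifting (f : 𝒳 ⥤ᵇ 𝒴) : Prop :=
  ∀ (R : Type u) [CommRing R] [IsDomain R] [IsDiscreteValuationRing R]
        (sR : Spec (CommRingCat.of R) ⟶ S)
        (a : overCat (Over.mk (Spec.map (CommRingCat.ofHom (algebraMap R (FractionRing R))) ≫ sR)) ⥤ᵇ 𝒳)
        (b : overCat (Over.mk sR) ⥤ᵇ 𝒴)
        (α : BasedFunctor.comp a f ≅
          BasedFunctor.comp (overMap (Over.homMk (Spec.map (CommRingCat.ofHom (algebraMap R (FractionRing R)))) rfl :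
            Over.mk (Spec.map (CommRingCat.ofHom (algebraMap R (FractionRing R))) ≫ sR) ⟶ Over.mk sR)) b),
        ∃ (R' : Type u) (_ : CommRing R') (_ : IsDomain R') (_ : IsDiscreteValuationRing R') (φ : R →+* R')
          (_ : Function.Injective φ) (_ : IsLocalHom φ)
          (gψ : (Over.mk (Spec.map (CommRingCat.ofHom (algebraMap R' (FractionRing R'))) ≫
                  Spec.map (CommRingCat.ofHom φ) ≫ sR) : Over S) ⟶
                Over.mk (Spec.map (CommRingCat.ofHom (algebraMap R (FractionRing R))) ≫ sR))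
          (c : overCat (Over.mk (Spec.map (CommRingCat.ofHom φ) ≫ sR)) ⥤ᵇ fp f b),
          gψ ≫ (Over.homMk (Spec.map (CommRingCat.ofHom (algebraMap R (FractionRing R)))) rfl :
              Over.mk (Spec.map (CommRingCat.ofHom (algebraMap R (FractionRing R))) ≫ sR) ⟶ Over.mk sR) =
            (Over.homMk (Spec.map (CommRingCat.ofHom (algebraMap R' (FractionRing R')))) rfl :
                Over.mk (Spec.map (CommRingCat.ofHom (algebraMap R' (FractionRing R'))) ≫
                  Spec.map (CommRingCat.ofHom φ) ≫ sR) ⟶ Over.mk (Spec.map (CommRingCat.ofHom φ) ≫ sR)) ≫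
              (Over.homMk (Spec.map (CommRingCat.ofHom φ)) rfl :
                Over.mk (Spec.map (CommRingCat.ofHom φ) ≫ sR) ⟶ Over.mk sR) ∧
          Nonempty (BasedFunctor.comp c (fpSnd f b) ≅
            overMap (Over.homMk (Spec.map (CommRingCat.ofHom φ)) rfl :
              Over.mk (Spec.map (CommRingCat.ofHom φ) ≫ sR) ⟶ Over.mk sR)) ∧
          Nonempty (BasedFunctor.comp
              (overMap (Over.homMk (Spec.map (CommRingCat.ofHom (algebraMap R' (FractionRing R')))) rfl :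
                Over.mk (Spec.map (CommRingCat.ofHom (algebraMap R' (FractionRing R'))) ≫
                  Spec.map (CommRingCat.ofHom φ) ≫ sR) ⟶ Over.mk (Spec.map (CommRingCat.ofHom φ) ≫ sR))) c ≅
            BasedFunctor.comp (overMap gψ)
              (fpLift a
                (overMap (Over.homMk (Spec.map (CommRingCat.ofHom (algebraMap R (FractionRing R)))) rfl :
                  Over.mk (Spec.map (CommRingCat.ofHom (algebraMap R (FractionRing R))) ≫ sR) ⟶ Over.mk sR)) α))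

theorem ofChart_congr {T : Over S} {x x' : overCat T ⥤ᵇ 𝒳} (α : x ≅ x') (t : ↥T.left) :
    Points.ofChart x t = Points.ofChart x' t := by
  rw [ofChart_eq, ofChart_eq]
  exact points_map_congr (bLeft (toOverCat T) α) _

theorem map_ofChart {𝒵 : AlgSt.Cat S} {T : Over S} (x : overCat T ⥤ᵇ 𝒳) (F : 𝒳 ⥤ᵇ 𝒵) (t : ↥T.left) :
    Points.map F (Points.ofChart x t) = Points.ofChart (BasedFunctor.comp x F) t := by
  rw [ofChart_eq, ofChart_eq, ← points_map_comp]
  rfl

section
variable {f : 𝒳 ⥤ᵇ 𝒴} {V₀ U : Over S} {y₀ : ofSch V₀ ⥤ᵇ 𝒴} (u : ofSch U ⥤ᵇ fp y₀ f) {h : U ⟶ V₀}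
  (δ : BasedFunctor.comp u (fpFst y₀ f) ≅ ofSpMap ((AlgSp.yon S).map h))

/-- The compatibility for the base change of the chart. -/
noncomputable def bcIso {T : Over S} (k : T ⟶ V₀) :
    BasedFunctor.comp (ofSpMap ((AlgSp.yon S).map (pullback.snd h k))) (ofSpMap ((AlgSp.yon S).map k)) ≅
      BasedFunctor.comp (BasedFunctor.comp (ofSpMap ((AlgSp.yon S).map (pullback.fst h k))) u) (fpFst y₀ f) :=
  Classical.choice (by
    obtain ⟨c₁⟩ := nonempty_ofSpMap_comp ((AlgSp.yon S).map (pullback.snd h k)) ((AlgSp.yon S).map k)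
    obtain ⟨c₂⟩ := nonempty_ofSpMap_comp ((AlgSp.yon S).map (pullback.fst h k)) ((AlgSp.yon S).map h)
    rw [← (AlgSp.yon S).map_comp] at c₁ c₂
    rw [← pullback.condition] at c₁
    exact ⟨c₁.symm ≪≫ c₂ ≪≫ bLeft (ofSpMap ((AlgSp.yon S).map (pullback.fst h k))) δ.symm⟩)

/-- The base change of the chart. -/
noncomputable def bcChart {T : Over S} (k : T ⟶ V₀) :
    ofSch (pullback h k) ⥤ᵇ fp (ofSpMap ((AlgSp.yon S).map k)) (fpFst y₀ f) :=
  fpLift (ofSpMap ((AlgSp.yon S).map (pullback.snd h k)))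
    (BasedFunctor.comp (ofSpMap ((AlgSp.yon S).map (pullback.fst h k))) u) (bcIso u δ k)

include δ in
theorem bcChart_rep {P : MorphismProperty (AlgSp.Sp S)} (hu : RepByAlgSpWith P u) {T : Over S} (k : T ⟶ V₀) :
    RepByAlgSpWith P (bcChart u δ k) := by
  have sq := (IsPullback.of_hasPullback h k).map (AlgSp.yon S)
  have sqP := sq.flip.map (sheafToPresheaf (QuotSh.J Scheme.fppfPrecoverage S) (Type (u + 1)))
  let L : ofSch (pullback h k) ⥤ᵇ fp (ofSpMap ((AlgSp.yon S).map k)) (BasedFunctor.comp u (fpFst y₀ f)) :=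
    BasedFunctor.comp (pshFpLift sqP.w)
      (fpCongr (F := ofSpMap ((AlgSp.yon S).map k)) (G := ofSpMap ((AlgSp.yon S).map h)) (Iso.refl _) δ.symm)
  have hL : IsEquivOver L := isEquivOver_comp (isEquivOver_pshFpLift sqP) (isEquivOver_fpCongr _ _)
  refine repByAlgSpWith_of_iso (f := BasedFunctor.comp L (fpMapSnd (ofSpMap ((AlgSp.yon S).map k)) (fpFst y₀ f) u)) ?_
    ((repByAlgSpWith_precomp_equiv hL).2 (repByAlgSpWith_fpMapSnd _ _ hu))
  exact spFpNatIso (Iso.refl _) (Iso.refl _)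

/-- The comparison with a finite stage. -/
noncomputable def stageMap {T T₀ : Over S} (m : T ⟶ T₀) (k₀ : T₀ ⟶ V₀) (k : T ⟶ V₀) (w : m ≫ k₀ = k) :
    fp (ofSpMap ((AlgSp.yon S).map k)) (fpFst y₀ f) ⥤ᵇ fp (ofSpMap ((AlgSp.yon S).map k₀)) (fpFst y₀ f) :=
  fpLift (BasedFunctor.comp (fpFst _ _) (ofSpMap ((AlgSp.yon S).map m))) (fpSnd _ _)
    (Classical.choice (by
      obtain ⟨c₁⟩ := nonempty_ofSpMap_comp ((AlgSp.yon S).map m) ((AlgSp.yon S).map k₀)
      rw [← (AlgSp.yon S).map_comp, w] at c₁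
      exact ⟨bLeft (fpFst (ofSpMap ((AlgSp.yon S).map k)) (fpFst y₀ f)) c₁.symm ≪≫ fpIso _ _⟩))

include δ in
theorem bcChart_stage {T T₀ : Over S} (m : T ⟶ T₀) (k₀ : T₀ ⟶ V₀) (k : T ⟶ V₀) (w : m ≫ k₀ = k)
    (pM : pullback h k ⟶ pullback h k₀) (h₁ : pM ≫ pullback.fst h k₀ = pullback.fst h k)
    (h₂ : pM ≫ pullback.snd h k₀ = pullback.snd h k ≫ m) (c : ↥(pullback h k).left) :
    Points.map (stageMap (f := f) (y₀ := y₀) m k₀ k w) (chPt (bcChart u δ k) c) =
      chPt (bcChart u δ k₀) (pM.left c) := by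
  obtain ⟨a₁⟩ := nonempty_ofSpMap_comp ((AlgSp.yon S).map (pullback.snd h k)) ((AlgSp.yon S).map m)
  obtain ⟨b₁⟩ := nonempty_ofSpMap_comp ((AlgSp.yon S).map pM) ((AlgSp.yon S).map (pullback.snd h k₀))
  obtain ⟨b₂⟩ := nonempty_ofSpMap_comp ((AlgSp.yon S).map pM) ((AlgSp.yon S).map (pullback.fst h k₀))
  rw [← (AlgSp.yon S).map_comp] at a₁ b₁ b₂
  rw [h₂] at b₁
  rw [h₁] at b₂
  have θ : BasedFunctor.comp (bcChart u δ k) (stageMap (f := f) (y₀ := y₀) m k₀ k w) ≅
      BasedFunctor.comp (ofSpMap ((AlgSp.yon S).map pM)) (bcChart u δ k₀) :=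
    spFpNatIso (a₁.symm ≪≫ b₁) (bRight b₂ u)
  rw [chPt, chPt, ← points_map_comp, points_map_congr θ, points_map_comp, map_ofSpMap_ofScheme]

include δ in
/-- Points of the base change of the chart lift through a stage. -/
theorem bcChart_lift (hX : IsFibGrpd 𝒳.p) (hY : IsFibGrpd 𝒴.p) (hu : Sm u) {T T₀ : Over S} (m : T ⟶ T₀)
    (k₀ : T₀ ⟶ V₀) (k : T ⟶ V₀) (w : m ≫ k₀ = k) (pM : pullback h k ⟶ pullback h k₀)
    (h₁ : pM ≫ pullback.fst h k₀ = pullback.fst h k) (h₂ : pM ≫ pullback.snd h k₀ = pullback.snd h k ≫ m)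
    (c : ↥(pullback h k).left) (e : ↥(pullback h k₀).left)
    (hce : Points.map (stageMap (f := f) (y₀ := y₀) m k₀ k w) (chPt (bcChart u δ k) c) = chPt (bcChart u δ k₀) e) :
    ∃ d, chPt (bcChart u δ k) d = chPt (bcChart u δ k) c ∧ pM.left d = e := by
  let P := pullback h k
  let P₀ := pullback h k₀
  let M := stageMap (f := f) (y₀ := y₀) m k₀ k w
  let G := bcChart u δ k
  let G₀ := bcChart u δ k₀
  have hW₀ : IsFibGrpd (fp (ofSpMap ((AlgSp.yon S).map k₀)) (fpFst y₀ f)).p :=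
    isFibGrpd_fp (Stk.isFibGrpd_ofPsh _) (isFibGrpd_fp (Stk.isFibGrpd_ofPsh _) hX hY y₀ f)
      (Stk.isFibGrpd_ofPsh _) _ _
  have hP : IsFibGrpd (ofSch P).p := Stk.isFibGrpd_ofPsh _
  have hP₀ : IsFibGrpd (ofSch P₀).p := Stk.isFibGrpd_ofPsh _
  obtain ⟨F, a, ef, hef, ⟨αa⟩⟩ := exists_space_fp_chart hP₀ hW₀ (repByAlgSp1_of_with (bcChart_rep u δ hu k₀))
    (spY P) (BasedFunctor.comp G M)
  obtain ⟨αb⟩ := exists_hom_iso (BasedFunctor.comp ef (fpSnd (BasedFunctor.comp G M) G₀))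
  let b := homOfBased (BasedFunctor.comp ef (fpSnd (BasedFunctor.comp G M) G₀))
  have θ : BasedFunctor.comp (ofSpMap a) (BasedFunctor.comp G M) ≅ BasedFunctor.comp (ofSpMap b) G₀ :=
    bRight αa.symm (BasedFunctor.comp G M) ≪≫ bLeft ef (fpIso (BasedFunctor.comp G M) G₀) ≪≫ bRight αb G₀
  have e₁ : a ≫ (AlgSp.yon S).map (pullback.snd h k ≫ m) = b ≫ (AlgSp.yon S).map (pullback.snd h k₀) := by
    have := homOfBased_congr (F := F.obj) (G := (AlgSp.yon S).obj T₀)
      (bRight θ (fpFst (ofSpMap ((AlgSp.yon S).map k₀)) (fpFst y₀ f)))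
    change homOfBased (BasedFunctor.comp (ofSpMap a) (BasedFunctor.comp (ofSpMap ((AlgSp.yon S).map (pullback.snd h k)))
      (ofSpMap ((AlgSp.yon S).map m)))) = homOfBased (BasedFunctor.comp (ofSpMap b)
        (ofSpMap ((AlgSp.yon S).map (pullback.snd h k₀)))) at this
    simp only [homOfBased_comp, homOfBased_ofSpMap, ← (AlgSp.yon S).map_comp] at this
    exact this
  have sq := (IsPullback.of_hasPullback h k).map (AlgSp.yon S)
  let l : F.obj ⟶ (AlgSp.yon S).obj P := sq.lift (b ≫ (AlgSp.yon S).map (pullback.fst h k₀))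
    (a ≫ (AlgSp.yon S).map (pullback.snd h k)) (by
      rw [Category.assoc, Category.assoc, ← (AlgSp.yon S).map_comp, ← (AlgSp.yon S).map_comp, pullback.condition,
        (AlgSp.yon S).map_comp, ← Category.assoc, ← e₁, Category.assoc, ← (AlgSp.yon S).map_comp, Category.assoc, w])
  have hl : l ≫ (AlgSp.yon S).map pM = b := by
    refine ((IsPullback.of_hasPullback h k₀).map (AlgSp.yon S)).hom_ext ?_ ?_
    · rw [Category.assoc, ← (AlgSp.yon S).map_comp, h₁, sq.lift_fst]
    · rw [Category.assoc, ← (AlgSp.yon S).map_comp, h₂, (AlgSp.yon S).map_comp, ← Category.assoc, sq.lift_snd,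
        Category.assoc, ← (AlgSp.yon S).map_comp, e₁]
  obtain ⟨p₁⟩ := nonempty_ofSpMap_comp l ((AlgSp.yon S).map (pullback.snd h k))
  rw [sq.lift_snd] at p₁
  obtain ⟨q₁⟩ := nonempty_ofSpMap_comp a ((AlgSp.yon S).map (pullback.snd h k))
  obtain ⟨p₂⟩ := nonempty_ofSpMap_comp l ((AlgSp.yon S).map (pullback.fst h k))
  rw [sq.lift_fst] at p₂
  obtain ⟨r₂⟩ := nonempty_ofSpMap_comp b ((AlgSp.yon S).map (pullback.fst h k₀))
  have Θ : BasedFunctor.comp (ofSpMap l) G ≅ BasedFunctor.comp (ofSpMap a) G :=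
    spFpNatIso (p₁.symm ≪≫ q₁) (bRight (p₂.symm ≪≫ r₂) u ≪≫
      (bRight θ (fpSnd (ofSpMap ((AlgSp.yon S).map k₀)) (fpFst y₀ f))).symm)
  obtain ⟨z, hz₁, hz₂⟩ := exists_points_fp hW₀ hP₀ hP G₀ (BasedFunctor.comp G M)
    (stPt _ (AlgSp.Points.ofScheme P c)) (stPt _ (AlgSp.Points.ofScheme P₀ e))
    (by rw [points_map_comp]; exact hce)
  obtain ⟨z', rfl⟩ := (points_map_bijective hef).2 z
  obtain ⟨φ, rfl⟩ := stPt_bijective.2 z'
  rw [← points_map_comp, points_map_congr αa, stPt_natural] at hz₁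
  rw [← points_map_comp, points_map_congr αb, stPt_natural] at hz₂
  obtain ⟨d, hd⟩ := (AlgSp.Points.schemeHomeo P).surjective (AlgSp.Points.map l φ)
  refine ⟨d, ?_, ?_⟩
  · have := points_map_congr Θ (stPt _ φ)
    rw [points_map_comp, points_map_comp, stPt_natural, stPt_natural, ← hd, stPt_bijective.1 hz₁] at this
    exact this
  · refine (AlgSp.Points.schemeHomeo P₀).injective (Eq.trans ?_ (stPt_bijective.1 hz₂))
    refine (AlgSp.Points.map_yon_map_apply pM d).symm.trans ?_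
    show _ = AlgSp.Points.map b φ
    rw [← hl, AlgSp.Points.map_comp, ← hd]

end

/-- Closedness over an affine noetherian scheme. -/
theorem isClosedMap_noetherian {K : Precoverage Scheme.{u}} (h𝒳 : IsAlgStack K 𝒳) (h𝒴 : IsAlgStack K 𝒴)
    {f : 𝒳 ⥤ᵇ 𝒴} (hval : DvrLifting f) {V₀ U T : Over S} [IsAffine U.left] [IsAffine V₀.left] [IsAffine T.left]
    [IsLocallyNoetherian T.left] {y₀ : ofSch V₀ ⥤ᵇ 𝒴} (u : ofSch U ⥤ᵇ fp y₀ f) {h : U ⟶ V₀}
    (δ : BasedFunctor.comp u (fpFst y₀ f) ≅ ofSpMap ((AlgSp.yon S).map h)) [LocallyOfFiniteType h.left]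
    (k : T ⟶ V₀) (hP : IsAlgStack K (fp (BasedFunctor.comp (ofSpMap ((AlgSp.yon S).map k)) y₀) f))
    (C : Set ↥(pullback h k).left) (hC : IsClosed C)
    (hsat : ∀ c d, c ∈ C → chPt (bcChart u δ k) c = chPt (bcChart u δ k) d → d ∈ C)
    (hopen : IsOpenMap (chPt (bcChart u δ k))) (hsurj : Function.Surjective (chPt (bcChart u δ k))) :
    IsClosed ((pullback.snd h k).left '' C) := by
  let P := pullback h k
  let q := (pullback.snd h k).left
  let sqS := (IsPullback.of_hasPullback h k).map (Over.forget S)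
  haveI : LocallyOfFiniteType q := MorphismProperty.of_isPullback (P := @LocallyOfFiniteType) sqS ‹_›
  haveI : QuasiCompact h.left := inferInstance
  haveI : QuasiCompact q := MorphismProperty.of_isPullback (P := @QuasiCompact) sqS ‹_›
  refine isClosed_of_closure_subset fun t ht => ?_
  let I := Scheme.IdealSheafData.vanishingIdeal (X := P.left) ⟨C, hC⟩
  have hI : Set.range I.subschemeι = C := by
    rw [Scheme.IdealSheafData.range_subschemeι, Scheme.IdealSheafData.coe_support_vanishingIdeal]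
    rfl
  have ht' : t ∈ closure (Set.range (I.subschemeι ≫ q)) := by
    rw [show Set.range (I.subschemeι ≫ q) = q '' C by rw [← hI, ← Set.range_comp]; rfl]
    exact ht
  obtain ⟨x₀, hx₀⟩ := SchBasics.exists_specializes_of_mem_closure_range (I.subschemeι ≫ q) ht'
  rw [Scheme.Hom.comp_apply] at hx₀
  have hxC : I.subschemeι x₀ ∈ C := hI.le ⟨x₀, rfl⟩
  obtain ⟨R, i₁, i₂, i₃, xs, ys, hxy, hyc, hxp⟩ := exists_dvr_through q (I.subschemeι x₀) t hx₀
  let sR : Spec (CommRingCat.of R) ⟶ S := ys ≫ T.hom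
  let TR : Over S := Over.mk sR
  let η₀ := Spec.map (CommRingCat.ofHom (algebraMap R (FractionRing R)))
  let T' : Over S := Over.mk (η₀ ≫ sR)
  let η : T' ⟶ TR := Over.homMk η₀ rfl
  let bT : TR ⟶ T := Over.homMk ys rfl
  let xP : T' ⟶ P := Over.homMk xs (by
    show xs ≫ P.hom = η₀ ≫ sR
    rw [← Over.w (pullback.snd h k), ← Category.assoc, hxy, Category.assoc])
  have hx : xP ≫ pullback.snd h k = η ≫ bT := Over.OverMorphism.ext hxy
  let gk := BasedFunctor.comp (ofSpMap ((AlgSp.yon S).map k)) y₀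
  let E := fpPaste (ofSpMap ((AlgSp.yon S).map k)) y₀ f
  let G := BasedFunctor.comp (bcChart u δ k) E
  let A : overCat T' ⥤ᵇ fp gk f :=
    BasedFunctor.comp (ofOverCat T') (BasedFunctor.comp (ofSpMap ((AlgSp.yon S).map xP)) G)
  let Bm : overCat TR ⥤ᵇ ofSch T := BasedFunctor.comp (ofOverCat TR) (ofSpMap ((AlgSp.yon S).map bT))
  obtain ⟨θ⟩ : Nonempty (BasedFunctor.comp A (fpFst gk f) ≅ BasedFunctor.comp (overMap η) Bm) := by
    obtain ⟨c₁⟩ := nonempty_ofSpMap_comp ((AlgSp.yon S).map xP) ((AlgSp.yon S).map (pullback.snd h k))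
    rw [← (AlgSp.yon S).map_comp, hx, (AlgSp.yon S).map_comp] at c₁
    obtain ⟨c₂⟩ := nonempty_ofSpMap_comp ((AlgSp.yon S).map η) ((AlgSp.yon S).map bT)
    obtain ⟨j⟩ := nonempty_overMap_ofOverCat' η (ofSpMap ((AlgSp.yon S).map bT))
    exact ⟨bLeft (ofOverCat T') (c₁.symm ≪≫ c₂) ≪≫ j.symm⟩
  let a := BasedFunctor.comp A (fpSnd gk f)
  let b := BasedFunctor.comp Bm gk
  let α : BasedFunctor.comp a f ≅ BasedFunctor.comp (overMap η) b := (bLeft A (fpIso gk f)).symm ≪≫ bRight θ gk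
  obtain ⟨R', j₁, j₂, j₃, φ, -, hloc, gψ, c, hw, ⟨γ₂⟩, ⟨γ₃⟩⟩ := hval R sR a b α
  let Ξ : fp f b ⥤ᵇ fp gk f := BasedFunctor.comp (fpSwap f b) (fpMapFst gk f Bm)
  obtain ⟨ξ⟩ : Nonempty (BasedFunctor.comp (fpLift a (overMap η) α) Ξ ≅ A) := by
    refine ⟨fpNatIso θ.symm (Iso.refl _) (fun z => ?_)⟩
    have hθ : θ.inv.toNatTrans.app z ≫ θ.hom.toNatTrans.app z = 𝟙 _ :=
      congrArg (fun t => t.toNatTrans.app z) θ.inv_hom_id
    change gk.map (θ.inv.toNatTrans.app z) ≫ (A.obj z).obj.iso.hom =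
      (gk.map (θ.inv.toNatTrans.app z) ≫ (A.obj z).obj.iso.hom) ≫ f.map (𝟙 _)
    rw [map_id', Category.comp_id]
  let TR' : Over S := Over.mk (Spec.map (CommRingCat.ofHom φ) ≫ sR)
  let η' : Over.mk (Spec.map (CommRingCat.ofHom (algebraMap R' (FractionRing R'))) ≫
      Spec.map (CommRingCat.ofHom φ) ≫ sR) ⟶ TR' :=
    Over.homMk (Spec.map (CommRingCat.ofHom (algebraMap R' (FractionRing R')))) rfl
  let L := BasedFunctor.comp c Ξ
  have hcont : Continuous (Points.ofChart L) := continuous_ofChart' hP L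
  -- the saturated closed set
  have hC' : IsClosed (chPt G '' C) := by
    have e₁ : chPt G '' C = Points.map E '' (chPt (bcChart u δ k) '' C) := by
      rw [Set.image_image]
      exact Set.image_congr fun x _ => points_map_comp _ E _
    rw [← isOpen_compl_iff, e₁]
    have hE := points_map_bijective (isEquivOver_fpPaste (ofSpMap ((AlgSp.yon S).map k)) y₀ f)
    rw [← Set.image_compl_eq hE]
    have e₂ : (chPt (bcChart u δ k) '' C)ᶜ = chPt (bcChart u δ k) '' Cᶜ := by
      ext p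
      constructor
      · intro hp
        obtain ⟨d, rfl⟩ := hsurj p
        exact ⟨d, fun hd => hp ⟨d, hd, rfl⟩, rfl⟩
      · rintro ⟨d, hd, rfl⟩ ⟨d', hd', e⟩
        exact hd (hsat d' d hd' e)
    rw [e₂]
    exact isOpenMap_of_equiv (isEquivOver_fpPaste (ofSpMap ((AlgSp.yon S).map k)) y₀ f) hP _
      (hopen _ hC.isOpen_compl)
  have hgen : ∀ p, Points.ofChart L (η'.left p) ∈ chPt G '' C := fun p => by
    refine ⟨xP.left (gψ.left p), ?_, ?_⟩
    · rw [show xP.left (gψ.left p) = I.subschemeι x₀ from hxp _]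
      exact hxC
    · rw [← ofChart_overMap η' L p]
      refine Eq.trans ?_ (ofChart_congr (bRight γ₃ Ξ ≪≫ bLeft (overMap gψ) ξ) p).symm
      rw [ofChart_overMap, ofChart_eq]
      obtain ⟨ω⟩ := isEquivOver_toOverCat_ofOverCat T'
      refine Eq.trans ?_ (points_map_congr (bRight ω (BasedFunctor.comp (ofSpMap ((AlgSp.yon S).map xP)) G)) _).symm
      show chPt G _ = Points.map (BasedFunctor.comp (ofSpMap ((AlgSp.yon S).map xP)) G) _
      rw [points_map_comp, map_ofSpMap_ofScheme]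
  have hcl : Points.ofChart L (IsLocalRing.closedPoint R') ∈ chPt G '' C := by
    have hsp : η'.left (default : ↥(Spec (CommRingCat.of (FractionRing R')))) ⤳ IsLocalRing.closedPoint R' := IsLocalRing.specializes_closedPoint _
    exact (hsp.map hcont).mem_closed hC' (hgen _)
  obtain ⟨d, hdC, hd⟩ := hcl
  refine ⟨d, hdC, ?_⟩
  have key := congrArg (Points.map (fpFst gk f)) hd
  rw [map_ofChart, chPt, ← points_map_comp] at key
  have hl : Points.map (BasedFunctor.comp G (fpFst gk f)) (stPt _ (AlgSp.Points.ofScheme P d)) =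
      stPt _ (AlgSp.Points.ofScheme T (q d)) := map_ofSpMap_ofScheme (pullback.snd h k) d
  have hr : Points.ofChart (BasedFunctor.comp L (fpFst gk f)) (IsLocalRing.closedPoint R') =
      stPt _ (AlgSp.Points.ofScheme T t) := by
    let φ' : TR' ⟶ TR := Over.homMk (Spec.map (CommRingCat.ofHom φ)) rfl
    refine (ofChart_congr (x := BasedFunctor.comp L (fpFst gk f)) (x' := BasedFunctor.comp (overMap φ') Bm)
      (bRight γ₂ Bm) _).trans ?_
    rw [ofChart_overMap, ofChart_eq]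
    obtain ⟨ω⟩ := isEquivOver_toOverCat_ofOverCat TR
    refine (points_map_congr (bRight ω (ofSpMap ((AlgSp.yon S).map bT))) _).trans ?_
    show Points.map (ofSpMap ((AlgSp.yon S).map bT)) _ = _
    rw [map_ofSpMap_ofScheme]
    congr 2
    show ys (Spec.map (CommRingCat.ofHom φ) (IsLocalRing.closedPoint R')) = t
    rw [← hyc]
    haveI := hloc
    exact congrArg ys (IsLocalRing.comap_closedPoint φ)
  exact (AlgSp.Points.schemeHomeo T).injective (stPt_bijective.1 (hl.symm.trans (key.trans hr)))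

end Groth.Agent.AlgSt88
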