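import Groth.Agent.AlgSt88.UCCore

/-! The valuative criterion for universal closedness with discrete valuation rings. -/

set_option autoImplicit false
set_option maxHeartbeats 1000000
set_option linter.style.haveILetI false
set_option linter.unusedVariables false
set_option backward.isDefEq.respectTransparency false
set_option backward.isDefEq.respectTransparency.types false
universe u

open CategoryTheory CategoryTheory.Limits AlgebraicGeometry Opposite AlgSt FibCat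

namespace Groth.Agent.AlgSt88

variable {S : Scheme.{u}} {𝒳 𝒴 : AlgSt.Cat S}

theorem isAlgStack_fp_ofSch (h𝒳 : IsAlgStack Scheme.etalePrecoverage 𝒳) (h𝒴 : IsAlgStack Scheme.etalePrecoverage 𝒴)
    (f : 𝒳 ⥤ᵇ 𝒴) {T : Over S} (g : ofSch T ⥤ᵇ 𝒴) : IsAlgStack Scheme.etalePrecoverage (fp g f) :=
  isAlgStack_fp h𝒴.isStack h𝒴.diag (isAlgStack_ofSch_etale T) h𝒳 g f

theorem isOpenMap_bcChart (h𝒳 : IsAlgStack Scheme.etalePrecoverage 𝒳) (h𝒴 : IsAlgStack Scheme.etalePrecoverage 𝒴)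
    {f : 𝒳 ⥤ᵇ 𝒴} {V₀ U T : Over S} {y₀ : ofSch V₀ ⥤ᵇ 𝒴} (u : ofSch U ⥤ᵇ fp y₀ f) (hu : Sm u) (hu' : Sj u)
    {h : U ⟶ V₀} (δ : BasedFunctor.comp u (fpFst y₀ f) ≅ ofSpMap ((AlgSp.yon S).map h)) (k : T ⟶ V₀) :
    IsOpenMap (chPt (bcChart u δ k)) ∧ Function.Surjective (chPt (bcChart u δ k)) := by
  have hW : IsFibGrpd (fp (ofSpMap ((AlgSp.yon S).map k)) (fpFst y₀ f)).p :=
    isFibGrpd_fp (Stk.isFibGrpd_ofPsh _) (isFibGrpd_fp (Stk.isFibGrpd_ofPsh _) h𝒳.isStack.1 h𝒴.isStack.1 y₀ f)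
      (Stk.isFibGrpd_ofPsh _) _ _
  exact ⟨isOpenMap_chPt hW _ (bcChart_rep u δ hu k), surjective_chPt hW _ (bcChart_rep u δ hu' k)⟩

theorem isClosedMap_affine (h𝒳 : IsAlgStack Scheme.etalePrecoverage 𝒳) (h𝒴 : IsAlgStack Scheme.etalePrecoverage 𝒴)
    {f : 𝒳 ⥤ᵇ 𝒴} (hqc : AlgSt.IsQuasiCompactMor Scheme.etalePrecoverage f)
    (hft : LocQ (AlgSp.LocP @LocallyOfFiniteType) f) (hval : DvrLifting f) {V₀ T : Over S} [IsAffine V₀.left]
    [IsLocallyNoetherian V₀.left] [IsAffine T.left] (y₀ : ofSch V₀ ⥤ᵇ 𝒴) (hy₀ : Sm y₀) (k : T ⟶ V₀) :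
    IsClosedMap (Points.map (fpFst (BasedFunctor.comp (ofSpMap ((AlgSp.yon S).map k)) y₀) f)) := by
  have hX := h𝒳.isStack.1
  have hY := h𝒴.isStack.1
  obtain ⟨U, u₁, hU, hu₁, hu₁'⟩ := hqc _ (isAlgStack_ofSch_etale V₀) (isQuasiCompact_ofSch_affine V₀) y₀
  haveI := hU
  let u : ofSch U ⥤ᵇ fp y₀ f := BasedFunctor.comp (toOverCat U) u₁
  have hu : Sm u := (repByAlgSpWith_precomp_equiv (isEquivOver_toOverCat U)).2 hu₁
  have hu' : Sj u := (repByAlgSpWith_precomp_equiv (isEquivOver_toOverCat U)).2 hu₁'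
  obtain ⟨δ⟩ := exists_hom_iso (BasedFunctor.comp u (fpFst y₀ f))
  obtain ⟨h, hh⟩ := (AlgSp.yon S).map_surjective (homOfBased (BasedFunctor.comp u (fpFst y₀ f)))
  rw [← hh] at δ
  have hlft : AlgSp.LocP @LocallyOfFiniteType ((AlgSp.yon S).map h) :=
    hh ▸ (spQ_of_locQ hft).prop smoothLocal_lft hX hY (U := spY U) (V := spY V₀) y₀
      (BasedFunctor.comp u (fpSwap y₀ f)) hy₀ ((repByAlgSpWith_postcomp_equiv isEquivOver_fpSwap).2 hu)
  haveI : LocallyOfFiniteType h.left := (SpFP87.locP_yon_map_iff (P := @LocallyOfFiniteType) h).1 hlft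
  let gk := BasedFunctor.comp (ofSpMap ((AlgSp.yon S).map k)) y₀
  let E := fpPaste (ofSpMap ((AlgSp.yon S).map k)) y₀ f
  have hP := isAlgStack_fp_ofSch h𝒳 h𝒴 f gk
  intro C hC
  obtain ⟨hopen, hsurj⟩ := isOpenMap_bcChart h𝒳 h𝒴 u hu hu' δ k
  let G := BasedFunctor.comp (bcChart u δ k) E
  let C₁ : Set ↥(pullback h k).left := chPt G ⁻¹' C
  have hC₁ : IsClosed C₁ := hC.preimage (continuous_chPt hP G)
  have hG : Function.Surjective (chPt G) := fun p => by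
    obtain ⟨p', rfl⟩ := (points_map_bijective (isEquivOver_fpPaste (ofSpMap ((AlgSp.yon S).map k)) y₀ f)).2 p
    obtain ⟨d, rfl⟩ := hsurj p'
    exact ⟨d, points_map_comp _ E _⟩
  have hfst : ∀ d, Points.map (fpFst gk f) (chPt G d) =
      stPt _ (AlgSp.Points.ofScheme T ((pullback.snd h k).left d)) := fun d => by
    rw [chPt, ← points_map_comp]
    exact map_ofSpMap_ofScheme (pullback.snd h k) d
  have himg : Points.map (fpFst gk f) '' C =
      stPt _ '' (AlgSp.Points.schemeHomeo T '' ((pullback.snd h k).left '' C₁)) := by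
    rw [← Set.image_preimage_eq C hG, Set.image_image, Set.image_image, Set.image_image]
    exact Set.image_congr fun d _ => hfst d
  rw [himg]
  refine (isHomeomorph_stPt (spY T)).isClosedMap _ ((AlgSp.Points.schemeHomeo T).isClosedMap _ ?_)
  refine isOpen_compl_iff.1 (isOpen_iff_forall_mem_open.2 fun t ht => ?_)
  let sqS := (IsPullback.of_hasPullback h k).map (Over.forget S)
  let i := sqS.isoPullback
  obtain ⟨T₀', hT₀', k₀', hk₀', m', pM', W₀, hm, sqM', hpM₁, hW₀, hW₁, hW₂⟩ :=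
    UCLimit.exists_stage h.left k.left (i.inv ⁻¹' C₁) (hC₁.preimage i.inv.continuous) t (fun q hq e => ht ⟨i.inv q, hq, by
      have : (pullback.snd h k).left (i.inv q) = pullback.snd h.left k.left q := by
        exact (Scheme.Hom.comp_apply _ _ _).symm.trans
          (congrArg (fun g : pullback h.left k.left ⟶ _ => g q) sqS.isoPullback_inv_snd)
      rw [this]; exact e⟩)
  let T₀ : Over S := Over.mk (k₀' ≫ V₀.hom)
  haveI : IsAffine T₀.left := hT₀'
  haveI := hk₀'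
  haveI : IsLocallyNoetherian T₀.left := LocallyOfFiniteType.isLocallyNoetherian k₀'
  let k₀ : T₀ ⟶ V₀ := Over.homMk k₀' rfl
  let m : T ⟶ T₀ := Over.homMk m' (by show m' ≫ k₀' ≫ V₀.hom = T.hom; rw [← Category.assoc, hm]; exact Over.w k)
  have w : m ≫ k₀ = k := Over.OverMorphism.ext hm
  let pM : pullback h k ⟶ pullback h k₀ :=
    pullback.lift (pullback.fst h k) (pullback.snd h k ≫ m) (by rw [Category.assoc, w]; exact pullback.condition)
  let sqS₀ := (IsPullback.of_hasPullback h k₀).map (Over.forget S)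
  let i₀ : (pullback h k₀).left ≅ pullback h.left k₀' := sqS₀.isoPullback
  have hsqM : IsPullback pM (pullback.snd h k) (pullback.snd h k₀) m :=
    IsPullback.of_right (h₁₂ := pullback.fst h k₀) (v₁₃ := h) (h₂₂ := k₀)
      (by rw [pullback.lift_fst, w]; exact IsPullback.of_hasPullback h k) (pullback.lift_snd _ _ _)
      (IsPullback.of_hasPullback h k₀)
  have hi : pM.left ≫ i₀.hom = i.hom ≫ pM' := by
    apply pullback.hom_ext
    · rw [Category.assoc, Category.assoc, hpM₁]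
      rw [show i₀.hom ≫ pullback.fst h.left k₀' = (pullback.fst h k₀).left from sqS₀.isoPullback_hom_fst,
        ← Over.comp_left, pullback.lift_fst]
      exact sqS.isoPullback_hom_fst.symm
    · rw [Category.assoc, Category.assoc, sqM'.w]
      rw [show i₀.hom ≫ pullback.snd h.left k₀' = (pullback.snd h k₀).left from sqS₀.isoPullback_hom_snd,
        ← Over.comp_left, pullback.lift_snd]
      exact (reassoc_of% sqS.isoPullback_hom_snd) m' |>.symm
  let W : Set ↥(pullback h k₀).left := i₀.hom ⁻¹' W₀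
  have hW : IsOpen W := hW₀.preimage i₀.hom.continuous
  have hpMq : ∀ c, i₀.hom (pM.left c) = pM' (i.hom c) := fun c => by
    rw [← Scheme.Hom.comp_apply, hi, Scheme.Hom.comp_apply]; rfl
  have hii : ∀ c, i.inv (i.hom c) = c := fun c => by rw [← Scheme.Hom.comp_apply, Iso.hom_inv_id]; rfl
  let C₀ := closure (pM.left '' C₁)
  have hdis : ∀ e ∈ W, e ∉ C₀ := fun e he hC₀ => by
    obtain ⟨_, hy, c, hc, rfl⟩ := mem_closure_iff.1 hC₀ W hW he
    exact hW₁ (i.hom c) (by rw [Set.mem_preimage, hii]; exact hc) (hpMq c ▸ hy)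
  obtain ⟨hopen₀, hsurj₀⟩ := isOpenMap_bcChart h𝒳 h𝒴 u hu hu' δ k₀
  have hGG : ∀ c d, chPt (bcChart u δ k) c = chPt (bcChart u δ k) d → c ∈ C₁ → d ∈ C₁ := fun c d hcd hc => by
    have e : ∀ a, chPt G a = Points.map E (chPt (bcChart u δ k) a) := fun a => points_map_comp _ E _
    show chPt G d ∈ C
    rw [e, ← hcd, ← e]
    exact hc
  have hsat : ∀ e e', e ∈ C₀ → chPt (bcChart u δ k₀) e = chPt (bcChart u δ k₀) e' → e' ∈ C₀ := by
    intro e e' he hee
    refine mem_closure_iff.2 fun O hO he' => ?_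
    let O' := chPt (bcChart u δ k₀) ⁻¹' (chPt (bcChart u δ k₀) '' O)
    have hO' : IsOpen O' :=
      (hopen₀ _ hO).preimage (continuous_chPt (isAlgStack_fp
        (isAlgStack_ofSch_etale V₀).isStack (isAlgStack_ofSch_etale V₀).diag (isAlgStack_ofSch_etale T₀)
        (isAlgStack_fp_ofSch h𝒳 h𝒴 f y₀) _ _) _)
    obtain ⟨_, ⟨e₂, he₂, hee₂⟩, c, hc, rfl⟩ := mem_closure_iff.1 he O' hO' ⟨e', he', hee.symm⟩
    obtain ⟨d, hd₁, hd₂⟩ := bcChart_lift u δ hX hY hu m k₀ k w pM (pullback.lift_fst _ _ _)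
      (pullback.lift_snd _ _ _) c e₂
      ((bcChart_stage u δ m k₀ k w pM (pullback.lift_fst _ _ _) (pullback.lift_snd _ _ _) c).trans hee₂.symm)
    exact ⟨e₂, he₂, d, hGG c d hd₁.symm hc, hd₂⟩
  have hclosed := isClosedMap_noetherian h𝒳 h𝒴 hval u δ k₀ (isAlgStack_fp_ofSch h𝒳 h𝒴 f _) C₀ isClosed_closure
    hsat hopen₀ hsurj₀
  have htm : m.left t ∉ (pullback.snd h k₀).left '' C₀ := by
    rintro ⟨e, he, het⟩
    obtain ⟨d, hd₁, hd₂⟩ := Scheme.exists_preimage_of_isPullback (hsqM.map (Over.forget S)) e t het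
    refine hdis e ?_ he
    show i₀.hom e ∈ W₀
    rw [← hd₁]
    show i₀.hom (pM.left d) ∈ W₀
    rw [hpMq]
    refine hW₂ _ ?_
    exact ((Scheme.Hom.comp_apply _ _ _).symm.trans
      (congrArg (fun g : (pullback h k).left ⟶ _ => g d) sqS.isoPullback_hom_snd)).trans hd₂
  refine ⟨m.left ⁻¹' ((pullback.snd h k₀).left '' C₀)ᶜ, ?_, hclosed.isOpen_compl.preimage m.left.continuous, htm⟩
  rintro _ hs ⟨c, hc, rfl⟩
  refine hs ⟨pM.left c, subset_closure ⟨c, hc, rfl⟩, ?_⟩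
  have := congrArg (fun g : (pullback h k).left ⟶ _ => g c)
    (congrArg CommaMorphism.left (pullback.lift_snd _ _ _ : pM ≫ pullback.snd h k₀ = pullback.snd h k ≫ m))
  exact this

/-- The set identity behind restriction of closedness to a chart. -/
theorem preimage_image_fst {𝒵 : AlgSt.Cat S} (hZ : IsFibGrpd 𝒵.p) (hX : IsFibGrpd 𝒳.p) (hY : IsFibGrpd 𝒴.p)
    (f : 𝒳 ⥤ᵇ 𝒴) (g : 𝒵 ⥤ᵇ 𝒴) {V : Over S} (v : ofSch V ⥤ᵇ 𝒵) (C : Set (Points (fp g f))) :
    chPt v ⁻¹' (Points.map (fpFst g f) '' C) =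
      (fun z => stPt _ (AlgSp.Points.ofScheme V z)) ⁻¹'
        (Points.map (fpFst (BasedFunctor.comp v g) f) '' (Points.map (fpMapFst g f v) ⁻¹' C)) := by
  have hV : IsFibGrpd (ofSch V).p := Stk.isFibGrpd_ofPsh _
  have hP : IsFibGrpd (fp g f).p := isFibGrpd_fp hZ hX hY g f
  obtain ⟨σ⟩ := nonempty_fpPaste_mapFst_iso g f v
  ext z
  constructor
  · rintro ⟨c, hc, hcz⟩
    obtain ⟨w, hw₁, hw₂⟩ := exists_points_fp hZ hP hV (fpFst g f) v (stPt _ (AlgSp.Points.ofScheme V z)) c hcz.symm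
    refine ⟨Points.map (fpPaste v g f) w, ?_, ?_⟩
    · rw [Set.mem_preimage, ← points_map_comp, points_map_congr σ]
      exact hw₂ ▸ hc
    · rw [← points_map_comp]
      exact hw₁
  · rintro ⟨d, hd, hdz⟩
    refine ⟨Points.map (fpMapFst g f v) d, hd, ?_⟩
    rw [← points_map_comp]
    show Points.map (BasedFunctor.comp (fpFst (BasedFunctor.comp v g) f) v) d = _
    rw [points_map_comp, hdz]

theorem isUnivClosed_of_dvrLifting (h𝒳 : IsAlgStack Scheme.etalePrecoverage 𝒳)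
    (h𝒴 : IsAlgStack Scheme.etalePrecoverage 𝒴) (hn : SmoothLocally (fun T => IsLocallyNoetherian T) 𝒴)
    {f : 𝒳 ⥤ᵇ 𝒴} (hqc : AlgSt.IsQuasiCompactMor Scheme.etalePrecoverage f)
    (hft : LocQ (AlgSp.LocP @LocallyOfFiniteType) f) (hval : DvrLifting f) :
    AlgSt.IsUnivClosed Scheme.etalePrecoverage f := by
  intro 𝒵 hZ g
  have hX := h𝒳.isStack.1
  have hY := h𝒴.isStack.1
  obtain ⟨V, v₁, hv₁, hv₁'⟩ := hZ.atlas
  let v := BasedFunctor.comp (toOverCat V) v₁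
  refine isClosedMap_descend hZ h𝒳 h𝒴 f g v ((repByAlgSpWith_precomp_equiv (isEquivOver_toOverCat V)).2 hv₁)
    ((repByAlgSpWith_precomp_equiv (isEquivOver_toOverCat V)).2 hv₁') ?_
  let g' := BasedFunctor.comp v g
  obtain ⟨V₁, y₁, hy₁, hy₁'⟩ := h𝒴.atlas
  let y := BasedFunctor.comp (toOverCat V₁) y₁
  have hy : Sm y := (repByAlgSpWith_precomp_equiv (isEquivOver_toOverCat V₁)).2 hy₁
  have hy' : Sj y := (repByAlgSpWith_precomp_equiv (isEquivOver_toOverCat V₁)).2 hy₁'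
  have hQ : IsAlgStack Scheme.etalePrecoverage (fp g' y) :=
    isAlgStack_fp h𝒴.isStack h𝒴.diag (isAlgStack_ofSch_etale V) (isAlgStack_ofSch_etale V₁) g' y
  obtain ⟨T, l₁, hl₁, hl₁'⟩ := hQ.atlas
  let l := BasedFunctor.comp (toOverCat T) l₁
  have hl : Sm l := (repByAlgSpWith_precomp_equiv (isEquivOver_toOverCat T)).2 hl₁
  have hl' : Sj l := (repByAlgSpWith_precomp_equiv (isEquivOver_toOverCat T)).2 hl₁'
  refine isClosedMap_descend (isAlgStack_ofSch_etale V) h𝒳 h𝒴 f g' (BasedFunctor.comp l (fpFst g' y))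
    (sm_comp (Stk.isFibGrpd_ofPsh _) hQ.isStack.1 hl (repByAlgSpWith_fpFst g' hy))
    (repByAlgSpWith_surj_comp (Stk.isFibGrpd_ofPsh _) hQ.isStack.1 hl' (repByAlgSpWith_fpFst g' hy')) ?_
  obtain ⟨γ⟩ := exists_hom_iso (BasedFunctor.comp l (fpSnd g' y))
  obtain ⟨k, hk⟩ := (AlgSp.yon S).map_surjective (homOfBased (BasedFunctor.comp l (fpSnd g' y)))
  rw [← hk] at γ
  refine isClosedMap_congr (g := BasedFunctor.comp (ofSpMap ((AlgSp.yon S).map k)) y)
    (bLeft l (fpIso g' y) ≪≫ bRight γ y) f h𝒳 h𝒴 (isAlgStack_ofSch_etale T) ?_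
  let gT := BasedFunctor.comp (ofSpMap ((AlgSp.yon S).map k)) y
  intro C hC
  let J : Set ↥T.left := (fun z => stPt _ (AlgSp.Points.ofScheme T z)) ⁻¹' (Points.map (fpFst gT f) '' C)
  suffices hJ : IsClosed J by
    have e : Points.map (fpFst gT f) '' C = stPt _ '' (AlgSp.Points.schemeHomeo T '' J) := by
      rw [Set.image_image]
      refine (Set.image_preimage_eq _ ?_).symm
      exact stPt_bijective.2.comp (AlgSp.Points.schemeHomeo T).surjective
    rw [e]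
    exact (isHomeomorph_stPt (spY T)).isClosedMap _ ((AlgSp.Points.schemeHomeo T).isClosedMap _ hJ)
  refine isOpen_compl_iff.1 (isOpen_iff_forall_mem_open.2 fun t ht => ?_)
  obtain ⟨O₁, hO₁, hkt, -⟩ := exists_isAffineOpen_mem_and_subset (U := (⊤ : V₁.left.Opens)) (x := k.left t) trivial
  obtain ⟨O, hO, htO, hle⟩ := exists_isAffineOpen_mem_and_subset (U := k.left ⁻¹ᵁ O₁) (x := t) hkt
  let V₀ : Over S := Over.mk (O₁.ι ≫ V₁.hom)
  let j₀ : V₀ ⟶ V₁ := Over.homMk O₁.ι rfl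
  let T₁ : Over S := Over.mk (O.ι ≫ T.hom)
  let j : T₁ ⟶ T := Over.homMk O.ι rfl
  haveI : IsAffine V₀.left := hO₁
  haveI : IsAffine T₁.left := hO
  let k₁ : T₁ ⟶ V₀ := Over.homMk (k.left.resLE O₁ O hle) (by
    show k.left.resLE O₁ O hle ≫ O₁.ι ≫ V₁.hom = O.ι ≫ T.hom
    rw [Scheme.Hom.resLE_comp_ι_assoc, Over.w k])
  have hjk : j ≫ k = k₁ ≫ j₀ := Over.OverMorphism.ext (Scheme.Hom.resLE_comp_ι _ _).symm
  let y₀ : ofSch V₀ ⥤ᵇ 𝒴 := BasedFunctor.comp (ofSpMap ((AlgSp.yon S).map j₀)) y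
  have hjs : AlgSp.LocP @Smooth ((AlgSp.yon S).map j₀) :=
    (SpFP87.locP_yon_map_iff (P := @Smooth) j₀).2 (inferInstanceAs (Smooth O₁.ι))
  have hy₀ : Sm y₀ := sm_comp (Stk.isFibGrpd_ofPsh _) (Stk.isFibGrpd_ofPsh _)
    (repByAlgSpWith_ofSpMap (stableBC_locP _) (respectsIso_locP _) (F := spY V₀) (G := spY V₁) _ hjs) hy
  haveI : IsLocallyNoetherian V₀.left := hn V₀ (BasedFunctor.comp (ofOverCat V₀) y₀)
    ((repByAlgSpWith_precomp_equiv (isEquivOver_ofOverCat V₀)).2 hy₀)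
  obtain ⟨c₁⟩ := nonempty_ofSpMap_comp ((AlgSp.yon S).map j) ((AlgSp.yon S).map k)
  rw [← (AlgSp.yon S).map_comp, hjk, (AlgSp.yon S).map_comp] at c₁
  obtain ⟨c₂⟩ := nonempty_ofSpMap_comp ((AlgSp.yon S).map k₁) ((AlgSp.yon S).map j₀)
  let v' : ofSch T₁ ⥤ᵇ ofSch T := ofSpMap ((AlgSp.yon S).map j)
  have H := isClosedMap_congr (g' := BasedFunctor.comp v' gT)
    (g := BasedFunctor.comp (ofSpMap ((AlgSp.yon S).map k₁)) y₀) (bRight (c₁.symm ≪≫ c₂) y) f h𝒳 h𝒴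
    (isAlgStack_ofSch_etale T₁) (isClosedMap_affine h𝒳 h𝒴 hqc hft hval y₀ hy₀ k₁)
  have hcl : IsClosed (j.left ⁻¹' J) := by
    have e : j.left ⁻¹' J = chPt v' ⁻¹' (Points.map (fpFst gT f) '' C) := by
      ext z
      show stPt _ (AlgSp.Points.ofScheme T (j.left z)) ∈ Points.map (fpFst gT f) '' C ↔
        chPt v' z ∈ Points.map (fpFst gT f) '' C
      rw [chPt, map_ofSpMap_ofScheme]
    rw [e, preimage_image_fst (Stk.isFibGrpd_ofPsh _) hX hY f gT v' C]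
    exact (H _ (hC.preimage (continuous_map' (isAlgStack_fp_ofSch h𝒳 h𝒴 f gT) _))).preimage
      ((isHomeomorph_stPt (spY T₁)).continuous.comp (AlgSp.Points.schemeHomeo T₁).continuous)
  refine ⟨j.left '' (j.left ⁻¹' J)ᶜ, ?_, O.ι.isOpenEmbedding.isOpenMap _ hcl.isOpen_compl, ⟨⟨t, htO⟩, ht, rfl⟩⟩
  rintro _ ⟨z, hz, rfl⟩
  exact hz

end Groth.Agent.AlgSt88
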