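import Groth.Agent.AlgSt88.UnivInjDiag
import Groth.Agent.AlgSt88.PointsCmp
import Groth.Agent.AlgSt88.DiagDescent
import Groth.Agent.AlgSt88.Bootstrap
import Groth.Agent.AlgSt88.RepCrit
import Groth.Agent.AlgSt88.StackRep

/-! Universal injectivity is local on the target. -/

set_option autoImplicit false
set_option maxHeartbeats 1000000
set_option linter.style.haveILetI false
set_option backward.isDefEq.respectTransparency false
set_option backward.isDefEq.respectTransparency.types false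
universe u

open CategoryTheory CategoryTheory.Limits AlgebraicGeometry Opposite AlgSt FibCat

namespace Groth.Agent.AlgSt88

variable {S : Scheme.{u}} {𝒳 𝒴 𝒵 : AlgSt.Cat S}

theorem mem_range_diag_of_baseChange (hX : IsFibGrpd 𝒳.p) (hY : IsFibGrpd 𝒴.p) (hZ : IsFibGrpd 𝒵.p)
    (f : 𝒳 ⥤ᵇ 𝒴) (g : 𝒵 ⥤ᵇ 𝒴) (hs : IsSurjective (FibCat.diag (fpFst g f))) (z : Points (fp f f)) (v : Points 𝒵)
    (hv : Points.map (BasedFunctor.comp (fpFst f f) f) z = Points.map g v) :
    z ∈ Set.range (Points.map (FibCat.diag f)) := by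
  obtain ⟨u, hu, -⟩ := exists_points_fp hY hZ (isFibGrpd_fp hX hX hY f f) g (BasedFunctor.comp (fpFst f f) f) z v hv
  obtain ⟨w, hw⟩ := hs (Points.map (toBaseSq g f) u)
  refine ⟨Points.map (fpSnd g f) w, ?_⟩
  have h1 : Points.map (baseSq g f) (Points.map (FibCat.diag (fpFst g f)) w) = z := by
    rw [hw, ← points_map_comp, points_map_congr (toBaseSqIso g f)]
    exact hu
  rw [← h1, ← points_map_comp, ← points_map_comp]
  exact points_map_congr (fpNatIso (Φ := BasedFunctor.comp (fpSnd g f) (FibCat.diag f))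
    (Ψ := BasedFunctor.comp (FibCat.diag (fpFst g f)) (baseSq g f)) (Iso.refl _) (Iso.refl _) (fun w => by
      change f.map (𝟙 w.obj.snd) ≫ (w.obj.iso.inv ≫ g.map (𝟙 _) ≫ w.obj.iso.hom) = 𝟙 _ ≫ f.map (𝟙 w.obj.snd)
      rw [map_id' g, map_id' f]
      simp)) w

theorem isUnivInjective_of_forall_affine (h𝒳 : IsAlgStack Scheme.fppfPrecoverage 𝒳)
    (h𝒴 : IsAlgStack Scheme.fppfPrecoverage 𝒴) (f : 𝒳 ⥤ᵇ 𝒴)
    (h : ∀ (Z : Over S) [IsAffine Z.left] (z : overCat Z ⥤ᵇ 𝒴),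
      IsUnivInjective Scheme.fppfPrecoverage (fpFst z f)) :
    IsUnivInjective Scheme.fppfPrecoverage f := by
  refine isUnivInjective_of_surjective_diag h𝒳.isStack.1 h𝒴.isStack.1 f fun z => ?_
  obtain ⟨p, hp⟩ := Points.mk_surjective (Points.map (BasedFunctor.comp (fpFst f f) f) z)
  haveI : IsAffine (Over.mk p.str).left := inferInstanceAs (IsAffine (Spec (CommRingCat.of p.K)))
  let c := classify h𝒴.isStack.1 p.obj p.lies
  obtain ⟨ε, -⟩ := classify_mk_id h𝒴.isStack.1 p.obj p.lies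
  let o : FPt (overCat (Over.mk p.str)) := { K := p.K, str := p.str, obj := Over.mk (𝟙 _), lies := rfl }
  have hT : IsAlgStack Scheme.fppfPrecoverage (overCat (Over.mk p.str)) :=
    isAlgStack_of_repByAlgSp1 (isFibGrpd_overCat _) h𝒴 (j := c)
      ((diag_iff h𝒴.isStack.1).1 h𝒴.diag _ c)
  exact mem_range_diag_of_baseChange h𝒳.isStack.1 h𝒴.isStack.1 (isFibGrpd_overCat _) f c
    (surjective_diag_of_isUnivInjective (isAlgStack_fp h𝒴.isStack h𝒴.diag hT h𝒳 c f) (fpFst c f) (h _ c)) z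
    (Points.mk o) (hp.symm.trans (Points.sound ⟨o.map c, ε.hom, 𝟙 _, trivial⟩))

theorem isUnivInjective_of_surjective_baseChange (h𝒳 : IsAlgStack Scheme.fppfPrecoverage 𝒳)
    (h𝒴 : IsAlgStack Scheme.fppfPrecoverage 𝒴) (h𝒵 : IsAlgStack Scheme.fppfPrecoverage 𝒵)
    (f : 𝒳 ⥤ᵇ 𝒴) (g : 𝒵 ⥤ᵇ 𝒴) (hg : IsSurjective g)
    (h : IsUnivInjective Scheme.fppfPrecoverage (fpFst g f)) : IsUnivInjective Scheme.fppfPrecoverage f :=
  isUnivInjective_of_surjective_diag h𝒳.isStack.1 h𝒴.isStack.1 f fun z =>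
    (hg (Points.map (BasedFunctor.comp (fpFst f f) f) z)).elim fun v hv =>
      mem_range_diag_of_baseChange h𝒳.isStack.1 h𝒴.isStack.1 h𝒵.isStack.1 f g
        (surjective_diag_of_isUnivInjective (isAlgStack_fp h𝒴.isStack h𝒴.diag h𝒵 h𝒳 g f) (fpFst g f) h) z v hv.symm

end Groth.Agent.AlgSt88
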