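import Groth.Agent.AlgSt88.WellNigh
import Groth.Agent.AlgSt88.Cancel
import Groth.Agent.AlgSt88.RepSp
import Groth.Agent.SpPts86.QuotFinite

/-! A well-nigh affine algebraic space is an affine scheme. -/

set_option autoImplicit false
set_option maxHeartbeats 1000000
set_option linter.style.haveILetI false
set_option backward.isDefEq.respectTransparency false
set_option backward.isDefEq.respectTransparency.types false
universe u

open CategoryTheory CategoryTheory.Limits AlgebraicGeometry Opposite AlgSt FibCat AlgSp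

namespace Groth.Agent.AlgSt88

variable {S : Scheme.{u}} {𝒳 : AlgSt.Cat S}

theorem prop_homOfBased_wn (P : MorphismProperty (AlgSp.Sp S)) [P.RespectsIso] (hPd : SpaceDescends P) {F : AlgSp.Space S}
    {U : Over S} (Φ : ofSp ((AlgSp.yon S).obj U) ⥤ᵇ ofSp F.obj) (h : RepByAlgSpWith P Φ) : P (homOfBased Φ) := by
  obtain ⟨α⟩ := exists_hom_iso Φ
  exact hPd ⟨_, AlgSp.IsAlgSpace.yon_obj U⟩ F (homOfBased Φ)
    ((repByAlgSpWith_ofPshMap_iff P (homOfBased Φ).hom).2 (repByAlgSpWith_of_iso α h))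

theorem exists_affine_of_finLocFree {F : AlgSp.Sp S} (hF : AlgSp.IsAlgSpace F) {U : Over S} [IsAffine U.left]
    (q : (AlgSp.yon S).obj U ⟶ F) (hs : AlgSp.IsSurjectiveMor q) (hfl : AlgSp.LocP @Flat q)
    (hfi : AlgSp.IsFiniteMor q) (hfp : AlgSp.LocP @LocallyOfFinitePresentation q) :
    ∃ M : Over S, IsAffine M.left ∧ Nonempty ((AlgSp.yon S).obj M ≅ F) := by
  have hU := AlgSp.IsAlgSpace.yon_obj (S := S) U
  have hr : AlgSp.RepWith @IsFinite q := (SpFP87.repWith_isFinite_iff q hU hF).2 hfi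
  have hq : SpFP87.LocLift q := by
    intro T g
    have sq := hr.rep.isPullback g
    have h1 : Flat (hr.rep.snd g).left := (SpFP87.locP_yon_map_iff _).1
      (SpFP87.locP_baseChange sq hU hF (AlgSp.IsAlgSpace.yon_obj T) hfl)
    have h2 : LocallyOfFinitePresentation (hr.rep.snd g).left := (SpFP87.locP_yon_map_iff _).1
      (SpFP87.locP_baseChange sq hU hF (AlgSp.IsAlgSpace.yon_obj T) hfp)
    exact ⟨_, _, _, (SpFP87.fppfSurj_iff _).2
      ⟨((SpPts86.repWith_surjective_iff hr.rep).2 hs).property_snd g, h1, h2⟩, sq.w⟩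
  obtain ⟨R, s, fst, sq, hR, hfs⟩ := hfi (Z := U) inferInstance q
  haveI := hR
  haveI : IsFinite s.left := hfs
  obtain ⟨t, rfl⟩ := (AlgSp.yon S).map_surjective fst
  haveI : Flat s.left := (SpFP87.locP_yon_map_iff _).1 (SpFP87.locP_baseChange sq hU hF hU hfl)
  haveI : LocallyOfFinitePresentation s.left :=
    (SpFP87.locP_yon_map_iff _).1 (SpFP87.locP_baseChange sq hU hF hU hfp)
  obtain ⟨M₀, m₀, hM, hm, sqm, hqc⟩ := SpPts86.exists_affine_quot (SpPts86.isEqvRel_of_isPullback sq)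
  obtain ⟨h1, h2, h3⟩ := (SpFP87.fppfSurj_iff _).1 hm
  have wl : t.left ≫ U.hom = s.left ≫ U.hom := (Over.w t).trans (Over.w s).symm
  have key : ∀ {Z : Scheme.{u}} (g₁ g₂ : Z ⟶ U.left), g₁ ≫ m₀ = g₂ ≫ m₀ → g₁ ≫ U.hom = g₂ ≫ U.hom :=
    fun g₁ g₂ e => by rw [← sqm.lift_fst g₁ g₂ e, Category.assoc, wl, sqm.lift_snd_assoc]
  let φ : M₀ ⟶ S := EffectiveEpi.desc m₀ U.hom key
  let M : Over S := Over.mk φ
  let m : U ⟶ M := Over.homMk m₀ (EffectiveEpi.fac m₀ U.hom key)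
  have sqM : IsPullback t s m m := IsPullback.of_map (Over.forget S) (Over.OverMorphism.ext sqm.w) sqm
  have hlift : SpFP87.LocLift ((AlgSp.yon S).map m) :=
    SpFP87.locLift_of_repWith le_rfl ((AlgSp.repWith_yon_map_iff (S := S) SpFP87.fppfSurj m).2 hm)
  obtain ⟨hc⟩ := SpPts86.isColimit_cofork hq sq
  obtain ⟨hc'⟩ := SpPts86.isColimit_cofork hlift (sqM.map (AlgSp.yon S))
  exact ⟨M, hM, ⟨IsColimit.coconePointUniqueUpToIso hc' hc⟩⟩

theorem exists_affine_equivOver (hw : IsWellNighAffine 𝒳) (hsp : RepByAlgSp 𝒳) :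
    ∃ (U : Over S) (e : AlgSt.ofSch U ⥤ᵇ 𝒳), IsAffine U.left ∧ FibCat.IsEquivOver e := by
  obtain ⟨U, u, hU, hu⟩ := hw
  haveI := hU
  obtain ⟨F, e, he⟩ := hsp
  obtain ⟨E, hE, -, -⟩ := isEquivOver_inverse he
  let Φ : ofSp ((AlgSp.yon S).obj U) ⥤ᵇ ofSp F.obj := BasedFunctor.comp (toOverCat U) (BasedFunctor.comp u E)
  have hP : ∀ {P : MorphismProperty (AlgSp.Sp S)}, RepByAlgSpWith P u → RepByAlgSpWith P Φ := fun h =>
    (repByAlgSpWith_precomp_equiv (isEquivOver_toOverCat U)).2 ((repByAlgSpWith_postcomp_equiv hE).2 h)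
  haveI := respectsIso_surj (S := S)
  haveI := respectsIso_finite (S := S)
  haveI := respectsIso_locP (S := S) @Flat
  haveI := respectsIso_locP (S := S) @LocallyOfFinitePresentation
  obtain ⟨M, hM, ⟨i⟩⟩ := exists_affine_of_finLocFree F.property (homOfBased Φ)
    (prop_homOfBased_wn _ spaceDescends_surj Φ (hP (repByAlgSpWith_mono (fun _ _ _ h => h.1.1.1) hu)))
    (prop_homOfBased_wn _ (spaceDescends_locP _) Φ (hP (repByAlgSpWith_mono (fun _ _ _ h => h.1.1.2) hu)))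
    (prop_homOfBased_wn _ spaceDescends_finite Φ (hP (repByAlgSpWith_mono (fun _ _ _ h => h.1.2) hu)))
    (prop_homOfBased_wn _ (spaceDescends_locP _) Φ (hP (repByAlgSpWith_mono (fun _ _ _ h => h.2) hu)))
  exact ⟨M, BasedFunctor.comp (ofSpMap i.hom) e, hM, isEquivOver_comp (isEquivOver_ofSpMap i.hom) he⟩

end Groth.Agent.AlgSt88
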